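import Mathlib

set_option autoImplicit false
set_option linter.unusedSectionVars false
set_option linter.style.haveILetI false

/-!
Counting the subgroups of index `p` of a finite `p`-group that contain a given subgroup:
their number `μ` satisfies `(p - 1) * μ + 1 = p ^ e`.
(First step towards the Kulakoff--Hall congruence.)
-/

namespace Cfsg.Agent.Lib.Helper70

open Subgroup

theorem kk_card_eq_mul_of_fibers {X Y : Type*} [Finite X] [Finite Y] (φ : X → Y) (c : ℕ)
    (h : ∀ y, Nat.card {x // φ x = y} = c) : Nat.card X = Nat.card Y * c := by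
  classical
  have := Fintype.ofFinite X
  have := Fintype.ofFinite Y
  rw [Nat.card_congr (Equiv.sigmaFiberEquiv φ).symm, Nat.card_sigma]
  simp only [h, Finset.sum_const, Finset.card_univ, smul_eq_mul, Nat.card_eq_fintype_card]

/-- removing one point -/
theorem kk_card_subtype_ne {X : Type*} [Finite X] (x₀ : X) :
    Nat.card {x : X // x ≠ x₀} + 1 = Nat.card X := by
  classical
  have := Fintype.ofFinite X
  rw [Nat.card_eq_fintype_card, Nat.card_eq_fintype_card, Fintype.card_subtype_compl,
    Fintype.card_subtype_eq]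
  have : 0 < Fintype.card X := Fintype.card_pos_iff.mpr ⟨x₀⟩
  omega

section KK1

variable {P : Type*} [Group P] [Finite P] {p : ℕ} [hp : Fact p.Prime]

/-- the target group of order `p` -/
abbrev KkC (p : ℕ) := Multiplicative (ZMod p)

theorem kk_card_C : Nat.card (KkC p) = p := by
  rw [Nat.card_congr (Multiplicative.toAdd (α := ZMod p)), Nat.card_zmod]

theorem kk_pow_C (c : KkC p) : c ^ p = 1 := by
  have := pow_card_eq_one' (x := c)
  rwa [kk_card_C] at this

/-- homomorphisms to the group of order `p` that kill `H` -/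
def kkV (p : ℕ) (H : Subgroup P) : Subgroup (P →* KkC p) where
  carrier := {φ | H ≤ φ.ker}
  one_mem' := by
    intro x _
    rw [MonoidHom.mem_ker, MonoidHom.one_apply]
  mul_mem' := by
    intro φ ψ hφ hψ x hx
    have h1 := hφ hx
    have h2 := hψ hx
    rw [MonoidHom.mem_ker] at h1 h2 ⊢
    rw [MonoidHom.mul_apply, h1, h2, one_mul]
  inv_mem' := by
    intro φ hφ x hx
    have h1 := hφ hx
    rw [MonoidHom.mem_ker] at h1 ⊢
    rw [MonoidHom.inv_apply, h1, inv_one]

theorem mem_kkV (H : Subgroup P) (φ : P →* KkC p) : φ ∈ kkV p H ↔ H ≤ φ.ker := Iff.rfl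

theorem kkV_card (H : Subgroup P) : ∃ e, Nat.card (kkV p H) = p ^ e := by
  haveI : Finite (P →* KkC p) := DFunLike.finite _
  apply IsPGroup.iff_card.mp
  intro φ
  refine ⟨1, ?_⟩
  rw [pow_one]
  apply Subtype.ext
  apply MonoidHom.ext
  intro x
  rw [Subgroup.coe_pow, MonoidHom.pow_apply, kk_pow_C]
  rfl

/-- a subgroup of prime index is maximal -/
theorem kk_eq_or_top_of_index_prime {M K : Subgroup P} (hM : M.index = p) (hMK : M ≤ K) :
    K = M ∨ K = ⊤ := by
  have h := Subgroup.relIndex_mul_index hMK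
  rw [hM] at h
  have hd : K.index ∣ p := Dvd.intro_left _ h
  rcases (Nat.dvd_prime hp.out).mp hd with h1 | h1
  · right; exact Subgroup.index_eq_one.mp h1
  · left
    rw [h1] at h
    have h2 : M.relIndex K = 1 := by
      have hp0 : 0 < p := hp.out.pos
      exact Nat.eq_of_mul_eq_mul_right hp0 (by rw [h, one_mul])
    exact le_antisymm (Subgroup.relIndex_eq_one.mp h2) hMK

theorem kk_normal_of_index (hP : IsPGroup p P) {M : Subgroup P} (hM : M.index = p) : M.Normal := by
  apply Subgroup.normal_of_index_eq_minFac_card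
  obtain ⟨n, hn⟩ := IsPGroup.iff_card.mp hP
  rw [hM, hn]
  have hn0 : n ≠ 0 := by
    rintro rfl
    rw [pow_zero] at hn
    have : M.index ∣ 1 := hn ▸ M.index_dvd_card
    rw [hM] at this
    exact hp.out.one_lt.ne' (Nat.dvd_one.mp this)
  rw [Nat.Prime.pow_minFac hp.out hn0]

/-- a nontrivial hom to `C_p` has kernel of index `p` -/
theorem kk_index_ker (φ : P →* KkC p) (hφ : φ ≠ 1) : φ.ker.index = p := by
  rw [Subgroup.index_ker]
  have h1 : Nat.card φ.range ∣ p := by
    have := Subgroup.card_subgroup_dvd_card φ.range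
    rwa [kk_card_C] at this
  rcases (Nat.dvd_prime hp.out).mp h1 with h | h
  · exfalso
    apply hφ
    have hb : φ.range = ⊥ := Subgroup.card_eq_one.mp h
    ext x
    have : φ x ∈ φ.range := ⟨x, rfl⟩
    rw [hb, Subgroup.mem_bot] at this
    rw [this]; rfl
  · exact h

/-- existence of a hom with prescribed kernel of index `p` -/
theorem kk_exists_hom (hP : IsPGroup p P) {M : Subgroup P} (hM : M.index = p) :
    ∃ φ : P →* KkC p, φ.ker = M := by
  haveI := kk_normal_of_index hP hM
  have hc : Nat.card (P ⧸ M) = p := by rw [← Subgroup.index_eq_card, hM]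
  let e : P ⧸ M ≃* KkC p := mulEquivOfPrimeCardEq hc kk_card_C
  refine ⟨e.toMonoidHom.comp (QuotientGroup.mk' M), ?_⟩
  ext x
  rw [MonoidHom.mem_ker, MonoidHom.comp_apply]
  constructor
  · intro h
    have : (QuotientGroup.mk' M x) = 1 := by
      apply e.injective
      rw [map_one]; exact h
    rwa [QuotientGroup.mk'_apply, QuotientGroup.eq_one_iff] at this
  · intro h
    have : (QuotientGroup.mk' M x) = 1 := by
      rwa [QuotientGroup.mk'_apply, QuotientGroup.eq_one_iff]
    rw [this]; exact map_one _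

/-- exactly `p` homs kill a given subgroup of index `p` -/
theorem kkV_card_of_index (hP : IsPGroup p P) {M : Subgroup P} (hM : M.index = p) :
    Nat.card (kkV p M) = p := by
  haveI : Finite (P →* KkC p) := DFunLike.finite _
  obtain ⟨e, he⟩ := kkV_card (p := p) M
  -- an element outside M
  have hne : M ≠ ⊤ := by
    intro h
    rw [h, Subgroup.index_top] at hM
    exact hp.out.one_lt.ne hM
  obtain ⟨g, -, hg⟩ := SetLike.exists_of_lt (lt_top_iff_ne_top.mpr hne)
  -- evaluation at g is injective on kkV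
  have hinj : Function.Injective (fun φ : kkV p M => (φ : P →* KkC p) g) := by
    intro φ ψ h
    apply Subtype.ext
    by_contra hne'
    have hq : (φ : P →* KkC p) * (ψ : P →* KkC p)⁻¹ ≠ 1 := by
      intro h1
      exact hne' (mul_inv_eq_one.mp h1)
    have hmem : (φ : P →* KkC p) * (ψ : P →* KkC p)⁻¹ ∈ kkV p M :=
      (kkV p M).mul_mem φ.2 ((kkV p M).inv_mem ψ.2)
    have hk := kk_index_ker _ hq
    rcases kk_eq_or_top_of_index_prime hM ((mem_kkV M _).mp hmem) with h1 | h1
    · apply hg
      rw [← h1, MonoidHom.mem_ker, MonoidHom.mul_apply, MonoidHom.inv_apply]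
      have h' : (φ : P →* KkC p) g = (ψ : P →* KkC p) g := h
      rw [h', mul_inv_cancel]
    · rw [h1, Subgroup.index_top] at hk
      exact hp.out.one_lt.ne hk
  have hle : Nat.card (kkV p M) ≤ p := by
    have := Nat.card_le_card_of_injective _ hinj
    rwa [kk_card_C] at this
  -- a nontrivial element
  obtain ⟨φ₀, hφ₀⟩ := kk_exists_hom hP hM
  have hφ₀m : φ₀ ∈ kkV p M := by rw [mem_kkV, hφ₀]
  have hφ₀1 : φ₀ ≠ 1 := by
    intro h
    rw [h] at hφ₀
    have : (1 : P →* KkC p).ker = ⊤ := MonoidHom.ker_one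
    exact hne (hφ₀ ▸ this)
  have hgt : 1 < Nat.card (kkV p M) := by
    rw [Finite.one_lt_card_iff_nontrivial]
    exact ⟨⟨⟨φ₀, hφ₀m⟩, 1, fun h => hφ₀1 (congrArg Subtype.val h)⟩⟩
  rw [he] at hle hgt ⊢
  have he1 : e ≠ 0 := by
    rintro rfl
    rw [pow_zero] at hgt
    exact lt_irrefl _ hgt
  have he2 : e ≤ 1 := by
    by_contra h
    push Not at h
    have : p ^ 2 ≤ p ^ e := Nat.pow_le_pow_right hp.out.pos h
    have h2 : p < p ^ 2 := by
      have := hp.out.one_lt
      nlinarith
    omega
  have : e = 1 := by omega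
  rw [this, pow_one]

/-- the homs with kernel exactly `M` -/
theorem kk_card_ker_eq (hP : IsPGroup p P) {M : Subgroup P} (hM : M.index = p) :
    Nat.card {φ : P →* KkC p // φ.ker = M} = p - 1 := by
  haveI : Finite (P →* KkC p) := DFunLike.finite _
  have h1 := kk_card_subtype_ne (X := kkV p M) 1
  rw [kkV_card_of_index hP hM] at h1
  have hne : M ≠ ⊤ := by
    intro h
    rw [h, Subgroup.index_top] at hM
    exact hp.out.one_lt.ne hM
  have h2 : Nat.card {φ : P →* KkC p // φ.ker = M} = Nat.card {x : kkV p M // x ≠ 1} := by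
    apply Nat.card_congr
    refine ⟨fun φ => ⟨⟨φ.1, by rw [mem_kkV, φ.2]⟩, ?_⟩, fun x => ⟨x.1.1, ?_⟩, ?_, ?_⟩
    · intro h
      have h' : φ.1 = 1 := congrArg Subtype.val h
      have := φ.2
      rw [h', MonoidHom.ker_one] at this
      exact hne this.symm
    · have hx1 : (x.1 : P →* KkC p) ≠ 1 := fun h => x.2 (Subtype.ext h)
      rcases kk_eq_or_top_of_index_prime hM ((mem_kkV M _).mp x.1.2) with h | h
      · exact h
      · have := kk_index_ker _ hx1
        rw [h, Subgroup.index_top] at this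
        exact absurd this hp.out.one_lt.ne
    · intro φ; rfl
    · intro x; rfl
  rw [h2]; omega

/-- **the number of subgroups of index `p` containing `H`** -/
theorem kk_mu_formula (hP : IsPGroup p P) (H : Subgroup P) :
    ∃ e, (p - 1) * Nat.card {M : Subgroup P // M.index = p ∧ H ≤ M} + 1 = p ^ e := by
  haveI : Finite (P →* KkC p) := DFunLike.finite _
  obtain ⟨e, he⟩ := kkV_card (p := p) H
  refine ⟨e, ?_⟩
  rw [← he, ← kk_card_subtype_ne (X := kkV p H) 1, Nat.mul_comm]
  congr 1
  symm
  apply kk_card_eq_mul_of_fibers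
    (fun x : {x : kkV p H // x ≠ 1} =>
      (⟨(x.1 : P →* KkC p).ker,
        kk_index_ker _ (fun h => x.2 (Subtype.ext h)), (mem_kkV H _).mp x.1.2⟩ :
        {M : Subgroup P // M.index = p ∧ H ≤ M}))
  intro M
  rw [← kk_card_ker_eq hP M.2.1]
  apply Nat.card_congr
  refine ⟨fun x => ⟨x.1.1.1, congrArg Subtype.val x.2⟩, fun φ => ⟨⟨⟨φ.1, ?_⟩, ?_⟩, ?_⟩, ?_, ?_⟩
  · rw [mem_kkV, φ.2]; exact M.2.2
  · intro h
    have h' : φ.1 = 1 := congrArg Subtype.val h
    have := φ.2
    rw [h', MonoidHom.ker_one] at this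
    have hM := M.2.1
    rw [← this, Subgroup.index_top] at hM
    exact hp.out.one_lt.ne hM
  · apply Subtype.ext; exact φ.2
  · intro x; rfl
  · intro φ; rfl

end KK1

end Cfsg.Agent.Lib.Helper70
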