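import Mathlib
import Cfsg.Prelude.Def_PLocal

set_option autoImplicit false

namespace Cfsg.Agent.Lib.Helper70

universe u

open scoped commutatorElement

/-! ### basic facts on `powerClosure` -/

theorem powerClosure_mono {G : Type*} [Group G] (p n : ℕ) {S S' : Subgroup G} (h : S ≤ S') :
    Cfsg.powerClosure p n S ≤ Cfsg.powerClosure p n S' := by
  unfold Cfsg.powerClosure
  apply Subgroup.closure_mono
  rintro y ⟨x, hx, rfl⟩
  exact ⟨x, h hx, rfl⟩

theorem powerClosure_eq_bot {G : Type*} [Group G] (p n : ℕ) {S : Subgroup G}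
    (h : ∀ x ∈ S, x ^ (p ^ n) = 1) : Cfsg.powerClosure p n S = ⊥ := by
  unfold Cfsg.powerClosure
  rw [eq_bot_iff, Subgroup.closure_le]
  rintro y ⟨x, hx, rfl⟩
  rw [h x hx]
  exact Subgroup.one_mem _

theorem map_powerClosure {G H : Type*} [Group G] [Group H] (f : G →* H) (p n : ℕ) (S : Subgroup G) :
    (Cfsg.powerClosure p n S).map f = Cfsg.powerClosure p n (S.map f) := by
  unfold Cfsg.powerClosure
  rw [MonoidHom.map_closure]
  congr 1
  ext y
  constructor
  · rintro ⟨_, ⟨x, hx, rfl⟩, rfl⟩
    exact ⟨f x, Subgroup.mem_map_of_mem f hx, by rw [map_pow]⟩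
  · rintro ⟨_, ⟨x, hx, rfl⟩, rfl⟩
    exact ⟨x ^ (p ^ n), ⟨x, hx, rfl⟩, by rw [map_pow]⟩

/-! ### regularity passes to subgroups -/

theorem isRegular_subgroup {G : Type*} [Group G] {p : ℕ} (hG : Cfsg.IsRegularPGroup p G) (K : Subgroup G) :
    Cfsg.IsRegularPGroup p K := by
  refine ⟨hG.1.to_subgroup K, ?_⟩
  intro a b n
  obtain ⟨c, hc, heq⟩ := hG.2 (a : G) (b : G) n
  have h1 : Subgroup.closure ({(a : G), (b : G)} : Set G) =
      (Subgroup.closure ({a, b} : Set K)).map K.subtype := by
    rw [MonoidHom.map_closure, Set.image_pair]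
    rfl
  rw [h1, ← Subgroup.map_commutator, ← map_powerClosure] at hc
  obtain ⟨c', hc', rfl⟩ := hc
  refine ⟨c', hc', ?_⟩
  apply Subtype.ext
  simpa using heq


/-! ### maximal subgroups of a finite `p`-group, Frattini -/

theorem rp_coatom_normal {P : Type*} [Group P] [Finite P] {p : ℕ} [Fact p.Prime] (hP : IsPGroup p P)
    (M : Subgroup P) (hM : IsCoatom M) : M.Normal := by
  have hnil : Group.IsNilpotent P := hP.isNilpotent
  exact Subgroup.NormalizerCondition.normal_of_coatom M Group.normalizerCondition_of_isNilpotent hM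

theorem rp_coatom_card_quotient {P : Type*} [Group P] [Finite P] {p : ℕ} [hp : Fact p.Prime]
    (hP : IsPGroup p P) (M : Subgroup P) [M.Normal] (hM : IsCoatom M) : Nat.card (P ⧸ M) = p := by
  have hQ : IsPGroup p (P ⧸ M) := hP.to_quotient M
  have hnt : Nontrivial (P ⧸ M) := by
    rw [← not_subsingleton_iff_nontrivial]
    intro hs
    apply hM.1
    rw [eq_top_iff]
    intro g _
    have : (QuotientGroup.mk' M g) = 1 := Subsingleton.elim _ _
    exact (QuotientGroup.eq_one_iff g).mp this
  obtain ⟨n, hn0, hn⟩ := hQ.nontrivial_iff_card.mp hnt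
  have hdvd : p ∣ Nat.card (P ⧸ M) := by rw [hn]; exact dvd_pow_self p hn0.ne'
  obtain ⟨x, hx⟩ := exists_prime_orderOf_dvd_card' (G := P ⧸ M) p hdvd
  have hx1 : x ≠ 1 := by
    intro h; rw [h, orderOf_one] at hx; exact hp.out.one_lt.ne hx
  obtain ⟨g, rfl⟩ := QuotientGroup.mk'_surjective M x
  have hle : M ≤ (Subgroup.zpowers (QuotientGroup.mk' M g)).comap (QuotientGroup.mk' M) := by
    intro m hm
    rw [Subgroup.mem_comap]
    have : QuotientGroup.mk' M m = 1 := (QuotientGroup.eq_one_iff m).mpr hm
    rw [this]; exact Subgroup.one_mem _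
  have hg : g ∈ (Subgroup.zpowers (QuotientGroup.mk' M g)).comap (QuotientGroup.mk' M) :=
    Subgroup.mem_zpowers _
  have hgM : g ∉ M := fun h => hx1 ((QuotientGroup.eq_one_iff g).mpr h)
  have hlt : M < (Subgroup.zpowers (QuotientGroup.mk' M g)).comap (QuotientGroup.mk' M) :=
    lt_of_le_of_ne hle (fun h => hgM (h ▸ hg))
  have htop := hM.2 _ hlt
  have hz : Subgroup.zpowers (QuotientGroup.mk' M g) = ⊤ := by
    rw [eq_top_iff]
    intro q _
    obtain ⟨a, rfl⟩ := QuotientGroup.mk'_surjective M q
    have : a ∈ (Subgroup.zpowers (QuotientGroup.mk' M g)).comap (QuotientGroup.mk' M) := by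
      rw [htop]; trivial
    exact this
  rw [← hx, ← Nat.card_zpowers, hz, Subgroup.card_top]

theorem rp_commutator_le_coatom {P : Type*} [Group P] [Finite P] {p : ℕ} [hp : Fact p.Prime]
    (hP : IsPGroup p P) (M : Subgroup P) (hM : IsCoatom M) : commutator P ≤ M := by
  have := rp_coatom_normal hP M hM
  have hc := rp_coatom_card_quotient hP M hM
  have hcyc : IsCyclic (P ⧸ M) := isCyclic_of_prime_card hc
  apply Subgroup.Normal.quotient_commutative_iff_commutator_le.mp
  exact IsCyclic.isMulCommutative

theorem rp_commutator_le_frattini {P : Type*} [Group P] [Finite P] {p : ℕ} [hp : Fact p.Prime]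
    (hP : IsPGroup p P) : commutator P ≤ frattini P := by
  intro x hx
  unfold frattini Order.radical
  simp only [Subgroup.mem_iInf]
  intro M hM
  exact rp_commutator_le_coatom hP M hM hx

/-- In a finite `p`-group, if one element together with the derived subgroup generates, the group is
commutative. -/
theorem comm_of_closure_sup_commutator {G : Type*} [Group G] [Finite G] {p : ℕ} [Fact p.Prime]
    (hG : IsPGroup p G) (x : G) (h : Subgroup.closure {x} ⊔ commutator G = ⊤) :
    ∀ u v : G, u * v = v * u := by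
  have h1 : Subgroup.closure {x} ⊔ frattini G = ⊤ := by
    rw [eq_top_iff, ← h]
    exact sup_le_sup_left (rp_commutator_le_frattini hG) _
  have h2 : Subgroup.closure {x} = ⊤ := frattini_nongenerating h1
  rw [← Subgroup.zpowers_eq_closure] at h2
  intro u v
  have hu : u ∈ Subgroup.zpowers x := by rw [h2]; trivial
  have hv : v ∈ Subgroup.zpowers x := by rw [h2]; trivial
  obtain ⟨i, rfl⟩ := hu
  obtain ⟨j, rfl⟩ := hv
  rw [← zpow_add, ← zpow_add, add_comm]

/-- If `a, b` generate `G` and their commutator lies in the normal subgroup `N`, then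
`commutator G ≤ N`. -/
theorem commutator_le_of_gen {G : Type*} [Group G] (a b : G) (hgen : Subgroup.closure {a, b} = ⊤)
    (N : Subgroup G) [N.Normal] (hN : ⁅a, b⁆ ∈ N) : commutator G ≤ N := by
  rw [← Subgroup.Normal.quotient_commutative_iff_commutator_le]
  have hab : (QuotientGroup.mk a : G ⧸ N) * QuotientGroup.mk b = QuotientGroup.mk b * QuotientGroup.mk a := by
    rw [← QuotientGroup.mk_mul, ← QuotientGroup.mk_mul, QuotientGroup.eq]
    have : (a * b)⁻¹ * (b * a) = ⁅b⁻¹, a⁻¹⁆ := by
      rw [commutatorElement_def]; group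
    rw [this]
    have h2 : ⁅b⁻¹, a⁻¹⁆ = ((b⁻¹ * a⁻¹) * ⁅a, b⁆ * (b⁻¹ * a⁻¹)⁻¹)⁻¹ := by
      rw [commutatorElement_def, commutatorElement_def]; group
    rw [h2]
    exact N.inv_mem (‹N.Normal›.conj_mem _ hN _)
  have hgen' : Subgroup.closure ({(QuotientGroup.mk a : G ⧸ N), QuotientGroup.mk b} : Set (G ⧸ N)) = ⊤ := by
    have := congrArg (Subgroup.map (QuotientGroup.mk' N)) hgen
    rw [MonoidHom.map_closure, Set.image_pair,
      Subgroup.map_top_of_surjective _ (QuotientGroup.mk'_surjective N)] at this
    exact this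
  have hcen : ∀ z : G ⧸ N, z ∈ Subgroup.center (G ⧸ N) := by
    intro z
    have : Subgroup.closure ({(QuotientGroup.mk a : G ⧸ N), QuotientGroup.mk b} : Set (G ⧸ N)) ≤
        Subgroup.center (G ⧸ N) := by
      rw [Subgroup.closure_le]
      have hz : ∀ w : G ⧸ N, (∀ y ∈ ({(QuotientGroup.mk a : G ⧸ N), QuotientGroup.mk b} : Set (G ⧸ N)),
          y * w = w * y) → w ∈ Subgroup.center (G ⧸ N) := by
        intro w hw
        rw [Subgroup.mem_center_iff]
        intro g
        have hg : g ∈ Subgroup.closure ({(QuotientGroup.mk a : G ⧸ N), QuotientGroup.mk b} : Set (G ⧸ N)) := by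
          rw [hgen']; trivial
        have : Subgroup.closure ({(QuotientGroup.mk a : G ⧸ N), QuotientGroup.mk b} : Set (G ⧸ N)) ≤
            Subgroup.centralizer {w} := by
          rw [Subgroup.closure_le]
          intro y hy
          rw [SetLike.mem_coe, Subgroup.mem_centralizer_iff]
          intro t ht
          rw [Set.mem_singleton_iff] at ht
          rw [ht]
          exact (hw y hy).symm
        have := this hg
        rw [Subgroup.mem_centralizer_iff] at this
        exact (this w rfl).symm
      intro w hw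
      rw [SetLike.mem_coe]
      apply hz
      intro y hy
      rcases hw with rfl | hw
      · rcases hy with rfl | hy
        · rfl
        · rw [Set.mem_singleton_iff] at hy; rw [hy]; exact hab.symm
      · rw [Set.mem_singleton_iff] at hw
        rw [hw]
        rcases hy with rfl | hy
        · exact hab
        · rw [Set.mem_singleton_iff] at hy; rw [hy]
    apply this
    rw [hgen']; trivial
  constructor
  constructor
  intro x y
  have := hcen y
  rw [Subgroup.mem_center_iff] at this
  exact this x


/-- If products of elements of `q`-th power one in `N = normalClosure {w}` again have `q`-th power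
one and `w ^ q = 1`, then every element of `N` has `q`-th power one. -/
theorem pow_eq_one_of_mem_normalClosure {G : Type*} [Group G] (w : G) (q : ℕ)
    (hmul : ∀ x y : Subgroup.normalClosure ({w} : Set G), x ^ q = 1 → y ^ q = 1 → (x * y) ^ q = 1)
    (hw : w ^ q = 1) : ∀ x ∈ Subgroup.normalClosure ({w} : Set G), x ^ q = 1 := by
  intro x hx
  have hx' : x ∈ Subgroup.closure (Group.conjugatesOfSet ({w} : Set G)) := hx
  induction hx' using Subgroup.closure_induction with
  | mem y hy =>
    rw [Group.mem_conjugatesOfSet_iff] at hy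
    obtain ⟨a, ha, hconj⟩ := hy
    rw [Set.mem_singleton_iff] at ha
    subst ha
    rw [isConj_iff] at hconj
    obtain ⟨c, rfl⟩ := hconj
    rw [conj_pow, hw]; simp
  | one => exact one_pow q
  | mul y z hy hz hy' hz' =>
    have hyN : y ∈ Subgroup.normalClosure ({w} : Set G) := hy
    have hzN : z ∈ Subgroup.normalClosure ({w} : Set G) := hz
    have := hmul ⟨y, hyN⟩ ⟨z, hzN⟩ (Subtype.ext (by simpa using hy' hyN)) (Subtype.ext (by simpa using hz' hzN))
    have h2 := congrArg Subtype.val this
    simpa using h2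
  | inv y hy hy' =>
    have hyN : y ∈ Subgroup.normalClosure ({w} : Set G) := hy
    rw [inv_pow, hy' hyN, inv_one]

/-- a subgroup containing the derived subgroup is normal -/
theorem normal_of_commutator_le {G : Type*} [Group G] (H : Subgroup G) (h : commutator G ≤ H) : H.Normal := by
  constructor
  intro n hn g
  have h1 : ⁅g, n⁆ ∈ commutator G := by
    rw [commutator_def]
    exact Subgroup.commutator_mem_commutator (Subgroup.mem_top g) (Subgroup.mem_top n)
  have h2 : g * n * g⁻¹ = ⁅g, n⁆ * n := by
    rw [commutatorElement_def]; group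
  rw [h2]
  exact H.mul_mem (h h1) hn

set_option maxHeartbeats 1000000 in
theorem main_aux (p : ℕ) [hp : Fact p.Prime] (n : ℕ) : ∀ (G : Type u) [Group G] [Finite G], Nat.card G = n →
    Cfsg.IsRegularPGroup p G → ∀ (a b : G) (k : ℕ), a ^ (p ^ k) = b ^ (p ^ k) ↔ (a⁻¹ * b) ^ (p ^ k) = 1 := by
  induction n using Nat.strong_induction_on with
  | _ n ih =>
  intro G _ _ hcard hG a b k
  -- consequences of the induction hypothesis for proper subgroups
  have hsub : ∀ K : Subgroup G, K ≠ ⊤ → ∀ (x y : K) (k : ℕ),
      x ^ (p ^ k) = y ^ (p ^ k) ↔ (x⁻¹ * y) ^ (p ^ k) = 1 := by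
    intro K hK
    have hlt : Nat.card K < n := by
      rw [← hcard]
      by_contra hcon
      push Not at hcon
      exact hK (Subgroup.eq_top_of_le_card K hcon)
    exact ih (Nat.card K) hlt K rfl (isRegular_subgroup hG K)
  have hsubmul : ∀ K : Subgroup G, K ≠ ⊤ → ∀ (x y : K), x ^ (p ^ k) = 1 → y ^ (p ^ k) = 1 →
      (x * y) ^ (p ^ k) = 1 := by
    intro K hK x y hx hy
    have := (hsub K hK x⁻¹ y k).mp (by rw [inv_pow, hx, hy, inv_one])
    simpa using this
  by_cases hK : Subgroup.closure ({a, b} : Set G) = ⊤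
  swap
  · have ha : a ∈ Subgroup.closure ({a, b} : Set G) := Subgroup.subset_closure (by simp)
    have hb : b ∈ Subgroup.closure ({a, b} : Set G) := Subgroup.subset_closure (by simp)
    have := hsub _ hK ⟨a, ha⟩ ⟨b, hb⟩ k
    rw [Subtype.ext_iff, Subtype.ext_iff] at this
    simpa using this
  by_cases hcomm : ∀ u v : G, u * v = v * u
  · have hc : Commute a⁻¹ b := hcomm _ _
    rw [hc.mul_pow, inv_pow, inv_mul_eq_one]
  -- the non-commutative two-generator case
  set q := p ^ k with hq
  -- key step: if `commutator G ≤ normalClosure {w}`, `normalClosure {w} ≠ ⊤`, `w ^ q = 1`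
  have key : ∀ w : G, w ^ q = 1 → Subgroup.normalClosure ({w} : Set G) ≠ ⊤ →
      commutator G ≤ Subgroup.normalClosure ({w} : Set G) →
      ∀ (x y : G) , (x * y) ^ q = x ^ q * y ^ q := by
    intro w hw hne hle x y
    have hexp : ∀ z ∈ commutator G, z ^ q = 1 := by
      intro z hz
      exact pow_eq_one_of_mem_normalClosure w q (hsubmul _ hne) hw z (hle hz)
    obtain ⟨c, hc, heq⟩ := hG.2 x y k
    have hc' : c ∈ Cfsg.powerClosure p k (commutator G) := by
      refine powerClosure_mono p k ?_ hc
      rw [commutator_def]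
      exact Subgroup.commutator_mono le_top le_top
    rw [powerClosure_eq_bot p k hexp, Subgroup.mem_bot] at hc'
    rw [heq, hc', mul_one]
  constructor
  · intro hab
    -- the conjugate `a' = b⁻¹ a b`
    have ha' : (b⁻¹ * a * b) ^ q = a ^ q := by
      have : b⁻¹ * a * b = b⁻¹ * a * b⁻¹⁻¹ := by rw [inv_inv]
      rw [this, conj_pow, hab, inv_inv]; group
    have hL : Subgroup.closure ({a, b⁻¹ * a * b} : Set G) ≠ ⊤ := by
      intro htop
      apply hcomm
      apply comm_of_closure_sup_commutator hG.1 a
      rw [eq_top_iff, ← htop, Subgroup.closure_le]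
      intro z hz
      have ha1 : a ∈ Subgroup.closure ({a} : Set G) := Subgroup.subset_closure (Set.mem_singleton a)
      have hc1 : ⁅a⁻¹, b⁻¹⁆ ∈ commutator G := by
        rw [commutator_def]
        exact Subgroup.commutator_mem_commutator (Subgroup.mem_top _) (Subgroup.mem_top _)
      rcases hz with hz | hz
      · rw [hz]
        exact (le_sup_left : Subgroup.closure ({a} : Set G) ≤ _) ha1
      · rw [Set.mem_singleton_iff] at hz
        have hz2 : z = a * ⁅a⁻¹, b⁻¹⁆ := by
          rw [hz, commutatorElement_def]; group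
        rw [hz2]
        exact Subgroup.mul_mem_sup ha1 hc1
    have h1 : a ∈ Subgroup.closure ({a, b⁻¹ * a * b} : Set G) := Subgroup.subset_closure (by simp)
    have h2 : b⁻¹ * a * b ∈ Subgroup.closure ({a, b⁻¹ * a * b} : Set G) := Subgroup.subset_closure (by simp)
    have h3 := (hsub _ hL ⟨a, h1⟩ ⟨b⁻¹ * a * b, h2⟩ k).mp (Subtype.ext (by simpa using ha'.symm))
    have hw : (⁅a⁻¹, b⁻¹⁆) ^ q = 1 := by
      have h4 := congrArg Subtype.val h3
      have h5 : ⁅a⁻¹, b⁻¹⁆ = a⁻¹ * (b⁻¹ * a * b) := by
        rw [commutatorElement_def]; group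
      rw [h5]
      simpa using h4
    have hNle : Subgroup.normalClosure ({⁅a⁻¹, b⁻¹⁆} : Set G) ≤ commutator G := by
      apply Subgroup.normalClosure_le_normal
      rw [Set.singleton_subset_iff, commutator_def]
      exact Subgroup.commutator_mem_commutator (Subgroup.mem_top _) (Subgroup.mem_top _)
    have hnt : Nontrivial G := by
      by_contra hcon
      rw [not_nontrivial_iff_subsingleton] at hcon
      exact hcomm (fun u v => Subsingleton.elim _ _)
    have hsolv : Group.IsSolvable G := by
      have : Group.IsNilpotent G := hG.1.isNilpotent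
      infer_instance
    have hNne : Subgroup.normalClosure ({⁅a⁻¹, b⁻¹⁆} : Set G) ≠ ⊤ := by
      intro htop
      have := Group.IsSolvable.commutator_lt_top_of_nontrivial G
      rw [htop, top_le_iff] at hNle
      exact this.ne hNle
    have hgen : Subgroup.closure ({a⁻¹, b⁻¹} : Set G) = ⊤ := by
      rw [eq_top_iff, ← hK, Subgroup.closure_le]
      intro z hz
      rcases hz with rfl | hz
      · have : z⁻¹ ∈ Subgroup.closure ({z⁻¹, b⁻¹} : Set G) := Subgroup.subset_closure (by simp)
        simpa using Subgroup.inv_mem _ this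
      · rw [Set.mem_singleton_iff] at hz
        subst hz
        have : z⁻¹ ∈ Subgroup.closure ({a⁻¹, z⁻¹} : Set G) := Subgroup.subset_closure (by simp)
        simpa using Subgroup.inv_mem _ this
    have hcle := commutator_le_of_gen a⁻¹ b⁻¹ hgen (Subgroup.normalClosure ({⁅a⁻¹, b⁻¹⁆} : Set G))
      (Subgroup.subset_normalClosure rfl)
    rw [key _ hw hNne hcle a⁻¹ b, inv_pow, hab, inv_mul_cancel]
  · intro hc
    set c := a⁻¹ * b with hcdef
    have hb : b = a * c := by rw [hcdef]; group
    have hgen : Subgroup.closure ({a, c} : Set G) = ⊤ := by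
      rw [eq_top_iff, ← hK, Subgroup.closure_le]
      intro z hz
      rcases hz with rfl | hz
      · exact Subgroup.subset_closure (by simp)
      · rw [Set.mem_singleton_iff] at hz
        rw [hz, hb]
        exact Subgroup.mul_mem _ (Subgroup.subset_closure (by simp)) (Subgroup.subset_closure (by simp))
    have hNne : Subgroup.normalClosure ({c} : Set G) ≠ ⊤ := by
      intro htop
      apply hcomm
      apply comm_of_closure_sup_commutator hG.1 c
      have hnorm : (Subgroup.closure {c} ⊔ commutator G).Normal :=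
        normal_of_commutator_le _ le_sup_right
      rw [eq_top_iff, ← htop]
      apply Subgroup.normalClosure_le_normal
      rw [Set.singleton_subset_iff]
      have hc1 : c ∈ Subgroup.closure ({c} : Set G) := Subgroup.subset_closure (Set.mem_singleton c)
      exact (le_sup_left : Subgroup.closure ({c} : Set G) ≤ _) hc1
    have hmem : ⁅a, c⁆ ∈ Subgroup.normalClosure ({c} : Set G) := by
      have h1 : c ∈ Subgroup.normalClosure ({c} : Set G) := Subgroup.subset_normalClosure rfl
      have h2 : ⁅a, c⁆ = (a * c * a⁻¹) * c⁻¹ := by rw [commutatorElement_def]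
      rw [h2]
      exact Subgroup.mul_mem _ (Subgroup.normalClosure_normal.conj_mem _ h1 _) (Subgroup.inv_mem _ h1)
    have hcle := commutator_le_of_gen a c hgen (Subgroup.normalClosure ({c} : Set G)) hmem
    rw [hb, key _ hc hNne hcle a c, hc, mul_one]

end Cfsg.Agent.Lib.Helper70
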