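import Mathlib
import Cfsg.Agent.Lib.Helper70.Kulakoff1
import Cfsg.Agent.Lib.Helper66.Wielandt
import Cfsg.Agent.Lib.Helper70.RegularP

set_option autoImplicit false
set_option linter.unusedSectionVars false
set_option linter.style.haveILetI false

/-!
The double counting behind the Kulakoff--Hall congruence: for a finite `p`-group `P` with at least
two maximal subgroups, `s_a(P) + p ≡ ∑_M s_a(M)  (mod p²)`, the sum over the maximal subgroups.
-/

namespace Cfsg.Agent.Lib.Helper70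

open Subgroup

section NumberTheory

/-- `μ ≡ 1 (mod p)` once `μ ≥ 1` -/
theorem kk_nt_dvd_pred {p μ e : ℕ} (hp : 2 ≤ p) (h : (p - 1) * μ + 1 = p ^ e) (hμ : 1 ≤ μ) :
    (p : ℤ) ∣ (μ : ℤ) - 1 := by
  obtain ⟨q, rfl⟩ : ∃ q, p = q + 1 := ⟨p - 1, by omega⟩
  have he : e ≠ 0 := by
    rintro rfl
    rw [pow_zero] at h
    have : (q + 1 - 1) * μ = 0 := by omega
    rcases Nat.mul_eq_zero.mp this with h1 | h1 <;> omega
  have hd : ((q + 1 : ℕ) : ℤ) ∣ (((q + 1 - 1) * μ + 1 : ℕ) : ℤ) := by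
    rw [h]; push_cast
    exact dvd_pow_self _ he
  have heq : (((q + 1 - 1) * μ + 1 : ℕ) : ℤ) = ((q + 1 : ℕ) : ℤ) * μ - ((μ : ℤ) - 1) := by
    rw [Nat.add_sub_cancel]; push_cast; ring
  rw [heq] at hd
  have := (dvd_sub_right (dvd_mul_right ((q + 1 : ℕ) : ℤ) (μ : ℤ))).mp hd
  exact this

/-- `μ ≡ 1 + p (mod p²)` once `μ ≥ 2` -/
theorem kk_nt_modEq {p μ e : ℕ} (hp : 2 ≤ p) (h : (p - 1) * μ + 1 = p ^ e) (hμ : 2 ≤ μ) :
    μ ≡ 1 + p [MOD p ^ 2] := by
  obtain ⟨q, rfl⟩ : ∃ q, p = q + 1 := ⟨p - 1, by omega⟩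
  have he : 2 ≤ e := by
    by_contra hlt
    push Not at hlt
    have hq : 1 ≤ q := by omega
    interval_cases e
    · rw [pow_zero] at h
      have : (q + 1 - 1) * μ = 0 := by omega
      rcases Nat.mul_eq_zero.mp this with h1 | h1 <;> omega
    · rw [pow_one, Nat.add_sub_cancel] at h
      have : q * μ = q * 1 := by omega
      have := Nat.eq_of_mul_eq_mul_left hq this
      omega
  rw [Nat.modEq_iff_dvd]
  have hd : (((q + 1 : ℕ) : ℤ)) ^ 2 ∣ (((q + 1 - 1) * μ + 1 : ℕ) : ℤ) := by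
    rw [h]; push_cast
    exact pow_dvd_pow _ he
  rw [Nat.add_sub_cancel] at hd
  push_cast at hd ⊢
  have heq : (1 + ((q : ℤ) + 1) - (μ : ℤ)) =
      ((q : ℤ) + 2) * ((q : ℤ) * μ + 1) - ((q : ℤ) + 1) ^ 2 * μ := by ring
  rw [heq]
  exact dvd_sub (dvd_mul_of_dvd_right hd _) (dvd_mul_right _ _)

/-- `1 + μ (μ - 1) ≡ μ (mod p²)` once `μ ≥ 1` -/
theorem kk_nt_one_add {p μ e : ℕ} (hp : 2 ≤ p) (h : (p - 1) * μ + 1 = p ^ e) (hμ : 1 ≤ μ) :
    1 + (μ * μ - μ) ≡ μ [MOD p ^ 2] := by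
  have h1 := kk_nt_dvd_pred hp h hμ
  rw [Nat.modEq_iff_dvd]
  have hle : μ ≤ μ * μ := Nat.le_mul_of_pos_left μ hμ
  push_cast [Nat.cast_sub hle]
  have heq : (μ : ℤ) - (1 + ((μ : ℤ) * μ - μ)) = -(((μ : ℤ) - 1) * ((μ : ℤ) - 1)) := by ring
  rw [heq, dvd_neg, pow_two]
  exact mul_dvd_mul h1 h1

/-- `μ (μ - 1) ≡ p (mod p²)` once `μ ≥ 2` -/
theorem kk_nt_offDiag {p μ e : ℕ} (hp : 2 ≤ p) (h : (p - 1) * μ + 1 = p ^ e) (hμ : 2 ≤ μ) :
    μ * μ - μ ≡ p [MOD p ^ 2] := by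
  have h1 := (Nat.modEq_iff_dvd.mp (kk_nt_modEq hp h hμ))
  rw [Nat.modEq_iff_dvd]
  have hle : μ ≤ μ * μ := Nat.le_mul_of_pos_left μ (by omega)
  push_cast [Nat.cast_sub hle] at h1 ⊢
  have heq : (p : ℤ) - ((μ : ℤ) * μ - μ) = (1 + (p : ℤ) - μ) * ((μ : ℤ) + p) - (p : ℤ) ^ 2 := by ring
  rw [heq]
  exact dvd_sub (dvd_mul_of_dvd_left h1 _) dvd_rfl

/-- `p ∣ μ (μ - 1)` always -/
theorem kk_nt_dvd_offDiag {p μ e : ℕ} (hp : 2 ≤ p) (h : (p - 1) * μ + 1 = p ^ e) :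
    p ∣ μ * μ - μ := by
  rcases Nat.eq_zero_or_pos μ with h0 | h0
  · rw [h0]; exact dvd_zero _
  · have h1 := kk_nt_dvd_pred hp h h0
    have hle : μ ≤ μ * μ := Nat.le_mul_of_pos_left μ h0
    rw [← Int.natCast_dvd_natCast]
    push_cast [Nat.cast_sub hle]
    have heq : ((μ : ℤ) * μ - μ) = ((μ : ℤ) - 1) * μ := by ring
    rw [heq]
    exact dvd_mul_of_dvd_left h1 _

/-- `c σ ≡ c (mod p²)` when `p ∣ c` and `σ ≡ 1 (mod p)` -/
theorem kk_nt_mul {p c σ : ℕ} (hc : p ∣ c) (hσ : σ ≡ 1 [MOD p]) : c * σ ≡ c [MOD p ^ 2] := by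
  rw [Nat.modEq_iff_dvd] at hσ ⊢
  push_cast
  have heq : (c : ℤ) - (c : ℤ) * σ = (c : ℤ) * (1 - σ) := by ring
  rw [heq, pow_two]
  exact mul_dvd_mul (Int.natCast_dvd_natCast.mpr hc) hσ

end NumberTheory

section DoubleCount

open Classical

variable {P : Type*} [Group P] [Finite P] {p : ℕ} [hp : Fact p.Prime] [Fintype (Subgroup P)]

/-- subgroups of index `p` -/
noncomputable def kkM (P : Type*) [Group P] [Fintype (Subgroup P)] (p : ℕ) : Finset (Subgroup P) :=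
  Finset.univ.filter (fun M => M.index = p)

/-- subgroups of order `m` -/
noncomputable def kkS (P : Type*) [Group P] [Fintype (Subgroup P)] (m : ℕ) : Finset (Subgroup P) :=
  Finset.univ.filter (fun H => Nat.card H = m)

theorem mem_kkM {M : Subgroup P} : M ∈ kkM P p ↔ M.index = p := by
  unfold kkM; rw [Finset.mem_filter]; exact ⟨fun h => h.2, fun h => ⟨Finset.mem_univ _, h⟩⟩

theorem mem_kkS {m : ℕ} {H : Subgroup P} : H ∈ kkS P m ↔ Nat.card H = m := by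
  unfold kkS; rw [Finset.mem_filter]; exact ⟨fun h => h.2, fun h => ⟨Finset.mem_univ _, h⟩⟩

/-- number of index-`p` subgroups above `H` -/
noncomputable def kkmu (p : ℕ) (H : Subgroup P) : ℕ := ((kkM P p).filter (fun M => H ≤ M)).card

/-- number of subgroups of order `m` below `K` -/
noncomputable def kksig (m : ℕ) (K : Subgroup P) : ℕ := ((kkS P m).filter (fun H => H ≤ K)).card

theorem kkmu_eq (H : Subgroup P) :
    kkmu p H = Nat.card {M : Subgroup P // M.index = p ∧ H ≤ M} := by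
  unfold kkmu
  rw [Nat.card_eq_fintype_card]
  symm
  apply Fintype.card_of_subtype
  intro M
  rw [Finset.mem_filter, mem_kkM]

theorem kksig_eq (m : ℕ) (K : Subgroup P) :
    kksig m K = Nat.card {H : Subgroup P // Nat.card H = m ∧ H ≤ K} := by
  unfold kksig
  rw [Nat.card_eq_fintype_card]
  symm
  apply Fintype.card_of_subtype
  intro M
  rw [Finset.mem_filter, mem_kkS]

theorem kkS_card (m : ℕ) : (kkS P m).card = Nat.card {H : Subgroup P // Nat.card H = m} := by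
  rw [Nat.card_eq_fintype_card]
  symm
  apply Fintype.card_of_subtype
  intro M
  rw [mem_kkS]

theorem kkmu_bot : kkmu p (⊥ : Subgroup P) = (kkM P p).card := by
  unfold kkmu
  congr 1
  apply Finset.filter_true_of_mem
  intro M _
  exact bot_le

theorem kk_dc1 (m : ℕ) : ∑ M ∈ kkM P p, kksig m M = ∑ H ∈ kkS P m, kkmu p H := by
  unfold kksig kkmu
  exact Finset.sum_card_bipartiteAbove_eq_sum_card_bipartiteBelow (fun (M H : Subgroup P) => H ≤ M)

theorem kk_dc2 (m : ℕ) : ∑ x ∈ (kkM P p).offDiag, kksig m (x.1 ⊓ x.2) =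
    ∑ H ∈ kkS P m, (kkmu p H * kkmu p H - kkmu p H) := by
  have h := Finset.sum_card_bipartiteAbove_eq_sum_card_bipartiteBelow (s := (kkM P p).offDiag)
    (t := kkS P m) (fun (x : Subgroup P × Subgroup P) (H : Subgroup P) => H ≤ x.1 ⊓ x.2)
  have h1 : ∀ H : Subgroup P, Finset.bipartiteBelow
      (fun (x : Subgroup P × Subgroup P) (H : Subgroup P) => H ≤ x.1 ⊓ x.2) (kkM P p).offDiag H =
      ((kkM P p).filter (fun M => H ≤ M)).offDiag := by
    intro H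
    ext x
    simp only [Finset.bipartiteBelow, Finset.mem_filter, Finset.mem_offDiag, le_inf_iff]
    tauto
  simp only [h1, Finset.offDiag_card] at h
  exact h

theorem kk_index_inf (hP : IsPGroup p P) {M M' : Subgroup P} (hM : M.index = p)
    (hM' : M'.index = p) (hne : M ≠ M') : (M ⊓ M').index = p ^ 2 := by
  haveI := kk_normal_of_index hP hM'
  have hsup : M ⊔ M' = ⊤ := by
    rcases kk_eq_or_top_of_index_prime hM (le_sup_left : M ≤ M ⊔ M') with h | h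
    · exfalso
      have hle : M' ≤ M := h ▸ le_sup_right
      rcases kk_eq_or_top_of_index_prime hM' hle with h1 | h1
      · exact hne h1
      · rw [h1, index_top] at hM
        exact hp.out.one_lt.ne hM
    · exact h
  have h1 : M'.relIndex M = p := by
    rw [← Subgroup.relIndex_sup_right M M', hsup, Subgroup.relIndex_top_right, hM']
  have h2 := Subgroup.relIndex_mul_index (inf_le_left : M ⊓ M' ≤ M)
  rw [Subgroup.inf_relIndex_left, h1, hM] at h2
  rw [← h2, pow_two]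

theorem kk_dc3 (hP : IsPGroup p P) (m : ℕ)
    (hσ : ∀ D : Subgroup P, D.index = p ^ 2 → kksig m D ≡ 1 [MOD p]) :
    ∑ x ∈ (kkM P p).offDiag, kksig m (x.1 ⊓ x.2) ≡ (kkM P p).offDiag.card [MOD p ^ 2] := by
  set s := (kkM P p).offDiag with hs
  have h1 : ∑ x ∈ s, kksig m (x.1 ⊓ x.2) =
      ∑ D : Subgroup P, (s.filter (fun x => x.1 ⊓ x.2 = D)).card * kksig m D := by
    rw [← Finset.sum_fiberwise s (fun x => x.1 ⊓ x.2)]
    apply Finset.sum_congr rfl
    intro D _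
    rw [Finset.card_eq_sum_ones, Finset.sum_mul]
    apply Finset.sum_congr rfl
    intro x hx
    rw [(Finset.mem_filter.mp hx).2, one_mul]
  have h2 : s.card = ∑ D : Subgroup P, (s.filter (fun x => x.1 ⊓ x.2 = D)).card :=
    Finset.card_eq_sum_card_fiberwise (fun x _ => Finset.mem_coe.mpr (Finset.mem_univ _))
  rw [h1, h2]
  apply Nat.ModEq.sum
  intro D _
  by_cases hc : (s.filter (fun x => x.1 ⊓ x.2 = D)).card = 0
  · rw [hc, zero_mul]
  · obtain ⟨x, hx⟩ := Finset.card_pos.mp (Nat.pos_of_ne_zero hc)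
    rw [Finset.mem_filter, hs, Finset.mem_offDiag] at hx
    obtain ⟨⟨hx1, hx2, hne⟩, hD⟩ := hx
    have hDi : D.index = p ^ 2 := hD ▸ kk_index_inf hP (mem_kkM.mp hx1) (mem_kkM.mp hx2) hne
    apply kk_nt_mul _ (hσ D hDi)
    have hfil : s.filter (fun x => x.1 ⊓ x.2 = D) =
        ((kkM P p).filter (fun M => D ≤ M)).offDiag := by
      ext y
      simp only [Finset.mem_filter, Finset.mem_offDiag, hs]
      constructor
      · rintro ⟨⟨h1, h2, h3⟩, h4⟩
        exact ⟨⟨h1, h4 ▸ inf_le_left⟩, ⟨h2, h4 ▸ inf_le_right⟩, h3⟩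
      · rintro ⟨⟨h1, h1'⟩, ⟨h2, h2'⟩, h3⟩
        refine ⟨⟨h1, h2, h3⟩, ?_⟩
        have hle : D ≤ y.1 ⊓ y.2 := le_inf h1' h2'
        have hi := kk_index_inf hP (mem_kkM.mp h1) (mem_kkM.mp h2) h3
        have h5 := Subgroup.relIndex_mul_index hle
        rw [hi, hDi] at h5
        have hpp : 0 < p ^ 2 := pow_pos hp.out.pos 2
        have h6 : D.relIndex (y.1 ⊓ y.2) = 1 :=
          Nat.eq_of_mul_eq_mul_right hpp (by rw [h5, one_mul])
        exact le_antisymm (Subgroup.relIndex_eq_one.mp h6) hle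
    rw [hfil, Finset.offDiag_card]
    obtain ⟨e, he⟩ := kk_mu_formula hP D
    rw [← kkmu_eq] at he
    exact kk_nt_dvd_offDiag hp.out.two_le he

theorem kk_recursion_sum (hP : IsPGroup p P) (m : ℕ) (hμ₀ : 2 ≤ (kkM P p).card)
    (hpos : ∀ H ∈ kkS P m, 1 ≤ kkmu p H)
    (hσ : ∀ D : Subgroup P, D.index = p ^ 2 → kksig m D ≡ 1 [MOD p]) :
    (kkS P m).card + p ≡ ∑ M ∈ kkM P p, kksig m M [MOD p ^ 2] := by
  rw [kk_dc1]
  have h1 : ∑ H ∈ kkS P m, (1 + (kkmu p H * kkmu p H - kkmu p H)) ≡ ∑ H ∈ kkS P m, kkmu p H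
      [MOD p ^ 2] := by
    apply Nat.ModEq.sum
    intro H hH
    obtain ⟨e, he⟩ := kk_mu_formula hP H
    rw [← kkmu_eq] at he
    exact kk_nt_one_add hp.out.two_le he (hpos H hH)
  rw [Finset.sum_add_distrib, Finset.sum_const, smul_eq_mul, mul_one, ← kk_dc2] at h1
  refine Nat.ModEq.trans ?_ h1
  apply Nat.ModEq.add_left
  refine Nat.ModEq.trans ?_ (kk_dc3 hP m hσ).symm
  rw [Finset.offDiag_card]
  obtain ⟨e, he⟩ := kk_mu_formula hP (⊥ : Subgroup P)
  rw [← kkmu_eq, kkmu_bot] at he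
  exact (kk_nt_offDiag hp.out.two_le he hμ₀).symm

end DoubleCount

end Cfsg.Agent.Lib.Helper70
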