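import Mathlib
import Cfsg.Agent.Lib.Helper70.Kulakoff2

set_option autoImplicit false
set_option linter.unusedSectionVars false
set_option linter.style.haveILetI false

/-!
The recursion for the number of subgroups of order `p ^ a` of a finite `p`-group, in terms of
`Nat.card`, and auxiliary facts (cyclic groups, subgroups of a subgroup).
-/

namespace Cfsg.Agent.Lib.Helper70

open Subgroup

/-- subgroups of `G` inside `K` versus subgroups of `K` -/
theorem kk_card_le_eq {G : Type*} [Group G] (K : Subgroup G) (m : ℕ) :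
    Nat.card {H : Subgroup G // Nat.card H = m ∧ H ≤ K} =
      Nat.card {H' : Subgroup K // Nat.card H' = m} := by
  apply Nat.card_congr
  refine ⟨fun H => ⟨H.1.subgroupOf K, ?_⟩, fun H' => ⟨H'.1.map K.subtype, ?_, ?_⟩, ?_, ?_⟩
  · exact (Nat.card_congr (Subgroup.subgroupOfEquivOfLe H.2.2).toEquiv).trans H.2.1
  · rw [Subgroup.card_map_of_injective K.subtype_injective]
    exact H'.2
  · exact Subgroup.map_subtype_le H'.1
  · intro H
    apply Subtype.ext
    exact Subgroup.map_subgroupOf_eq_of_le H.2.2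
  · intro H'
    apply Subtype.ext
    exact Subgroup.comap_map_eq_self_of_injective K.subtype_injective H'.1

/-- in a finite cyclic group a subgroup is determined by its order -/
theorem kk_cyclic_unique {C : Type*} [Group C] [Finite C] [IsCyclic C] (H K : Subgroup C)
    (h : Nat.card H = Nat.card K) : H = K := by
  classical
  have := Fintype.ofFinite C
  have key : ∀ H K : Subgroup C, Nat.card H = Nat.card K → K ≤ H := by
    intro H K h
    set d := Nat.card H with hd
    have hdpos : 0 < d := Nat.card_pos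
    let T : Finset C := Finset.univ.filter (fun x => x ^ d = 1)
    have hT : T.card ≤ d := IsCyclic.card_pow_eq_one_le hdpos
    let Hf : Finset C := Finset.univ.filter (fun x => x ∈ H)
    have hHf : Hf.card = d := by
      rw [hd, Nat.card_eq_fintype_card]
      symm
      apply Fintype.card_of_subtype
      intro x
      rw [Finset.mem_filter]
      exact ⟨fun h => h.2, fun h => ⟨Finset.mem_univ _, h⟩⟩
    have hsub : Hf ⊆ T := by
      intro x hx
      rw [Finset.mem_filter] at hx ⊢
      refine ⟨Finset.mem_univ _, ?_⟩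
      have h1 : (⟨x, hx.2⟩ : H) ^ d = 1 := by rw [hd]; exact pow_card_eq_one'
      have h2 := congrArg Subtype.val h1
      rwa [Subgroup.coe_pow, Subgroup.coe_one] at h2
    have heq : Hf = T := Finset.eq_of_subset_of_card_le hsub (by rw [hHf]; exact hT)
    intro x hx
    have hxT : x ∈ T := by
      rw [Finset.mem_filter]
      refine ⟨Finset.mem_univ _, ?_⟩
      have h1 : (⟨x, hx⟩ : K) ^ d = 1 := by rw [h]; exact pow_card_eq_one'
      have h2 := congrArg Subtype.val h1
      rwa [Subgroup.coe_pow, Subgroup.coe_one] at h2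
    rw [← heq, Finset.mem_filter] at hxT
    exact hxT.2
  exact le_antisymm (key K H h.symm) (key H K h)

section KK3

variable {P : Type*} [Group P] [Finite P] {p : ℕ} [hp : Fact p.Prime]

/-- a cyclic `p`-group has exactly one subgroup of each possible order -/
theorem kk_cyclic_count [IsCyclic P] {n a : ℕ} (hP : Nat.card P = p ^ n) (ha : a ≤ n) :
    Nat.card {H : Subgroup P // Nat.card H = p ^ a} = 1 := by
  rw [Nat.card_eq_one_iff_unique]
  constructor
  · constructor
    intro H K
    apply Subtype.ext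
    exact kk_cyclic_unique H.1 K.1 (H.2.trans K.2.symm)
  · have hd : p ^ a ∣ Nat.card P := by rw [hP]; exact pow_dvd_pow p ha
    obtain ⟨H, hH⟩ := Sylow.exists_subgroup_card_pow_prime p hd
    exact ⟨⟨H, hH⟩⟩

theorem kk_exists_index_p (hP : IsPGroup p P) (H : Subgroup P) (hH : H ≠ ⊤) :
    ∃ M : Subgroup P, M.index = p ∧ H ≤ M := by
  obtain ⟨M, hM, hHM⟩ := (eq_top_or_exists_le_coatom H).resolve_left hH
  haveI := rp_coatom_normal hP M hM
  exact ⟨M, by rw [Subgroup.index_eq_card]; exact rp_coatom_card_quotient hP M hM, hHM⟩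

/-- a noncyclic `p`-group has two distinct maximal subgroups -/
theorem kk_exists_two (hP : IsPGroup p P) (hnc : ¬ IsCyclic P) :
    ∃ M₁ M₂ : Subgroup P, M₁.index = p ∧ M₂.index = p ∧ M₁ ≠ M₂ := by
  have hbt : (⊥ : Subgroup P) ≠ ⊤ := by
    intro h
    apply hnc
    have : Subsingleton P := by
      constructor
      intro a b
      have ha : a ∈ (⊥ : Subgroup P) := by rw [h]; trivial
      have hb : b ∈ (⊥ : Subgroup P) := by rw [h]; trivial
      rw [Subgroup.mem_bot] at ha hb
      rw [ha, hb]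
    infer_instance
  obtain ⟨M₁, hM₁, -⟩ := kk_exists_index_p hP ⊥ hbt
  have hne : M₁ ≠ ⊤ := by
    intro h
    rw [h, Subgroup.index_top] at hM₁
    exact hp.out.one_lt.ne hM₁
  obtain ⟨g, -, hg⟩ := SetLike.exists_of_lt (lt_top_iff_ne_top.mpr hne)
  have hz : zpowers g ≠ ⊤ := by
    intro h
    exact hnc (isCyclic_iff_exists_zpowers_eq_top.mpr ⟨g, h⟩)
  obtain ⟨M₂, hM₂, hgM₂⟩ := kk_exists_index_p hP _ hz
  refine ⟨M₁, M₂, hM₁, hM₂, ?_⟩
  intro h
  apply hg
  rw [h]
  exact hgM₂ (mem_zpowers g)

theorem kk_card_of_index {n k : ℕ} (hP : Nat.card P = p ^ n) (hk : k ≤ n) (M : Subgroup P)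
    (hM : M.index = p ^ k) : Nat.card M = p ^ (n - k) := by
  have h := M.card_mul_index
  rw [hM, hP] at h
  have h2 : p ^ n = p ^ (n - k) * p ^ k := by rw [← pow_add]; congr 1; omega
  rw [h2] at h
  exact Nat.eq_of_mul_eq_mul_right (pow_pos hp.out.pos k) h

theorem kk_index_of_card {n k : ℕ} (hP : Nat.card P = p ^ n) (hk : k ≤ n) (M : Subgroup P)
    (hM : Nat.card M = p ^ (n - k)) : M.index = p ^ k := by
  have h := M.card_mul_index
  rw [hM, hP] at h
  have h2 : p ^ n = p ^ (n - k) * p ^ k := by rw [← pow_add]; congr 1; omega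
  rw [h2] at h
  exact Nat.eq_of_mul_eq_mul_left (pow_pos hp.out.pos (n - k)) h

/-- **the recursion** -/
theorem kk_recursion {n a : ℕ} (hP : Nat.card P = p ^ n) (hnc : ¬ IsCyclic P) (ha : a + 2 ≤ n)
    (hIH : ∀ M : Subgroup P, M.index = p → ¬ IsCyclic M →
      Nat.card {H : Subgroup M // Nat.card H = p ^ a} ≡ 1 + p [MOD p ^ 2]) :
    Nat.card {H : Subgroup P // Nat.card H = p ^ a} +
      p * Nat.card {M : Subgroup P // M.index = p ∧ IsCyclic M} ≡ 1 + p [MOD p ^ 2] := by
  classical
  haveI : Fintype (Subgroup P) := Fintype.ofFinite _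
  have hPg : IsPGroup p P := IsPGroup.of_card hP
  have hcardM : ∀ M : Subgroup P, M.index = p → Nat.card M = p ^ (n - 1) := by
    intro M hM
    exact kk_card_of_index hP (by omega) M (by rw [pow_one]; exact hM)
  have hcardD : ∀ D : Subgroup P, D.index = p ^ 2 → Nat.card D = p ^ (n - 2) := by
    intro D hD
    exact kk_card_of_index hP (by omega) D hD
  have hμ₀ : 2 ≤ (kkM P p).card := by
    obtain ⟨M₁, M₂, h1, h2, h3⟩ := kk_exists_two hPg hnc
    exact Finset.one_lt_card.mpr ⟨M₁, mem_kkM.mpr h1, M₂, mem_kkM.mpr h2, h3⟩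
  have hpos : ∀ H ∈ kkS P (p ^ a), 1 ≤ kkmu p H := by
    intro H hH
    rw [mem_kkS] at hH
    have hne : H ≠ ⊤ := by
      intro h
      rw [h, Subgroup.card_top, hP] at hH
      have := Nat.pow_right_injective hp.out.two_le hH
      omega
    obtain ⟨M, hM, hHM⟩ := kk_exists_index_p hPg H hne
    unfold kkmu
    exact Finset.card_pos.mpr ⟨M, Finset.mem_filter.mpr ⟨mem_kkM.mpr hM, hHM⟩⟩
  have hσ : ∀ D : Subgroup P, D.index = p ^ 2 → kksig (p ^ a) D ≡ 1 [MOD p] := by
    intro D hD
    rw [kksig_eq, kk_card_le_eq]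
    apply Cfsg.Agent.Lib.Helper66.card_subgroups_modEq_one
    rw [hcardD D hD]
    exact pow_dvd_pow p (by omega)
  have hrec := kk_recursion_sum hPg (p ^ a) hμ₀ hpos hσ
  have hM : ∀ M ∈ kkM P p, kksig (p ^ a) M + (if IsCyclic M then p else 0) ≡ 1 + p
      [MOD p ^ 2] := by
    intro M hM
    rw [mem_kkM] at hM
    rw [kksig_eq, kk_card_le_eq]
    by_cases hc : IsCyclic M
    · rw [if_pos hc]
      haveI := hc
      rw [kk_cyclic_count (hcardM M hM) (by omega)]
    · rw [if_neg hc, add_zero]
      exact hIH M hM hc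
  have hsum := Nat.ModEq.sum hM
  rw [Finset.sum_add_distrib, Finset.sum_const, smul_eq_mul] at hsum
  have hite : ∑ M ∈ kkM P p, (if IsCyclic M then p else 0) =
      p * Nat.card {M : Subgroup P // M.index = p ∧ IsCyclic M} := by
    rw [← Finset.sum_filter, Finset.sum_const, smul_eq_mul, mul_comm]
    congr 1
    rw [Nat.card_eq_fintype_card]
    symm
    apply Fintype.card_of_subtype
    intro M
    rw [Finset.mem_filter, mem_kkM]
  rw [hite] at hsum
  obtain ⟨e, he⟩ := kk_mu_formula hPg (⊥ : Subgroup P)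
  rw [← kkmu_eq, kkmu_bot] at he
  have hμmod := kk_nt_modEq hp.out.two_le he hμ₀
  rw [← kkS_card]
  set t := Nat.card {M : Subgroup P // M.index = p ∧ IsCyclic M} with ht
  apply Nat.ModEq.add_right_cancel' p
  calc (kkS P (p ^ a)).card + p * t + p = ((kkS P (p ^ a)).card + p) + p * t := by ring
    _ ≡ (∑ M ∈ kkM P p, kksig (p ^ a) M) + p * t [MOD p ^ 2] := Nat.ModEq.add_right _ hrec
    _ ≡ (kkM P p).card * (1 + p) [MOD p ^ 2] := hsum
    _ ≡ (1 + p) * (1 + p) [MOD p ^ 2] := Nat.ModEq.mul_right _ hμmod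
    _ ≡ 1 + p + p [MOD p ^ 2] := by
        rw [Nat.modEq_iff_dvd]
        exact ⟨-1, by push_cast; ring⟩

/-- the subgroups of order `p` when `Ω₁` has order `p²` -/
theorem kk_count_order_p (W : Subgroup P) (hW : ∀ x, x ∈ W ↔ x ^ p = 1)
    (hWc : Nat.card W = p ^ 2) : Nat.card {H : Subgroup P // Nat.card H = p} = p + 1 := by
  have hX : Nat.card {x : P // x ^ p = 1 ∧ x ≠ 1} + 1 = p ^ 2 := by
    rw [← hWc, ← kk_card_subtype_ne (X := W) 1]
    congr 1
    apply Nat.card_congr
    refine ⟨fun x => ⟨⟨x.1, (hW _).mpr x.2.1⟩, fun h => x.2.2 (congrArg Subtype.val h)⟩,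
      fun w => ⟨w.1.1, (hW _).mp w.1.2, fun h => w.2 (Subtype.ext h)⟩, ?_, ?_⟩
    · intro x; rfl
    · intro w; rfl
  have hord : ∀ x : {x : P // x ^ p = 1 ∧ x ≠ 1}, Nat.card (zpowers x.1) = p := by
    intro x
    rw [Nat.card_zpowers]
    exact orderOf_eq_prime x.2.1 x.2.2
  have hfib := kk_card_eq_mul_of_fibers
    (fun x : {x : P // x ^ p = 1 ∧ x ≠ 1} =>
      (⟨zpowers x.1, hord x⟩ : {H : Subgroup P // Nat.card H = p})) (p - 1) ?_
  · have h1 : 1 ≤ p := hp.out.pos
    have h2 : Nat.card {H : Subgroup P // Nat.card H = p} * (p - 1) + 1 = (p + 1) * (p - 1) + 1 := by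
      rw [← hfib, hX]
      obtain ⟨q, rfl⟩ : ∃ q, p = q + 1 := ⟨p - 1, by omega⟩
      rw [Nat.add_sub_cancel]; ring
    have h3 : 0 < p - 1 := by have := hp.out.two_le; omega
    exact Nat.eq_of_mul_eq_mul_right h3 (by omega)
  · intro H
    have hH1 := kk_card_subtype_ne (X := H.1) 1
    rw [H.2] at hH1
    have : Nat.card {x : {x : P // x ^ p = 1 ∧ x ≠ 1} //
        (⟨zpowers x.1, hord x⟩ : {H : Subgroup P // Nat.card H = p}) = H} =
        Nat.card {h : H.1 // h ≠ 1} := by
      apply Nat.card_congr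
      refine ⟨fun x => ⟨⟨x.1.1, ?_⟩, ?_⟩, fun h => ⟨⟨h.1.1, ?_, ?_⟩, ?_⟩, ?_, ?_⟩
      · have := congrArg Subtype.val x.2
        rw [← this]
        exact mem_zpowers _
      · intro h
        exact x.1.2.2 (congrArg Subtype.val h)
      · have h1 : h.1 ^ p = 1 := by
          have := pow_card_eq_one' (x := h.1)
          rwa [H.2] at this
        have h2 := congrArg Subtype.val h1
        rwa [Subgroup.coe_pow, Subgroup.coe_one] at h2
      · intro h1
        exact h.2 (Subtype.ext h1)
      · apply Subtype.ext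
        apply Subgroup.eq_of_le_of_card_ge
        · rw [zpowers_le]; exact h.1.2
        · apply le_of_eq
          refine H.2.trans ?_
          symm
          change Nat.card (zpowers (h.1 : P)) = p
          rw [Nat.card_zpowers]
          apply orderOf_eq_prime
          · have h1 : h.1 ^ p = 1 := by
              have := pow_card_eq_one' (x := h.1)
              rwa [H.2] at this
            have h2 := congrArg Subtype.val h1
            rwa [Subgroup.coe_pow, Subgroup.coe_one] at h2
          · intro h1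
            exact h.2 (Subtype.ext h1)
      · intro x; rfl
      · intro h; rfl
    rw [this]
    omega

end KK3

end Cfsg.Agent.Lib.Helper70
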