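import Mathlib
import Cfsg.Prelude.Def_OddOrderLocal
import Cfsg.Agent.Lib.Helper33.Conj
import Cfsg.Agent.Lib.Helper24.InvCompl
import Cfsg.Agent.Lib.Helper24.BG121
import Cfsg.Agent.Lib.Helper63.BG13a

/-!
Second half of S1369 (BG 14.2(g)): every maximal subgroup `H` with `κ(H) ≠ ∅` is conjugate to `M`
or to `M*`; armed on the verbatim statements of S1366, S1367, S1434 and on the existence of a
sigma-decomposition.
-/

set_option autoImplicit false
set_option linter.style.haveILetI false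
set_option linter.unusedSectionVars false
set_option linter.unusedVariables false

universe u

namespace Cfsg.Agent.Lib.Helper70.BG1369

open Subgroup Cfsg
open Cfsg.Agent.Lib.Helper33

/-- statement of S1366 (existence and uniqueness of the partner) -/
def St1366 (G : Type u) [Group G] : Prop :=
  ∀ (M : Subgroup G) (hM : IsCoatom M) (K U : Subgroup G) (hKU : Cfsg.IsSigmaDecomposition M K U) (hK1 : K ≠ ⊥),
    ∃! Mstar : Subgroup G, IsCoatom Mstar ∧ K = Cfsg.sigmaCore Mstar ⊓ Subgroup.centralizer ((Cfsg.sigmaCore M ⊓ Subgroup.centralizer (K : Set G)) : Set G) ∧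
        Cfsg.IsPiHallOf (Cfsg.kappa Mstar) (Cfsg.sigmaCore M ⊓ Subgroup.centralizer (K : Set G)) Mstar

/-- statement of S1367 -/
def St1367 (G : Type u) [Group G] : Prop :=
  ∀ (M : Subgroup G) (hM : IsCoatom M) (K U : Subgroup G) (hKU : Cfsg.IsSigmaDecomposition M K U) (hK1 : K ≠ ⊥) (Mstar : Subgroup G) (hMstar : IsCoatom Mstar)
    (hKst : K = Cfsg.sigmaCore Mstar ⊓ Subgroup.centralizer ((Cfsg.sigmaCore M ⊓ Subgroup.centralizer (K : Set G)) : Set G))
    (hKstH : Cfsg.IsPiHallOf (Cfsg.kappa Mstar) (Cfsg.sigmaCore M ⊓ Subgroup.centralizer (K : Set G)) Mstar),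
    (∀ X : Subgroup G, X ≤ (Cfsg.sigmaCore M ⊓ Subgroup.centralizer (K : Set G)) → (Nat.card X).Prime →
        Subgroup.centralizer (X : Set G) ≤ M ∧ ∀ L : Subgroup G, IsCoatom L → Subgroup.centralizer (X : Set G) ≤ L → L = M) ∧
      (∀ Y : Subgroup G, Y ≤ K → (Nat.card Y).Prime →
        Subgroup.centralizer (Y : Set G) ≤ Mstar ∧ ∀ L : Subgroup G, IsCoatom L → Subgroup.centralizer (Y : Set G) ≤ L → L = Mstar)

/-- the parts of the statement of S1434 used here (clauses 3 and 6) -/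
def St1434 (G : Type u) [Group G] : Prop :=
  ∀ (M : Subgroup G) (hM : IsCoatom M) (K U : Subgroup G) (hKU : Cfsg.IsSigmaDecomposition M K U) (hK1 : K ≠ ⊥) (Mstar : Subgroup G) (hMstar : IsCoatom Mstar)
    (hKst : K = Cfsg.sigmaCore Mstar ⊓ Subgroup.centralizer ((Cfsg.sigmaCore M ⊓ Subgroup.centralizer (K : Set G)) : Set G))
    (hKstH : Cfsg.IsPiHallOf (Cfsg.kappa Mstar) (Cfsg.sigmaCore M ⊓ Subgroup.centralizer (K : Set G)) Mstar),
    (∀ x ∈ K, x ≠ 1 → ∀ y ∈ (Cfsg.sigmaCore M ⊓ Subgroup.centralizer (K : Set G)), y ≠ 1 →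
        Subgroup.centralizer ({x * y} : Set G) = K ⊔ (Cfsg.sigmaCore M ⊓ Subgroup.centralizer (K : Set G))) ∧
      Nat.card G < 2 * Set.ncard {a : G | ∃ g : G, ∃ z ∈ ((↑(K ⊔ (Cfsg.sigmaCore M ⊓ Subgroup.centralizer (K : Set G))) : Set G) \ ((K : Set G) ∪ ↑(Cfsg.sigmaCore M ⊓ Subgroup.centralizer (K : Set G)))), a = g * z * g⁻¹}

/-- existence of a sigma-decomposition (S1351 + S1352) -/
def StDec (G : Type u) [Group G] : Prop :=
  ∀ H : Subgroup G, IsCoatom H → ∃ K U : Subgroup G, IsSigmaDecomposition H K U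

variable {G : Type u} [Group G] [Finite G]

theorem centralizer_singleton_conj (c a : G) :
    centralizer ({c * a * c⁻¹} : Set G) = cj c (centralizer ({a} : Set G)) := by
  ext x
  rw [mem_cj, mem_centralizer_iff, mem_centralizer_iff]
  constructor
  · intro h y hy
    rw [Set.mem_singleton_iff] at hy
    subst hy
    have := h (c * y * c⁻¹) rfl
    calc y * (c⁻¹ * x * c) = c⁻¹ * ((c * y * c⁻¹) * x) * c := by group
      _ = c⁻¹ * (x * (c * y * c⁻¹)) * c := by rw [this]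
      _ = c⁻¹ * x * c * y := by group
  · intro h y hy
    rw [Set.mem_singleton_iff] at hy
    subst hy
    have := h a rfl
    calc c * a * c⁻¹ * x = c * (a * (c⁻¹ * x * c)) * c⁻¹ := by group
      _ = c * ((c⁻¹ * x * c) * a) * c⁻¹ := by rw [this]
      _ = x * (c * a * c⁻¹) := by group

/-- a subgroup of prime order of `K × K*` (coprime orders) lies in one of the factors -/
theorem le_or_le_of_card_prime {K Ks P : Subgroup G} (hc : ∀ a ∈ K, ∀ b ∈ Ks, a * b = b * a)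
    (hcop : (Nat.card K).Coprime (Nat.card Ks)) (hP : P ≤ K ⊔ Ks) (hPc : (Nat.card P).Prime) :
    P ≤ K ∨ P ≤ Ks := by
  classical
  have hKn : K ≤ normalizer (Ks : Set G) := by
    intro a ha
    rw [mem_normalizer_iff]
    intro b
    constructor
    · intro hb
      have : a * b * a⁻¹ = b := by rw [hc a ha b hb, mul_inv_cancel_right]
      rw [this]; exact hb
    · intro hb
      have h1 : a⁻¹ * (a * b * a⁻¹) * a⁻¹⁻¹ = a * b * a⁻¹ := by
        have := hc a⁻¹ (K.inv_mem ha) _ hb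
        rw [this, mul_inv_cancel_right]
      have h2 : a⁻¹ * (a * b * a⁻¹) * a⁻¹⁻¹ = b := by group
      rw [h2] at h1
      rw [h1]; exact hb
  have hdisj : K ⊓ Ks = ⊥ := (Subgroup.disjoint_of_coprime_natCard hcop).eq_bot
  set t := Nat.card P with ht
  haveI : Fact t.Prime := ⟨hPc⟩
  -- a generator
  obtain ⟨w, hwP, hw1⟩ : ∃ w ∈ P, w ≠ 1 := by
    by_contra hcon
    push Not at hcon
    have : P = ⊥ := (Subgroup.eq_bot_iff_forall P).mpr hcon
    rw [ht, this, Subgroup.card_bot] at hPc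
    exact Nat.not_prime_one hPc
  have hgen : ∀ y ∈ P, y ∈ zpowers w := by
    intro y hy
    have htop := zpowers_eq_top_of_prime_card (G := ↥P) ht.symm (g := ⟨w, hwP⟩)
      (by intro h; exact hw1 (congrArg Subtype.val h))
    have hmem : (⟨y, hy⟩ : ↥P) ∈ zpowers (⟨w, hwP⟩ : ↥P) := htop ▸ mem_top _
    obtain ⟨k, hk⟩ := mem_zpowers_iff.mp hmem
    rw [mem_zpowers_iff]
    refine ⟨k, ?_⟩
    have := congrArg Subtype.val hk
    simpa using this
  obtain ⟨a, ha, b, hb, hwab⟩ :=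
    Cfsg.Agent.Lib.Helper24.exists_mul_of_mem_sup_of_le_normalizer K Ks hKn w (hP hwP)
  have hwt : w ^ t = 1 := by
    have h1 : orderOf w ∣ t := by
      have := Subgroup.orderOf_dvd_natCard P hwP
      rwa [← ht] at this
    exact orderOf_dvd_iff_pow_eq_one.mp h1
  have hcomm : Commute a b := hc a ha b hb
  have hab : a ^ t * b ^ t = 1 := by rw [← hcomm.mul_pow, ← hwab, hwt]
  have hat : a ^ t = 1 := by
    have h1 : a ^ t ∈ K ⊓ Ks := by
      refine ⟨K.pow_mem ha t, ?_⟩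
      have : a ^ t = (b ^ t)⁻¹ := eq_inv_of_mul_eq_one_left hab
      rw [this]
      exact Ks.inv_mem (Ks.pow_mem hb t)
    rwa [hdisj, mem_bot] at h1
  have hbt : b ^ t = 1 := by rwa [hat, one_mul] at hab
  by_cases ha1 : a = 1
  · right
    intro y hy
    obtain ⟨k, rfl⟩ := mem_zpowers_iff.mp (hgen y hy)
    rw [hwab, ha1, one_mul]
    exact Ks.zpow_mem hb k
  · left
    have hb1 : b = 1 := by
      by_contra hb1
      have h1 : orderOf a = t := orderOf_eq_prime hat ha1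
      have h2 : orderOf b = t := orderOf_eq_prime hbt hb1
      have h3 : t ∣ Nat.card K := h1 ▸ Subgroup.orderOf_dvd_natCard K ha
      have h4 : t ∣ Nat.card Ks := h2 ▸ Subgroup.orderOf_dvd_natCard Ks hb
      have := Nat.eq_one_of_dvd_coprimes hcop h3 h4
      exact hPc.one_lt.ne' this
    intro y hy
    obtain ⟨k, rfl⟩ := mem_zpowers_iff.mp (hgen y hy)
    rw [hwab, hb1, mul_one]
    exact K.zpow_mem ha k

/-- `|K|` and `|K*|` are coprime -/
theorem coprime_card {M K : Subgroup G} (hK : IsPiHallOf (kappa M) K M) :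
    (Nat.card K).Coprime (Nat.card ↥(sigmaCore M ⊓ centralizer (K : Set G))) := by
  apply Nat.coprime_of_dvd
  intro r hr h1 h2
  have hκ : r ∈ kappa M := hK.2.1 r hr h1
  have h3 : r ∣ Nat.card (sigmaCore M) := h2.trans (Subgroup.card_dvd_of_le inf_le_left)
  -- `r ∈ σ(M)`: a prime divisor of `|O_σ(M)|`
  exact hκ.2.2.1 (Cfsg.Agent.Lib.Helper24.BG.mem_sigma_of_dvd_card_sigmaCore M hr h3)

theorem le_normalizer_of_commute {K Ks : Subgroup G} (hc : ∀ a ∈ K, ∀ b ∈ Ks, a * b = b * a) :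
    K ≤ normalizer (Ks : Set G) := by
  intro a ha
  rw [mem_normalizer_iff]
  intro b
  constructor
  · intro hb
    have : a * b * a⁻¹ = b := by rw [hc a ha b hb, mul_inv_cancel_right]
    rw [this]; exact hb
  · intro hb
    have h1 : a⁻¹ * (a * b * a⁻¹) * a⁻¹⁻¹ = a * b * a⁻¹ := by
      have := hc a⁻¹ (K.inv_mem ha) _ hb
      rw [this, mul_inv_cancel_right]
    have h2 : a⁻¹ * (a * b * a⁻¹) * a⁻¹⁻¹ = b := by group
    rw [h2] at h1
    rw [h1]; exact hb

theorem commute_kstar (M K : Subgroup G) :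
    ∀ a ∈ K, ∀ b ∈ sigmaCore M ⊓ centralizer (K : Set G), a * b = b * a :=
  fun a ha b hb => mem_centralizer_iff.mp hb.2 a ha

/-- the centralizer of an element of `Ẑ` -/
theorem centralizer_zhat {M K : Subgroup G}
    (hc : ∀ x ∈ K, x ≠ 1 → ∀ y ∈ (sigmaCore M ⊓ centralizer (K : Set G)), y ≠ 1 →
      centralizer ({x * y} : Set G) = K ⊔ (sigmaCore M ⊓ centralizer (K : Set G)))
    {z : G} (hz : z ∈ ((↑(K ⊔ (sigmaCore M ⊓ centralizer (K : Set G))) : Set G) \
      ((K : Set G) ∪ ↑(sigmaCore M ⊓ centralizer (K : Set G))))) :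
    centralizer ({z} : Set G) = K ⊔ (sigmaCore M ⊓ centralizer (K : Set G)) := by
  obtain ⟨hzmem, hznot⟩ := hz
  obtain ⟨x, hx, y, hy, hzxy⟩ :=
    Cfsg.Agent.Lib.Helper24.exists_mul_of_mem_sup_of_le_normalizer K _
      (le_normalizer_of_commute (commute_kstar M K)) z hzmem
  have hx1 : x ≠ 1 := by
    rintro rfl
    apply hznot
    right
    rw [hzxy, one_mul]
    exact hy
  have hy1 : y ≠ 1 := by
    rintro rfl
    apply hznot
    left
    rw [hzxy, mul_one]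
    exact hx
  rw [hzxy]
  exact hc x hx hx1 y hy hy1

/-- **Second half of S1369**: a maximal subgroup `H` with `κ(H) ≠ ∅` is conjugate to `M` or `M*`. -/
theorem conj_of_kappa_nonempty (h66 : St1366 G) (h67 : St1367 G) (h34 : St1434 G) (hDec : StDec G)
    (M : Subgroup G) (hM : IsCoatom M) (K U : Subgroup G) (hKU : Cfsg.IsSigmaDecomposition M K U) (hK1 : K ≠ ⊥) (Mstar : Subgroup G) (hMstar : IsCoatom Mstar)
    (hKst : K = Cfsg.sigmaCore Mstar ⊓ Subgroup.centralizer ((Cfsg.sigmaCore M ⊓ Subgroup.centralizer (K : Set G)) : Set G))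
    (hKstH : Cfsg.IsPiHallOf (Cfsg.kappa Mstar) (Cfsg.sigmaCore M ⊓ Subgroup.centralizer (K : Set G)) Mstar) :
    ∀ H : Subgroup G, IsCoatom H → (Cfsg.kappa H).Nonempty →
      ∃ g : G, H = M.map (MulAut.conj g).toMonoidHom ∨ H = Mstar.map (MulAut.conj g).toMonoidHom := by
  classical
  intro H hH hκ
  obtain ⟨KH, UH, hDH⟩ := hDec H hH
  have hKH1 : KH ≠ ⊥ := by
    obtain ⟨p, hp⟩ := hκ
    intro h
    have hidx := hDH.hall.2.2 p hp.1 hp
    rw [h, Subgroup.relIndex_bot_left] at hidx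
    exact hidx hp.2.1
  obtain ⟨Hs, ⟨hHs, hKHst, hKHstH⟩, _⟩ := h66 H hH KH UH hDH hKH1
  obtain ⟨hcM, hbigM⟩ := h34 M hM K U hKU hK1 Mstar hMstar hKst hKstH
  obtain ⟨hcH, hbigH⟩ := h34 H hH KH UH hDH hKH1 Hs hHs hKHst hKHstH
  -- the two class supports meet
  have hAB : ({a : G | ∃ g : G, ∃ z ∈ ((↑(K ⊔ (sigmaCore M ⊓ centralizer (K : Set G))) : Set G) \
        ((K : Set G) ∪ ↑(sigmaCore M ⊓ centralizer (K : Set G)))), a = g * z * g⁻¹} ∩
      {a : G | ∃ g : G, ∃ z ∈ ((↑(KH ⊔ (sigmaCore H ⊓ centralizer (KH : Set G))) : Set G) \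
        ((KH : Set G) ∪ ↑(sigmaCore H ⊓ centralizer (KH : Set G)))), a = g * z * g⁻¹}).Nonempty := by
    by_contra hcon
    rw [Set.not_nonempty_iff_eq_empty] at hcon
    have hd := Set.disjoint_iff_inter_eq_empty.mpr hcon
    have h1 := Set.ncard_union_eq hd (Set.toFinite _) (Set.toFinite _)
    have h2 := Set.ncard_le_card
      ({a : G | ∃ g : G, ∃ z ∈ ((↑(K ⊔ (sigmaCore M ⊓ centralizer (K : Set G))) : Set G) \
        ((K : Set G) ∪ ↑(sigmaCore M ⊓ centralizer (K : Set G)))), a = g * z * g⁻¹} ∪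
      {a : G | ∃ g : G, ∃ z ∈ ((↑(KH ⊔ (sigmaCore H ⊓ centralizer (KH : Set G))) : Set G) \
        ((KH : Set G) ∪ ↑(sigmaCore H ⊓ centralizer (KH : Set G)))), a = g * z * g⁻¹})
    omega
  obtain ⟨a, ⟨g, z, hz, hag⟩, ⟨g', z', hz', hag'⟩⟩ := hAB
  have hzz : z = (g⁻¹ * g') * z' * (g⁻¹ * g')⁻¹ := by
    have h1 : g * z * g⁻¹ = g' * z' * g'⁻¹ := hag.symm.trans hag'
    calc z = g⁻¹ * (g * z * g⁻¹) * g := by group
      _ = g⁻¹ * (g' * z' * g'⁻¹) * g := by rw [h1]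
      _ = (g⁻¹ * g') * z' * (g⁻¹ * g')⁻¹ := by group
  obtain ⟨c, hcdef⟩ : ∃ c, c = g⁻¹ * g' := ⟨_, rfl⟩
  rw [← hcdef] at hzz
  have hCz := centralizer_zhat hcM hz
  have hCz' := centralizer_zhat hcH hz'
  -- `K_H* ≠ 1`
  have hKsH1 : sigmaCore H ⊓ centralizer (KH : Set G) ≠ ⊥ := by
    intro h
    obtain ⟨hzmem, hznot⟩ := hz'
    apply hznot
    left
    rw [h, sup_bot_eq] at hzmem
    exact hzmem
  have hcard1 : Nat.card ↥(sigmaCore H ⊓ centralizer (KH : Set G)) ≠ 1 :=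
    fun h => hKsH1 (Subgroup.card_eq_one.mp h)
  obtain ⟨t, ht, htd⟩ := Nat.exists_prime_and_dvd hcard1
  haveI : Fact t.Prime := ⟨ht⟩
  obtain ⟨y, hy⟩ := exists_prime_orderOf_dvd_card' t htd
  obtain ⟨Y, hYdef⟩ : ∃ Y, Y = zpowers (y : G) := ⟨_, rfl⟩
  have hYK : Y ≤ sigmaCore H ⊓ centralizer (KH : Set G) := by
    rw [hYdef, zpowers_le]; exact y.2
  have hYc : Nat.card Y = t := by
    rw [hYdef, Nat.card_zpowers, Subgroup.orderOf_coe, hy]
  have hYp : (Nat.card Y).Prime := hYc ▸ ht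
  obtain ⟨hYH, hYuniq⟩ := (h67 H hH KH UH hDH hKH1 Hs hHs hKHst hKHstH).1 Y hYK hYp
  have hYZ : Y ≤ centralizer ({z'} : Set G) := by
    rw [hCz']; exact hYK.trans le_sup_right
  have hcY : cj c Y ≤ K ⊔ (sigmaCore M ⊓ centralizer (K : Set G)) := by
    rw [← hCz, hzz, centralizer_singleton_conj]
    exact cj_mono hYZ
  have hcYc : (Nat.card ↥(cj c Y)).Prime := by rw [card_cj]; exact hYp
  have hcH' : IsCoatom (cj c H) := Cfsg.Agent.Lib.Helper63.BG13.isCoatom_cj hH c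
  have hcYH : centralizer ((cj c Y : Subgroup G) : Set G) ≤ cj c H := by
    rw [centralizer_cj]; exact cj_mono hYH
  rcases le_or_le_of_card_prime (commute_kstar M K) (coprime_card hKU.hall) hcY hcYc with h | h
  · obtain ⟨_, huniq⟩ :=
      (h67 M hM K U hKU hK1 Mstar hMstar hKst hKstH).2 (cj c Y) h hcYc
    have h1 : cj c H = Mstar := huniq (cj c H) hcH' hcYH
    refine ⟨c⁻¹, Or.inr ?_⟩
    rw [← cj_def, ← h1, cj_inv_cj]
  · obtain ⟨_, huniq⟩ :=
      (h67 M hM K U hKU hK1 Mstar hMstar hKst hKstH).1 (cj c Y) h hcYc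
    have h1 : cj c H = M := huniq (cj c H) hcH' hcYH
    refine ⟨c⁻¹, Or.inl ?_⟩
    rw [← cj_def, ← h1, cj_inv_cj]

/-- first half of S1369 (helper56's count), as a proposition -/
def St1369a (G : Type u) [Group G] : Prop :=
  ∀ (M : Subgroup G) (hM : IsCoatom M) (K U : Subgroup G) (hKU : Cfsg.IsSigmaDecomposition M K U) (hK1 : K ≠ ⊥) (Mstar : Subgroup G) (hMstar : IsCoatom Mstar)
    (hKst : K = Cfsg.sigmaCore Mstar ⊓ Subgroup.centralizer ((Cfsg.sigmaCore M ⊓ Subgroup.centralizer (K : Set G)) : Set G))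
    (hKstH : Cfsg.IsPiHallOf (Cfsg.kappa Mstar) (Cfsg.sigmaCore M ⊓ Subgroup.centralizer (K : Set G)) Mstar),
    (U ≠ ⊥ ∨ ∀ Ustar : Subgroup G, Cfsg.IsSigmaDecomposition Mstar (Cfsg.sigmaCore M ⊓ Subgroup.centralizer (K : Set G)) Ustar → Ustar ≠ ⊥)

/-- S1369 from its two halves. -/
theorem s1369_of (ha : St1369a G) (h66 : St1366 G) (h67 : St1367 G) (h34 : St1434 G)
    (hDec : StDec G)
    (M : Subgroup G) (hM : IsCoatom M) (K U : Subgroup G) (hKU : Cfsg.IsSigmaDecomposition M K U) (hK1 : K ≠ ⊥) (Mstar : Subgroup G) (hMstar : IsCoatom Mstar)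
    (hKst : K = Cfsg.sigmaCore Mstar ⊓ Subgroup.centralizer ((Cfsg.sigmaCore M ⊓ Subgroup.centralizer (K : Set G)) : Set G))
    (hKstH : Cfsg.IsPiHallOf (Cfsg.kappa Mstar) (Cfsg.sigmaCore M ⊓ Subgroup.centralizer (K : Set G)) Mstar) :
    (U ≠ ⊥ ∨ ∀ Ustar : Subgroup G, Cfsg.IsSigmaDecomposition Mstar (Cfsg.sigmaCore M ⊓ Subgroup.centralizer (K : Set G)) Ustar → Ustar ≠ ⊥) ∧
      ∀ H : Subgroup G, IsCoatom H → (Cfsg.kappa H).Nonempty →
        ∃ g : G, H = M.map (MulAut.conj g).toMonoidHom ∨ H = Mstar.map (MulAut.conj g).toMonoidHom :=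
  ⟨ha M hM K U hKU hK1 Mstar hMstar hKst hKstH,
    conj_of_kappa_nonempty h66 h67 h34 hDec M hM K U hKU hK1 Mstar hMstar hKst hKstH⟩

end Cfsg.Agent.Lib.Helper70.BG1369
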