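import Cfsg.Agent.S1417
import Cfsg.Agent.S1418
import Cfsg.Agent.S1424
import Cfsg.Agent.Lib.Helper63.BG13a
import Cfsg.Agent.Lib.Helper63.BG10
import Cfsg.Agent.Lib.Helper47.BG11e
import Cfsg.Agent.Lib.Helper47.BG117A23
import Cfsg.Agent.Lib.Helper33.SylowSub
import Cfsg.Agent.Lib.Helper32.BG126

/-!
(P2) of helper63's split of BG 13.4: the "no tau2" lemma.
-/

set_option autoImplicit false

universe u

namespace Cfsg.Agent.Lib.Helper70.BG134

open Subgroup Cfsg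
open Cfsg.Agent.Lib.Helper33
open Cfsg.Agent.Lib.Helper47.BG11

variable {G : Type u} [Group G] [Finite G]

theorem not_tau2_of_cent (hG : IsMinSimpleOddOrder G) {M H : Subgroup G} (hM : IsCoatom M)
    (hH : IsCoatom H) (hne : H ≠ M) {p q : ℕ} [Fact p.Prime] [hqf : Fact q.Prime]
    (hpH : p ∈ sigma H) (hqM : q ∈ sigma M) (hqH : q ∈ tau2 H) {P X : Subgroup G}
    (hP : IsPGroup p P) (hP1 : P ≠ ⊥) (hPM : P ≤ M) (hPH : P ≤ H) (hX : Nat.card X = q)
    (hXM : X ≤ M) (hXH : X ≤ H) (hPX : P ≤ centralizer (X : Set G)) : False := by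
  have hqp : q.Prime := hqf.out
  have hσH : SigmaHallIn H := sigmaHallIn_of_coatom hG hH
  have hqσH : q ∉ sigma H := hqH.2.1
  -- Step 1: a complement `E` of `H_σ` in `H` containing `X`
  have hcop : (Nat.card X).Coprime (Nat.card (sigmaCore H)) := by
    rw [hX]
    exact (Nat.Prime.coprime_iff_not_dvd hqp).2 (fun hd => hqσH (hσH.2.1 q hqp hd))
  obtain ⟨E, hE, hXE⟩ := Cfsg.Agent.Lib.Helper63.BG13.exists_compl_ge hG hH.1 hσH hXH hcop
  -- Step 2: `A = E_{q^2} ≤ E`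
  obtain ⟨A, hAE, hAel, hAc⟩ := Cfsg.Agent.Lib.Helper96.BG127.exists_elemAb_sq_le_compl hE hqH
  -- Step 3: S1418
  obtain ⟨⟨_, hall⟩, _, hlast⟩ := Cfsg.Agent.S1418.result hG H hH E hE q hqH A ⟨hAE, hAel, hAc⟩
  have hXA : X ≤ A := hall X hXE hX
  -- Step 4: `P ≤ H_σ ∩ C(X)`
  have hPσ : P ≤ sigmaCore H := le_sigmaCore_of_sigma hσH hpH hPH hP
  have hne' : sigmaCore H ⊓ centralizer (X : Set G) ≠ ⊥ := by
    intro h
    apply hP1
    rw [eq_bot_iff, ← h]
    exact le_inf hPσ hPX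
  obtain ⟨hCX, huniq⟩ := hlast X hXA hX hne'
  have hX1 : X ≠ ⊥ := by
    intro h
    rw [h, Subgroup.card_bot] at hX
    exact hqp.one_lt.ne hX
  have hXtop : X ≠ ⊤ := by
    intro h
    have : H = ⊤ := top_le_iff.mp (h ▸ hXH)
    exact hH.1 this
  have hNX : normalizer (X : Set G) ≤ H := by
    have hNtop := Cfsg.Agent.Lib.Helper63.BG10.normalizer_ne_top hG hX1 hXtop
    obtain ⟨L, hL, hNL⟩ := (eq_top_or_exists_le_coatom (normalizer (X : Set G))).resolve_left hNtop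
    have : L = H := huniq L hL ((centralizer_le_normalizer _).trans hNL)
    rw [← this]; exact hNL
  -- Step 5: S1424
  have hXq : IsPGroup q X := IsPGroup.of_card (n := 1) (by rw [hX, pow_one])
  obtain ⟨S, hXS⟩ := Cfsg.Agent.Lib.Helper32.BG12.exists_sylow_map_ge
    (M := M ⊓ H) (le_inf hXM hXH) hXq
  obtain ⟨_, _, hSi⟩ := Cfsg.Agent.S1424.result hG M hM q hqM X hXq hX1 hXM H hH hne hNX S hXS
  set S' := (S : Subgroup ↥(M ⊓ H)).map (M ⊓ H).subtype with hS'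
  have hS'le : S' ≤ M ⊓ H := map_subtype_le _
  have hS'q : IsPGroup q S' := S.2.map _
  -- Step 6: conjugate `A` into `S'` inside `H`
  have hAH : A ≤ H := hAE.trans hE.1
  have hAq : IsPGroup q A := IsPGroup.of_card (n := 2) hAc
  obtain ⟨h, hh, hhA⟩ := sylow_sub (hS'le.trans inf_le_right) hS'q hSi hAH hAq
  -- Step 7: S1417 (e)
  have hA'H : cj h A ≤ H := by
    have := cj_mono (g := h) hAH
    rwa [cj_eq_self_of_mem hh] at this
  have hA'el : IsElementaryAbelian q (cj h A) := Cfsg.Agent.Lib.Helper47.BG117.elemAb_cj hAel h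
  have hA'c : Nat.card (cj h A) = q ^ 2 := by rw [card_cj, hAc]
  obtain ⟨_, _, _, _, he, _⟩ := Cfsg.Agent.S1417.result hG H hH q hqH (cj h A) ⟨hA'H, hA'el, hA'c⟩
  have hbot := he M hM hne.symm (hhA.trans (hS'le.trans inf_le_left))
  apply hP1
  rw [eq_bot_iff, ← hbot]
  exact le_inf hPσ hPM

end Cfsg.Agent.Lib.Helper70.BG134
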