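import Cfsg.Agent.Lib.Helper24.SylowInv

/-!
Pure leaves for BG 13.4 (helper63's split): (C1) chooser of a bad invariant Sylow subgroup,
(C4) invariant Sylow subgroups meet the centralizer of the acting group in a Sylow subgroup.
-/

universe u

namespace Cfsg.Agent.Lib.Helper70.BG134

open Subgroup
open Cfsg.Agent.Lib.Helper33
open Cfsg.Agent.Lib.Helper24

variable {G : Type u} [Group G] [Finite G]

/-- (C1), strong form: if `R` acts coprimely on `Y` and does not centralize it, then some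
`R`-invariant Sylow subgroup of `Y` is not centralized by `R`. -/
theorem exists_bad_sylow_full {Y R : Subgroup G} (hRY : R ≤ normalizer (Y : Set G))
    (hcop : (Nat.card R).Coprime (Nat.card Y))
    (hsolv : Group.IsSolvable ↥Y ∨ Group.IsSolvable ↥R)
    (hnot : ¬ Y ≤ centralizer (R : Set G)) :
    ∃ (q : ℕ) (_ : Fact q.Prime) (Q₀ : Subgroup G), Q₀ ≤ Y ∧ IsPGroup q Q₀ ∧
      ¬ q ∣ Q₀.relIndex Y ∧ R ≤ normalizer (Q₀ : Set G) ∧ ¬ Q₀ ≤ centralizer (R : Set G) := by
  by_contra hcon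
  push Not at hcon
  apply hnot
  have h1 : (Y ⊓ centralizer (R : Set G)).relIndex Y = 1 := by
    rw [Nat.eq_one_iff_not_exists_prime_dvd]
    intro q hq hdvd
    have : Fact q.Prime := ⟨hq⟩
    obtain ⟨P, hP⟩ := exists_invariant_sylow (p := q) R Y hRY hcop hsolv.symm
    obtain ⟨hle, hpg, hidx⟩ := sylow_map_facts Y P
    have hc := hcon q ⟨hq⟩ _ hle hpg hidx hP
    have hle2 : (P : Subgroup Y).map Y.subtype ≤ Y ⊓ centralizer (R : Set G) := le_inf hle hc
    have := Subgroup.relIndex_mul_relIndex _ _ Y hle2 inf_le_left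
    apply hidx
    rw [← this]
    exact Dvd.dvd.mul_left hdvd _
  have := Subgroup.relIndex_eq_one.mp h1
  exact fun y hy => (this hy).2

/-- (C1), helper63's shape. -/
theorem exists_bad_sylow {Y R : Subgroup G} (hRY : R ≤ normalizer (Y : Set G))
    (hcop : (Nat.card R).Coprime (Nat.card Y))
    (hsolv : Group.IsSolvable ↥Y ∨ Group.IsSolvable ↥R)
    (hnot : ¬ Y ≤ centralizer (R : Set G)) :
    ∃ (q : ℕ) (_ : Fact q.Prime) (Q₀ : Subgroup G), Q₀ ≤ Y ∧ IsPGroup q Q₀ ∧
      R ≤ normalizer (Q₀ : Set G) ∧ ¬ Q₀ ≤ centralizer (R : Set G) := by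
  obtain ⟨q, hq, Q₀, h1, h2, _, h3, h4⟩ := exists_bad_sylow_full hRY hcop hsolv hnot
  exact ⟨q, hq, Q₀, h1, h2, h3, h4⟩

/-- (C4), second half: a `K`-invariant Sylow `s`-subgroup `S` of `N` (coprime action) meets
`C_N(K)` in a Sylow `s`-subgroup of `C_N(K)`. -/
theorem inf_centralizer_sylow {s : ℕ} [Fact s.Prime] (K N : Subgroup G)
    (hKN : K ≤ normalizer (N : Set G)) (hcop : (Nat.card K).Coprime (Nat.card N))
    (hsolv : Group.IsSolvable K ∨ Group.IsSolvable N) (S : Sylow s N)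
    (hS : K ≤ normalizer (((S : Subgroup N).map N.subtype : Subgroup G) : Set G)) :
    ¬ s ∣ ((S : Subgroup N).map N.subtype ⊓ centralizer (K : Set G)).relIndex
      (N ⊓ centralizer (K : Set G)) := by
  set C := N ⊓ centralizer (K : Set G) with hC
  obtain ⟨U₀⟩ : Nonempty (Sylow s C) := inferInstance
  obtain ⟨hUC, hUp, hUi⟩ := sylow_map_facts C U₀
  set U := (U₀ : Subgroup C).map C.subtype with hU
  have hUK : K ≤ normalizer (U : Set G) := by
    intro k hk
    have : k ∈ centralizer (U : Set G) := by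
      rw [mem_centralizer_iff]
      intro u hu
      have hu' : u ∈ centralizer (K : Set G) := (hUC hu).2
      exact (mem_centralizer_iff.mp hu' k hk).symm
    exact centralizer_le_normalizer _ this
  obtain ⟨P, hUP, hP⟩ := invariant_pSubgroup_le_sylow K N hKN hcop hsolv U
    (hUC.trans inf_le_left) hUp hUK
  obtain ⟨c, hc, hcP⟩ := invariant_sylow_conj K N hKN hcop hsolv P S hP hS
  have hcC : cj c C = C := cj_eq_self_of_mem hc
  have h1 : cj c U ≤ (S : Subgroup N).map N.subtype := by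
    rw [← hcP]; exact cj_mono hUP
  have h2 : cj c U ≤ C := by
    rw [← hcC]; exact cj_mono hUC
  have h3 : cj c U ≤ (S : Subgroup N).map N.subtype ⊓ centralizer (K : Set G) :=
    le_inf h1 (h2.trans inf_le_right)
  have h4 : (S : Subgroup N).map N.subtype ⊓ centralizer (K : Set G) ≤ C :=
    inf_le_inf_right _ (map_subtype_le _)
  have h5 : (cj c U).relIndex C = U.relIndex C := by
    conv_lhs => rw [← hcC]
    exact relIndex_cj c U C
  have h6 := Subgroup.relIndex_mul_relIndex _ _ C h3 h4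
  intro hdvd
  apply hUi
  rw [← h5, ← h6]
  exact Dvd.dvd.mul_left hdvd _

/-- (C4), G-level packaging: there is a `K`-invariant Sylow `s`-subgroup `S ≤ N` with
`S ⊓ C(K)` a Sylow `s`-subgroup of `N ⊓ C(K)`. -/
theorem exists_invariant_sylow_inf_centralizer {s : ℕ} [Fact s.Prime] (K N : Subgroup G)
    (hKN : K ≤ normalizer (N : Set G)) (hcop : (Nat.card K).Coprime (Nat.card N))
    (hsolv : Group.IsSolvable K ∨ Group.IsSolvable N) :
    ∃ S : Subgroup G, S ≤ N ∧ IsPGroup s S ∧ ¬ s ∣ S.relIndex N ∧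
      K ≤ normalizer (S : Set G) ∧
      ¬ s ∣ (S ⊓ centralizer (K : Set G)).relIndex (N ⊓ centralizer (K : Set G)) := by
  obtain ⟨S, hS⟩ := exists_invariant_sylow (p := s) K N hKN hcop hsolv
  obtain ⟨h1, h2, h3⟩ := sylow_map_facts N S
  exact ⟨_, h1, h2, h3, hS, inf_centralizer_sylow K N hKN hcop hsolv S hS⟩

/-- (C4), for an arbitrary invariant `s`-subgroup of full `s`-part. -/
theorem inf_centralizer_sylow' {s : ℕ} [Fact s.Prime] (K N : Subgroup G)
    (hKN : K ≤ normalizer (N : Set G)) (hcop : (Nat.card K).Coprime (Nat.card N))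
    (hsolv : Group.IsSolvable K ∨ Group.IsSolvable N) (S : Subgroup G) (hSN : S ≤ N)
    (hSp : IsPGroup s S) (hSi : ¬ s ∣ S.relIndex N)
    (hS : K ≤ normalizer (S : Set G)) :
    ¬ s ∣ (S ⊓ centralizer (K : Set G)).relIndex (N ⊓ centralizer (K : Set G)) := by
  obtain ⟨P, hP⟩ := exists_sylow_map_eq N S hSN hSp hSi
  have := inf_centralizer_sylow K N hKN hcop hsolv P (by rw [hP]; exact hS)
  rwa [hP] at this

end Cfsg.Agent.Lib.Helper70.BG134
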