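import Cfsg.Agent.Lib.Helper70.BG1216a
import Cfsg.Agent.Lib.Helper23.BetaMain
import Cfsg.Agent.Lib.Helper23.FitUniqueB
import Cfsg.Agent.Lib.Helper23.TypeP

set_option autoImplicit false
set_option linter.unusedSectionVars false
set_option linter.unusedVariables false
set_option linter.style.haveILetI false

/-!
# BG Lemma 12.16 from 10.1(a), 10.2(d), 12.10(c) and 12.14 as hypotheses
-/

namespace Cfsg.Agent.Lib.Helper70.BG1216

open Cfsg Subgroup
open Cfsg.Agent.Lib.Helper23 (SigmaFusion)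
open Cfsg.Agent.Lib.Helper33 (cj cj_def cj_le_iff cj_eq_self_iff)
open scoped commutatorElement

universe u
variable {G : Type u} [Group G] [Finite G]

/-- the orders of a complement `E` of `M_σ` and of `M_σ` are coprime -/
theorem coprime_card_compl {M E : Subgroup G}
    (hHall : IsPiHallOf (sigma M) (sigmaCore M) M) (hE : IsComplIn E (sigmaCore M) M) :
    (Nat.card E).Coprime (Nat.card (sigmaCore M)) := by
  have h1 := Cfsg.Agent.Lib.Helper23.card_isComplIn hE
  have h2 := Cfsg.Agent.Lib.Helper24.relIndex_mul_card' hHall.1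
  have h3 : (sigmaCore M).relIndex M = Nat.card E := by
    have hpos : 0 < Nat.card (sigmaCore M) := Nat.card_pos
    have : (sigmaCore M).relIndex M * Nat.card (sigmaCore M) =
        Nat.card E * Nat.card (sigmaCore M) := by rw [h2, h1]
    exact Nat.eq_of_mul_eq_mul_right hpos this
  apply Nat.coprime_of_dvd
  intro k hk hkE hkS
  have hkσ : k ∈ sigma M := Cfsg.Agent.Lib.Helper24.BG.mem_sigma_of_dvd_card_sigmaCore M hk hkS
  apply hHall.2.2 k hk hkσ
  rw [h3]
  exact hkE

/-- **BG Lemma 12.16**, from the statements it depends on. -/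
theorem main (hG : IsMinSimpleOddOrder G) {M : Subgroup G} (hM : IsCoatom M)
    (hF : SigmaFusion M) (hHall : IsPiHallOf (sigma M) (sigmaCore M) M)
    {E : Subgroup G} (hE : IsComplIn E (sigmaCore M) M)
    (h20 : ∀ (p : ℕ) (P : Subgroup G), p ∈ sigma M → IsPGroup p P → P ≤ M → ¬ IsCyclic P →
      normalizer (P : Set G) ≤ M)
    (h23 : ∀ (p : ℕ) [Fact p.Prime], p ∈ sigma M → ∀ X : Subgroup G, X ≤ M → Nat.card X = p →
      (p ∈ beta M ∨ X ≤ ⁅sigmaCore M, sigmaCore M⁆) → centralizer (X : Set G) ≤ M) :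
    sigmaCore M ⊓ centralizer (E : Set G) ≤ ⁅sigmaCore M, sigmaCore M⁆ ∧
      ⁅sigmaCore M, E⁆ = sigmaCore M ∧
      ∀ g : G, g ∉ M → IsCyclic ↥(sigmaCore M ⊓ M.map (MulAut.conj g).toMonoidHom) ∧
        (∀ p : ℕ, p.Prime →
          p ∣ Nat.card ↥(sigmaCore M ⊓ M.map (MulAut.conj g).toMonoidHom) → p ∉ beta M) ∧
        sigmaCore M ⊓ M.map (MulAut.conj g).toMonoidHom ⊓ ⁅sigmaCore M, sigmaCore M⁆ = ⊥ := by
  classical
  have hSM : sigmaCore M ≤ M := hE.2.1
  have hEM : E ≤ M := hE.1
  have hMS : M ≤ normalizer ((sigmaCore M : Subgroup G) : Set G) :=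
    Cfsg.Agent.Lib.Helper24.BG.le_normalizer_sigmaCore M
  have hES : E ≤ normalizer ((sigmaCore M : Subgroup G) : Set G) := hEM.trans hMS
  have hSne : sigmaCore M ≠ ⊤ := by
    intro h
    apply hM.1
    rw [eq_top_iff, ← h]
    exact hSM
  have hSsol : Group.IsSolvable ↥(sigmaCore M) :=
    Cfsg.Agent.Lib.Helper23.isSolvable_of_ne_top hG hSne
  have hSder : sigmaCore M ≤ ⁅M, M⁆ := by
    rw [sigmaCore, ← Subgroup.map_subtype_commutator]
    exact Subgroup.map_mono (Cfsg.Agent.Lib.Helper23.Beta.piCore_sigma_le_commutator hG hF)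
  have hb : ⁅sigmaCore M, E⁆ = sigmaCore M := commutator_eq_of_compl hE hMS hSsol hSder
  refine ⟨?_, hb, ?_⟩
  · have hcop := coprime_card_compl hHall hE
    have h1 := Cfsg.Agent.Lib.Helper24.comm_inf_cent_le_of_abelian_quotient (sigmaCore M) E
      ⁅sigmaCore M, sigmaCore M⁆ (Subgroup.normalizer_commutator_ge_left _ _)
      (le_normalizer_commutator' hES hES) hES hcop le_rfl
    refine le_trans (inf_le_inf_right _ ?_) h1
    rw [hb]
    exact le_sup_left
  · intro g hg
    -- nontrivial `p`-subgroups of `D` have centralizer not in `M`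
    have hA : ∀ (p : ℕ) [Fact p.Prime] (X : Subgroup G), IsPGroup p X → X ≠ ⊥ →
        X ≤ sigmaCore M ⊓ M.map (MulAut.conj g).toMonoidHom →
        p ∈ sigma M ∧ ¬ centralizer (X : Set G) ≤ M := by
      intro p hp X hXp hX1 hXD
      have hXS : X ≤ sigmaCore M := hXD.trans inf_le_left
      have hXg : X ≤ cj g M := hXD.trans inf_le_right
      have hpX : p ∣ Nat.card X := by
        haveI : Nontrivial ↥X := (Subgroup.nontrivial_iff_ne_bot _).mpr hX1
        obtain ⟨n, hn0, hn⟩ := hXp.nontrivial_iff_card.mp inferInstance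
        rw [hn]; exact dvd_pow_self _ (ne_of_gt hn0)
      have hpσ : p ∈ sigma M :=
        Cfsg.Agent.Lib.Helper24.BG.mem_sigma_of_dvd_card_sigmaCore M hp.out
          (hpX.trans (Subgroup.card_dvd_of_le hXS))
      refine ⟨hpσ, fun hC => hg ?_⟩
      have hXg' : X.map (MulAut.conj g⁻¹).toMonoidHom ≤ M := by
        rw [← cj_def, cj_le_iff, inv_inv]
        exact hXg
      obtain ⟨m, hm, c, hc, hgmc⟩ := hF p hpσ X hXp hX1 (hXS.trans hSM) g⁻¹ hXg'
      have : g⁻¹ ∈ M := by rw [hgmc]; exact M.mul_mem hm (hC hc)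
      simpa using M.inv_mem this
    -- subgroups of prime order
    have hprime : ∀ (p : ℕ) (hp : p.Prime) (K : Subgroup G),
        K ≤ sigmaCore M ⊓ M.map (MulAut.conj g).toMonoidHom → p ∣ Nat.card K →
        ∃ X : Subgroup G, X ≤ K ∧ Nat.card X = p ∧ p ∈ sigma M ∧ ¬ centralizer (X : Set G) ≤ M := by
      intro p hp K hKD hpK
      haveI : Fact p.Prime := ⟨hp⟩
      obtain ⟨x, hx⟩ := exists_prime_orderOf_dvd_card' p hpK
      have hxo : orderOf (x : G) = p := by rw [Subgroup.orderOf_coe]; exact hx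
      have hXK : zpowers (x : G) ≤ K := by rw [zpowers_le]; exact x.2
      have hXc : Nat.card (zpowers (x : G)) = p := by rw [Nat.card_zpowers, hxo]
      have hXp : IsPGroup p ↥(zpowers (x : G)) := IsPGroup.of_card (n := 1) (by rw [hXc, pow_one])
      have hX1 : zpowers (x : G) ≠ ⊥ := by
        intro h
        rw [h, Subgroup.card_bot] at hXc
        exact hp.one_lt.ne hXc
      obtain ⟨h1, h2⟩ := hA p _ hXp hX1 (hXK.trans hKD)
      exact ⟨_, hXK, hXc, h1, h2⟩
    have hbeta : ∀ p : ℕ, p.Prime →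
        p ∣ Nat.card ↥(sigmaCore M ⊓ M.map (MulAut.conj g).toMonoidHom) → p ∉ beta M := by
      intro p hp hpD hβ
      haveI : Fact p.Prime := ⟨hp⟩
      obtain ⟨X, hXD, hXc, hpσ, hXC⟩ := hprime p hp _ le_rfl hpD
      exact hXC (h23 p hpσ X ((hXD.trans inf_le_left).trans hSM) hXc (Or.inl hβ))
    have hder : sigmaCore M ⊓ M.map (MulAut.conj g).toMonoidHom ⊓
        ⁅sigmaCore M, sigmaCore M⁆ = ⊥ := by
      by_contra hne
      have hcard : Nat.card ↥(sigmaCore M ⊓ M.map (MulAut.conj g).toMonoidHom ⊓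
          ⁅sigmaCore M, sigmaCore M⁆) ≠ 1 := by
        intro h
        exact hne (Subgroup.card_eq_one.mp h)
      obtain ⟨p, hp, hpd⟩ := Nat.exists_prime_and_dvd hcard
      haveI : Fact p.Prime := ⟨hp⟩
      obtain ⟨X, hXK, hXc, hpσ, hXC⟩ := hprime p hp _ inf_le_left hpd
      exact hXC (h23 p hpσ X (((hXK.trans inf_le_left).trans inf_le_left).trans hSM) hXc
        (Or.inr (hXK.trans inf_le_right)))
    refine ⟨?_, hbeta, hder⟩
    -- cyclic
    set D := sigmaCore M ⊓ M.map (MulAut.conj g).toMonoidHom with hD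
    have hDS : D ≤ sigmaCore M := inf_le_left
    have hcomm : ⁅D, D⁆ = ⊥ := by
      rw [eq_bot_iff, ← hder]
      exact le_inf (Subgroup.commutator_le_self D) (Subgroup.commutator_mono hDS hDS)
    have hDc : ∀ a b : ↥D, a * b = b * a := by
      intro a b
      have h1 : ⁅(a : G), (b : G)⁆ ∈ ⁅D, D⁆ := Subgroup.commutator_mem_commutator a.2 b.2
      rw [hcomm, Subgroup.mem_bot, commutatorElement_eq_one_iff_mul_comm] at h1
      exact Subtype.ext h1
    letI : CommGroup ↥D := { (inferInstance : Group ↥D) with mul_comm := hDc }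
    haveI hnil : Group.IsNilpotent ↥D := inferInstance
    haveI hZ : IsZGroup ↥D := by
      refine ⟨fun p hp P => ?_⟩
      haveI : Fact p.Prime := ⟨hp⟩
      have hXp : IsPGroup p ↥((P : Subgroup ↥D).map D.subtype) := P.2.map _
      have hXD : (P : Subgroup ↥D).map D.subtype ≤ D := Subgroup.map_subtype_le _
      have hcyc : IsCyclic ↥((P : Subgroup ↥D).map D.subtype) := by
        by_cases hX1 : (P : Subgroup ↥D).map D.subtype = ⊥
        · rw [hX1]
          exact isCyclic_of_subsingleton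
        · by_contra hnc
          obtain ⟨hpσ, hXC⟩ := hA p _ hXp hX1 hXD
          apply hXC
          exact (Subgroup.centralizer_le_normalizer _).trans
            (h20 p _ hpσ hXp ((hXD.trans hDS).trans hSM) hnc)
      exact (MulEquiv.isCyclic
        ((P : Subgroup ↥D).equivMapOfInjective D.subtype D.subtype_injective)).mpr hcyc
    infer_instance

end Cfsg.Agent.Lib.Helper70.BG1216
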