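import Cfsg.Agent.Lib.Helper24.BG121
import Cfsg.Agent.Lib.Helper24.AbelianQuot
import Cfsg.Agent.Lib.Helper24.InvCompl
import Cfsg.Agent.Lib.Helper33.Conj

set_option autoImplicit false
set_option linter.unusedSectionVars false
set_option linter.unusedVariables false
set_option linter.style.haveILetI false

/-!
# Complements and commutators (group-theoretic part of BG Lemma 12.16 (a), (b))

If `M = E S` with `S ⊴ M` solvable, `E ∩ S = 1` and `S ≤ M'`, then `[S, E] = S`.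
-/

namespace Cfsg.Agent.Lib.Helper70.BG1216

open Cfsg Subgroup
open scoped commutatorElement

universe u
variable {G : Type u} [Group G]

/-- If `X` normalizes `H₁` and `H₂` then it normalizes `[H₁, H₂]`. -/
theorem le_normalizer_commutator' {X H₁ H₂ : Subgroup G}
    (h₁ : X ≤ normalizer (H₁ : Set G)) (h₂ : X ≤ normalizer (H₂ : Set G)) :
    X ≤ normalizer ((⁅H₁, H₂⁆ : Subgroup G) : Set G) := by
  intro x hx
  rw [← Cfsg.Agent.Lib.Helper33.cj_eq_self_iff, Cfsg.Agent.Lib.Helper33.cj_def,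
    Subgroup.map_commutator, ← Cfsg.Agent.Lib.Helper33.cj_def, ← Cfsg.Agent.Lib.Helper33.cj_def,
    Cfsg.Agent.Lib.Helper33.cj_eq_self_iff.mpr (h₁ hx),
    Cfsg.Agent.Lib.Helper33.cj_eq_self_iff.mpr (h₂ hx)]

theorem conj_mem_of_mem_normalizer {R : Subgroup G} {e r : G} (he : e ∈ normalizer (R : Set G))
    (hr : r ∈ R) : e * r * e⁻¹ ∈ R :=
  (mem_normalizer_iff.mp he r).mp hr

/-- `M' ≤ E' R` when `M = E S` and `R` is an `E`-invariant subgroup containing `[S, E]` and `S'`. -/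
theorem commutator_le_sup_of_prod {S E M R : Subgroup G}
    (hprod : ∀ m ∈ M, ∃ a ∈ E, ∃ b ∈ S, m = a * b)
    (hER : E ≤ normalizer (R : Set G)) (h1 : ⁅S, E⁆ ≤ R) (h2 : ⁅S, S⁆ ≤ R) :
    ⁅M, M⁆ ≤ ⁅E, E⁆ ⊔ R := by
  rw [Subgroup.commutator_le]
  intro m₁ hm₁ m₂ hm₂
  obtain ⟨e₁, he₁, s₁, hs₁, rfl⟩ := hprod m₁ hm₁
  obtain ⟨e₂, he₂, s₂, hs₂, rfl⟩ := hprod m₂ hm₂
  have hid : ⁅e₁ * s₁, e₂ * s₂⁆ =
      (e₁ * ⁅s₁, e₂⁆ * e₁⁻¹) * ((e₁ * e₂) * ⁅s₁, s₂⁆ * (e₁ * e₂)⁻¹) * ⁅e₁, e₂⁆ *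
        (e₂ * ⁅s₂, e₁⁆⁻¹ * e₂⁻¹) := by
    simp only [commutatorElement_def]
    group
  rw [hid]
  have ha : e₁ * ⁅s₁, e₂⁆ * e₁⁻¹ ∈ R :=
    conj_mem_of_mem_normalizer (hER he₁) (h1 (Subgroup.commutator_mem_commutator hs₁ he₂))
  have hb : (e₁ * e₂) * ⁅s₁, s₂⁆ * (e₁ * e₂)⁻¹ ∈ R :=
    conj_mem_of_mem_normalizer (hER (E.mul_mem he₁ he₂))
      (h2 (Subgroup.commutator_mem_commutator hs₁ hs₂))
  have hc : ⁅e₁, e₂⁆ ∈ ⁅E, E⁆ := Subgroup.commutator_mem_commutator he₁ he₂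
  have hd : e₂ * ⁅s₂, e₁⁆⁻¹ * e₂⁻¹ ∈ R :=
    conj_mem_of_mem_normalizer (hER he₂)
      (R.inv_mem (h1 (Subgroup.commutator_mem_commutator hs₂ he₁)))
  exact mul_mem (mul_mem (mul_mem (mem_sup_right ha) (mem_sup_right hb)) (mem_sup_left hc))
    (mem_sup_right hd)

/-- Dedekind: if `S ≤ E' R` with `R ≤ S`, `E ∩ S = 1` and `E` normalizing `R`, then `S ≤ R`. -/
theorem le_of_le_commutator_sup {S E R : Subgroup G} (hES : E ⊓ S = ⊥) (hRS : R ≤ S)
    (hER : E ≤ normalizer (R : Set G)) (h : S ≤ ⁅E, E⁆ ⊔ R) : S ≤ R := by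
  intro x hx
  have hEE : ⁅E, E⁆ ≤ E := Subgroup.commutator_le_self E
  obtain ⟨a, ha, n, hn, rfl⟩ :=
    Cfsg.Agent.Lib.Helper24.exists_mul_of_mem_sup_of_le_normalizer ⁅E, E⁆ R (hEE.trans hER) x
      (h hx)
  have haS : a ∈ S := by
    have : a = a * n * n⁻¹ := by group
    rw [this]
    exact S.mul_mem hx (S.inv_mem (hRS hn))
  have ha1 : a ∈ E ⊓ S := ⟨hEE ha, haS⟩
  rw [hES, Subgroup.mem_bot] at ha1
  rw [ha1, one_mul]
  exact hn

/-- A solvable group `S` with `S = S' N` for a normal subgroup `N` equals `N`. -/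
theorem le_of_le_derived_sup {S N : Subgroup G} (hS : Group.IsSolvable ↥S) (hNS : N ≤ S)
    (hSN : S ≤ normalizer (N : Set G)) (h : S ≤ ⁅S, S⁆ ⊔ N) : S ≤ N := by
  haveI hn : (N.subgroupOf S).Normal := Subgroup.normal_subgroupOf_of_le_normalizer hSN
  by_contra hne
  have hnt : Nontrivial (↥S ⧸ N.subgroupOf S) := by
    by_contra hnn
    rw [not_nontrivial_iff_subsingleton] at hnn
    have := QuotientGroup.subgroup_eq_top_of_subsingleton (N.subgroupOf S) hnn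
    rw [Subgroup.subgroupOf_eq_top] at this
    exact hne this
  haveI : Group.IsSolvable ↥S := hS
  have hlt := Group.IsSolvable.commutator_lt_top_of_nontrivial (↥S ⧸ N.subgroupOf S)
  apply hlt.ne
  rw [eq_top_iff]
  intro q _
  obtain ⟨x, rfl⟩ := QuotientGroup.mk_surjective q
  have hSS : ⁅S, S⁆ ≤ S := Subgroup.commutator_le_self S
  obtain ⟨d, hd, n, hn', hx⟩ :=
    Cfsg.Agent.Lib.Helper24.exists_mul_of_mem_sup_of_le_normalizer ⁅S, S⁆ N (hSS.trans hSN)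
      (x : G) (h x.2)
  have hd' : (⟨d, hSS hd⟩ : ↥S) ∈ commutator ↥S := by
    rw [← Subgroup.map_subtype_commutator] at hd
    obtain ⟨y, hy, hyd⟩ := hd
    have : y = ⟨d, hSS hd⟩ := Subtype.ext hyd
    rwa [← this]
  have hxe : x = (⟨d, hSS hd⟩ : ↥S) * ⟨n, hNS hn'⟩ := Subtype.ext hx
  have h1 : (QuotientGroup.mk x : ↥S ⧸ N.subgroupOf S) =
      QuotientGroup.mk' (N.subgroupOf S) (⟨d, hSS hd⟩ : ↥S) := by
    rw [hxe, QuotientGroup.mk'_apply, QuotientGroup.mk_mul]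
    have : ((⟨n, hNS hn'⟩ : ↥S) : ↥S ⧸ N.subgroupOf S) = 1 := by
      rw [QuotientGroup.eq_one_iff, Subgroup.mem_subgroupOf]
      exact hn'
    rw [this, mul_one]
  rw [h1]
  have h2 : (commutator ↥S).map (QuotientGroup.mk' (N.subgroupOf S)) ≤
      commutator (↥S ⧸ N.subgroupOf S) := by
    rw [_root_.commutator_def, _root_.commutator_def, Subgroup.map_commutator]
    exact Subgroup.commutator_mono le_top le_top
  exact h2 (Subgroup.mem_map_of_mem _ hd')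

/-- **Group-theoretic core of BG 12.16(b).** -/
theorem commutator_eq_of_compl {S E M : Subgroup G} (hE : IsComplIn E S M)
    (hMS : M ≤ normalizer (S : Set G)) (hS : Group.IsSolvable ↥S) (hSM : S ≤ ⁅M, M⁆) :
    ⁅S, E⁆ = S := by
  obtain ⟨hEM, hSM', hES, hprod⟩ := hE
  have hES' : E ≤ normalizer (S : Set G) := hEM.trans hMS
  have hN : ⁅S, E⁆ ≤ S := Cfsg.Agent.Lib.Helper24.commutator_le_of_le_normalizer S E hES'
  apply le_antisymm hN
  have hSS : ⁅S, S⁆ ≤ S := Subgroup.commutator_le_self S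
  have hER : E ≤ normalizer ((⁅S, S⁆ ⊔ ⁅S, E⁆ : Subgroup G) : Set G) := by
    intro e he
    rw [← Cfsg.Agent.Lib.Helper33.cj_eq_self_iff, Cfsg.Agent.Lib.Helper33.cj_sup,
      Cfsg.Agent.Lib.Helper33.cj_eq_self_iff.mpr (le_normalizer_commutator' hES' hES' he),
      Cfsg.Agent.Lib.Helper33.cj_eq_self_iff.mpr
        (le_normalizer_commutator' hES' (Subgroup.le_normalizer) he)]
  have h1 : ⁅M, M⁆ ≤ ⁅E, E⁆ ⊔ (⁅S, S⁆ ⊔ ⁅S, E⁆) :=
    commutator_le_sup_of_prod hprod hER le_sup_right le_sup_left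
  have h2 : S ≤ ⁅S, S⁆ ⊔ ⁅S, E⁆ :=
    le_of_le_commutator_sup hES (sup_le hSS hN) hER (hSM.trans h1)
  exact le_of_le_derived_sup hS hN (Subgroup.normalizer_commutator_ge_left S E) h2

end Cfsg.Agent.Lib.Helper70.BG1216
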