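import Cfsg.Agent.Lib.Helper70.BG14E0
import Cfsg.Agent.Lib.Helper70.BG1216a
import Cfsg.Agent.S1409
import Cfsg.Agent.S1418
import Cfsg.Agent.Lib.Helper47.BG134C3
import Cfsg.Agent.Lib.Helper47.BG1217
import Cfsg.Agent.Lib.Helper90.BGPP
import Cfsg.Agent.Lib.Helper63.BG10
import Cfsg.Agent.Lib.Helper60.BG131a
import Cfsg.Agent.Lib.Helper23.TypeP

/-!
STEP A of BG 14.2 (= helper30's Lemma E): for `X ≤ M` of prime order `p ∈ τ₁(M) ∪ τ₃(M)` with
`C_{M_σ}(X) ≠ 1` and a maximal subgroup `H ≥ N_G(X)`: `p ∈ σ(H)`.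
Proved modulo the sigma-partition (`Stmt1378b`) and `StmtB` (BG 13.12 in the form consumed here).
-/

set_option autoImplicit false
set_option linter.style.haveILetI false
set_option linter.unusedSectionVars false
set_option linter.unusedVariables false

universe u

namespace Cfsg.Agent.Lib.Helper70.BG14

open Subgroup Cfsg
open Cfsg.Agent.Lib.Helper33
open Cfsg.Agent.Lib.Helper63
open Cfsg.Agent.Lib.Helper47.BG11
open scoped commutatorElement

variable {G : Type u} [Group G] [Finite G]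

/-- BG 13.12 in the form used for STEP A: a `τ₁(M)`-subgroup `P` of prime order of a complement `E`
cannot fix a point `X` of `A = E_{q²} ≤ E` (`q ∈ τ₂(M)`) with `N_G(X) ≤ M` and move `A`. -/
def StmtB (G : Type u) [Group G] : Prop :=
  ∀ (M E A X P : Subgroup G) (p q : ℕ) [Fact p.Prime] [Fact q.Prime], IsCoatom M →
    IsComplIn E (sigmaCore M) M → q ∈ tau2 M → A ≤ E → IsElementaryAbelian q A →
    Nat.card A = q ^ 2 → X ≤ A → Nat.card X = q → normalizer (X : Set G) ≤ M → p ∈ tau1 M →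
    P ≤ E → Nat.card P = p → P ≤ centralizer (X : Set G) → ¬ P ≤ centralizer (A : Set G) → False

theorem pRankLE_cj {p k : ℕ} {M : Subgroup G} (g : G) (h : PRankLE p k ↥M) :
    PRankLE p k ↥(cj g M) :=
  BG10.pRankLE_of_injective (cjEquiv g M).symm.toMonoidHom (cjEquiv g M).symm.injective h

/-- variant of (C3): an element of `[A, A]` of order prime to `p` centralizes the `p`-group `V` of
rank at most two (`A ≤ N(V)` solvable of odd order). -/
theorem mem_centralizer_of_mem_commutator {p : ℕ} [hp : Fact p.Prime] (hp2 : p ≠ 2)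
    {V A : Subgroup G} (hV : IsPGroup p V) (hr : PRankLE p 2 ↥V)
    (hAV : A ≤ normalizer (V : Set G)) (hodd : Odd (Nat.card A)) (hsolv : Group.IsSolvable ↥A)
    {d : G} (hd : d ∈ ⁅A, A⁆) (hcop : (orderOf d).Coprime p) : d ∈ centralizer (V : Set G) := by
  set θ := Cfsg.Agent.Lib.Helper47.BG13.conjHom V A hAV with hθ
  haveI : Group.IsSolvable θ.range :=
    Group.isSolvable_of_surjective (f := θ.rangeRestrict) θ.rangeRestrict_surjective
  have hYodd : Odd (Nat.card θ.range) := Odd.of_dvd_nat hodd (Subgroup.card_range_dvd θ)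
  have hmain := Cfsg.Agent.Lib.Helper32.Rank2.isPGroup_commutator_mulAut p hp2 hV hr θ.range hYodd
  rw [← Subgroup.map_subtype_commutator A] at hd
  obtain ⟨d', hd', rfl⟩ := hd
  have hθd : θ d' ∈ ⁅θ.range, θ.range⁆ := by
    have h := Subgroup.mem_map_of_mem θ hd'
    rw [_root_.commutator_def, Subgroup.map_commutator, ← MonoidHom.range_eq_map] at h
    exact h
  obtain ⟨k, hk⟩ := hmain _ hθd
  rw [← map_pow] at hk
  have hord : orderOf d' = orderOf ((A.subtype d' : G)) :=
    (orderOf_injective A.subtype A.subtype_injective d').symm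
  have hcopd : (p ^ k).Coprime (orderOf d') := by
    apply Nat.Coprime.pow_left
    rw [hord]
    exact hcop.symm
  obtain ⟨m, hm⟩ := exists_pow_eq_self_of_coprime hcopd
  have hθ1 : θ d' = 1 := by
    rw [← hm, map_pow, hk, one_pow]
  show (d' : G) ∈ centralizer (V : Set G)
  rw [mem_centralizer_iff]
  intro v hv
  have h1 : ((θ d' ⟨v, hv⟩ : ↥V) : G) = (d' : G) * v * (d' : G)⁻¹ :=
    Cfsg.Agent.Lib.Helper47.BG13.conjHom_apply V A hAV d' ⟨v, hv⟩
  rw [hθ1] at h1
  have h2 : v = (d' : G) * v * (d' : G)⁻¹ := h1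
  calc v * (d' : G) = ((d' : G) * v * (d' : G)⁻¹) * (d' : G) := by rw [← h2]
    _ = (d' : G) * v := by group

/-- two subgroups normalizing each other and meeting trivially commute -/
theorem le_centralizer_of_normalize_of_disjoint {A B : Subgroup G}
    (hAB : A ≤ normalizer (B : Set G)) (hBA : B ≤ normalizer (A : Set G)) (hd : A ⊓ B = ⊥) :
    B ≤ centralizer (A : Set G) := by
  intro b hb
  rw [mem_centralizer_iff]
  intro a ha
  have h1 : a * b * a⁻¹ * b⁻¹ ∈ A := by
    have : b * a⁻¹ * b⁻¹ ∈ A := (mem_normalizer_iff.mp (hBA hb) a⁻¹).mp (A.inv_mem ha)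
    have h2 := A.mul_mem ha this
    have e : a * b * a⁻¹ * b⁻¹ = a * (b * a⁻¹ * b⁻¹) := by group
    rw [e]; exact h2
  have h2 : a * b * a⁻¹ * b⁻¹ ∈ B := by
    have : a * b * a⁻¹ ∈ B := (mem_normalizer_iff.mp (hAB ha) b).mp hb
    exact B.mul_mem this (B.inv_mem hb)
  have h3 : a * b * a⁻¹ * b⁻¹ ∈ A ⊓ B := ⟨h1, h2⟩
  rw [hd, mem_bot] at h3
  calc a * b = (a * b * a⁻¹ * b⁻¹) * (b * a) := by group
    _ = b * a := by rw [h3, one_mul]

/-- an elementary abelian group of order `p²` has `p`-rank at most two -/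
theorem pRankLE_two_of_card {p : ℕ} {A : Subgroup G} (hAc : Nat.card A = p ^ 2) :
    PRankLE p 2 ↥A := by
  intro B _ _
  rw [← hAc]
  exact Nat.le_of_dvd Nat.card_pos (Subgroup.card_subgroup_dvd_card B)

/-- **STEP A of BG 14.2** (helper30's Lemma E). -/
theorem stepA (hG : IsMinSimpleOddOrder G) (h78 : Stmt1378b G) (hB : StmtB G)
    {M H : Subgroup G} (hM : IsCoatom M) (hH : IsCoatom H) {p : ℕ} [hpf : Fact p.Prime]
    (hp : p ∈ tau1 M ∪ tau3 M) {X : Subgroup G} (hX : Nat.card X = p) (hXM : X ≤ M)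
    (hY : sigmaCore M ⊓ centralizer (X : Set G) ≠ ⊥) (hNX : normalizer (X : Set G) ≤ H) :
    p ∈ sigma H := by
  classical
  have hpp : p.Prime := hpf.out
  have hpσM : p ∉ sigma M := by
    rcases hp with h | h
    · exact h.2.1
    · exact h.2.1
  have hr1M : PRankLE p 1 ↥M := by
    rcases hp with h | h
    · exact h.2.2.2.2
    · exact h.2.2.2
  by_contra hpH
  have hXH : X ≤ H := le_normalizer.trans hNX
  obtain ⟨⟨hr2, hr1⟩, _, _⟩ := Cfsg.Agent.S1409.result hG H hH p hpH X hX hNX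
  have hτ : p ∈ tau2 H := ⟨hpp, hpH, hr2, hr1⟩
  have hnc : ∀ g : G, H ≠ cj g M := by
    intro g h
    apply hr1
    rw [h]
    exact pRankLE_cj g hr1M
  have hσM : SigmaHallIn M := sigmaHallIn_of_coatom hG hM
  have hσH : SigmaHallIn H := sigmaHallIn_of_coatom hG hH
  have hXp : IsPGroup p X := IsPGroup.of_card (n := 1) (by rw [hX, pow_one])
  have hX1 : X ≠ ⊥ := by
    intro h
    rw [h, Subgroup.card_bot] at hX
    exact hpp.one_lt.ne hX
  -- `Y = C_{M_σ}(X)`
  obtain ⟨Y, hYdef⟩ : ∃ Y, Y = sigmaCore M ⊓ centralizer (X : Set G) := ⟨_, rfl⟩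
  rw [← hYdef] at hY
  have hYσ : Y ≤ sigmaCore M := by rw [hYdef]; exact inf_le_left
  have hYX : Y ≤ centralizer (X : Set G) := by rw [hYdef]; exact inf_le_right
  have hYH : Y ≤ H := hYX.trans ((centralizer_le_normalizer _).trans hNX)
  have hYM : Y ≤ M := hYσ.trans hσM.1
  have hYcop : (Nat.card Y).Coprime (Nat.card (sigmaCore H)) := by
    apply Nat.coprime_of_dvd
    intro k hk h1 h2
    have hkM : k ∈ sigma M :=
      Cfsg.Agent.Lib.Helper24.BG.mem_sigma_of_dvd_card_sigmaCore M hk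
        (h1.trans (Subgroup.card_dvd_of_le hYσ))
    have hkH : k ∈ sigma H := Cfsg.Agent.Lib.Helper24.BG.mem_sigma_of_dvd_card_sigmaCore H hk h2
    obtain ⟨g, hg⟩ := h78 M H hM hH ⟨k, hkM, hkH⟩
    exact hnc g hg
  have hXcop : (Nat.card X).Coprime (Nat.card (sigmaCore H)) := by
    rw [hX]
    exact (Nat.Prime.coprime_iff_not_dvd hpp).2 (fun hd => hpH (hσH.2.1 p hpp hd))
  have hXcY : X ≤ centralizer (Y : Set G) := by
    intro x hx
    rw [mem_centralizer_iff]
    intro y hy
    exact (mem_centralizer_iff.mp (hYX hy) x hx).symm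
  have hXnY : X ≤ normalizer (Y : Set G) := hXcY.trans (centralizer_le_normalizer _)
  have hTH : Y ⊔ X ≤ H := sup_le hYH hXH
  have hTcop : (Nat.card ↥(Y ⊔ X)).Coprime (Nat.card (sigmaCore H)) :=
    Nat.Coprime.coprime_dvd_left
      (Cfsg.Agent.Lib.Helper56.BG117.card_sup_dvd_mul_of_le_normalizer (N := Y) (R := X) hXnY)
      (Nat.Coprime.mul_left hYcop hXcop)
  obtain ⟨E, hE, hTE⟩ := BG13.exists_compl_ge hG hH.1 hσH hTH hTcop
  have hYE : Y ≤ E := le_sup_left.trans hTE
  have hXE : X ≤ E := le_sup_right.trans hTE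
  have hEH : E ≤ H := hE.1
  obtain ⟨A, hAE, hAe, hAc⟩ := Cfsg.Agent.Lib.Helper96.BG127.exists_elemAb_sq_le_compl hE hτ
  obtain ⟨⟨hEN, hall⟩, _, _⟩ := Cfsg.Agent.S1418.result hG H hH E hE p hτ A ⟨hAE, hAe, hAc⟩
  have hXA : X ≤ A := hall X hXE hX
  have hAH : A ≤ H := hAE.trans hEH
  have hAp : IsPGroup p A := IsPGroup.of_card (n := 2) hAc
  have hlt : p ^ 1 < p ^ 2 := Nat.pow_lt_pow_right hpp.one_lt (by norm_num)
  -- a subgroup `P ≤ Y` of prime order `t`
  have hYc1 : Nat.card Y ≠ 1 := fun h => hY (Subgroup.card_eq_one.mp h)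
  obtain ⟨t, ht, htY⟩ := Nat.exists_prime_and_dvd hYc1
  haveI htf : Fact t.Prime := ⟨ht⟩
  obtain ⟨y, hy⟩ := exists_prime_orderOf_dvd_card' t htY
  have hyo : orderOf (y : G) = t := by rw [Subgroup.orderOf_coe]; exact hy
  obtain ⟨P, hPdef⟩ : ∃ P, P = zpowers (y : G) := ⟨_, rfl⟩
  have hPY : P ≤ Y := by rw [hPdef, zpowers_le]; exact y.2
  have hPc : Nat.card P = t := by rw [hPdef, Nat.card_zpowers, hyo]
  have hPt : IsPGroup t P := IsPGroup.of_card (n := 1) (by rw [hPc, pow_one])
  have hP1 : P ≠ ⊥ := by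
    intro h
    rw [h, Subgroup.card_bot] at hPc
    exact ht.one_lt.ne hPc
  have htσM : t ∈ sigma M :=
    Cfsg.Agent.Lib.Helper24.BG.mem_sigma_of_dvd_card_sigmaCore M ht
      (htY.trans (Subgroup.card_dvd_of_le hYσ))
  have hPM : P ≤ M := hPY.trans hYM
  have hPE : P ≤ E := hPY.trans hYE
  have hPX : P ≤ centralizer (X : Set G) := hPY.trans hYX
  have htp : t ≠ p := fun h => hpσM (h ▸ htσM)
  by_cases hPA : P ≤ centralizer (A : Set G)
  · -- case (a): `A ≤ C_G(P)`
    have hPtop : P ≠ ⊤ := fun h => hM.1 (top_le_iff.mp (h ▸ hPM))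
    have hNtop := BG10.normalizer_ne_top hG hP1 hPtop
    obtain ⟨L, hL, hNL⟩ :=
      (eq_top_or_exists_le_coatom (normalizer (P : Set G))).resolve_left hNtop
    have hcL : centralizer (P : Set G) ≤ L := (centralizer_le_normalizer _).trans hNL
    have hAL : A ≤ L := by
      refine le_trans ?_ hcL
      intro a ha
      rw [mem_centralizer_iff]
      intro x hx
      exact (mem_centralizer_iff.mp (hPA hx) a ha).symm
    have hLM : L ≠ M := by
      intro h
      rw [h] at hAL
      exact Cfsg.Agent.Lib.Helper47.BG12.not_pRankLE_of_le hAL hAe (by rw [hAc]; exact hlt) hr1M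
    obtain ⟨_, hcompl, _⟩ :=
      tau2_of_sigma_normalizer hG h78 hM hL hLM htσM hPt hP1 hPM hNL
    have hXL : X ≤ L := by
      refine le_trans ?_ hcL
      intro x hx
      rw [mem_centralizer_iff]
      intro z hz
      exact (mem_centralizer_iff.mp (hPX hz) x hx).symm
    have hσL : SigmaHallIn L := sigmaHallIn_of_coatom hG hL
    have hpL : p ∉ sigma L := by
      intro h
      have h1 : X ≤ sigmaCore L := le_sigmaCore_of_sigma hσL h hXL hXp
      apply hX1
      rw [eq_bot_iff, ← hcompl.2.2.1]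
      exact le_inf (le_inf hXM hXL) h1
    -- a Sylow `p`-subgroup of `F = M ⊓ L` is a Sylow `p`-subgroup of `L`
    obtain ⟨S₀⟩ : Nonempty (Sylow p ↥(M ⊓ L)) := inferInstance
    obtain ⟨hSF, hSp, hSi⟩ := Cfsg.Agent.Lib.Helper24.sylow_map_facts (M ⊓ L) S₀
    obtain ⟨S, hSdef⟩ : ∃ S, S = (S₀ : Subgroup ↥(M ⊓ L)).map (M ⊓ L).subtype := ⟨_, rfl⟩
    rw [← hSdef] at hSF hSp hSi
    have hSL : S ≤ L := hSF.trans inf_le_right
    have hidx : ¬ p ∣ S.relIndex L := by
      rw [← Subgroup.relIndex_mul_relIndex S (M ⊓ L) L hSF inf_le_right]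
      intro hd
      rcases (Nat.Prime.dvd_mul hpp).mp hd with h | h
      · exact hSi h
      · have h1 := Cfsg.Agent.Lib.Helper23.card_isComplIn hcompl
        have h2 : Nat.card ↥(M ⊓ L) * (M ⊓ L).relIndex L = Nat.card L :=
          Cfsg.Agent.Lib.Helper33.card_mul_relIndex_eq' inf_le_right
        have h3 : (M ⊓ L).relIndex L = Nat.card (sigmaCore L) := by
          have : Nat.card ↥(M ⊓ L) * (M ⊓ L).relIndex L =
              Nat.card ↥(M ⊓ L) * Nat.card (sigmaCore L) := by rw [h2, h1]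
          exact Nat.eq_of_mul_eq_mul_left Nat.card_pos this
        rw [h3] at h
        exact hpL (hσL.2.1 p hpp h)
    obtain ⟨c, _, hcA⟩ := sylow_sub (K := L) hSL hSp hidx hAL hAp
    have hcAM : cj c A ≤ M := hcA.trans (hSF.trans inf_le_left)
    have hcAe : IsElementaryAbelian p (cj c A) := BG10.map_elemAb _ hAe
    exact Cfsg.Agent.Lib.Helper47.BG12.not_pRankLE_of_le hcAM hcAe
      (by rw [card_cj, hAc]; exact hlt) hr1M
  · -- case (b): `P` moves `A`
    have htE : t ∣ Nat.card E := hPc ▸ Subgroup.card_dvd_of_le hPE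
    have hPH : P ≤ H := hPE.trans hEH
    rcases Cfsg.Agent.Lib.Helper90.BGPP.mem_tau_of_dvd_card_compl hG hH hE ht htE with h13 | h2
    · rcases h13 with h1 | h3
      · exact hB H E A X P t p hH hE hτ hAE hAe hAc hXA hX hNX h1 hPE hPc hPX hPA
      · -- `t ∈ τ₃(H)`: `P ≤ E' ≤ C(A)`
        apply hPA
        have hPH' : P ≤ ⁅H, H⁆ := Cfsg.Agent.Lib.Helper60.BG131a.le_commutator_of_tau3 hG hH h3 hPt hPH
        have hHn : H ≤ normalizer ((sigmaCore H : Subgroup G) : Set G) :=
          Cfsg.Agent.Lib.Helper24.BG.le_normalizer_sigmaCore H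
        have hH' : ⁅H, H⁆ ≤ ⁅E, E⁆ ⊔ sigmaCore H := by
          apply Cfsg.Agent.Lib.Helper70.BG1216.commutator_le_sup_of_prod (S := sigmaCore H) hE.2.2.2
            (hEH.trans hHn)
          · rw [Subgroup.commutator_le]
            intro s hs e he
            have h1 : e * s⁻¹ * e⁻¹ ∈ sigmaCore H :=
              (mem_normalizer_iff.mp (hHn (hEH he)) s⁻¹).mp ((sigmaCore H).inv_mem hs)
            have h2 := (sigmaCore H).mul_mem hs h1
            have e1 : ⁅s, e⁆ = s * (e * s⁻¹ * e⁻¹) := by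
              rw [commutatorElement_def]; group
            rw [e1]; exact h2
          · exact Cfsg.Agent.Lib.Helper60.BG131a.commutator_self_le _
        have hEE : ⁅E, E⁆ ≤ E := Cfsg.Agent.Lib.Helper60.BG131a.commutator_self_le E
        have hPE' : P ≤ ⁅E, E⁆ := by
          intro x hx
          have h1 := hH' (hPH' hx)
          obtain ⟨a, ha, s, hs, has⟩ :=
            Cfsg.Agent.Lib.Helper24.exists_mul_of_mem_sup_of_le_normalizer ⁅E, E⁆ (sigmaCore H)
              ((hEE.trans hEH).trans hHn) x h1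
          have hsE : s ∈ E := by
            have : s = a⁻¹ * x := by rw [has]; group
            rw [this]
            exact E.mul_mem (E.inv_mem (hEE ha)) (hPE hx)
          have hs1 : s = 1 := by
            have : s ∈ E ⊓ sigmaCore H := ⟨hsE, hs⟩
            rwa [hE.2.2.1, mem_bot] at this
          rw [has, hs1, mul_one]; exact ha
        have hp2 : p ≠ 2 := Cfsg.Agent.Lib.Helper23.ne_two_of_dvd_card_subgroup hG
          (S := X) (by rw [hX])
        have hEsolv : Group.IsSolvable ↥E :=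
          Cfsg.Agent.Lib.Helper23.isSolvable_of_ne_top hG
            (fun h => hH.1 (top_le_iff.mp (h ▸ hEH)))
        have hEodd : Odd (Nat.card E) := Cfsg.Agent.Lib.Helper23.odd_card_subgroup hG E
        intro x hx
        apply mem_centralizer_of_mem_commutator hp2 hAp (pRankLE_two_of_card hAc) hEN hEodd hEsolv
          (hPE' hx)
        have hdvd : orderOf x ∣ t := by
          have := Subgroup.orderOf_dvd_natCard P hx
          rwa [hPc] at this
        exact Nat.Coprime.coprime_dvd_left hdvd ((Nat.coprime_primes ht hpp).mpr htp)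
    · -- `t ∈ τ₂(H)`: `P ≤ A_t` which centralizes `A`
      apply hPA
      obtain ⟨At, hAtE, hAte, hAtc⟩ :=
        Cfsg.Agent.Lib.Helper96.BG127.exists_elemAb_sq_le_compl hE h2
      obtain ⟨⟨hENt, hallt⟩, _, _⟩ :=
        Cfsg.Agent.S1418.result hG H hH E hE t h2 At ⟨hAtE, hAte, hAtc⟩
      have hPAt : P ≤ At := hallt P hPE hPc
      have hdisj : A ⊓ At = ⊥ := by
        have hcop : (Nat.card A).Coprime (Nat.card At) := by
          rw [hAc, hAtc]
          exact Nat.Coprime.pow _ _ ((Nat.coprime_primes hpp ht).mpr (Ne.symm htp))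
        exact (Subgroup.disjoint_of_coprime_natCard hcop).eq_bot
      exact hPAt.trans
        (le_centralizer_of_normalize_of_disjoint (hAE.trans hENt) (hAtE.trans hEN) hdisj)

end Cfsg.Agent.Lib.Helper70.BG14
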