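import Cfsg.Agent.Lib.Helper32.BG142Defs
import Cfsg.Agent.Lib.Helper70.BG14E
import Cfsg.Agent.Lib.Helper70.BG134c
import Cfsg.Agent.Lib.Helper24.Omega1
import Cfsg.Agent.Lib.Helper24.Tau2B

/-!
LEAF L6 of the S1430 skeleton (`exc_tau1_cent_ge`): in the exceptional case, a subgroup `X ≤ E`
of order `s ∈ τ₁(M)` centralizes `Y = C_{M_σ}(Z)`.
-/

set_option autoImplicit false
set_option linter.style.haveILetI false
set_option linter.unusedSectionVars false
set_option linter.unusedVariables false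

namespace Cfsg.Agent.Lib.Helper32.BG142

open Subgroup Cfsg
open Cfsg.Agent.Lib.Helper33
open Cfsg.Agent.Lib.Helper63
open Cfsg.Agent.Lib.Helper47.BG11
open scoped commutatorElement

universe u

variable {G : Type u} [Group G] [Finite G]

theorem exc_tau1_cent_ge_normalizer_inf {K A B : Subgroup G} (hA : K ≤ normalizer (A : Set G))
    (hB : K ≤ normalizer (B : Set G)) : K ≤ normalizer ((A ⊓ B : Subgroup G) : Set G) := by
  intro k hk
  rw [mem_normalizer_iff]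
  intro x
  have h1 := mem_normalizer_iff.mp (hA hk) x
  have h2 := mem_normalizer_iff.mp (hB hk) x
  exact ⟨fun h => ⟨h1.mp h.1, h2.mp h.2⟩, fun h => ⟨h1.mpr h.1, h2.mpr h.2⟩⟩

theorem exc_tau1_cent_ge_symm {A B : Subgroup G} (h : A ≤ centralizer (B : Set G)) :
    B ≤ centralizer (A : Set G) := by
  intro b hb
  rw [mem_centralizer_iff]
  intro a ha
  exact (mem_centralizer_iff.mp (h ha) b hb).symm

/-- LEAF L6 (the hard step): a subgroup of order `s ∈ τ₁(M)` of `E` centralizes `Y = C_W(Z)`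
(13.10 applied to the partner `H`, + `StmtPin`). -/
theorem exc_tau1_cent_ge (hG : IsMinSimpleOddOrder G) (h78 : SigmaDisj G) (hLE : StmtE G)
    (h1310 : Stmt1310 G) (hPin : StmtPin G) {M E Z X : Subgroup G}
    (hM : IsCoatom M) (hE : IsComplIn E (sigmaCore M) M) {q : ℕ} (hq3 : q ∈ tau3 M)
    (hZE : Z ≤ E) (hZ : Nat.card Z = q)
    (hZne : sigmaCore M ⊓ centralizer (Z : Set G) ≠ ⊥)
    {s : ℕ} (hs : s ∈ tau1 M) (hXE : X ≤ E) (hX : Nat.card X = s) :
    sigmaCore M ⊓ centralizer (Z : Set G) ≤ centralizer (X : Set G) := by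
  classical
  have hqp : q.Prime := hq3.1
  haveI hqF : Fact q.Prime := ⟨hqp⟩
  have hsp : s.Prime := hs.1
  haveI hsF : Fact s.Prime := ⟨hsp⟩
  have hEM : E ≤ M := hE.1
  have hZM : Z ≤ M := hZE.trans hEM
  have hXM : X ≤ M := hXE.trans hEM
  have hσM : SigmaHallIn M := sigmaHallIn_of_coatom hG hM
  -- `Z` centralizes `X` (13.10 in `M`)
  have hZX : Z ≤ centralizer (X : Set G) := by
    by_contra h
    exact hZne (h1310 M E hM hE s hs X hXE hX q hq3 Z hZE hZ h)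
  have hXZ : X ≤ centralizer (Z : Set G) := exc_tau1_cent_ge_symm hZX
  have hZq : IsPGroup q Z := IsPGroup.of_card (n := 1) (by rw [hZ, pow_one])
  have hZ1 : Z ≠ ⊥ := by
    intro h
    rw [h, Subgroup.card_bot] at hZ
    exact hqp.one_lt.ne hZ
  have hZtop : Z ≠ ⊤ := fun h => hM.1 (top_le_iff.mp (h ▸ hZM))
  have hNtop := BG10.normalizer_ne_top hG hZ1 hZtop
  obtain ⟨H, hH, hNH⟩ :=
    (eq_top_or_exists_le_coatom (normalizer (Z : Set G))).resolve_left hNtop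
  have hσH : SigmaHallIn H := sigmaHallIn_of_coatom hG hH
  have hqH : q ∈ sigma H := hLE M H hM hH q (Or.inr hq3) Z hZ hZM hZne hNH
  have hnc : ∀ g : G, H ≠ M.map (MulAut.conj g).toMonoidHom := by
    intro g hg
    have h1 : q ∈ sigma (cj g⁻¹ H) := BG13.sigma_cj g⁻¹ hqH
    rw [hg, ← cj_def, cj_inv_cj] at h1
    exact hq3.2.1 h1
  have hnc' : ∀ g : G, H ≠ cj g M := hnc
  have hZH : Z ≤ H := le_normalizer.trans hNH
  have hCZH : centralizer (Z : Set G) ≤ H := (centralizer_le_normalizer _).trans hNH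
  have hXH : X ≤ H := hXZ.trans hCZH
  obtain ⟨Y, hYdef⟩ : ∃ Y, Y = sigmaCore M ⊓ centralizer (Z : Set G) := ⟨_, rfl⟩
  rw [← hYdef] at hZne ⊢
  have hYW : Y ≤ sigmaCore M := by rw [hYdef]; exact inf_le_left
  have hYZ : Y ≤ centralizer (Z : Set G) := by rw [hYdef]; exact inf_le_right
  have hYH : Y ≤ H := hYZ.trans hCZH
  have hMW : M ≤ normalizer ((sigmaCore M : Subgroup G) : Set G) :=
    Cfsg.Agent.Lib.Helper24.BG.le_normalizer_sigmaCore M
  have hNC : normalizer (Z : Set G) ≤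
      normalizer ((centralizer (Z : Set G) : Subgroup G) : Set G) :=
    Cfsg.Agent.Lib.Helper24.Tau2.normalizer_le_normalizer_centralizer Z
  have hXnY : X ≤ normalizer (Y : Set G) := by
    rw [hYdef]
    exact exc_tau1_cent_ge_normalizer_inf (hXM.trans hMW)
      ((hXZ.trans (centralizer_le_normalizer _)).trans hNC)
  by_cases hs1 : s ∈ tau1 H
  swap
  · exact BG13.cent_of_not_tau1 hG hM hH hnc' hs.2.1 hs1 hX hXH hYH hYW hXnY
  by_contra hnot
  -- coprimality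
  have hYtop : Y ≠ ⊤ := fun h => hH.1 (top_le_iff.mp (h ▸ hYH))
  haveI hYsolv : Group.IsSolvable ↥Y := Cfsg.Agent.Lib.Helper23.isSolvable_of_ne_top hG hYtop
  have hprimeY : ∀ k : ℕ, k.Prime → k ∣ Nat.card Y → k ∈ sigma M := fun k hk h1 =>
    Cfsg.Agent.Lib.Helper24.BG.mem_sigma_of_dvd_card_sigmaCore M hk
      (h1.trans (Subgroup.card_dvd_of_le hYW))
  have hdisj : ∀ k : ℕ, k ∈ sigma M → k ∉ sigma H := by
    intro k hkM hkH
    obtain ⟨g, hg⟩ := h78 M H hM hH ⟨k, hkM, hkH⟩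
    exact hnc g hg
  have hcopXY : (Nat.card X).Coprime (Nat.card Y) := by
    rw [hX]
    exact (Nat.Prime.coprime_iff_not_dvd hsp).2 (fun hd => hs.2.1 (hprimeY s hsp hd))
  obtain ⟨t, htF, Q, hQY, hQt, hXQ, hQX⟩ :=
    Cfsg.Agent.Lib.Helper70.BG134.exists_bad_sylow hXnY hcopXY (Or.inl hYsolv) hnot
  have htp : t.Prime := htF.out
  have hQ1 : Q ≠ ⊥ := fun h => hQX (h ▸ bot_le)
  have hQW : Q ≤ sigmaCore M := hQY.trans hYW
  have hQH : Q ≤ H := hQY.trans hYH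
  -- `W ∩ H ≤ C(Z)`
  have hZnWH : Z ≤ normalizer ((sigmaCore M ⊓ H : Subgroup G) : Set G) :=
    exc_tau1_cent_ge_normalizer_inf (hZM.trans hMW) (hZH.trans le_normalizer)
  have hWH : sigmaCore M ⊓ H ≤ centralizer (Z : Set G) :=
    BG13.cent_of_not_tau1 hG hM hH hnc' hq3.2.1 (fun h => h.2.1 hqH) hZ hZH inf_le_right
      inf_le_left hZnWH
  obtain ⟨hQcyc, hNQM, hrk⟩ :=
    hPin M H hM hH hnc q hqp hqH Z hZ hZH hWH t htp Q hQt hQ1 (le_inf hQW hQH)
  have htQ : t ∣ Nat.card Q := by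
    obtain ⟨n, hn⟩ := IsPGroup.iff_card.mp hQt
    have hn0 : n ≠ 0 := by
      rintro rfl
      rw [pow_zero] at hn
      exact hQ1 (Subgroup.card_eq_one.mp hn)
    rw [hn]
    exact dvd_pow_self t hn0
  have htM : t ∈ sigma M := hprimeY t htp (htQ.trans (Subgroup.card_dvd_of_le hQY))
  have htH : t ∉ sigma H := hdisj t htM
  have hst : s ≠ t := fun h => hs.2.1 (h ▸ htM)
  -- `t ∣ |H'|`
  have htH' : t ∣ Nat.card ↥⁅H, H⁆ := by
    obtain ⟨z, hzQ, hz⟩ := SetLike.not_le_iff_exists.mp hQX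
    rw [mem_centralizer_iff] at hz
    push Not at hz
    obtain ⟨x, hxX, hxz⟩ := hz
    have hc1 : ⁅z, x⁆ ≠ 1 := by
      intro h
      rw [commutatorElement_eq_one_iff_mul_comm] at h
      exact hxz h.symm
    have hcQ : ⁅z, x⁆ ∈ Q := by
      have h1 : x * z⁻¹ * x⁻¹ ∈ Q :=
        (mem_normalizer_iff.mp (hXQ hxX) z⁻¹).mp (Q.inv_mem hzQ)
      have e1 : ⁅z, x⁆ = z * (x * z⁻¹ * x⁻¹) := by
        rw [commutatorElement_def]; group
      rw [e1]
      exact Q.mul_mem hzQ h1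
    have hcH : ⁅z, x⁆ ∈ ⁅H, H⁆ := Subgroup.commutator_mem_commutator (hQH hzQ) (hXH hxX)
    obtain ⟨n, hn⟩ := (IsPGroup.iff_orderOf.mp hQt) ⟨⁅z, x⁆, hcQ⟩
    rw [Subgroup.orderOf_mk] at hn
    have hn0 : n ≠ 0 := by
      rintro rfl
      rw [pow_zero, orderOf_eq_one_iff] at hn
      exact hc1 hn
    have h2 : t ∣ orderOf ⁅z, x⁆ := by rw [hn]; exact dvd_pow_self t hn0
    exact h2.trans (Subgroup.orderOf_dvd_natCard _ hcH)
  have ht3 : t ∈ tau3 H := ⟨htp, htH, htH', hrk⟩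
  -- an element of order `t` of `Q` moved by `X`
  have ht2 : t ≠ 2 := Cfsg.Agent.Lib.Helper23.ne_two_of_dvd_card_subgroup hG (S := Q) htQ
  have hXcopt : (Nat.card X).Coprime t := by
    rw [hX]
    exact (Nat.coprime_primes hsp htp).mpr hst
  obtain ⟨z, hzQ, hzo, hzX⟩ : ∃ z ∈ Q, orderOf z = t ∧ ¬ X ≤ centralizer ({z} : Set G) := by
    by_contra hcon
    push Not at hcon
    exact hQX (exc_tau1_cent_ge_symm
      (Cfsg.Agent.Lib.Helper24.omega1_centralizer ht2 X Q hXcopt hQt hXQ hcon))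
  obtain ⟨Zs, hZsdef⟩ : ∃ Zs, Zs = zpowers z := ⟨_, rfl⟩
  have hZsc : Nat.card Zs = t := by rw [hZsdef, Nat.card_zpowers, hzo]
  have hZsQ : Zs ≤ Q := by rw [hZsdef, zpowers_le]; exact hzQ
  have hZsX : ¬ Zs ≤ centralizer (X : Set G) := by
    intro h
    apply hzX
    intro x hx
    rw [mem_centralizer_iff]
    intro w hw
    rw [Set.mem_singleton_iff] at hw
    rw [hw]
    have hzZs : z ∈ Zs := by rw [hZsdef]; exact mem_zpowers z
    exact (mem_centralizer_iff.mp (h hzZs) x hx).symm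
  -- a complement of `H_σ` over `Y X`
  have hYcop : (Nat.card Y).Coprime (Nat.card (sigmaCore H)) := by
    apply Nat.coprime_of_dvd
    intro k hk h1 h2
    exact hdisj k (hprimeY k hk h1)
      (Cfsg.Agent.Lib.Helper24.BG.mem_sigma_of_dvd_card_sigmaCore H hk h2)
  have hXcop : (Nat.card X).Coprime (Nat.card (sigmaCore H)) := by
    rw [hX]
    exact (Nat.Prime.coprime_iff_not_dvd hsp).2 (fun hd => hs1.2.1 (hσH.2.1 s hsp hd))
  have hTH : Y ⊔ X ≤ H := sup_le hYH hXH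
  have hTcop : (Nat.card ↥(Y ⊔ X)).Coprime (Nat.card (sigmaCore H)) :=
    Nat.Coprime.coprime_dvd_left
      (Cfsg.Agent.Lib.Helper56.BG117.card_sup_dvd_mul_of_le_normalizer (N := Y) (R := X) hXnY)
      (Nat.Coprime.mul_left hYcop hXcop)
  obtain ⟨EH, hEH, hTE⟩ := BG13.exists_compl_ge hG hH.1 hσH hTH hTcop
  have hXEH : X ≤ EH := le_sup_right.trans hTE
  have hZsEH : Zs ≤ EH := (hZsQ.trans hQY).trans (le_sup_left.trans hTE)
  have hbot := h1310 H EH hH hEH s hs1 X hXEH hX t ht3 Zs hZsEH hZsc hZsX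
  -- but `Z ≤ H_σ ∩ C(Zs)`
  have hZσ : Z ≤ sigmaCore H := le_sigmaCore_of_sigma hσH hqH hZH hZq
  have hZZs : Z ≤ centralizer (Zs : Set G) :=
    exc_tau1_cent_ge_symm ((hZsQ.trans hQY).trans hYZ)
  apply hZ1
  rw [eq_bot_iff, ← hbot]
  exact le_inf hZσ hZZs

end Cfsg.Agent.Lib.Helper32.BG142
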