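import Cfsg.Agent.Lib.Helper70.BG14Glue
import Cfsg.Agent.Lib.Helper24.BG1312F
import Cfsg.Agent.S1378
import Cfsg.Agent.S1428

/-!
STEP A of BG 14.2 (Lemma E) and the collapse (0) = PIECE E0, UNCONDITIONAL
(S1378, S1428 and helper24's `stmtB` are on main).
-/

set_option autoImplicit false
set_option linter.style.haveILetI false
set_option linter.unusedSectionVars false
set_option linter.unusedVariables false

universe u

namespace Cfsg.Agent.Lib.Helper70.BG14

open Subgroup Cfsg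

variable {G : Type u} [Group G] [Finite G]

theorem stmt1378b (hG : IsMinSimpleOddOrder G) : Stmt1378b G :=
  (Cfsg.Agent.S1378.result hG).2

theorem stmtB_final (hG : IsMinSimpleOddOrder G) : StmtB G :=
  Cfsg.Agent.Lib.Helper24.BG1312.stmtB hG
    (fun M hM E hE p hp P hPE hP R hRE hR =>
      Cfsg.Agent.S1428.result hG M hM E hE p hp P hPE hP R hRE hR)

/-- **STEP A of BG 14.2 / Lemma E**, unconditional. -/
theorem stepA_final (hG : IsMinSimpleOddOrder G) {M H : Subgroup G} (hM : IsCoatom M)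
    (hH : IsCoatom H) {p : ℕ} [Fact p.Prime] (hp : p ∈ tau1 M ∪ tau3 M) {X : Subgroup G}
    (hX : Nat.card X = p) (hXM : X ≤ M) (hY : sigmaCore M ⊓ centralizer (X : Set G) ≠ ⊥)
    (hNX : normalizer (X : Set G) ≤ H) : p ∈ sigma H :=
  stepA hG (stmt1378b hG) (stmtB_final hG) hM hH hp hX hXM hY hNX

theorem stmtE23 (hG : IsMinSimpleOddOrder G) : Cfsg.Agent.Lib.Helper23.BG1310.StmtE G :=
  stmtE_of hG (stmt1378b hG) (stmtB_final hG)

theorem stmtE32 (hG : IsMinSimpleOddOrder G) : Cfsg.Agent.Lib.Helper32.BG142.StmtE G :=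
  stmtE_of hG (stmt1378b hG) (stmtB_final hG)

theorem stepA32 (hG : IsMinSimpleOddOrder G) : Cfsg.Agent.Lib.Helper32.BG142.StepA G :=
  stepA_of hG (stmt1378b hG) (stmtB_final hG)

/-- the collapse of 12.14 by the sigma-partition, unconditional. -/
theorem tau2_of_sigma_normalizer_final (hG : IsMinSimpleOddOrder G) {M L : Subgroup G}
    (hM : IsCoatom M) (hL : IsCoatom L) (hne : L ≠ M) {q : ℕ} [Fact q.Prime] (hqM : q ∈ sigma M)
    {X : Subgroup G} (hXq : IsPGroup q X) (hX1 : X ≠ ⊥) (hXM : X ≤ M)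
    (hNX : normalizer (X : Set G) ≤ L) :
    q ∈ tau2 L ∧ IsComplIn (M ⊓ L) (sigmaCore L) L ∧ sigmaCore L ⊓ M = ⊥ ∧
      ∃ A : Subgroup G, A ≤ M ⊓ L ∧ IsElementaryAbelian q A ∧ Nat.card A = q ^ 2 ∧
        normalizer (A : Set G) ≤ M := by
  obtain ⟨h1, h2, h3⟩ := tau2_of_sigma_normalizer hG (stmt1378b hG) hM hL hne hqM hXq hX1 hXM hNX
  obtain ⟨_, _, h4⟩ :=
    inf_isComplIn_of_normalizer_le hG (stmt1378b hG) hM hL hne hqM hXq hX1 hXM hNX
  exact ⟨h1, h2, h4, h3⟩

end Cfsg.Agent.Lib.Helper70.BG14
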