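import Cfsg.Agent.S1404
import Cfsg.Agent.S1416
import Cfsg.Agent.S1417
import Cfsg.Agent.S1424
import Cfsg.Agent.Lib.Helper63.BG13b
import Cfsg.Agent.Lib.Helper68.BG1215c
import Cfsg.Agent.Lib.Helper32.BG126

/-!
BG 12.14 collapsed by the sigma-partition (13.9): for `q ∈ σ(M)`, a nontrivial `q`-subgroup `X ≤ M`
and a maximal subgroup `L ≠ M` over `N_G(X)`: `q ∈ τ₂(L)` and `M ∩ L` is a complement of `L_σ` in `L`.
-/

set_option autoImplicit false
set_option linter.style.haveILetI false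
set_option linter.unusedSectionVars false

universe u

namespace Cfsg.Agent.Lib.Helper70.BG14

open Subgroup Cfsg
open Cfsg.Agent.Lib.Helper33
open Cfsg.Agent.Lib.Helper63
open Cfsg.Agent.Lib.Helper47.BG11

variable {G : Type u} [Group G] [Finite G]

/-- second conjunct of S1378 (the sigma-partition), as a proposition -/
def Stmt1378b (G : Type u) [Group G] : Prop :=
  ∀ M N : Subgroup G, IsCoatom M → IsCoatom N → (sigma M ∩ sigma N).Nonempty →
    ∃ g : G, N = M.map (MulAut.conj g).toMonoidHom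

/-- Frattini argument, G-level: `K ≤ L` normalized by `L`, `A ≤ K` a `q`-subgroup with
`q ∤ |K : A|`; then every `l ∈ L` is `k * n` with `k ∈ K`, `n ∈ L ∩ N(A)`. -/
theorem frattini_mul {q : ℕ} [Fact q.Prime] {L K A : Subgroup G} (hKL : K ≤ L)
    (hLK : L ≤ normalizer (K : Set G)) (hAK : A ≤ K) (hAq : IsPGroup q A)
    (hAi : ¬ q ∣ A.relIndex K) {l : G} (hl : l ∈ L) :
    ∃ k ∈ K, ∃ n ∈ L ⊓ normalizer (A : Set G), l = k * n := by
  have h1 : cj l A ≤ K := by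
    have := cj_mono (g := l) hAK
    rwa [cj_eq_self_iff.mpr (hLK hl)] at this
  obtain ⟨k, hk, hkA⟩ := Cfsg.Agent.Lib.Helper24.sylow_cj_of_facts K A (cj l A) hAK hAq hAi h1
    (isPGroup_cj hAq) (card_cj l A)
  refine ⟨k, hk, k⁻¹ * l, ⟨L.mul_mem (L.inv_mem (hKL hk)) hl, ?_⟩, by group⟩
  apply cj_eq_self_iff.mp
  rw [cj_mul, hkA, cj_inv_cj]

theorem tau2_of_sigma_normalizer (hG : IsMinSimpleOddOrder G) (h78 : Stmt1378b G)
    {M L : Subgroup G} (hM : IsCoatom M) (hL : IsCoatom L) (hne : L ≠ M) {q : ℕ}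
    [hq : Fact q.Prime] (hqM : q ∈ sigma M) {X : Subgroup G} (hXq : IsPGroup q X) (hX1 : X ≠ ⊥)
    (hXM : X ≤ M) (hNX : normalizer (X : Set G) ≤ L) :
    q ∈ tau2 L ∧ IsComplIn (M ⊓ L) (sigmaCore L) L ∧
      ∃ A : Subgroup G, A ≤ M ⊓ L ∧ IsElementaryAbelian q A ∧ Nat.card A = q ^ 2 ∧
        normalizer (A : Set G) ≤ M := by
  have hU := BG13.uniqStmt hG
  have hXL : X ≤ L := le_normalizer.trans hNX
  obtain ⟨S', hXS'⟩ := Cfsg.Agent.Lib.Helper32.BG12.exists_sylow_map_ge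
    (M := M ⊓ L) (le_inf hXM hXL) hXq
  obtain ⟨hnc, hNS, hSi⟩ :=
    Cfsg.Agent.S1424.result hG M hM q hqM X hXq hX1 hXM L hL hne hNX S' hXS'
  obtain ⟨S, hSdef⟩ : ∃ S, S = (S' : Subgroup ↥(M ⊓ L)).map (M ⊓ L).subtype := ⟨_, rfl⟩
  rw [← hSdef] at hXS' hNS hSi
  have hSML : S ≤ M ⊓ L := by rw [hSdef]; exact map_subtype_le _
  have hSq : IsPGroup q S := by rw [hSdef]; exact S'.2.map _
  have hSM : S ≤ M := hSML.trans inf_le_left
  have hSL : S ≤ L := hSML.trans inf_le_right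
  -- `q ∉ σ(L)`
  have hqL : q ∉ sigma L := by
    intro h
    obtain ⟨g, hg⟩ := h78 M L hM hL ⟨q, hqM, h⟩
    exact hnc g hg
  -- `q ∈ τ₂(L)`
  have hqdL : q ∣ Nat.card L := by
    obtain ⟨k, hk⟩ := IsPGroup.iff_card.mp hXq
    have hk0 : k ≠ 0 := by
      rintro rfl
      rw [pow_zero] at hk
      exact hX1 (Subgroup.card_eq_one.mp hk)
    have : q ∣ Nat.card X := by rw [hk]; exact dvd_pow_self q hk0
    exact this.trans (Subgroup.card_dvd_of_le hXL)
  have hr2 : PRankLE q 2 ↥L := by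
    by_contra h
    exact hqL (Cfsg.Agent.Lib.Helper23.alpha_subset_sigma hG hU hL ⟨hq.out, h⟩)
  have hr1 : ¬ PRankLE q 1 ↥L := by
    intro h1
    have hq2 : q ≠ 2 := Cfsg.Agent.Lib.Helper23.ne_two_of_dvd_card_subgroup hG hqdL
    have hrS : PRankLE q 1 ↥S := BG10.pRankLE_of_injective (Subgroup.inclusion hSL)
      (Subgroup.inclusion_injective hSL) h1
    haveI hcyc : IsCyclic ↥S := by
      apply Cfsg.Agent.Lib.Helper49.isCyclic_of_isPGroup_rankLEOne hq2 hSq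
      intro A hA hAe
      have := hrS A hA hAe
      rwa [pow_one] at this
    have hNSX : normalizer (S : Set G) ≤ normalizer (X : Set G) := by
      intro g hg
      have h1 : cj g X ≤ S := by
        have := cj_mono (g := g) hXS'
        rwa [cj_eq_self_iff.mpr hg] at this
      have h2 : cj g X = X :=
        Cfsg.Agent.Lib.Helper67.eq_of_le_isCyclic_of_card_eq S _ _ h1 hXS' (card_cj g X)
      exact cj_eq_self_iff.mp h2
    obtain ⟨P, hP⟩ := Cfsg.Agent.Lib.Helper24.exists_sylow_map_eq L S hSL hSq hSi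
    exact hqL ⟨hq.out, hqdL, P, by rw [hP]; exact hNSX.trans hNX⟩
  have hτ : q ∈ tau2 L := ⟨hq.out, hqL, hr2, hr1⟩
  -- an `E_{q²}` inside `S`
  obtain ⟨A₀, hA₀L, hA₀e, hA₀c⟩ := BG10.exists_elemAb_sq_le hr1
  obtain ⟨c, hc, hcle⟩ := sylow_sub (K := L) hSL hSq hSi hA₀L (BG10.isPGroup_of_elemAb hA₀e)
  obtain ⟨A, hAdef⟩ : ∃ A, A = cj c A₀ := ⟨_, rfl⟩
  have hAe : IsElementaryAbelian q A := by rw [hAdef]; exact BG10.map_elemAb _ hA₀e
  have hAc : Nat.card A = q ^ 2 := by rw [hAdef, card_cj, hA₀c]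
  have hAS : A ≤ S := by rw [hAdef]; exact hcle
  have hAL : A ≤ L := hAS.trans hSL
  have hAM : A ≤ M := hAS.trans hSM
  have hAq : IsPGroup q A := BG10.isPGroup_of_elemAb hAe
  have hAne : A ≠ ⊥ := by
    intro h
    rw [h, Subgroup.card_bot] at hAc
    have := hq.out.one_lt
    nlinarith
  -- S1417 for `L`
  obtain ⟨_, _, hnormT, _, hTI, _⟩ := Cfsg.Agent.S1417.result hG L hL q hτ A ⟨hAL, hAe, hAc⟩
  have hMI : sigmaCore L ⊓ M = ⊥ := hTI M hM hne.symm hAM
  -- `N_G(A) ≤ M`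
  have hNA : normalizer (A : Set G) ≤ M := by
    have h := (Cfsg.Agent.S1404.result hG M hM q hqM A hAq hAne hAM).2
    rw [h]
    exact sup_le inf_le_left (Cfsg.Agent.S1416.result hG M hM q A ⟨hAM, hAe, hAc⟩).1
  refine ⟨hτ, ?_, A, le_inf hAM hAL, hAe, hAc, hNA⟩
  -- the complement
  have hσL : SigmaHallIn L := sigmaHallIn_of_coatom hG hL
  have hLσ : sigmaCore L ≤ L := hσL.1
  have hLn : L ≤ normalizer ((sigmaCore L : Subgroup G) : Set G) :=
    Cfsg.Agent.Lib.Helper24.BG.le_normalizer_sigmaCore L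
  refine ⟨inf_le_right, hLσ, ?_, ?_⟩
  · rw [eq_bot_iff, ← hMI]
    exact le_inf inf_le_right (inf_le_left.trans inf_le_left)
  · intro l hl
    -- `K = L_σ A`, `A` a Sylow `q`-subgroup of `K`
    set K := sigmaCore L ⊔ A with hK
    have hKL : K ≤ L := sup_le hLσ hAL
    have hAK : A ≤ K := le_sup_right
    have hAi : ¬ q ∣ A.relIndex K := by
      intro hd
      have h1 := Cfsg.Agent.Lib.Helper56.BG117.card_sup_dvd_mul_of_le_normalizer
        (N := sigmaCore L) (R := A) (hAL.trans hLn)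
      have h2 : Nat.card A * A.relIndex K = Nat.card K :=
        Cfsg.Agent.Lib.Helper33.card_mul_relIndex_eq' hAK
      have h3 : A.relIndex K ∣ Nat.card (sigmaCore L) := by
        have h4 : Nat.card A * A.relIndex K ∣ Nat.card (sigmaCore L) * Nat.card A := by
          rw [h2]; exact h1
        rw [mul_comm (Nat.card (sigmaCore L))] at h4
        exact Nat.dvd_of_mul_dvd_mul_left Nat.card_pos h4
      exact hqL (hσL.2.1 q hq.out (hd.trans h3))
    obtain ⟨k, hk, n, hn, hlkn⟩ := frattini_mul hKL hnormT hAK hAq hAi hl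
    -- `k = s * a`
    obtain ⟨a, ha, s, hs, hkas⟩ :=
      Cfsg.Agent.Lib.Helper24.exists_mul_of_mem_sup_of_le_normalizer A (sigmaCore L)
        (hAL.trans hLn) k (by rw [sup_comm]; exact hk)
    -- `l = a * s * n = (a * n) * (n⁻¹ * s * n)`
    have hnL : n ∈ L := hn.1
    have hnM : n ∈ M := hNA hn.2
    refine ⟨a * n, ⟨M.mul_mem (hAM ha) hnM, L.mul_mem (hAL ha) hnL⟩, n⁻¹ * s * n, ?_, ?_⟩
    · have := (mem_normalizer_iff.mp (hLn (L.inv_mem hnL)) s).mp hs
      simpa using this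
    · rw [hlkn, hkas]; group

end Cfsg.Agent.Lib.Helper70.BG14
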