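import Mathlib
import Cfsg.Agent.Lib.Helper32.PGroupCenter

set_option autoImplicit false

namespace Cfsg.Agent.Lib.Helper86.Suz

/-- In a finite `p`-group, a normal subgroup not contained in the centre contains a non-central
element of the second centre. -/
theorem exists_mem_second_center {G : Type*} [Group G] [Finite G] {p : ℕ} [Fact p.Prime]
    (hG : IsPGroup p G) (N : Subgroup G) [N.Normal] (hN : ¬ N ≤ Subgroup.center G) :
    ∃ w ∈ N, w ∉ Subgroup.center G ∧ ∀ g : G, w⁻¹ * g⁻¹ * w * g ∈ Subgroup.center G := by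
  classical
  set Z := Subgroup.center G with hZ
  set π := QuotientGroup.mk' Z with hπ
  have hQ : IsPGroup p (G ⧸ Z) := hG.to_quotient Z
  have hNn : (N.map π).Normal :=
    Subgroup.Normal.map inferInstance π (QuotientGroup.mk'_surjective Z)
  have hNne : N.map π ≠ ⊥ := by
    intro h
    apply hN
    intro x hx
    have : π x ∈ N.map π := Subgroup.mem_map_of_mem π hx
    rw [h, Subgroup.mem_bot] at this
    have h2 : x ∈ π.ker := this
    rwa [hπ, QuotientGroup.ker_mk'] at h2
  obtain ⟨y, hyN, hyZ, hy1⟩ :=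
    Cfsg.Agent.Lib.Helper32.exists_ne_one_mem_normal_inf_center hQ (N.map π) hNne
  obtain ⟨w, hwN, rfl⟩ := Subgroup.mem_map.mp hyN
  refine ⟨w, hwN, ?_, ?_⟩
  · intro hw
    apply hy1
    have : w ∈ π.ker := by rw [hπ, QuotientGroup.ker_mk']; exact hw
    exact this
  · intro g
    have h1 : π (w⁻¹ * g⁻¹ * w * g) = 1 := by
      have hc := Subgroup.mem_center_iff.mp hyZ (π g)
      -- hc : π g * π w = π w * π g
      simp only [map_mul, map_inv]
      calc (π w)⁻¹ * (π g)⁻¹ * π w * π g = (π w)⁻¹ * (π g)⁻¹ * (π w * π g) := by group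
        _ = (π w)⁻¹ * (π g)⁻¹ * (π g * π w) := by rw [hc]
        _ = 1 := by group
    have : w⁻¹ * g⁻¹ * w * g ∈ π.ker := h1
    rwa [hπ, QuotientGroup.ker_mk'] at this

end Cfsg.Agent.Lib.Helper86.Suz
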