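import Mathlib

set_option autoImplicit false
set_option linter.unusedSectionVars false

namespace Cfsg.Agent.Lib.Helper86.Suz

theorem lemV7 {F : Type*} [Field F] [Fintype F] [CharP F 2] {M : Type*} [Group M]
    (S : Subgroup M) (c f : M → F) (addc : ∀ g h, c (g * h) = c g + c h)
    (addf : ∀ g ∈ S, ∀ h ∈ S, f (g * h) = f g + f h) (σ : F ≃+* F)
    (hψ : ∀ c₀ : F, c₀ ≠ 0 → ∃ t : F, t ≠ 0 ∧ t = c₀ * σ t)
    (hsurj : ∀ a : F, ∃ g ∈ S, c g = a) (hrel : ∀ g ∈ S, f g + c g * σ (f g) = 0) :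
    (∀ g ∈ S, f g = 0) ∨ ((∀ x : F, σ x ^ 2 = x) ∧ ∀ g ∈ S, f g = c g ^ 2) := by
  classical
  have hσ0 : ∀ t : F, t ≠ 0 → σ t ≠ 0 := fun t ht h => ht (by
    have := congrArg σ.symm h; simpa using this)
  -- the map ψ on nonzero elements
  let ψ : {t : F // t ≠ 0} → {t : F // t ≠ 0} := fun t =>
    ⟨t.1 / σ t.1, div_ne_zero t.2 (hσ0 t.1 t.2)⟩
  have ψsurj : Function.Surjective ψ := by
    intro ⟨c₀, hc₀⟩
    obtain ⟨t, ht0, ht⟩ := hψ c₀ hc₀
    refine ⟨⟨t, ht0⟩, ?_⟩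
    apply Subtype.ext
    show t / σ t = c₀
    rw [div_eq_iff (hσ0 t ht0)]; exact ht
  have ψinj : Function.Injective ψ := Finite.injective_iff_surjective.mpr ψsurj
  have inj' : ∀ s t : F, s ≠ 0 → t ≠ 0 → s / σ s = t / σ t → s = t := by
    intro s t hs ht h
    have : ψ ⟨s, hs⟩ = ψ ⟨t, ht⟩ := Subtype.ext h
    exact congrArg Subtype.val (ψinj this)
  -- consequences of hrel
  have rel' : ∀ g ∈ S, f g = c g * σ (f g) := fun g hg => CharTwo.add_eq_zero.mp (hrel g hg)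
  have cpsi : ∀ g ∈ S, f g ≠ 0 → c g = f g / σ (f g) := by
    intro g hg hfg
    rw [eq_div_iff (hσ0 _ hfg)]
    exact (rel' g hg).symm
  have c0 : ∀ g ∈ S, c g = 0 → f g = 0 := by
    intro g hg h
    have := rel' g hg
    rw [h, zero_mul] at this
    exact this
  by_cases hall : ∀ g ∈ S, f g = 0
  · exact Or.inl hall
  right
  simp only [not_forall] at hall
  obtain ⟨g₂, hg₂, hfg₂⟩ := hall
  -- f g ≠ 0 whenever c g ≠ 0
  have key : ∀ g ∈ S, c g ≠ 0 → f g ≠ 0 := by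
    intro g₁ hg₁ hc₁ hf₁
    have h12 : g₁ * g₂ ∈ S := S.mul_mem hg₁ hg₂
    have e1 : f (g₁ * g₂) = f g₂ := by rw [addf g₁ hg₁ g₂ hg₂, hf₁, zero_add]
    have hne : f (g₁ * g₂) ≠ 0 := by rw [e1]; exact hfg₂
    have e2 := cpsi (g₁ * g₂) h12 hne
    rw [e1, ← cpsi g₂ hg₂ hfg₂, addc] at e2
    apply hc₁
    have : c g₁ + c g₂ + c g₂ = c g₂ + c g₂ := by rw [e2]
    rw [add_assoc, CharTwo.add_self_eq_zero, add_zero] at this
    exact this
  -- additivity of ψ
  have addψ : ∀ x y : F, x ≠ 0 → y ≠ 0 → x + y ≠ 0 → x * σ y ^ 2 + y * σ x ^ 2 = 0 := by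
    intro x y hx hy hxy
    obtain ⟨g, hg, hcg⟩ := hsurj (x / σ x)
    obtain ⟨h, hh, hch⟩ := hsurj (y / σ y)
    have hcg0 : c g ≠ 0 := by rw [hcg]; exact div_ne_zero hx (hσ0 x hx)
    have hch0 : c h ≠ 0 := by rw [hch]; exact div_ne_zero hy (hσ0 y hy)
    have hfg0 := key g hg hcg0
    have hfh0 := key h hh hch0
    have hfg : f g = x := inj' _ _ hfg0 hx (by rw [← cpsi g hg hfg0, hcg])
    have hfh : f h = y := inj' _ _ hfh0 hy (by rw [← cpsi h hh hfh0, hch])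
    have hgh : g * h ∈ S := S.mul_mem hg hh
    have hfgh : f (g * h) = x + y := by rw [addf g hg h hh, hfg, hfh]
    have hne : f (g * h) ≠ 0 := by rw [hfgh]; exact hxy
    have e := cpsi (g * h) hgh hne
    rw [hfgh, addc, hcg, hch, map_add] at e
    have hsx := hσ0 x hx
    have hsy := hσ0 y hy
    have hsxy : σ x + σ y ≠ 0 := by
      have := hσ0 (x + y) hxy
      rwa [map_add] at this
    field_simp at e
    -- e : relation with cleared denominators
    have e' : (x * σ y + y * σ x) * (σ x + σ y) = (x + y) * (σ x * σ y) := by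
      linear_combination e
    have : x * σ y ^ 2 + y * σ x ^ 2
        = (x * σ y + y * σ x) * (σ x + σ y) - (x + y) * (σ x * σ y) := by ring
    rw [this, e', sub_self]
  have hsq : ∀ x : F, σ x ^ 2 = x := by
    intro x
    by_cases hx0 : x = 0
    · subst hx0; simp
    by_cases hx1 : x = 1
    · subst hx1; simp
    have hx1' : x + 1 ≠ 0 := by
      intro h
      exact hx1 (CharTwo.add_eq_zero.mp h)
    have := addψ x 1 hx0 one_ne_zero hx1'
    rw [map_one, one_pow, mul_one, one_mul] at this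
    exact (CharTwo.add_eq_zero.mp this).symm
  refine ⟨hsq, ?_⟩
  intro g hg
  by_cases hc : c g = 0
  · rw [c0 g hg hc, hc]; ring
  have hf0 := key g hg hc
  have e := cpsi g hg hf0
  have hs0 := hσ0 _ hf0
  rw [e, div_pow, hsq (f g)]
  field_simp

end Cfsg.Agent.Lib.Helper86.Suz
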