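import Mathlib

/-!
Leaf TI-ABS of helper31's Ti hive (S1074): an abstract simplicity criterion for the
derived subgroup of index two.
-/

namespace Cfsg.Agent.Lib.Helper31.Ti

open scoped commutatorElement Pointwise

/-- If the derived subgroup has index two, it equals its own commutator with the whole group. -/
theorem tiabs_comm_le {G : Type*} [Group G] (hidx : (commutator G).index = 2) :
    commutator G ≤ ⁅commutator G, (⊤ : Subgroup G)⁆ := by
  have hD : (⁅commutator G, (⊤ : Subgroup G)⁆).Normal := inferInstance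
  rw [commutator_def, Subgroup.commutator_le]
  intro x _ y _
  rw [← commutator_def]
  by_cases hx : x ∈ commutator G
  · exact Subgroup.commutator_mem_commutator hx (Subgroup.mem_top y)
  by_cases hy : y ∈ commutator G
  · rw [← commutatorElement_inv]
    exact inv_mem (Subgroup.commutator_mem_commutator hy (Subgroup.mem_top x))
  have hc : x⁻¹ * y ∈ commutator G := by
    rw [Subgroup.mul_mem_iff_of_index_two hidx, inv_mem_iff]
    exact ⟨fun h => absurd h hx, fun h => absurd h hy⟩
  have hxc : ⁅x, x⁻¹ * y⁆ ∈ ⁅commutator G, (⊤ : Subgroup G)⁆ := by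
    rw [← commutatorElement_inv]
    exact inv_mem (Subgroup.commutator_mem_commutator hc (Subgroup.mem_top x))
  have hconj := hD.conj_mem _ hxc x
  have he : x * ⁅x, x⁻¹ * y⁆ * x⁻¹ = ⁅x, y⁆ := by
    simp only [commutatorElement_def]
    group
  rw [he] at hconj
  exact hconj

theorem tiabs_comm_le_lcs {G : Type*} [Group G] (hidx : (commutator G).index = 2) (n : ℕ) :
    commutator G ≤ (⊤ : Subgroup G).lowerCentralSeries n := by
  induction n with
  | zero => simp
  | succ d hd =>
    rw [Subgroup.lowerCentralSeries_succ]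
    exact (tiabs_comm_le hidx).trans (Subgroup.commutator_mono hd le_rfl)

/-- Part (a): every nontrivial normal subgroup contains the derived subgroup. -/
theorem tiabs_comm_le_normal {G : Type*} [Group G] [Finite G] (B : Subgroup G)
    (hB : IsPGroup 2 B)
    (hdich : ∀ M : Subgroup G, M.Normal → M = ⊥ ∨ M ⊔ B = ⊤)
    (hidx : (commutator G).index = 2)
    (M : Subgroup G) (hM : M.Normal) (hne : M ≠ ⊥) : commutator G ≤ M := by
  have hMB : M ⊔ B = ⊤ := (hdich M hM).resolve_left hne
  have : Fact (Nat.Prime 2) := ⟨Nat.prime_two⟩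
  let ϕ : B →* G ⧸ M := (QuotientGroup.mk' M).comp B.subtype
  have hϕ : Function.Surjective ϕ := by
    intro q
    obtain ⟨g, rfl⟩ := QuotientGroup.mk'_surjective M q
    have hg : g ∈ ((M ⊔ B : Subgroup G) : Set G) := by rw [hMB]; exact Subgroup.mem_top g
    rw [Subgroup.normal_mul] at hg
    obtain ⟨m, hm, b, hb, rfl⟩ := hg
    refine ⟨⟨b, hb⟩, ?_⟩
    show (QuotientGroup.mk' M) b = (QuotientGroup.mk' M) (m * b)
    rw [map_mul]
    have : (QuotientGroup.mk' M) m = 1 := by
      rw [QuotientGroup.mk'_apply, QuotientGroup.eq_one_iff]; exact hm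
    rw [this, one_mul]
  have hQ : IsPGroup 2 (G ⧸ M) := hB.of_surjective ϕ hϕ
  have hnil : Group.IsNilpotent (G ⧸ M) := hQ.isNilpotent
  obtain ⟨n, hn⟩ := Subgroup.nilpotent_iff_lowerCentralSeries.mp hnil
  have hmap := Subgroup.map_lowerCentralSeries (⊤ : Subgroup G) (QuotientGroup.mk' M) n
  rw [Subgroup.map_top_of_surjective _ (QuotientGroup.mk'_surjective M), hn] at hmap
  intro x hx
  have hx' : x ∈ (⊤ : Subgroup G).lowerCentralSeries n := tiabs_comm_le_lcs hidx n hx
  have : (QuotientGroup.mk' M) x ∈ ((⊤ : Subgroup G).lowerCentralSeries n).map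
      (QuotientGroup.mk' M) := Subgroup.mem_map_of_mem _ hx'
  rw [hmap, Subgroup.mem_bot, QuotientGroup.mk'_apply, QuotientGroup.eq_one_iff] at this
  exact this

theorem ti_abs {G : Type*} [Group G] [Finite G] (B : Subgroup G) (hB : IsPGroup 2 B)
    (hdich : ∀ M : Subgroup G, M.Normal → M = ⊥ ∨ M ⊔ B = ⊤)
    (hidx : (commutator G).index = 2)
    (hsq : ¬ IsSquare (Nat.card (commutator G))) : IsSimpleGroup (commutator G) := by
  have hTn : (commutator G).Normal := inferInstance
  have hA := tiabs_comm_le_normal B hB hdich hidx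
  have hnt : Nontrivial (commutator G) := by
    by_contra h
    rw [not_nontrivial_iff_subsingleton] at h
    apply hsq
    rw [Nat.card_of_subsingleton (1 : commutator G)]
    exact ⟨1, rfl⟩
  obtain ⟨u, hu⟩ : ∃ u, u ∉ commutator G := by
    by_contra h
    have hall : ∀ u, u ∈ commutator G := fun u => by
      by_contra hu
      exact h ⟨u, hu⟩
    have htop : commutator G = ⊤ := (Subgroup.eq_top_iff' _).mpr hall
    rw [htop, Subgroup.index_top] at hidx
    omega
  refine { exists_pair_ne := hnt.exists_pair_ne, eq_bot_or_eq_top_of_normal := ?_ }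
  intro N0 hN0
  by_cases hbot : N0 = ⊥
  · left; exact hbot
  right
  -- the image of `N0` in `G`
  set N : Subgroup G := N0.map (commutator G).subtype with hNdef
  have hNT : N ≤ commutator G := by
    rintro _ ⟨x, _, rfl⟩
    exact x.2
  have hNmem : ∀ x : G, x ∈ N ↔ ∃ hx : x ∈ commutator G, (⟨x, hx⟩ : commutator G) ∈ N0 := by
    intro x
    constructor
    · rintro ⟨y, hy, rfl⟩
      exact ⟨y.2, hy⟩
    · rintro ⟨hx, hx0⟩
      exact ⟨⟨x, hx⟩, hx0, rfl⟩
  -- (1) conjugation by elements of the derived subgroup preserves `N`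
  have h1 : ∀ g ∈ commutator G, ∀ x ∈ N, g * x * g⁻¹ ∈ N := by
    intro g hg x hx
    obtain ⟨hxT, hx0⟩ := (hNmem x).mp hx
    have := hN0.conj_mem _ hx0 ⟨g, hg⟩
    exact (hNmem _).mpr ⟨hTn.conj_mem x hxT g, this⟩
  set Nu : Subgroup G := N.map (MulAut.conj u).toMonoidHom with hNudef
  have hNumem : ∀ y : G, y ∈ Nu ↔ ∃ x ∈ N, u * x * u⁻¹ = y := by
    intro y
    rw [hNudef, Subgroup.mem_map]
    simp only [MulEquiv.coe_toMonoidHom, MulAut.conj_apply]
  have hNuT : Nu ≤ commutator G := by
    intro y hy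
    obtain ⟨x, hx, rfl⟩ := (hNumem y).mp hy
    exact hTn.conj_mem x (hNT hx) u
  -- (2)
  have h2 : ∀ g ∈ commutator G, ∀ y ∈ Nu, g * y * g⁻¹ ∈ Nu := by
    intro g hg y hy
    obtain ⟨x, hx, rfl⟩ := (hNumem y).mp hy
    have hg' : u⁻¹ * g * u⁻¹⁻¹ ∈ commutator G := hTn.conj_mem g hg u⁻¹
    have := h1 _ hg' x hx
    refine (hNumem _).mpr ⟨_, this, ?_⟩
    group
  -- (3)
  have h3 : ∀ g, g ∉ commutator G → ∀ x ∈ N, g * x * g⁻¹ ∈ Nu := by
    intro g hg x hx
    have ht : u⁻¹ * g ∈ commutator G := by
      rw [Subgroup.mul_mem_iff_of_index_two hidx, inv_mem_iff]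
      exact ⟨fun h => absurd h hu, fun h => absurd h hg⟩
    have := h1 _ ht x hx
    refine (hNumem _).mpr ⟨_, this, ?_⟩
    group
  -- (4)
  have h4 : ∀ g, g ∉ commutator G → ∀ y ∈ Nu, g * y * g⁻¹ ∈ N := by
    intro g hg y hy
    obtain ⟨x, hx, rfl⟩ := (hNumem y).mp hy
    have ht : g * u ∈ commutator G := by
      rw [Subgroup.mul_mem_iff_of_index_two hidx]
      exact ⟨fun h => absurd h hg, fun h => absurd h hu⟩
    have := h1 _ ht x hx
    have he : g * u * x * (g * u)⁻¹ = g * (u * x * u⁻¹) * g⁻¹ := by group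
    rw [he] at this
    exact this
  -- the join is normal
  have hKn : (N ⊔ Nu).Normal := by
    constructor
    intro k hk g
    have hmap : (N ⊔ Nu).map (MulAut.conj g).toMonoidHom ≤ N ⊔ Nu := by
      rw [Subgroup.map_sup]
      by_cases hg : g ∈ commutator G
      · refine sup_le (le_trans ?_ le_sup_left) (le_trans ?_ le_sup_right)
        · rintro _ ⟨x, hx, rfl⟩
          exact h1 g hg x hx
        · rintro _ ⟨x, hx, rfl⟩
          exact h2 g hg x hx
      · refine sup_le (le_trans ?_ le_sup_right) (le_trans ?_ le_sup_left)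
        · rintro _ ⟨x, hx, rfl⟩
          exact h3 g hg x hx
        · rintro _ ⟨x, hx, rfl⟩
          exact h4 g hg x hx
    exact hmap ⟨k, hk, rfl⟩
  -- the meet is normal
  have hLn : (N ⊓ Nu).Normal := by
    constructor
    intro k hk g
    rw [Subgroup.mem_inf] at hk ⊢
    by_cases hg : g ∈ commutator G
    · exact ⟨h1 g hg k hk.1, h2 g hg k hk.2⟩
    · exact ⟨h4 g hg k hk.2, h3 g hg k hk.1⟩
  have hNne : N ≠ ⊥ := by
    intro h
    apply hbot
    rw [hNdef] at h
    exact (Subgroup.map_eq_bot_iff_of_injective N0 (commutator G).subtype_injective).mp h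
  have hKne : N ⊔ Nu ≠ ⊥ := by
    intro h
    apply hNne
    exact le_bot_iff.mp (h ▸ le_sup_left)
  have hK : N ⊔ Nu = commutator G :=
    le_antisymm (sup_le hNT hNuT) (hA _ hKn hKne)
  -- conclusion from `N = T`
  have hfin : commutator G ≤ N → N0 = ⊤ := by
    intro hle
    rw [eq_top_iff]
    intro x _
    obtain ⟨_, hx0⟩ := (hNmem x.1).mp (hle x.2)
    exact hx0
  by_cases hL : N ⊓ Nu = ⊥
  · exfalso
    apply hsq
    -- work inside the derived subgroup
    have hn1 : (N.subgroupOf (commutator G)).Normal := by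
      constructor
      intro n hn g
      rw [Subgroup.mem_subgroupOf] at hn ⊢
      exact h1 g.1 g.2 n.1 hn
    have hn2 : (Nu.subgroupOf (commutator G)).Normal := by
      constructor
      intro n hn g
      rw [Subgroup.mem_subgroupOf] at hn ⊢
      exact h2 g.1 g.2 n.1 hn
    have hdisj : Disjoint (N.subgroupOf (commutator G)) (Nu.subgroupOf (commutator G)) := by
      rw [Subgroup.disjoint_def]
      intro x hx1 hx2
      rw [Subgroup.mem_subgroupOf] at hx1 hx2
      have hx : (x : G) ∈ N ⊓ Nu := ⟨hx1, hx2⟩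
      rw [hL, Subgroup.mem_bot] at hx
      exact Subtype.ext hx
    have hsup : N.subgroupOf (commutator G) ⊔ Nu.subgroupOf (commutator G) = ⊤ := by
      rw [← Subgroup.subgroupOf_sup hNT hNuT, hK, Subgroup.subgroupOf_self]
    have hmul : ((N.subgroupOf (commutator G) : Subgroup (commutator G)) : Set (commutator G)) *
        ((Nu.subgroupOf (commutator G) : Subgroup (commutator G)) : Set (commutator G))
          = Set.univ := by
      rw [← Subgroup.normal_mul, hsup, Subgroup.coe_top]
    have hcompl := Subgroup.isComplement'_of_disjoint_and_mul_eq_univ hdisj hmul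
    have hcard := hcompl.card_mul_card
    have hc1 : Nat.card (N.subgroupOf (commutator G)) = Nat.card N :=
      Nat.card_congr (Subgroup.subgroupOfEquivOfLe hNT).toEquiv
    have hc2 : Nat.card (Nu.subgroupOf (commutator G)) = Nat.card N := by
      rw [Nat.card_congr (Subgroup.subgroupOfEquivOfLe hNuT).toEquiv]
      exact Subgroup.card_map_of_injective (MulAut.conj u).injective
    rw [hc1, hc2] at hcard
    exact ⟨Nat.card N, hcard.symm⟩
  · exact hfin ((hA _ hLn hL).trans inf_le_left)

end Cfsg.Agent.Lib.Helper31.Ti
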