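import Cfsg.Agent.Lib.Helper23.FitLocal
import Cfsg.Agent.Lib.Helper23.LargeFitD
import Cfsg.Agent.Lib.Helper23.FitUniqueB
import Cfsg.Agent.Lib.Helper23.AlphaB
import Cfsg.Agent.Lib.Helper32.Transitivity
import Cfsg.Agent.Lib.Helper24.BG121
import Cfsg.Agent.Lib.Helper63.BG10
import Cfsg.Agent.Lib.Helper47.PCoreOf
import Cfsg.Agent.Lib.Helper47.PCoreOf2
import Cfsg.Agent.Lib.Helper52.NormalRankTwo
import Cfsg.Agent.Lib.Helper70.Kulakoff3

set_option autoImplicit false
set_option linter.unusedSectionVars false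
set_option linter.unusedVariables false
set_option linter.style.haveILetI false

/-!
# The `σ(M)'`-part of `F(M)` is a cyclic `τ₂(M)`-group (BG Section 15)

From the Uniqueness Theorem and the conclusion (b) of BG Theorem 12.5 as hypotheses.
-/

namespace Cfsg.Agent.Lib.Helper70.BG158

open Cfsg Subgroup
open Cfsg.Agent.Lib.Helper23 (pCoreOf)
open Cfsg.Agent.Lib.Helper62 (IsPi)

universe u
variable {G : Type u} [Group G] [Finite G]

/-- Conclusion (b) of BG Theorem 12.5 for the maximal subgroup `M`, as a proposition. -/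
def Stmt125b (M : Subgroup G) : Prop :=
  ∀ (p : ℕ) [Fact p.Prime], p ∈ tau2 M → ∀ A : Subgroup G,
    (A ≤ M ∧ IsElementaryAbelian p A ∧ Nat.card A = p ^ 2) →
    ∀ P : Sylow p M, IsMulCommutative (P : Subgroup M) ∧
      (A ≤ (P : Subgroup M).map M.subtype →
        (∀ x ∈ (P : Subgroup M).map M.subtype, x ^ p = 1 ↔ x ∈ A) ∧
        ¬ normalizer ((((P : Subgroup M).map M.subtype : Subgroup G)) : Set G) ≤ M)

/-- A normal `p`-subgroup lies in every Sylow `p`-subgroup. -/
theorem le_sylow_of_normal {K : Type*} [Group K] [Finite K] {q : ℕ} [Fact q.Prime]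
    (N : Subgroup K) [hN : N.Normal] (hNq : IsPGroup q N) (S : Sylow q K) :
    N ≤ (S : Subgroup K) := by
  obtain ⟨S', hS'⟩ := hNq.exists_le_sylow
  obtain ⟨g, hg⟩ := MulAction.exists_smul_eq K S' S
  intro x hx
  have hx' : g⁻¹ * x * g ∈ N := by simpa using hN.conj_mem x hx g⁻¹
  have h2 : g⁻¹ * x * g ∈ (S' : Subgroup K) := hS' hx'
  have h3 : x ∈ ((g • S' : Sylow q K) : Subgroup K) := by
    rw [Sylow.smul_def, Sylow.pointwise_smul_def, Subgroup.mem_pointwise_smul_iff_inv_smul_mem]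
    simpa [MulAut.smul_def, MulAut.conj_apply] using h2
  rw [hg] at h3
  exact h3

/-- `O_q(M)` lies in the image in `G` of every Sylow `q`-subgroup of `M`. -/
theorem pCoreOf_le_sylow_map {q : ℕ} [Fact q.Prime] (M : Subgroup G) (S : Sylow q M) :
    pCoreOf q M ≤ (S : Subgroup M).map M.subtype := by
  haveI := Cfsg.Agent.Lib.Helper22.pCore_normal' q ↥M
  exact Subgroup.map_mono
    (le_sylow_of_normal (pCore q ↥M) (Cfsg.Agent.Lib.Helper22.pCore_isPGroup' q ↥M) S)

/-- Two subgroups of the same order inside a cyclic subgroup coincide. -/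
theorem eq_of_card_eq_of_le_cyclic {C H K : Subgroup G} (hC : IsCyclic C) (hH : H ≤ C)
    (hK : K ≤ C) (h : Nat.card H = Nat.card K) : H = K := by
  have h1 : Nat.card (H.subgroupOf C) = Nat.card (K.subgroupOf C) := by
    rw [Nat.card_congr (Subgroup.subgroupOfEquivOfLe hH).toEquiv,
      Nat.card_congr (Subgroup.subgroupOfEquivOfLe hK).toEquiv, h]
  have h2 := Cfsg.Agent.Lib.Helper70.kk_cyclic_unique (H.subgroupOf C) (K.subgroupOf C) h1
  have h3 := congrArg (Subgroup.map C.subtype) h2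
  rwa [Subgroup.subgroupOf_map_subtype, Subgroup.subgroupOf_map_subtype,
    inf_of_le_left hH, inf_of_le_left hK] at h3

/-- A conjugate of a subgroup has the same order. -/
theorem card_map_conj (H : Subgroup G) (g : G) :
    Nat.card (H.map (MulAut.conj g).toMonoidHom) = Nat.card H :=
  Nat.card_congr (H.equivMapOfInjective _ (MulAut.conj g).injective).symm.toEquiv


theorem mem_normalizer_of_map_conj_eq {H : Subgroup G} {g : G}
    (h : H.map (MulAut.conj g).toMonoidHom = H) : g ∈ normalizer (H : Set G) := by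
  rw [mem_normalizer_iff]
  intro x
  constructor
  · intro hx
    rw [← h]
    exact ⟨x, hx, by simp [MulAut.conj_apply]⟩
  · intro hx
    rw [← h] at hx
    obtain ⟨w, hw, hwe⟩ := hx
    have : w = x := by
      have h2 : g * w * g⁻¹ = g * x * g⁻¹ := by simpa [MulAut.conj_apply] using hwe
      have h3 := mul_right_cancel h2
      exact mul_left_cancel h3
    rwa [← this]

theorem le_normalizer_of_forall_conj_mem {H K : Subgroup G}
    (h : ∀ m ∈ K, ∀ b ∈ H, m * b * m⁻¹ ∈ H) : K ≤ normalizer (H : Set G) := by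
  intro m hm
  rw [mem_normalizer_iff]
  intro b
  constructor
  · exact h m hm b
  · intro hb
    have := h m⁻¹ (K.inv_mem hm) _ hb
    simpa [mul_assoc] using this

theorem map_conj_le_of_mem_normalizer {H K : Subgroup G} {g : G} (hK : K ≤ H)
    (hg : g ∈ normalizer (H : Set G)) : K.map (MulAut.conj g).toMonoidHom ≤ H := by
  rintro _ ⟨w, hw, rfl⟩
  have := (mem_normalizer_iff.mp hg w).mp (hK hw)
  simpa [MulAut.conj_apply] using this

/-- The key lemma: if `O_q(M) ≠ 1` and `q ∉ σ(M)`, then `q ∈ τ₂(M)` and `O_q(M)` is cyclic. -/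
theorem key (hG : IsMinSimpleOddOrder G) (hU : Cfsg.Agent.Lib.Helper63.BG10.UniqStmt G)
    {M : Subgroup G} (hM : IsCoatom M) (h125 : Stmt125b M) {q : ℕ} [hq : Fact q.Prime]
    (hQ : pCoreOf q M ≠ ⊥) (hσ : q ∉ sigma M) :
    q ∈ tau2 M ∧ IsCyclic ↥(pCoreOf q M) := by
  classical
  have hQM : pCoreOf q M ≤ M := Cfsg.Agent.Lib.Helper23.pCoreOf_le q M
  have hMQ : M ≤ normalizer ((pCoreOf q M : Subgroup G) : Set G) :=
    Cfsg.Agent.Lib.Helper23.le_normalizer_pCoreOf q M
  have hQq : IsPGroup q ↥(pCoreOf q M) := Cfsg.Agent.Lib.Helper23.isPGroup_pCoreOf q M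
  have hQnt : Nontrivial ↥(pCoreOf q M) := (Subgroup.nontrivial_iff_ne_bot _).mpr hQ
  have hqQ : q ∣ Nat.card ↥(pCoreOf q M) := by
    obtain ⟨n, hn0, hn⟩ := hQq.nontrivial_iff_card.mp hQnt
    rw [hn]; exact dvd_pow_self _ (ne_of_gt hn0)
  have hqM : q ∣ Nat.card M := hqQ.trans (Subgroup.card_dvd_of_le hQM)
  have hr2 : PRankLE q 2 M := by
    by_contra h
    exact hσ (Cfsg.Agent.Lib.Helper23.alpha_subset_sigma hG hU hM ⟨hq.out, h⟩)
  let S : Sylow q M := default
  have hQS : pCoreOf q M ≤ (S : Subgroup M).map M.subtype := pCoreOf_le_sylow_map M S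
  have hSgM : (S : Subgroup M).map M.subtype ≤ M := Subgroup.map_subtype_le _
  have hSgq : IsPGroup q ↥((S : Subgroup M).map M.subtype) := S.2.map _
  -- a subgroup of order q in Q
  obtain ⟨x, hx⟩ := exists_prime_orderOf_dvd_card' q hqQ
  have hxo : orderOf (x : G) = q := by rw [Subgroup.orderOf_coe]; exact hx
  -- rank one is impossible
  have hr1 : ¬ PRankLE q 1 M := by
    intro h1
    apply hσ
    have hZ : IsZGroup ↥((S : Subgroup M).map M.subtype) :=
      Cfsg.Agent.Lib.Helper24.BG.isZGroup_of_pRankLE_one hG M _ hSgM (fun r hr hrd => by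
        have : r = q := by
          obtain ⟨n, hn⟩ := IsPGroup.iff_card.mp hSgq
          rw [hn] at hrd
          exact (Nat.prime_dvd_prime_iff_eq hr hq.out).mp (hr.dvd_of_dvd_pow hrd)
        rw [this]; exact h1)
    haveI : Group.IsNilpotent ↥((S : Subgroup M).map M.subtype) := hSgq.isNilpotent
    have hcyc : IsCyclic ↥((S : Subgroup M).map M.subtype) := inferInstance
    have hΩQ : zpowers (x : G) ≤ pCoreOf q M := by
      rw [zpowers_le]; exact x.2
    have hΩcard : Nat.card (zpowers (x : G)) = q := by rw [Nat.card_zpowers, hxo]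
    have hΩne : zpowers (x : G) ≠ ⊥ := by
      intro h
      rw [h, Subgroup.card_bot] at hΩcard
      exact hq.out.one_lt.ne hΩcard
    have hΩS := hΩQ.trans hQS
    have huniq : ∀ g : G, (zpowers (x : G)).map (MulAut.conj g).toMonoidHom ≤
        (S : Subgroup M).map M.subtype →
        (zpowers (x : G)).map (MulAut.conj g).toMonoidHom = zpowers (x : G) :=
      fun g hg => eq_of_card_eq_of_le_cyclic hcyc hg hΩS (card_map_conj _ g)
    have hMΩ : M ≤ normalizer ((zpowers (x : G) : Subgroup G) : Set G) := by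
      intro m hm
      apply mem_normalizer_of_map_conj_eq
      apply huniq
      exact (map_conj_le_of_mem_normalizer hΩQ (hMQ hm)).trans hQS
    have hNΩ := Cfsg.Agent.Lib.Helper23.normalizer_eq_of_isCoatom hG hM hΩne (hΩQ.trans hQM) hMΩ
    have hNS : normalizer ((((S : Subgroup M).map M.subtype : Subgroup G)) : Set G) ≤ M := by
      intro n hn
      apply hNΩ.le
      apply mem_normalizer_of_map_conj_eq
      apply huniq
      exact map_conj_le_of_mem_normalizer hΩS hn
    exact ⟨hq.out, hqM, S, hNS⟩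
  have hτ : q ∈ tau2 M := ⟨hq.out, hσ, hr2, hr1⟩
  refine ⟨hτ, ?_⟩
  by_contra hnc
  obtain ⟨A₀, hA₀M, hA₀e, hA₀c⟩ := Cfsg.Agent.Lib.Helper63.BG10.exists_elemAb_sq_le hr1
  have hSab := (h125 q hτ A₀ ⟨hA₀M, hA₀e, hA₀c⟩ S).1
  have hSgc : ∀ a ∈ (S : Subgroup M).map M.subtype, ∀ b ∈ (S : Subgroup M).map M.subtype,
      a * b = b * a := by
    rintro _ ⟨a, ha, rfl⟩ _ ⟨b, hb, rfl⟩
    have := hSab.is_comm.comm ⟨a, ha⟩ ⟨b, hb⟩
    have h2 : a * b = b * a := congrArg Subtype.val this
    simpa using congrArg M.subtype h2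
  have hQc : ∀ a ∈ pCoreOf q M, ∀ b ∈ pCoreOf q M, a * b = b * a :=
    fun a ha b hb => hSgc a (hQS ha) b (hQS hb)
  -- B = Ω₁(Q)
  let B : Subgroup G :=
    { carrier := {y | y ∈ pCoreOf q M ∧ y ^ q = 1}
      mul_mem' := by
        rintro a b ⟨ha, ha'⟩ ⟨hb, hb'⟩
        refine ⟨mul_mem ha hb, ?_⟩
        rw [(show Commute a b from hQc a ha b hb).mul_pow, ha', hb', one_mul]
      one_mem' := ⟨one_mem _, one_pow _⟩
      inv_mem' := by
        rintro a ⟨ha, ha'⟩
        exact ⟨inv_mem ha, by rw [inv_pow, ha', inv_one]⟩ }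
  have hBmem : ∀ y, y ∈ B ↔ y ∈ pCoreOf q M ∧ y ^ q = 1 := fun y => Iff.rfl
  have hBQ : B ≤ pCoreOf q M := fun y hy => hy.1
  have hBM : B ≤ M := hBQ.trans hQM
  have hBe : IsElementaryAbelian q B :=
    ⟨⟨⟨fun a b => Subtype.ext (hQc a.1 a.2.1 b.1 b.2.1)⟩⟩, fun a ha => ha.2⟩
  have hBq : IsPGroup q ↥B := hQq.to_le hBQ
  have hBle : Nat.card B ≤ q ^ 2 := Cfsg.Agent.Lib.Helper63.BG10.card_le_of_pRankLE hr2 hBM hBe
  have hBlt : q < Nat.card B := by
    by_contra hle
    push Not at hle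
    apply hnc
    letI : CommGroup ↥(pCoreOf q M) :=
      { (inferInstance : Group ↥(pCoreOf q M)) with
        mul_comm := fun a b => Subtype.ext (hQc a.1 a.2 b.1 b.2) }
    refine Cfsg.Agent.Lib.Helper52.isCyclic_of_card_omega_le q _ ↥(pCoreOf q M) rfl hQq ?_
    have e : {y : ↥(pCoreOf q M) // y ^ q = 1} ≃ B :=
      { toFun := fun y => ⟨y.1.1, y.1.2, by
          have := congrArg Subtype.val y.2
          simpa using this⟩
        invFun := fun b => ⟨⟨b.1, b.2.1⟩, Subtype.ext (by simpa using b.2.2)⟩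
        left_inv := fun y => rfl
        right_inv := fun b => rfl }
    rw [Nat.card_congr e]
    exact hle
  have hBc : Nat.card B = q ^ 2 := by
    obtain ⟨k, hk⟩ := IsPGroup.iff_card.mp hBq
    rw [hk] at hBlt hBle ⊢
    have hk1 : 1 < k := by
      by_contra h
      push Not at h
      have : q ^ k ≤ q ^ 1 := Nat.pow_le_pow_right hq.out.pos h
      rw [pow_one] at this
      omega
    have hk2 : k ≤ 2 := by
      by_contra h
      push Not at h
      have : q ^ 3 ≤ q ^ k := Nat.pow_le_pow_right hq.out.pos h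
      have h3 : q ^ 2 < q ^ 3 := Nat.pow_lt_pow_right hq.out.one_lt (by norm_num)
      omega
    have : k = 2 := by omega
    rw [this]
  have hBne : B ≠ ⊥ := by
    intro h
    rw [h, Subgroup.card_bot] at hBc
    have := hq.out.one_lt
    nlinarith
  obtain ⟨hΩ₁, hnot⟩ := (h125 q hτ B ⟨hBM, hBe, hBc⟩ S).2 (hBQ.trans hQS)
  apply hnot
  have hMB : M ≤ normalizer (B : Set G) := by
    apply le_normalizer_of_forall_conj_mem
    intro m hm b hb
    refine ⟨(mem_normalizer_iff.mp (hMQ hm) b).mp hb.1, ?_⟩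
    rw [conj_pow, hb.2, mul_one, mul_inv_cancel]
  have hNB := Cfsg.Agent.Lib.Helper23.normalizer_eq_of_isCoatom hG hM hBne hBM hMB
  refine le_trans ?_ hNB.le
  apply le_normalizer_of_forall_conj_mem
  intro n hn b hb
  have h1 : n * b * n⁻¹ ∈ (S : Subgroup M).map M.subtype :=
    (mem_normalizer_iff.mp hn b).mp (hQS hb.1)
  have h2 : (n * b * n⁻¹) ^ q = 1 := by rw [conj_pow, hb.2, mul_one, mul_inv_cancel]
  exact (hΩ₁ _ h1).mp h2

/-- A subgroup of prime-power order `q ^ k` for the prime `q` which divides `p ^ n`... helper: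
the only prime dividing the order of a `p`-group is `p`. -/
theorem eq_of_prime_dvd_card_pGroup {p r : ℕ} [hp : Fact p.Prime] {Q : Subgroup G}
    (hQ : IsPGroup p ↥Q) (hr : r.Prime) (hrd : r ∣ Nat.card Q) : r = p := by
  obtain ⟨n, hn⟩ := IsPGroup.iff_card.mp hQ
  rw [hn] at hrd
  exact (Nat.prime_dvd_prime_iff_eq hr hp.out).mp (hr.dvd_of_dvd_pow hrd)

/-- `O_p(N) ≤ O_p(M)` for `N ⊴ M`. -/
theorem pCoreOf_le_pCoreOf_of_normal {p : ℕ} [Fact p.Prime] {N M : Subgroup G} (hNM : N ≤ M)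
    (hMN : M ≤ normalizer (N : Set G)) : pCoreOf p N ≤ pCoreOf p M :=
  Cfsg.Agent.Lib.Helper47.le_pCoreOf ((Cfsg.Agent.Lib.Helper23.pCoreOf_le p N).trans hNM)
    (hMN.trans (Cfsg.Agent.Lib.Helper47.normalizer_le_normalizer_pCoreOf p N))
    (Cfsg.Agent.Lib.Helper23.isPGroup_pCoreOf p N)

/-- The main theorem, from the Uniqueness Theorem and conclusion (b) of BG 12.5. -/
theorem main (hG : IsMinSimpleOddOrder G) (hU : Cfsg.Agent.Lib.Helper63.BG10.UniqStmt G)
    {M : Subgroup G} (hM : IsCoatom M) (h125 : Stmt125b M) :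
    IsCyclic ↥(piCoreOf {q | q.Prime ∧ q ∉ sigma M} (fittingOf M)) ∧
      (∀ p : ℕ, p.Prime →
        p ∣ Nat.card ↥(piCoreOf {q | q.Prime ∧ q ∉ sigma M} (fittingOf M)) → p ∈ tau2 M) ∧
      fittingOf M = fittingOf (sigmaCore M) ⊔
        piCoreOf {q | q.Prime ∧ q ∉ sigma M} (fittingOf M) := by
  classical
  have hYF : piCoreOf {q | q.Prime ∧ q ∉ sigma M} (fittingOf M) ≤ fittingOf M :=
    Cfsg.Agent.Lib.Helper32.piCoreOf_le _ _
  have hFM : fittingOf M ≤ M := Cfsg.Agent.Lib.Helper23.fittingOf_le M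
  have hYpi : IsPi {q | q.Prime ∧ q ∉ sigma M}
      (piCoreOf {q | q.Prime ∧ q ∉ sigma M} (fittingOf M)) :=
    Cfsg.Agent.Lib.Helper32.isPi_piCoreOf _ _
  have h2 : ∀ p : ℕ, p.Prime →
      p ∣ Nat.card ↥(piCoreOf {q | q.Prime ∧ q ∉ sigma M} (fittingOf M)) →
      p ∈ tau2 M ∧ IsCyclic ↥(pCoreOf p M) := by
    intro p hp hpd
    haveI : Fact p.Prime := ⟨hp⟩
    have hpF : p ∣ Nat.card (fittingOf M) := hpd.trans (Subgroup.card_dvd_of_le hYF)
    exact key hG hU hM h125 (Cfsg.Agent.Lib.Helper23.pCoreOf_ne_bot_of_dvd hpF) (hYpi p hp hpd).2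
  refine ⟨?_, fun p hp hpd => (h2 p hp hpd).1, ?_⟩
  · -- cyclic
    set Y := piCoreOf {q | q.Prime ∧ q ∉ sigma M} (fittingOf M) with hY
    haveI hFnil : Group.IsNilpotent ↥(fittingOf M) :=
      Cfsg.Agent.Lib.Helper23.isNilpotent_fittingOf M
    haveI hYnil : Group.IsNilpotent ↥Y :=
      (Group.isNilpotent_congr (Subgroup.subgroupOfEquivOfLe hYF)).mp inferInstance
    haveI hYZ : IsZGroup ↥Y := by
      refine ⟨fun p hp P => ?_⟩
      haveI : Fact p.Prime := ⟨hp⟩
      by_cases hpd : p ∣ Nat.card ↥Y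
      · have hc := (h2 p hp hpd).2
        have hle : (P : Subgroup ↥Y).map Y.subtype ≤ pCoreOf p M := by
          rintro _ ⟨x, hx, rfl⟩
          obtain ⟨k, hk⟩ := P.2 ⟨x, hx⟩
          have hk' : (x : G) ^ (p ^ k) = 1 := by
            have := congrArg Subtype.val (congrArg Subtype.val hk)
            simpa using this
          exact Cfsg.Agent.Lib.Helper23.mem_pCoreOf_of_mem_fittingOf (hYF x.2) hk'
        have h3 : IsCyclic ↥((P : Subgroup ↥Y).map Y.subtype) :=
          Subgroup.isCyclic_of_le hle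
        exact (MulEquiv.isCyclic
          ((P : Subgroup ↥Y).equivMapOfInjective Y.subtype Y.subtype_injective)).mpr h3
      · have hcard : Nat.card (P : Subgroup ↥Y) = 1 := by
          obtain ⟨n, hn⟩ := IsPGroup.iff_card.mp P.2
          have hdvd : Nat.card (P : Subgroup ↥Y) ∣ Nat.card ↥Y := Subgroup.card_subgroup_dvd_card _
          rcases Nat.eq_zero_or_pos n with h0 | h0
          · rw [hn, h0, pow_zero]
          · exfalso
            apply hpd
            refine dvd_trans ?_ hdvd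
            rw [hn]
            exact dvd_pow_self _ (ne_of_gt h0)
        haveI : Subsingleton ↥(P : Subgroup ↥Y) :=
          (Nat.card_eq_one_iff_unique.mp hcard).1
        exact isCyclic_of_subsingleton
    infer_instance
  · apply le_antisymm
    · apply Cfsg.Agent.Lib.Helper23.fittingOf_le_of_pCoreOf_le
      intro p _
      have hpM : pCoreOf p M ≤ M := Cfsg.Agent.Lib.Helper23.pCoreOf_le p M
      have hMp : M ≤ normalizer ((pCoreOf p M : Subgroup G) : Set G) :=
        Cfsg.Agent.Lib.Helper23.le_normalizer_pCoreOf p M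
      have hpp : IsPGroup p ↥(pCoreOf p M) := Cfsg.Agent.Lib.Helper23.isPGroup_pCoreOf p M
      by_cases hpσ : p ∈ sigma M
      · have h1 : pCoreOf p M ≤ sigmaCore M :=
          Cfsg.Agent.Lib.Helper32.le_piCoreOf (π := sigma M) hpM hMp (fun r hr hrd => by
            rw [eq_of_prime_dvd_card_pGroup hpp hr hrd]; exact hpσ)
        have hsM : sigmaCore M ≤ M := Cfsg.Agent.Lib.Helper32.piCoreOf_le (sigma M) M
        have h3 : pCoreOf p M ≤ pCoreOf p (sigmaCore M) :=
          Cfsg.Agent.Lib.Helper47.le_pCoreOf h1 (hsM.trans hMp) hpp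
        exact (h3.trans (Cfsg.Agent.Lib.Helper23.pCoreOf_le_fittingOf p (sigmaCore M))).trans
          le_sup_left
      · have h1 : pCoreOf p M ≤ piCoreOf {q | q.Prime ∧ q ∉ sigma M} (fittingOf M) :=
          Cfsg.Agent.Lib.Helper32.le_piCoreOf
            (Cfsg.Agent.Lib.Helper23.pCoreOf_le_fittingOf p M) (hFM.trans hMp)
            (fun r hr hrd => by
              rw [eq_of_prime_dvd_card_pGroup hpp hr hrd]; exact ⟨Fact.out, hpσ⟩)
        exact h1.trans le_sup_right
    · refine sup_le ?_ hYF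
      apply Cfsg.Agent.Lib.Helper23.fittingOf_le_of_pCoreOf_le
      intro p _
      have hsM : sigmaCore M ≤ M := Cfsg.Agent.Lib.Helper32.piCoreOf_le (sigma M) M
      exact (pCoreOf_le_pCoreOf_of_normal hsM
        (Cfsg.Agent.Lib.Helper24.BG.le_normalizer_sigmaCore M)).trans
        (Cfsg.Agent.Lib.Helper23.pCoreOf_le_fittingOf p M)

end Cfsg.Agent.Lib.Helper70.BG158
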