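import Mathlib
import Cfsg.Agent.Lib.Helper6.Nc.Defs

set_option autoImplicit false

namespace Cfsg.Agent.Lib.Helper6.Nc

open Matrix

variable {F : Type*} [Field F]

/-- NC-MERGE.  In a minimal cover no two distinct members lie in a common "proper" subgroup `M`
(replace them by `M`: one member fewer). -/
theorem nc_merge {n : ℕ} {Gh : Subgroup (GL (Fin n) F)} {AA : Finset (Subgroup (GL (Fin n) F))}
    (h : MinNilCover Gh AA) (A₁ A₂ M : Subgroup (GL (Fin n) F)) (h₁ : A₁ ∈ AA) (h₂ : A₂ ∈ AA)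
    (hne : A₁ ≠ A₂) (hZM : Subgroup.center (GL (Fin n) F) ≤ M) (hM : ¬ Gh ≤ M)
    (h₁M : A₁ ≤ M) (h₂M : A₂ ≤ M) : False := by
  classical
  have hsub : ∀ A ∈ (AA.erase A₁).erase A₂, A ∈ AA := fun A hA =>
    Finset.mem_of_mem_erase (Finset.mem_of_mem_erase hA)
  have hcov : UpCover Gh (insert M ((AA.erase A₁).erase A₂)) := by
    refine ⟨?_, ?_, ?_⟩
    · intro A hA
      rcases Finset.mem_insert.mp hA with rfl | hA
      · exact hZM
      · exact h.cover.center_le A (hsub A hA)
    · intro A hA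
      rcases Finset.mem_insert.mp hA with rfl | hA
      · exact hM
      · exact h.cover.proper A (hsub A hA)
    · intro g hg
      obtain ⟨A, hA, hgA⟩ := h.cover.covers g hg
      by_cases e1 : A = A₁
      · exact ⟨M, Finset.mem_insert_self _ _, h₁M (e1 ▸ hgA)⟩
      by_cases e2 : A = A₂
      · exact ⟨M, Finset.mem_insert_self _ _, h₂M (e2 ▸ hgA)⟩
      exact ⟨A, Finset.mem_insert_of_mem
        (Finset.mem_erase.mpr ⟨e2, Finset.mem_erase.mpr ⟨e1, hA⟩⟩), hgA⟩
  have hmin := h.minimal _ hcov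
  have hc1 : ((AA.erase A₁).erase A₂).card = AA.card - 1 - 1 := by
    rw [Finset.card_erase_of_mem (Finset.mem_erase.mpr ⟨hne.symm, h₂⟩),
      Finset.card_erase_of_mem h₁]
  have hc2 : (insert M ((AA.erase A₁).erase A₂)).card ≤ ((AA.erase A₁).erase A₂).card + 1 :=
    Finset.card_insert_le _ _
  have hc3 : 2 ≤ AA.card := by
    have hss : ({A₁, A₂} : Finset (Subgroup (GL (Fin n) F))) ⊆ AA := by
      intro x hx
      rcases Finset.mem_insert.mp hx with rfl | hx
      · exact h₁
      · rw [Finset.mem_singleton] at hx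
        rw [hx]; exact h₂
    have hle := Finset.card_le_card hss
    rw [Finset.card_pair hne] at hle
    exact hle
  omega

end Cfsg.Agent.Lib.Helper6.Nc
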