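import Mathlib
import Cfsg.Agent.Lib.Helper6.Nc.Defs

set_option autoImplicit false

namespace Cfsg.Agent.Lib.Helper6.Nc

open Matrix

variable {F : Type*} [Field F]

/-- NC-TRANSFER.  `A ↦ (A.map G.subtype).comap mk'`; nilpotent by `isNilpotent_of_ker_le_center`;
a competitor `BB` upstairs gives the competitor `BB.image (fun B => (B.map mk').subgroupOf G)`
downstairs (`card_image_le`). -/
theorem nc_transfer {n : ℕ} (G : Subgroup (GL (Fin n) F ⧸ Subgroup.center (GL (Fin n) F)))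
    (𝓐 : Finset (Subgroup ↥G))
    (hcov : (∀ A ∈ 𝓐, A ≠ ⊤) ∧ (∀ g : ↥G, ∃ A ∈ 𝓐, g ∈ A))
    (hmin : ∀ 𝓑 : Finset (Subgroup ↥G), (∀ A ∈ 𝓑, A ≠ ⊤) ∧ (∀ g : ↥G, ∃ A ∈ 𝓑, g ∈ A) →
      𝓐.card ≤ 𝓑.card)
    (hnil : ∀ A ∈ 𝓐, Group.IsNilpotent ↥A) :
    ∃ AA : Finset (Subgroup (GL (Fin n) F)),
      MinNilCover (G.comap (QuotientGroup.mk' (Subgroup.center (GL (Fin n) F)))) AA := by
  classical
  have hπs : Function.Surjective (QuotientGroup.mk' (Subgroup.center (GL (Fin n) F))) :=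
    QuotientGroup.mk'_surjective _
  have hker : ∀ x : GL (Fin n) F,
      QuotientGroup.mk' (Subgroup.center (GL (Fin n) F)) x = 1 ↔
        x ∈ Subgroup.center (GL (Fin n) F) := fun x => by
    rw [QuotientGroup.mk'_apply, QuotientGroup.eq_one_iff]
  let Φ : Subgroup ↥G → Subgroup (GL (Fin n) F) := fun A =>
    (A.map G.subtype).comap (QuotientGroup.mk' (Subgroup.center (GL (Fin n) F)))
  have hΦmem : ∀ (A : Subgroup ↥G) (x : GL (Fin n) F), x ∈ Φ A ↔
      ∃ hx : QuotientGroup.mk' (Subgroup.center (GL (Fin n) F)) x ∈ G,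
        (⟨QuotientGroup.mk' (Subgroup.center (GL (Fin n) F)) x, hx⟩ : ↥G) ∈ A := by
    intro A x
    constructor
    · rintro ⟨y, hy, hyx⟩
      have hxG : QuotientGroup.mk' (Subgroup.center (GL (Fin n) F)) x ∈ G := by
        rw [← hyx]; exact y.2
      refine ⟨hxG, ?_⟩
      have he : (⟨QuotientGroup.mk' (Subgroup.center (GL (Fin n) F)) x, hxG⟩ : ↥G) = y :=
        Subtype.ext hyx.symm
      rw [he]; exact hy
    · rintro ⟨hx, hxA⟩
      exact ⟨⟨_, hx⟩, hxA, rfl⟩
  refine ⟨𝓐.image Φ, ?_⟩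
  refine ⟨⟨?_, ?_, ?_⟩, ?_, ?_, ?_⟩
  · -- center_le
    intro A' hA'
    obtain ⟨A, _, rfl⟩ := Finset.mem_image.mp hA'
    intro z hz
    have e := (hker z).mpr hz
    refine (hΦmem A z).mpr ⟨by rw [e]; exact G.one_mem, ?_⟩
    have he : ∀ h, (⟨QuotientGroup.mk' (Subgroup.center (GL (Fin n) F)) z, h⟩ : ↥G) = 1 :=
      fun h => Subtype.ext e
    rw [he]; exact A.one_mem
  · -- proper
    intro A' hA'
    obtain ⟨A, hA, rfl⟩ := Finset.mem_image.mp hA'
    intro hle
    apply hcov.1 A hA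
    rw [eq_top_iff]
    intro g _
    obtain ⟨x, hx⟩ := hπs g.1
    have hxG : x ∈ G.comap (QuotientGroup.mk' (Subgroup.center (GL (Fin n) F))) := by
      rw [Subgroup.mem_comap, hx]; exact g.2
    obtain ⟨h1, h2⟩ := (hΦmem A x).mp (hle hxG)
    have he : (⟨QuotientGroup.mk' (Subgroup.center (GL (Fin n) F)) x, h1⟩ : ↥G) = g :=
      Subtype.ext hx
    rw [he] at h2; exact h2
  · -- covers
    intro x hx
    obtain ⟨A, hA, hgA⟩ := hcov.2 ⟨_, Subgroup.mem_comap.mp hx⟩
    exact ⟨Φ A, Finset.mem_image_of_mem _ hA, (hΦmem A x).mpr ⟨_, hgA⟩⟩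
  · -- le
    intro A' hA'
    obtain ⟨A, _, rfl⟩ := Finset.mem_image.mp hA'
    intro x hx
    obtain ⟨h1, _⟩ := (hΦmem A x).mp hx
    exact Subgroup.mem_comap.mpr h1
  · -- minimal
    intro BB hBB
    let Ψ : Subgroup (GL (Fin n) F) → Subgroup ↥G := fun B =>
      (B.map (QuotientGroup.mk' (Subgroup.center (GL (Fin n) F)))).subgroupOf G
    have h𝓑 : (∀ A ∈ BB.image Ψ, A ≠ ⊤) ∧ (∀ g : ↥G, ∃ A ∈ BB.image Ψ, g ∈ A) := by
      constructor
      · intro B' hB'
        obtain ⟨B, hB, rfl⟩ := Finset.mem_image.mp hB'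
        intro htop
        apply hBB.proper B hB
        intro x hx
        have hx' := Subgroup.mem_comap.mp hx
        have hm : (⟨_, hx'⟩ : ↥G) ∈ Ψ B := by rw [htop]; exact Subgroup.mem_top _
        rw [Subgroup.mem_subgroupOf] at hm
        obtain ⟨b, hb, hbx⟩ := hm
        have hz : x * b⁻¹ ∈ Subgroup.center (GL (Fin n) F) := by
          rw [← hker, map_mul, map_inv, hbx]
          exact mul_inv_cancel _
        have hzB := hBB.center_le B hB hz
        have := B.mul_mem hzB hb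
        rw [inv_mul_cancel_right] at this
        exact this
      · intro g
        obtain ⟨x, hx⟩ := hπs g.1
        have hxG : x ∈ G.comap (QuotientGroup.mk' (Subgroup.center (GL (Fin n) F))) := by
          rw [Subgroup.mem_comap, hx]; exact g.2
        obtain ⟨B, hB, hxB⟩ := hBB.covers x hxG
        refine ⟨Ψ B, Finset.mem_image_of_mem _ hB, ?_⟩
        rw [Subgroup.mem_subgroupOf]
        exact ⟨x, hxB, hx⟩
    calc (𝓐.image Φ).card ≤ 𝓐.card := Finset.card_image_le
      _ ≤ (BB.image Ψ).card := hmin _ h𝓑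
      _ ≤ BB.card := Finset.card_image_le
  · -- nilpotent
    intro A' hA'
    obtain ⟨A, hA, rfl⟩ := Finset.mem_image.mp hA'
    have := hnil A hA
    have e : ↥A ≃* ↥(A.map G.subtype) := A.equivMapOfInjective G.subtype G.subtype_injective
    have : Group.IsNilpotent ↥(A.map G.subtype) := Group.nilpotent_of_mulEquiv e
    refine Subgroup.isNilpotent_of_ker_le_center
      ((QuotientGroup.mk' (Subgroup.center (GL (Fin n) F))).subgroupComap (A.map G.subtype)) ?_
    intro x hx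
    rw [MonoidHom.mem_ker] at hx
    have h1 : QuotientGroup.mk' (Subgroup.center (GL (Fin n) F)) x.1 = 1 :=
      congrArg Subtype.val hx
    have hz := (hker x.1).mp h1
    rw [Subgroup.mem_center_iff]
    intro y
    apply Subtype.ext
    exact (Subgroup.mem_center_iff.mp hz) y.1

end Cfsg.Agent.Lib.Helper6.Nc
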