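import Cfsg.Agent.Lib.Helper12.D3Defs
import Cfsg.Agent.Lib.Helper65.D4gCOMM

set_option autoImplicit false

namespace Cfsg.Agent.Lib.Helper12.D3

open Cfsg Cfsg.Lie Cfsg.Agent.Lib.Helper36 Cfsg.Agent.Lib.Helper75.D4g

variable (K : Type*) [Field K] (φ : K →+* K)

/-- abstract group computation behind D3-C3AB -/
theorem d3c3ab_abs {G : Type*} [Group G] (X A B Z E : G) (hXA : X * A = A * X * Z)
    (hXB : X * B = B * X) (hXZ : X * Z = Z * X) (hXE : X * E = E * X) (hZB : Z * B = B * Z) :
    X * (A * (B * E)) * X⁻¹ = A * (B * (Z * E)) := by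
  have h : X * (A * (B * E)) = A * (B * (Z * E)) * X := by
    calc X * (A * (B * E)) = (X * A) * (B * E) := by simp only [mul_assoc]
      _ = A * X * Z * (B * E) := by rw [hXA]
      _ = A * (X * ((Z * B) * E)) := by simp only [mul_assoc]
      _ = A * (X * ((B * Z) * E)) := by rw [hZB]
      _ = A * ((X * B) * (Z * E)) := by simp only [mul_assoc]
      _ = A * ((B * X) * (Z * E)) := by rw [hXB]
      _ = A * (B * ((X * Z) * E)) := by simp only [mul_assoc]
      _ = A * (B * ((Z * X) * E)) := by rw [hXZ]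
      _ = A * (B * (Z * (X * E))) := by simp only [mul_assoc]
      _ = A * (B * (Z * (E * X))) := by rw [hXE]
      _ = A * (B * (Z * E)) * X := by simp only [mul_assoc]
  rw [h, mul_inv_cancel_right]

/-- D3-C3AB : conjugation by `x_{3a+b}(δ)` -/
theorem conj_3ab [CharP K 2] (δ t c e : K) :
    xg K 22 δ * V K φ t 0 c 0 e * (xg K 22 δ)⁻¹ = V K φ t 0 c 0 (e + δ * t) := by
  have h14 : xg K 22 δ * xg K 14 t = xg K 14 t * xg K 22 δ * xg K 23 (δ * t) := by
    have h := d4gcomm_single (K := K) 14 22 23 1 (by decide +kernel) (by decide +kernel)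
      (by decide) (by decide +kernel) (by decide +kernel) t δ
    rw [h]
    congr 2
    rw [CharTwo.neg_eq]
    push_cast
    ring
  have n21 : ∀ a b : K, xg K 22 a * xg K 21 b = xg K 21 b * xg K 22 a := fun a b =>
    d4gcomm_nil 22 21 (by decide +kernel) (by decide +kernel) (by decide) (by decide +kernel)
      (by decide +kernel) a b
  have n17 : ∀ a b : K, xg K 22 a * xg K 17 b = xg K 17 b * xg K 22 a := fun a b =>
    d4gcomm_nil 22 17 (by decide +kernel) (by decide +kernel) (by decide) (by decide +kernel)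
      (by decide +kernel) a b
  have n20 : ∀ a b : K, xg K 22 a * xg K 20 b = xg K 20 b * xg K 22 a := fun a b =>
    d4gcomm_nil 22 20 (by decide +kernel) (by decide +kernel) (by decide) (by decide +kernel)
      (by decide +kernel) a b
  have n23 : ∀ a b : K, xg K 22 a * xg K 23 b = xg K 23 b * xg K 22 a := fun a b =>
    d4gcomm_nil 22 23 (by decide +kernel) (by decide +kernel) (by decide) (by decide +kernel)
      (by decide +kernel) a b
  have z21 : ∀ a b : K, xg K 23 a * xg K 21 b = xg K 21 b * xg K 23 a := fun a b =>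
    d4gcomm_nil 23 21 (by decide +kernel) (by decide +kernel) (by decide) (by decide +kernel)
      (by decide +kernel) a b
  have z17 : ∀ a b : K, xg K 23 a * xg K 17 b = xg K 17 b * xg K 23 a := fun a b =>
    d4gcomm_nil 23 17 (by decide +kernel) (by decide +kernel) (by decide) (by decide +kernel)
      (by decide +kernel) a b
  have z20 : ∀ a b : K, xg K 23 a * xg K 20 b = xg K 20 b * xg K 23 a := fun a b =>
    d4gcomm_nil 23 20 (by decide +kernel) (by decide +kernel) (by decide) (by decide +kernel)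
      (by decide +kernel) a b
  have hXB : xg K 22 δ * x2ab K φ c = x2ab K φ c * xg K 22 δ := by
    unfold x2ab
    calc xg K 22 δ * (xg K 21 c * xg K 17 (φ c) * xg K 20 (φ (φ c)))
        = (xg K 22 δ * xg K 21 c) * xg K 17 (φ c) * xg K 20 (φ (φ c)) := by simp only [mul_assoc]
      _ = xg K 21 c * (xg K 22 δ * xg K 17 (φ c)) * xg K 20 (φ (φ c)) := by
          rw [n21]; simp only [mul_assoc]
      _ = xg K 21 c * xg K 17 (φ c) * (xg K 22 δ * xg K 20 (φ (φ c))) := by
          rw [n17]; simp only [mul_assoc]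
      _ = xg K 21 c * xg K 17 (φ c) * xg K 20 (φ (φ c)) * xg K 22 δ := by
          rw [n20]; simp only [mul_assoc]
  have hZB : xg K 23 (δ * t) * x2ab K φ c = x2ab K φ c * xg K 23 (δ * t) := by
    unfold x2ab
    calc xg K 23 (δ * t) * (xg K 21 c * xg K 17 (φ c) * xg K 20 (φ (φ c)))
        = (xg K 23 (δ * t) * xg K 21 c) * xg K 17 (φ c) * xg K 20 (φ (φ c)) := by
          simp only [mul_assoc]
      _ = xg K 21 c * (xg K 23 (δ * t) * xg K 17 (φ c)) * xg K 20 (φ (φ c)) := by
          rw [z21]; simp only [mul_assoc]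
      _ = xg K 21 c * xg K 17 (φ c) * (xg K 23 (δ * t) * xg K 20 (φ (φ c))) := by
          rw [z17]; simp only [mul_assoc]
      _ = xg K 21 c * xg K 17 (φ c) * xg K 20 (φ (φ c)) * xg K 23 (δ * t) := by
          rw [z20]; simp only [mul_assoc]
  have hV : ∀ e' : K, V K φ t 0 c 0 e' = xg K 14 t * (x2ab K φ c * xg K 23 e') := by
    intro e'
    unfold V T xab
    simp only [map_zero, xGL_zero, mul_one]
  rw [hV, hV, d3c3ab_abs (xg K 22 δ) (xg K 14 t) (x2ab K φ c) (xg K 23 (δ * t)) (xg K 23 e)
    h14 hXB (n23 _ _) (n23 _ _) hZB, ← xGL_add, add_comm]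

end Cfsg.Agent.Lib.Helper12.D3
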