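import Mathlib
import Cfsg.Agent.S2429

/-!
Rt hive (helper12), leaf RT-SL2NS: in `SL₂(q)`, `q` odd, an element of odd prime order `p ∣ q + 1`
has cyclic centraliser of order `q + 1`.
-/

set_option autoImplicit false

namespace Cfsg.Agent.Lib.Helper12.Rt

open Matrix

/-- a `2 × 2` matrix of determinant one fixing a nonzero vector has trace two -/
theorem sl2ns_trace {K : Type*} [Field K] (M : Matrix (Fin 2) (Fin 2) K) (hdet : M.det = 1)
    (v : Fin 2 → K) (hv : v ≠ 0) (hMv : M.mulVec v = v) : M 0 0 + M 1 1 = 2 := by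
  have e0 := congrFun hMv 0
  have e1 := congrFun hMv 1
  simp only [Matrix.mulVec, dotProduct, Fin.sum_univ_two] at e0 e1
  rw [Matrix.det_fin_two] at hdet
  have hx : ((M 0 0 - 1) * (M 1 1 - 1) - M 0 1 * M 1 0) * v 0 = 0 := by
    linear_combination (M 1 1 - 1) * e0 - M 0 1 * e1
  have hy : ((M 0 0 - 1) * (M 1 1 - 1) - M 0 1 * M 1 0) * v 1 = 0 := by
    linear_combination (M 0 0 - 1) * e1 - M 1 0 * e0
  have hd : (M 0 0 - 1) * (M 1 1 - 1) - M 0 1 * M 1 0 = 0 := by
    by_contra hne
    have h0 : v 0 = 0 := (mul_eq_zero.mp hx).resolve_left hne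
    have h1 : v 1 = 0 := (mul_eq_zero.mp hy).resolve_left hne
    apply hv
    funext i
    fin_cases i
    · exact h0
    · exact h1
  linear_combination hdet - hd

/-- a `2 × 2` matrix of determinant one and trace two is unipotent: `(M - 1) ^ 2 = 0` -/
theorem sl2ns_sq {K : Type*} [Field K] (M : Matrix (Fin 2) (Fin 2) K) (hdet : M.det = 1)
    (htr : M 0 0 + M 1 1 = 2) : (M - 1) * (M - 1) = 0 := by
  rw [Matrix.det_fin_two] at hdet
  ext i j
  fin_cases i <;> fin_cases j
  · simp [Matrix.mul_apply, Fin.sum_univ_two]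
    linear_combination (-1 : K) * hdet + M 0 0 * htr
  · simp [Matrix.mul_apply, Fin.sum_univ_two]
    linear_combination M 0 1 * htr
  · simp [Matrix.mul_apply, Fin.sum_univ_two]
    linear_combination M 1 0 * htr
  · simp [Matrix.mul_apply, Fin.sum_univ_two]
    linear_combination (-1 : K) * hdet + M 1 1 * htr

theorem sl2ns_pow {K : Type*} [Field K] (M : Matrix (Fin 2) (Fin 2) K)
    (hsq : (M - 1) * (M - 1) = 0) (k : ℕ) : M ^ k = 1 + (k : K) • (M - 1) := by
  induction k with
  | zero => simp
  | succ k ih =>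
    have hM : M = 1 + (M - 1) := by abel
    rw [pow_succ, ih]
    nth_rewrite 2 [hM]
    rw [add_mul, mul_add, mul_add, one_mul, one_mul, mul_one, Matrix.smul_mul, hsq, smul_zero, add_zero]
    push_cast
    rw [add_smul, one_smul]
    abel

/-- an element of `SL₂(K)` fixing a nonzero vector has order dividing `|K|` -/
theorem sl2ns_pow_card {K : Type*} [Field K] [Fintype K] (g : Matrix.SpecialLinearGroup (Fin 2) K)
    (v : Fin 2 → K) (hv : v ≠ 0) (hgv : (g : Matrix (Fin 2) (Fin 2) K).mulVec v = v) :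
    g ^ Fintype.card K = 1 := by
  apply Subtype.ext
  rw [Matrix.SpecialLinearGroup.coe_pow, Matrix.SpecialLinearGroup.coe_one]
  have htr := sl2ns_trace g.1 g.2 v hv hgv
  have hsq := sl2ns_sq g.1 g.2 htr
  have := sl2ns_pow g.1 hsq (Fintype.card K)
  rw [FiniteField.cast_card_eq_zero, zero_smul, add_zero] at this
  exact this

/-- RT-SL2NS. In `SL₂(K)`, `|K| = q` odd, an element `g` of odd prime order `p ∣ q + 1` has cyclic centraliser of order
`q + 1`. -/
theorem sl2_cent_nonsplit {K : Type*} [Field K] [Fintype K] (hodd : Odd (Fintype.card K))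
    (p : ℕ) (hp : p.Prime) (hp2 : p ≠ 2) (hpq : p ∣ Fintype.card K + 1)
    (g : Matrix.SpecialLinearGroup (Fin 2) K) (hg : orderOf g = p) :
    IsCyclic ↥(Subgroup.centralizer ({g} : Set (Matrix.SpecialLinearGroup (Fin 2) K))) ∧
      Nat.card ↥(Subgroup.centralizer ({g} : Set (Matrix.SpecialLinearGroup (Fin 2) K))) = Fintype.card K + 1 := by
  classical
  have hq2 : 2 ≤ Fintype.card K := Fintype.one_lt_card
  have hpnq : ¬ p ∣ Fintype.card K := by
    intro h
    have : p ∣ 1 := (Nat.dvd_add_right h).mp hpq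
    exact hp.one_lt.ne' (Nat.dvd_one.mp this)
  have hpnq1 : ¬ p ∣ Fintype.card K - 1 := by
    intro h
    have h3 : p ∣ (Fintype.card K + 1) - (Fintype.card K - 1) := Nat.dvd_sub hpq h
    have h4 : (Fintype.card K + 1) - (Fintype.card K - 1) = 2 := by omega
    rw [h4] at h3
    exact hp2 ((Nat.prime_dvd_prime_iff_eq hp Nat.prime_two).mp h3)
  have hgp : g ^ p = 1 := by rw [← hg]; exact pow_orderOf_eq_one g
  -- no eigenvector
  have hnoeig : ∀ (c : K) (v : Fin 2 → K), v ≠ 0 →
      (g : Matrix (Fin 2) (Fin 2) K).mulVec v ≠ c • v := by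
    intro c v hv hgv
    have hpow : ∀ k : ℕ, ((g ^ k : Matrix.SpecialLinearGroup (Fin 2) K) :
        Matrix (Fin 2) (Fin 2) K).mulVec v = c ^ k • v := by
      intro k
      induction k with
      | zero => simp
      | succ k ih =>
        rw [pow_succ, Matrix.SpecialLinearGroup.coe_mul, ← Matrix.mulVec_mulVec, hgv,
          Matrix.mulVec_smul, ih, smul_smul, pow_succ, mul_comm]
    have hcp : c ^ p = 1 := by
      have h1 := hpow p
      rw [hgp, Matrix.SpecialLinearGroup.coe_one, Matrix.one_mulVec] at h1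
      obtain ⟨i, hi⟩ : ∃ i, v i ≠ 0 := by
        by_contra hall
        apply hv
        funext i
        by_contra hi
        exact hall ⟨i, hi⟩
      have h2 := congrFun h1 i
      simp only [Pi.smul_apply, smul_eq_mul] at h2
      have h3 : (c ^ p - 1) * v i = 0 := by linear_combination -h2
      have := (mul_eq_zero.mp h3).resolve_right hi
      linear_combination this
    have hc0 : c ≠ 0 := by
      intro h0
      rw [h0, zero_pow hp.ne_zero] at hcp
      exact zero_ne_one hcp
    have hcq : c ^ (Fintype.card K - 1) = 1 := FiniteField.pow_card_sub_one_eq_one c hc0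
    have hc1 : c = 1 := by
      have hcop : Nat.Coprime p (Fintype.card K - 1) := (Nat.Prime.coprime_iff_not_dvd hp).mpr hpnq1
      have h1 : orderOf c ∣ p := orderOf_dvd_of_pow_eq_one hcp
      have h2 : orderOf c ∣ Fintype.card K - 1 := orderOf_dvd_of_pow_eq_one hcq
      have h3 : orderOf c ∣ 1 := by
        have := Nat.dvd_gcd h1 h2
        rwa [hcop.gcd_eq_one] at this
      exact orderOf_eq_one_iff.mp (Nat.dvd_one.mp h3)
    rw [hc1, one_smul] at hgv
    have hgq := sl2ns_pow_card g v hv hgv
    have : p ∣ Fintype.card K := by rw [← hg]; exact orderOf_dvd_of_pow_eq_one hgq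
    exact hpnq this
  obtain ⟨T', hcyc, hcard, -, hcentelt, hconj, -, -, -⟩ := Cfsg.Agent.S2429.result hodd (F := K)
  obtain ⟨h, hh⟩ := hconj g hnoeig
  set g' := h * g * h⁻¹ with hg'
  have horder : orderOf g' = p := by
    have := (MulAut.conj h).orderOf_eq g
    rw [MulAut.conj_apply] at this
    rw [hg', this, hg]
  have hne1 : (g' : Matrix (Fin 2) (Fin 2) K) ≠ 1 := by
    intro h1
    have : g' = 1 := Subtype.ext h1
    rw [this, orderOf_one] at horder
    exact hp.one_lt.ne horder
  have hneg1 : (g' : Matrix (Fin 2) (Fin 2) K) ≠ -1 := by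
    intro h1
    have h2 : g' ^ 2 = 1 := by
      apply Subtype.ext
      rw [Matrix.SpecialLinearGroup.coe_pow, h1, Matrix.SpecialLinearGroup.coe_one]
      simp
    have : p ∣ 2 := by rw [← horder]; exact orderOf_dvd_of_pow_eq_one h2
    exact hp2 ((Nat.prime_dvd_prime_iff_eq hp Nat.prime_two).mp this)
  have hcent : Subgroup.centralizer ({g'} : Set (Matrix.SpecialLinearGroup (Fin 2) K)) = T' :=
    hcentelt g' hh hne1 hneg1
  -- transport the centraliser along conjugation by `h`
  have hmap : (Subgroup.centralizer ({g} : Set (Matrix.SpecialLinearGroup (Fin 2) K))).map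
      (MulAut.conj h).toMonoidHom = T' := by
    rw [← hcent]
    ext y
    rw [Subgroup.mem_map_equiv, Subgroup.mem_centralizer_singleton_iff,
      Subgroup.mem_centralizer_singleton_iff, MulAut.conj_symm_apply, hg']
    constructor
    · intro hy
      have : y * (h * g * h⁻¹) = h * ((h⁻¹ * y * h) * g) * h⁻¹ := by group
      rw [this, hy]
      group
    · intro hy
      have : h⁻¹ * y * h * g = h⁻¹ * (y * (h * g * h⁻¹)) * h := by group
      rw [this, hy]
      group
  have e : ↥(Subgroup.centralizer ({g} : Set (Matrix.SpecialLinearGroup (Fin 2) K))) ≃* ↥T' :=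
    (Subgroup.equivMapOfInjective _ _ (MulAut.conj h).injective).trans (MulEquiv.subgroupCongr hmap)
  have : IsCyclic ↥T' := hcyc
  refine ⟨isCyclic_of_surjective e.symm.toMonoidHom e.symm.surjective, ?_⟩
  rw [Nat.card_congr e.toEquiv, hcard]

end Cfsg.Agent.Lib.Helper12.Rt
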