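import Cfsg.Agent.Lib.Helper15.HsBasic

set_option autoImplicit false

/-!
# Hs hive (helper15, S2536): leaf HS-STAB

`hall_stabilizer`: the point stabilizer of a transitive Hall subgroup of `Perm α`, restricted to the
complement of the point, is a Hall subgroup there.
`preprimitive_of_stabilizer_pretransitive`: transitive + point stabilizer transitive on the rest
gives 2-transitive, hence primitive.
-/

namespace Cfsg.Agent.Lib.Helper15.Hs

open Cfsg

section leaves

variable {α : Type*} [Fintype α] [DecidableEq α] (π : Set ℕ) (H : Subgroup (Equiv.Perm α))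

omit [Fintype α] [DecidableEq α] in
theorem hsstab_fix {x : α} {g : Equiv.Perm α}
    (hg : g ∈ H ⊓ MulAction.stabilizer (Equiv.Perm α) x) : g x = x := by
  have h1 := (Subgroup.mem_inf.mp hg).2
  rw [MulAction.mem_stabilizer_iff] at h1
  exact h1

omit [Fintype α] [DecidableEq α] in
theorem hsstab_compl {x : α} {g : Equiv.Perm α}
    (hg : g ∈ H ⊓ MulAction.stabilizer (Equiv.Perm α) x) :
    ∀ y : α, g y ∈ ({x}ᶜ : Set α) ↔ y ∈ ({x}ᶜ : Set α) := by
  intro y
  have hx := hsstab_fix H hg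
  simp only [Set.mem_compl_iff, Set.mem_singleton_iff]
  constructor
  · intro h1 h2
    exact h1 (by rw [h2, hx])
  · intro h1 h2
    apply h1
    apply g.injective
    rw [h2, hx]

omit [Fintype α] [DecidableEq α] in
/-- the stabilizer and its restriction to the complement of the point have the same order. -/
theorem hsstab_card (x : α) :
    Nat.card ↥(H ⊓ MulAction.stabilizer (Equiv.Perm α) x) =
      Nat.card ↥(resSub (H ⊓ MulAction.stabilizer (Equiv.Perm α) x) ({x}ᶜ : Set α)) := by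
  refine Nat.card_eq_of_bijective
    (fun g => ⟨(g : Equiv.Perm α).subtypePerm (hsstab_compl H g.2), ⟨g, g.2, fun _ => rfl⟩⟩) ⟨?_, ?_⟩
  · intro g g' h
    have h1 : (g : Equiv.Perm α).subtypePerm (hsstab_compl H g.2) =
        (g' : Equiv.Perm α).subtypePerm (hsstab_compl H g'.2) := congrArg Subtype.val h
    apply Subtype.ext
    ext y
    by_cases hy : y = x
    · rw [hy, hsstab_fix H g.2, hsstab_fix H g'.2]
    · have h2 := congrArg (fun σ : Equiv.Perm ↥({x}ᶜ : Set α) => ((σ ⟨y, hy⟩ : ↥({x}ᶜ : Set α)) : α)) h1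
      exact h2
  · rintro ⟨σ, g, hg, hσ⟩
    refine ⟨⟨g, hg⟩, ?_⟩
    apply Subtype.ext
    ext y
    exact (hσ y).symm

omit [Fintype α] [DecidableEq α] in
theorem hsstab_card_mul [Finite α] (htr : MulAction.IsPretransitive H α) (x : α) :
    Nat.card ↥(H ⊓ MulAction.stabilizer (Equiv.Perm α) x) * Nat.card α = Nat.card ↥H := by
  have e1 : (H ⊓ MulAction.stabilizer (Equiv.Perm α) x).subgroupOf H = MulAction.stabilizer ↥H x := by
    ext g
    rw [Subgroup.mem_subgroupOf, Subgroup.mem_inf, MulAction.mem_stabilizer_iff,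
      MulAction.mem_stabilizer_iff]
    constructor
    · intro h
      exact h.2
    · intro h
      exact ⟨g.2, h⟩
  have hidx : (MulAction.stabilizer ↥H x).index = Nat.card α :=
    MulAction.index_stabilizer_of_transitive ↥H x
  have hc := Subgroup.card_mul_index (MulAction.stabilizer ↥H x)
  rw [hidx, ← e1] at hc
  rw [← hc]
  congr 1
  exact (Nat.card_congr (Subgroup.subgroupOfEquivOfLe
    (inf_le_left : H ⊓ MulAction.stabilizer (Equiv.Perm α) x ≤ H)).toEquiv).symm

/-- HS-STAB (1) -/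
theorem hall_stabilizer (hH : IsPiHall π H) (htr : MulAction.IsPretransitive H α) (x : α) :
    IsPiHall π (resSub (H ⊓ MulAction.stabilizer (Equiv.Perm α) x) ({x}ᶜ : Set α)) := by
  have hm : Nat.card α ≠ 0 := by
    have : Nonempty α := ⟨x⟩
    exact Nat.card_pos.ne'
  have hmul := hsstab_card_mul H htr x
  have hcard := hsstab_card H x
  have hKpos : Nat.card ↥(H ⊓ MulAction.stabilizer (Equiv.Perm α) x) ≠ 0 := Nat.card_pos.ne'
  have hs : Nat.card ↥({x}ᶜ : Set α) = Nat.card α - 1 := by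
    rw [Nat.card_coe_set_eq, Set.ncard_compl, Set.ncard_singleton]
  apply isPiHall_of_factorization
  · intro p hp hpd
    rw [← hcard] at hpd
    have h1 : Nat.card ↥(H ⊓ MulAction.stabilizer (Equiv.Perm α) x) ∣ Nat.card ↥H :=
      Subgroup.card_dvd_of_le inf_le_left
    exact hH.1 p hp (hpd.trans h1)
  · intro p hp hpπ
    rw [← hcard, Nat.card_perm, hs]
    have h1 := hall_perm_factorization hH hp hpπ
    rw [← hmul, Nat.factorization_mul hKpos hm, ← Nat.mul_factorial_pred hm,
      Nat.factorization_mul hm (Nat.factorial_pos _).ne'] at h1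
    simp only [Finsupp.coe_add, Pi.add_apply] at h1
    omega

/-- HS-STAB (2) -/
theorem preprimitive_of_stabilizer_pretransitive (htr : MulAction.IsPretransitive H α) (x : α)
    (h : MulAction.IsPretransitive (resSub (H ⊓ MulAction.stabilizer (Equiv.Perm α) x) ({x}ᶜ : Set α))
      ↥({x}ᶜ : Set α)) : MulAction.IsPreprimitive H α := by
  apply MulAction.isPreprimitive_of_is_two_pretransitive
  rw [MulAction.is_two_pretransitive_iff]
  intro a b c d hab hcd
  obtain ⟨h1, hh1⟩ := htr.exists_smul_eq a x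
  obtain ⟨h2, hh2⟩ := htr.exists_smul_eq c x
  have hb : (h1 : Equiv.Perm α) b ∈ ({x}ᶜ : Set α) := by
    intro hbx
    apply hab
    apply (h1 : Equiv.Perm α).injective
    have : (h1 : Equiv.Perm α) a = x := hh1
    rw [this]
    exact hbx.symm
  have hd : (h2 : Equiv.Perm α) d ∈ ({x}ᶜ : Set α) := by
    intro hdx
    apply hcd
    apply (h2 : Equiv.Perm α).injective
    have : (h2 : Equiv.Perm α) c = x := hh2
    rw [this]
    exact hdx.symm
  obtain ⟨σ, hσ⟩ := h.exists_smul_eq ⟨(h1 : Equiv.Perm α) b, hb⟩ ⟨(h2 : Equiv.Perm α) d, hd⟩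
  obtain ⟨k, hk, hkσ⟩ := σ.2
  have hkx : k x = x := hsstab_fix H hk
  have hkH : k ∈ H := (Subgroup.mem_inf.mp hk).1
  have hkb : k ((h1 : Equiv.Perm α) b) = (h2 : Equiv.Perm α) d := by
    have h3 := hkσ ⟨(h1 : Equiv.Perm α) b, hb⟩
    have h4 : ((σ : Equiv.Perm ↥({x}ᶜ : Set α)) ⟨(h1 : Equiv.Perm α) b, hb⟩ : α) = (h2 : Equiv.Perm α) d :=
      congrArg Subtype.val hσ
    rw [← h3, h4]
  refine ⟨h2⁻¹ * ⟨k, hkH⟩ * h1, ?_, ?_⟩
  · show ((h2 : Equiv.Perm α)⁻¹ * k * (h1 : Equiv.Perm α)) a = c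
    have e1 : (h1 : Equiv.Perm α) a = x := hh1
    have e2 : (h2 : Equiv.Perm α) c = x := hh2
    rw [Equiv.Perm.mul_apply, Equiv.Perm.mul_apply, e1, hkx, ← e2]
    exact Equiv.Perm.inv_eq_iff_eq.mpr rfl
  · show ((h2 : Equiv.Perm α)⁻¹ * k * (h1 : Equiv.Perm α)) b = d
    rw [Equiv.Perm.mul_apply, Equiv.Perm.mul_apply, hkb]
    exact Equiv.Perm.inv_eq_iff_eq.mpr rfl

end leaves

end Cfsg.Agent.Lib.Helper15.Hs
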