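import Cfsg.Agent.Lib.Helper22.CgDefs

/-! # Cg hive (S4257, helper22), leaf CG2 (absorption): core lemma with CG1a / CG1b as hypotheses. -/

set_option autoImplicit false

namespace Cfsg.Agent.Lib.Helper22.Cg

open Subgroup

universe u

/-- the conjugacy class of `z` as a set -/
def cg2_cls {G : Type u} [Group G] (z : G) : Set G := Set.range (fun k : G => k * z * k⁻¹)

/-- the class of `z` has `cs z` elements -/
theorem cg2_ncard_cls {G : Type u} [Group G] (z : G) : (cg2_cls z).ncard = cs z := by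
  have hwd : ∀ a b : G, (QuotientGroup.leftRel (centralizer ({z} : Set G))) a b →
      a * z * a⁻¹ = b * z * b⁻¹ := by
    intro a b hab
    rw [QuotientGroup.leftRel_apply, mem_centralizer_singleton_iff] at hab
    calc a * z * a⁻¹ = a * (z * (a⁻¹ * b)) * b⁻¹ := by group
      _ = a * ((a⁻¹ * b) * z) * b⁻¹ := by rw [hab]
      _ = b * z * b⁻¹ := by group
  let ψ : G ⧸ centralizer ({z} : Set G) → G :=
    fun q => Quotient.liftOn' q (fun k => k * z * k⁻¹) hwd
  have hψ : Function.Injective ψ := by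
    intro q q'
    induction q using QuotientGroup.induction_on
    induction q' using QuotientGroup.induction_on
    rename_i a b
    intro hab
    have hab' : a * z * a⁻¹ = b * z * b⁻¹ := hab
    apply QuotientGroup.eq.mpr
    rw [mem_centralizer_singleton_iff]
    calc a⁻¹ * b * z = a⁻¹ * (b * z * b⁻¹) * b := by group
      _ = a⁻¹ * (a * z * a⁻¹) * b := by rw [hab']
      _ = z * (a⁻¹ * b) := by group
  have hrange : Set.range ψ = cg2_cls z := by
    ext w
    constructor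
    · rintro ⟨q, rfl⟩
      induction q using QuotientGroup.induction_on
      rename_i a
      exact ⟨a, rfl⟩
    · rintro ⟨a, rfl⟩
      exact ⟨(a : G ⧸ centralizer ({z} : Set G)), rfl⟩
  rw [← hrange, ← Nat.card_coe_set_eq]
  exact (Nat.card_congr (Equiv.ofInjective ψ hψ)).symm

/-- CG2 with CG1a and CG1b (for the pair `x`, `y`) as hypotheses. -/
theorem cg2_core {G : Type u} [Group G] [Finite G] (x y : G)
    (h1a : ∀ g h : G, ∃ k : G, (g * x * g⁻¹) * (h * y * h⁻¹) = k * (x * y) * k⁻¹)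
    (h1b : cs (x * y) ∣ cs x * cs y)
    (hlt : cs y < cs x)
    (hC : ∀ z : G, cs z ∣ cs x * cs y → cs z ∣ cs x ∨ cs z ∣ cs y) (g h k : G) :
    ∃ k' : G, (k * x * k⁻¹) * ((g * y * g⁻¹) * (h * y * h⁻¹)⁻¹) = k' * x * k'⁻¹ := by
  -- `X y'` for a conjugate `y'` of `y`
  have hsub : ∀ g : G, (fun a => a * (g * y * g⁻¹)) '' cg2_cls x ⊆ cg2_cls (x * y) := by
    rintro g _ ⟨_, ⟨k, rfl⟩, rfl⟩
    obtain ⟨k', hk'⟩ := h1a k g
    exact ⟨k', hk'.symm⟩
  have hcard : ∀ g : G, ((fun a => a * (g * y * g⁻¹)) '' cg2_cls x).ncard = cs x := by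
    intro g
    rw [Set.ncard_image_of_injective _ (mul_left_injective _), cg2_ncard_cls]
  have hxpos : cs x ≠ 0 := Subgroup.index_ne_zero_of_finite
  have hypos : cs y ≠ 0 := Subgroup.index_ne_zero_of_finite
  have hle : cs x ≤ cs (x * y) := by
    rw [← hcard 1, ← cg2_ncard_cls (x * y)]
    exact Set.ncard_le_ncard (hsub 1) (Set.toFinite _)
  have heq : cs (x * y) = cs x := by
    rcases hC (x * y) h1b with hd | hd
    · exact le_antisymm (Nat.le_of_dvd (Nat.pos_of_ne_zero hxpos) hd) hle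
    · exfalso
      have := Nat.le_of_dvd (Nat.pos_of_ne_zero hypos) hd
      omega
  have hEq : ∀ g : G, (fun a => a * (g * y * g⁻¹)) '' cg2_cls x = cg2_cls (x * y) := by
    intro g
    apply Set.eq_of_subset_of_ncard_le (hsub g) _ (Set.toFinite _)
    rw [hcard g, cg2_ncard_cls, heq]
  have hmem : (k * x * k⁻¹) * (g * y * g⁻¹) ∈ (fun a => a * (h * y * h⁻¹)) '' cg2_cls x := by
    rw [hEq h, ← hEq g]
    exact ⟨_, ⟨k, rfl⟩, rfl⟩
  obtain ⟨_, ⟨k', rfl⟩, hk'⟩ := hmem
  refine ⟨k', ?_⟩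
  have hk'' : k' * x * k'⁻¹ * (h * y * h⁻¹) = k * x * k⁻¹ * (g * y * g⁻¹) := hk'
  calc (k * x * k⁻¹) * ((g * y * g⁻¹) * (h * y * h⁻¹)⁻¹)
      = ((k * x * k⁻¹) * (g * y * g⁻¹)) * (h * y * h⁻¹)⁻¹ := by group
    _ = (k' * x * k'⁻¹ * (h * y * h⁻¹)) * (h * y * h⁻¹)⁻¹ := by rw [hk'']
    _ = k' * x * k'⁻¹ := by group

end Cfsg.Agent.Lib.Helper22.Cg
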