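import Cfsg.Agent.Lib.Helper16.GagDefs

/-!
Gag hive (owner helper16, S4561), leaf GAG-D: a nontrivial finite solvable group has a
surjection onto a cyclic group of prime order.
-/

set_option autoImplicit false
universe u v

namespace Cfsg.Agent.Lib.Helper16.Gag
open scoped IsMulCommutative

/-- quotient of a commutative group by a coatom is simple -/
theorem gagD_simple {A : Type u} [CommGroup A] (M : Subgroup A) (hM : IsCoatom M) :
    IsSimpleGroup (A ⧸ M) := by
  have : Nontrivial (A ⧸ M) := by
    rw [← not_subsingleton_iff_nontrivial]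
    intro hs
    exact hM.1 (QuotientGroup.subsingleton_iff.mp hs)
  refine ⟨fun K _ => ?_⟩
  have hle : M ≤ K.comap (QuotientGroup.mk' M) := by
    intro x hx
    rw [Subgroup.mem_comap]
    have : (QuotientGroup.mk' M) x = 1 := (QuotientGroup.eq_one_iff x).mpr hx
    rw [this]; exact K.one_mem
  rcases eq_or_lt_of_le hle with h | h
  · left
    apply Subgroup.comap_injective (QuotientGroup.mk'_surjective M)
    rw [← h, MonoidHom.comap_bot, QuotientGroup.ker_mk']
  · right
    apply Subgroup.comap_injective (QuotientGroup.mk'_surjective M)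
    rw [hM.2 _ h, Subgroup.comap_top]

theorem gagD_comm {A : Type u} [CommGroup A] [Finite A] [Nontrivial A] :
    ∃ (p : ℕ) (_ : Fact p.Prime) (π : A →* Multiplicative (ZMod p)), Function.Surjective π := by
  obtain ⟨M, hM, -⟩ :=
    (eq_top_or_exists_le_coatom (⊥ : Subgroup A)).resolve_left bot_ne_top
  have := gagD_simple M hM
  have hp : (Nat.card (A ⧸ M)).Prime := IsSimpleGroup.prime_card
  have : Fact (Nat.card (A ⧸ M)).Prime := ⟨hp⟩
  have hc : Nat.card (Multiplicative (ZMod (Nat.card (A ⧸ M)))) = Nat.card (A ⧸ M) :=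
    (Nat.card_congr Multiplicative.toAdd).trans (Nat.card_zmod _)
  let e : (A ⧸ M) ≃* Multiplicative (ZMod (Nat.card (A ⧸ M))) :=
    mulEquivOfPrimeCardEq (p := Nat.card (A ⧸ M)) rfl hc
  refine ⟨Nat.card (A ⧸ M), ⟨hp⟩, e.toMonoidHom.comp (QuotientGroup.mk' M), ?_⟩
  exact e.surjective.comp (QuotientGroup.mk'_surjective M)

/-- D -/
theorem exists_prime_quotient {G : Type u} [Group G] [Finite G] [Nontrivial G]
    (hs : Group.IsSolvable G) :
    ∃ (p : ℕ) (_ : Fact p.Prime) (π : G →* Multiplicative (ZMod p)), Function.Surjective π := by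
  have : Nontrivial (Abelianization G) := by
    rw [← not_subsingleton_iff_nontrivial]
    intro hsub
    have h1 : (Abelianization.of : G →* Abelianization G).ker = ⊤ := by
      ext x
      simp only [MonoidHom.mem_ker, Subgroup.mem_top, iff_true]
      exact Subsingleton.elim _ _
    rw [Abelianization.ker_of] at h1
    exact (Group.IsSolvable.commutator_lt_top_of_nontrivial G).ne h1
  obtain ⟨p, hp, π, hπ⟩ := gagD_comm (A := Abelianization G)
  exact ⟨p, hp, π.comp Abelianization.of, hπ.comp (QuotientGroup.mk'_surjective (commutator G))⟩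

end Cfsg.Agent.Lib.Helper16.Gag
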