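import Mathlib

set_option autoImplicit false

/-!
# Lo sub-hive (helper21, half (B) of the We hive S2347): leaf LO-SEP

The trace pairing on symmetric matrices over a finite field of odd order is non-degenerate.
-/

namespace Cfsg.Agent.Lib.Helper21.Lo

section pure

variable {F : Type*} [Field F] [Fintype F] [DecidableEq F]

theorem sep_two_ne_zero (hodd : Odd (Fintype.card F)) : (2 : F) ≠ 0 := by
  intro h2
  obtain ⟨k, hk⟩ := hodd
  have h0 : ((Fintype.card F : ℕ) : F) = 0 := Nat.cast_card_eq_zero F
  rw [hk] at h0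
  push_cast at h0
  rw [h2, zero_mul, zero_add] at h0
  exact one_ne_zero h0

theorem sep_trace (n : ℕ) (N : Matrix (Fin n) (Fin n) F) (i j : Fin n) (c : F) :
    Matrix.trace (N * (c • (Matrix.single i j (1 : F) + Matrix.single j i (1 : F)))) =
      c * (N j i + N i j) := by
  rw [Matrix.mul_smul, Matrix.trace_smul, Matrix.mul_add, Matrix.trace_add, smul_eq_mul]
  rw [Matrix.trace_mul_single, Matrix.trace_mul_single]
  simp

/-- LO-SEP (E; pure): the trace pairing on symmetric matrices is non-degenerate (odd characteristic). -/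
theorem exists_sep (hodd : Odd (Fintype.card F)) (n : ℕ) (ψ : AddChar F ℂ) (hψ : ψ ≠ 1)
    (N : Matrix (Fin n) (Fin n) F) (hN : N.transpose = N) (h0 : N ≠ 0) :
    ∃ S : Matrix (Fin n) (Fin n) F, S.transpose = S ∧ ψ (Matrix.trace (N * S)) ≠ 1 := by
  have h2 : (2 : F) ≠ 0 := sep_two_ne_zero hodd
  obtain ⟨a, ha⟩ : ∃ a : F, ψ a ≠ 1 := by
    by_contra hcon
    push Not at hcon
    apply hψ
    ext x
    simpa using hcon x
  obtain ⟨i, j, hij⟩ : ∃ i j, N i j ≠ 0 := by
    by_contra hcon
    push Not at hcon
    apply h0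
    ext i j
    simpa using hcon i j
  have hji : N j i = N i j := by
    have := congrFun (congrFun hN i) j
    simpa [Matrix.transpose_apply] using this
  refine ⟨(a / (2 * N i j)) • (Matrix.single i j (1 : F) + Matrix.single j i (1 : F)), ?_, ?_⟩
  · rw [Matrix.transpose_smul, Matrix.transpose_add, Matrix.transpose_single,
      Matrix.transpose_single, add_comm]
  · rw [sep_trace, hji]
    have : a / (2 * N i j) * (N i j + N i j) = a := by
      field_simp
      ring
    rw [this]
    exact ha

end pure

end Cfsg.Agent.Lib.Helper21.Lo
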