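import Cfsg.Agent.Lib.Helper21.Lo.Defs

set_option autoImplicit false

/-!
# Lo sub-hive (helper21, half (B) of the We hive S2347): leaf LO-ZA

The transvections with centre `e1` are Siegel unipotent elements.
-/

namespace Cfsg.Agent.Lib.Helper21.Lo

open Module Cfsg.Agent.Lib.Helper6.Ls Cfsg.Agent.Lib.Helper13 Cfsg.Agent.Lib.Helper21.Lq

section concrete

variable {F : Type*} [Field F] [Fintype F] [DecidableEq F]

theorem za_J_mulVec_e1 (k : ℕ) :
    Matrix.mulVec (Matrix.J (Fin (k + 1)) F) (e1 F k) = Pi.single (Sum.inr 0) 1 := by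
  funext x
  unfold e1 Matrix.J
  rw [Matrix.mulVec_single_one]
  rcases x with x | x
  · simp [Matrix.col, Pi.single_apply]
  · simp [Matrix.col, Matrix.one_apply, Pi.single_apply]

theorem za_transv_eq (k : ℕ) (c : F) :
    Cfsg.sympTransvection (k + 1) (e1 F k) c =
      uMat (c • Matrix.single (0 : Fin (k + 1)) (0 : Fin (k + 1)) (1 : F)) := by
  unfold Cfsg.sympTransvection uMat
  rw [za_J_mulVec_e1]
  ext x y
  rcases x with x | x <;> rcases y with y | y
  · simp [Matrix.vecMulVec_apply, e1, Pi.single_apply, Matrix.one_apply]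
  · simp [Matrix.vecMulVec_apply, e1, Pi.single_apply, Matrix.one_apply, Matrix.single_apply]
    by_cases hx : x = 0 <;> by_cases hy : y = 0 <;> simp [hx, hy, eq_comm]
  · simp [Matrix.vecMulVec_apply, e1, Pi.single_apply, Matrix.one_apply]
  · simp [Matrix.vecMulVec_apply, e1, Pi.single_apply, Matrix.one_apply]

/-- LO-ZA: the transvections with centre `e1` are Siegel elements. -/
theorem Zgrp_e1_le_Agrp (k : ℕ) : Zgrp (e1 F k) ≤ Agrp F (k + 1) := by
  unfold Lq.Zgrp Agrp
  rw [Subgroup.closure_le]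
  rintro g ⟨c, rfl⟩
  apply Subgroup.subset_closure
  refine ⟨c • Matrix.single (0 : Fin (k + 1)) (0 : Fin (k + 1)) (1 : F), ?_, ?_⟩
  · rw [Matrix.transpose_smul, Matrix.transpose_single]
  · rw [coe_sympTransvElt, za_transv_eq]

end concrete

end Cfsg.Agent.Lib.Helper21.Lo
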