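import Cfsg.Agent.Lib.Helper6.Ls.Defs
import Cfsg.Agent.Lib.Helper6.SzLS1

set_option autoImplicit false

/-!
# Ls hive (helper6, S2334 + S2335): leaf AB-NT `exists_eig_of_actsNontriv`

An abelian subgroup acting non-trivially on a stable subspace has a simultaneous eigenvector
there whose eigenfunction is non-trivial.
-/

namespace Cfsg.Agent.Lib.Helper6.Ls

open Module

section abstract

variable {G : Type*} [Group G] [Finite G] {W : Type*} [AddCommGroup W] [Module ℂ W]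
  [FiniteDimensional ℂ W]

omit [FiniteDimensional ℂ W] in
/-- if `g ^ n = 1` with `n > 0`, `g v = v` and `g u = u + v`, then `v = 0`. -/
theorem abnt_ker_range (g : Module.End ℂ W) (n : ℕ) (hn : 0 < n) (hg : g ^ n = 1) (u v : W)
    (hv : g v = v) (hu : g u = u + v) : v = 0 := by
  have h : ∀ k : ℕ, (g ^ k) u = u + (k : ℂ) • v := by
    intro k
    induction k with
    | zero => simp
    | succ k ih =>
      rw [pow_succ', Module.End.mul_apply, ih, map_add, map_smul, hu, hv]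
      push_cast
      rw [add_smul, one_smul]
      abel
  have h1 := h n
  rw [hg, Module.End.one_apply] at h1
  have h2 : (n : ℂ) • v = 0 := by
    have h3 : u + (n : ℂ) • v = u + 0 := by
      rw [add_zero]
      exact h1.symm
    exact add_left_cancel h3
  rcases smul_eq_zero.mp h2 with h3 | h3
  · exact absurd (Nat.cast_eq_zero.mp h3) (Nat.pos_iff_ne_zero.mp hn)
  · exact h3

/-- AB-NT -/
theorem exists_eig_of_actsNontriv (ρ : Representation ℂ G W) (Z : Subgroup G)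
    (hZ : ∀ a ∈ Z, ∀ b ∈ Z, a * b = b * a) (U : Submodule ℂ W)
    (hU : ∀ z ∈ Z, Stable ρ z U) (hnt : ActsNontriv ρ Z U) :
    ∃ lam : G → ℂ, (∃ z ∈ Z, lam z ≠ 1) ∧ eigIn ρ Z lam U ≠ ⊥ := by
  classical
  obtain ⟨z0, hz0, w, hwU, hw⟩ := hnt
  have : Fintype ↥Z := Fintype.ofFinite _
  let f : ↥Z → Module.End ℂ W := fun z => ρ (z : G)
  have hcomm : ∀ i j, f i * f j = f j * f i := by
    intro i j
    show ρ (i : G) * ρ (j : G) = ρ (j : G) * ρ (i : G)
    rw [← map_mul, ← map_mul, hZ i i.2 j j.2]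
  have hD : ∀ x : W, (ρ z0 - 1) x = ρ z0 x - x := by
    intro x
    rw [LinearMap.sub_apply, Module.End.one_apply]
  have hU'ne : U.map (ρ z0 - 1) ≠ ⊥ := by
    intro h
    have h1 : (ρ z0 - 1) w ∈ U.map (ρ z0 - 1) := Submodule.mem_map_of_mem hwU
    rw [h, Submodule.mem_bot, hD] at h1
    exact hw (sub_eq_zero.mp h1)
  have hU'inv : ∀ i : ↥Z, ∀ x ∈ U.map (ρ z0 - 1), f i x ∈ U.map (ρ z0 - 1) := by
    intro i x hx
    obtain ⟨u, hu, rfl⟩ := Submodule.mem_map.mp hx
    refine Submodule.mem_map.mpr ⟨ρ (i : G) u, hU i i.2 u hu, ?_⟩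
    show (ρ z0 - 1) (ρ (i : G) u) = ρ (i : G) ((ρ z0 - 1) u)
    rw [hD, hD, map_sub]
    congr 1
    have h2 : ρ z0 * ρ (i : G) = ρ (i : G) * ρ z0 := hcomm ⟨z0, hz0⟩ i
    have h3 := congrArg (fun g : Module.End ℂ W => g u) h2
    simpa only [Module.End.mul_apply] using h3
  obtain ⟨v, hvU', hv0, hev⟩ := Cfsg.Agent.Lib.Helper6.SzLS.exists_common_eigenvector f hcomm
    Finset.univ (U.map (ρ z0 - 1)) hU'ne hU'inv
  choose μ hμ using fun i : ↥Z => hev i (Finset.mem_univ i)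
  obtain ⟨u, hu, huv⟩ := Submodule.mem_map.mp hvU'
  refine ⟨fun g => if h : g ∈ Z then μ ⟨g, h⟩ else 0, ⟨z0, hz0, ?_⟩, ?_⟩
  · show (if h : z0 ∈ Z then μ ⟨z0, h⟩ else 0) ≠ 1
    rw [dif_pos hz0]
    intro h1
    have hgv : ρ z0 v = v := by
      have h2 : ρ z0 v = μ ⟨z0, hz0⟩ • v := hμ ⟨z0, hz0⟩
      rw [h1, one_smul] at h2
      exact h2
    have hgu : ρ z0 u = u + v := by
      rw [← huv, hD]
      abel
    have hpow : (ρ z0) ^ (orderOf z0) = 1 := by
      rw [← map_pow, pow_orderOf_eq_one, map_one]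
    exact hv0 (abnt_ker_range (ρ z0) (orderOf z0) (orderOf_pos z0) hpow u v hgv hgu)
  · rw [Submodule.ne_bot_iff]
    refine ⟨v, ?_, hv0⟩
    unfold eigIn
    refine Submodule.mem_inf.mpr ⟨?_, ?_⟩
    · rw [← huv, hD]
      exact U.sub_mem (hU z0 hz0 u hu) hu
    · rw [Submodule.mem_iInf]
      intro z
      rw [LinearMap.mem_ker, LinearMap.sub_apply, LinearMap.smul_apply, Module.End.one_apply,
        sub_eq_zero]
      show ρ (z : G) v = (if h : (z : G) ∈ Z then μ ⟨(z : G), h⟩ else 0) • v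
      rw [dif_pos z.2]
      exact hμ z

end abstract

end Cfsg.Agent.Lib.Helper6.Ls
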