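import Cfsg.Agent.Lib.Helper6.Ls.Defs

set_option autoImplicit false

/-!
# Ls hive (helper6, S2334 + S2335): leaf AB-ISOT `sum_finrank_eigIn_le`

Simultaneous eigenspaces for pairwise distinct eigenfunctions are independent, hence their
dimensions add up to at most the dimension of the ambient subspace.
-/

namespace Cfsg.Agent.Lib.Helper6.Ls

open Module

section abisot

variable {W : Type*} [AddCommGroup W] [Module ℂ W]

/-- the simultaneous eigenspace of the family `f` for the eigenfunction `χ`. -/
def abisot_E {α : Type*} (f : α → Module.End ℂ W) (χ : α → ℂ) : Submodule ℂ W :=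
  ⨅ a : α, LinearMap.ker (f a - χ a • (1 : Module.End ℂ W))

theorem abisot_mem {α : Type*} (f : α → Module.End ℂ W) (χ : α → ℂ) (v : W) :
    v ∈ abisot_E f χ ↔ ∀ a, f a v = χ a • v := by
  unfold abisot_E
  rw [Submodule.mem_iInf]
  constructor
  · intro h a
    have h1 := h a
    rw [LinearMap.mem_ker, LinearMap.sub_apply, LinearMap.smul_apply, Module.End.one_apply,
      sub_eq_zero] at h1
    exact h1
  · intro h a
    rw [LinearMap.mem_ker, LinearMap.sub_apply, LinearMap.smul_apply, Module.End.one_apply,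
      sub_eq_zero]
    exact h a

/-- a vanishing sum of simultaneous eigenvectors for pairwise distinct eigenfunctions has all its
terms zero. -/
theorem abisot_core {α ι : Type*} [DecidableEq ι] (f : α → Module.End ℂ W) (χ : ι → α → ℂ)
    (hχ : ∀ i j, i ≠ j → ∃ a, χ i a ≠ χ j a) (s : Finset ι) :
    ∀ v : ι → W, (∀ i ∈ s, v i ∈ abisot_E f (χ i)) → ∑ i ∈ s, v i = 0 → ∀ i ∈ s, v i = 0 := by
  induction s using Finset.induction_on with
  | empty =>
    intro v _ _ i hi
    simp at hi
  | insert j s hj ih =>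
    intro v hv hsum
    have hs : ∀ i ∈ s, v i = 0 := by
      intro i1 hi1
      have hne : j ≠ i1 := fun h => hj (h ▸ hi1)
      obtain ⟨a, ha⟩ := hχ j i1 hne
      have h2 : ∀ i ∈ insert j s,
          (f a - χ j a • (1 : Module.End ℂ W)) (v i) = (χ i a - χ j a) • v i := by
        intro i hi
        have h3 := (abisot_mem f (χ i) (v i)).mp (hv i hi) a
        rw [LinearMap.sub_apply, LinearMap.smul_apply, Module.End.one_apply, h3, sub_smul]
      have key : (χ i1 a - χ j a) • v i1 = 0 := by
        refine ih (fun i => (χ i a - χ j a) • v i) ?_ ?_ i1 hi1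
        · intro i hi
          exact Submodule.smul_mem _ _ (hv i (Finset.mem_insert_of_mem hi))
        · have h1 : (f a - χ j a • (1 : Module.End ℂ W)) (∑ i ∈ insert j s, v i) = 0 := by
            rw [hsum, map_zero]
          rw [map_sum, Finset.sum_insert hj, h2 j (Finset.mem_insert_self j s), sub_self,
            zero_smul, zero_add] at h1
          rw [← h1]
          exact Finset.sum_congr rfl (fun i hi => (h2 i (Finset.mem_insert_of_mem hi)).symm)
      have hne' : χ i1 a - χ j a ≠ 0 := sub_ne_zero.mpr (Ne.symm ha)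
      exact (smul_eq_zero.mp key).resolve_left hne'
    intro i hi
    rcases Finset.mem_insert.mp hi with h | hi'
    · rw [Finset.sum_insert hj, Finset.sum_eq_zero hs, add_zero] at hsum
      rw [h]
      exact hsum
    · exact hs i hi'

theorem abisot_finrank [FiniteDimensional ℂ W] {α ι : Type*} [DecidableEq ι]
    (f : α → Module.End ℂ W) (χ : ι → α → ℂ)
    (hχ : ∀ i j, i ≠ j → ∃ a, χ i a ≠ χ j a) (U : Submodule ℂ W) (s : Finset ι) :
    finrank ℂ ↥(⨆ i ∈ s, U ⊓ abisot_E f (χ i)) = ∑ i ∈ s, finrank ℂ ↥(U ⊓ abisot_E f (χ i)) := by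
  induction s using Finset.induction_on with
  | empty => simp
  | insert j s hj ih =>
    rw [Finset.iSup_insert, Finset.sum_insert hj, ← ih]
    have hdisj : (U ⊓ abisot_E f (χ j)) ⊓ (⨆ i ∈ s, U ⊓ abisot_E f (χ i)) = ⊥ := by
      rw [eq_bot_iff]
      intro v hv
      obtain ⟨hvj, hvs⟩ := Submodule.mem_inf.mp hv
      obtain ⟨μ, hμ⟩ := (Submodule.mem_iSup_finset_iff_exists_sum _ v).mp hvs
      have hw := abisot_core f χ hχ (insert j s) (fun i => if i = j then -v else (μ i : W)) ?_ ?_ j
        (Finset.mem_insert_self j s)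
      · have hw' : v = 0 := by simpa using hw
        rw [hw']
        exact Submodule.zero_mem _
      · intro i _
        by_cases h : i = j
        · simp only [if_pos h]
          rw [h]
          exact Submodule.neg_mem _ (Submodule.mem_inf.mp hvj).2
        · simp only [if_neg h]
          exact (Submodule.mem_inf.mp (μ i).2).2
      · have h5 : ∑ i ∈ s, (if i = j then -v else (μ i : W)) = ∑ i ∈ s, (μ i : W) :=
          Finset.sum_congr rfl (fun i hi => if_neg (fun (h : i = j) => hj (h ▸ hi)))
        rw [Finset.sum_insert hj, h5, hμ]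
        simp
    have h6 := Submodule.finrank_sup_add_finrank_inf_eq (U ⊓ abisot_E f (χ j))
      (⨆ i ∈ s, U ⊓ abisot_E f (χ i))
    rw [hdisj, finrank_bot, add_zero] at h6
    exact h6

end abisot

section abstract

variable {G : Type*} [Group G] [Finite G] {W : Type*} [AddCommGroup W] [Module ℂ W]
  [FiniteDimensional ℂ W]

/-- AB-ISOT -/
theorem sum_finrank_eigIn_le (ρ : Representation ℂ G W) (Z : Subgroup G) (U : Submodule ℂ W)
    {κ : Type*} [Fintype κ] (lam : κ → G → ℂ)
    (hdist : ∀ k k', k ≠ k' → ∃ z ∈ Z, lam k z ≠ lam k' z) (hnt : ∀ k, ∃ z ∈ Z, lam k z ≠ 1) :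
    finrank ℂ (fixIn ρ Z U) + ∑ k, finrank ℂ (eigIn ρ Z (lam k) U) ≤ finrank ℂ U := by
  classical
  let f : ↥Z → Module.End ℂ W := fun z => ρ (z : G)
  let χ : Option κ → ↥Z → ℂ := fun o z => match o with
    | none => 1
    | some k => lam k (z : G)
  have hχ : ∀ i j, i ≠ j → ∃ a, χ i a ≠ χ j a := by
    intro i j hij
    cases i with
    | none =>
      cases j with
      | none => exact absurd rfl hij
      | some k =>
        obtain ⟨z, hz, h⟩ := hnt k
        exact ⟨⟨z, hz⟩, fun h' => h h'.symm⟩
    | some k =>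
      cases j with
      | none =>
        obtain ⟨z, hz, h⟩ := hnt k
        exact ⟨⟨z, hz⟩, h⟩
      | some k' =>
        obtain ⟨z, hz, h⟩ := hdist k k' (fun h => hij (congrArg some h))
        exact ⟨⟨z, hz⟩, h⟩
  have hfix : fixIn ρ Z U = U ⊓ abisot_E f (χ none) := by
    unfold fixIn abisot_E
    congr 1
    refine iInf_congr (fun z => ?_)
    show LinearMap.ker (ρ (z : G) - 1) = LinearMap.ker (ρ (z : G) - (1 : ℂ) • (1 : Module.End ℂ W))
    rw [one_smul]
  have heig : ∀ k, eigIn ρ Z (lam k) U = U ⊓ abisot_E f (χ (some k)) := fun k => rfl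
  have hsum : finrank ℂ (fixIn ρ Z U) + ∑ k, finrank ℂ (eigIn ρ Z (lam k) U)
      = ∑ o : Option κ, finrank ℂ ↥(U ⊓ abisot_E f (χ o)) := by
    rw [Fintype.sum_option, hfix]
    congr 1
  rw [hsum, ← abisot_finrank f χ hχ U Finset.univ]
  exact Submodule.finrank_mono (iSup₂_le (fun _ _ => inf_le_left))

end abstract

end Cfsg.Agent.Lib.Helper6.Ls
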