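import Mathlib

/-! Leaf OC4a of helper22's Oc hive (S2924): coprime action of an involution on a quotient by an
odd-order normal subgroup. -/

set_option autoImplicit false
open Subgroup

namespace Cfsg.Agent.Lib.Helper22.Oc

universe u

/-- OC4a. Coprime action: for `N ⊴ H` of odd order and `x² = 1`, `C_{H/N}(xN) = C_H(x)N/N`. -/
theorem oc4a {H : Type u} [Group H] [Finite H] (N : Subgroup H) [N.Normal] (hN : Odd (Nat.card N))
    (x : H) (hx2 : x ^ 2 = 1) :
    centralizer ({(QuotientGroup.mk x : H ⧸ N)} : Set (H ⧸ N)) =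
      (centralizer ({x} : Set H)).map (QuotientGroup.mk' N) := by
  classical
  have hxx : x * x = 1 := by rw [← pow_two]; exact hx2
  have hxinv : x⁻¹ = x := by rw [inv_eq_iff_mul_eq_one]; exact hxx
  apply le_antisymm
  · intro q hq
    obtain ⟨g, rfl⟩ := QuotientGroup.mk_surjective q
    rw [mem_centralizer_singleton_iff] at hq
    -- the involution `n ↦ g⁻¹ x g n x⁻¹` of `N`
    have hmem : ∀ n : ↥N, g⁻¹ * x * g * (n : H) * x ∈ N := by
      intro n
      rw [← QuotientGroup.eq_one_iff]
      have hn1 : ((n : H) : H ⧸ N) = 1 := (QuotientGroup.eq_one_iff _).mpr n.2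
      simp only [QuotientGroup.mk_mul, QuotientGroup.mk_inv, hn1, mul_one]
      have hxq : (x : H ⧸ N) * (x : H ⧸ N) = 1 := by
        rw [← QuotientGroup.mk_mul, hxx, QuotientGroup.mk_one]
      calc ((g : H ⧸ N))⁻¹ * (x : H ⧸ N) * (g : H ⧸ N) * (x : H ⧸ N)
          = ((g : H ⧸ N))⁻¹ * ((x : H ⧸ N) * (g : H ⧸ N)) * (x : H ⧸ N) := by group
        _ = ((g : H ⧸ N))⁻¹ * ((g : H ⧸ N) * (x : H ⧸ N)) * (x : H ⧸ N) := by rw [hq]
        _ = ((g : H ⧸ N))⁻¹ * (g : H ⧸ N) * ((x : H ⧸ N) * (x : H ⧸ N)) := by group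
        _ = 1 := by rw [hxq]; group
    let f : ↥N → ↥N := fun n => ⟨g⁻¹ * x * g * (n : H) * x, hmem n⟩
    have hf : Function.Involutive f := by
      intro n
      apply Subtype.ext
      show g⁻¹ * x * g * (g⁻¹ * x * g * (n : H) * x) * x = n
      calc g⁻¹ * x * g * (g⁻¹ * x * g * (n : H) * x) * x
          = g⁻¹ * (x * x) * g * (n : H) * (x * x) := by group
        _ = n := by rw [hxx]; group
    let _ : Fintype ↥N := Fintype.ofFinite _
    have : Fact (Nat.Prime 2) := ⟨Nat.prime_two⟩
    have hcard : ¬ 2 ∣ Fintype.card ↥N := by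
      rw [← Nat.card_eq_fintype_card, ← even_iff_two_dvd, Nat.not_even_iff_odd]
      exact hN
    have hσ : (hf.toPerm f) ^ 2 ^ 1 = 1 := by
      rw [pow_one, pow_two]
      ext n
      simp only [Equiv.Perm.coe_mul, Function.comp_apply, Function.Involutive.coe_toPerm,
        Equiv.Perm.coe_one, id_eq]
      rw [hf n]
    obtain ⟨n, hn⟩ := Equiv.Perm.exists_fixed_point_of_prime hcard hσ
    have hn' : g⁻¹ * x * g * (n : H) * x = n := congrArg Subtype.val hn
    have hcomm : (g * n) * x = x * (g * n) := by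
      have h1 : x * g * (n : H) * x = g * n := by
        calc x * g * (n : H) * x = g * (g⁻¹ * x * g * (n : H) * x) := by group
          _ = g * n := by rw [hn']
      calc g * n * x = (x * g * (n : H) * x) * x := by rw [h1]
        _ = x * g * n * (x * x) := by group
        _ = x * (g * n) := by rw [hxx]; group
    refine ⟨g * n, ?_, ?_⟩
    · show g * (n : H) ∈ centralizer ({x} : Set H)
      rw [mem_centralizer_singleton_iff]; exact hcomm
    · rw [QuotientGroup.mk'_apply, QuotientGroup.mk_mul]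
      have hn1 : ((n : H) : H ⧸ N) = 1 := (QuotientGroup.eq_one_iff _).mpr n.2
      rw [hn1, mul_one]
  · rintro _ ⟨h, (hh : h ∈ centralizer ({x} : Set H)), rfl⟩
    rw [mem_centralizer_singleton_iff] at hh ⊢
    rw [QuotientGroup.mk'_apply, ← QuotientGroup.mk_mul, hh, QuotientGroup.mk_mul]

end Cfsg.Agent.Lib.Helper22.Oc
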