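import Cfsg.Agent.Lib.Helper48.U3XeDefs

/-!
# U3 hive (S2283, owner helper23), sub-hive XE (helper48): leaf XE-M (helper70)

`xeM C` contains `0` and is closed under addition and negation.
-/

set_option autoImplicit false

namespace Cfsg.Agent.Lib.Helper23.U3

open Matrix Cfsg.Agent.Lib.Helper99 Cfsg.Agent.Lib.Helper13 Cfsg.Agent.Lib.Helper90.Psu

variable {F : Type*} [Field F] [Fintype F] {q : ℕ}

local notation "hh" => Cfsg.hermForm 3 F q

omit [Fintype F] in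
theorem xem_smul_e (C : Cfg q F) (r : F) : hh (r • C.ε) C.e = 0 := by
  rw [hermForm_smul_left, C.hεe, mul_zero]

omit [Fintype F] in
theorem xem_smul_smul (C : Cfg q F) (r s : F) : hh (r • C.ε) (s • C.ε) = r * s ^ q := by
  rw [hermForm_smul_left, hermForm_smul_right, C.hεε, mul_one]

omit [Fintype F] in
theorem xem_norm (C : Cfg q F) (r : F) : hh (r • C.ε) (r • C.ε) = r ^ (q + 1) := by
  rw [xem_smul_smul, pow_succ, mul_comm]

theorem xem_q_ne_zero (hF : Fintype.card F = q ^ 2) : q ≠ 0 := by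
  rintro rfl
  have h := Fintype.card_pos (α := F)
  rw [hF] at h
  norm_num at h

/-- XE-M: `0 ∈ M`. -/
theorem xe_M_zero (hF : Fintype.card F = q ^ 2) (C : Cfg q F) : (0 : F) ∈ xeM C := by
  have hq : q ≠ 0 := xem_q_ne_zero hF
  refine ⟨0, ?_, ?_⟩
  · rw [zero_pow hq, zero_pow (Nat.succ_ne_zero q), add_zero, add_zero]
  · have h0 : (0 : F) + 0 ^ q = 0 := by rw [zero_pow hq, add_zero]
    rw [zero_smul, heis_zero hF C.hee h0, utv_zero _ C.hee]
    exact one_mem _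

/-- XE-M: `M` is closed under addition. -/
theorem xe_M_add (hF : Fintype.card F = q ^ 2) (C : Cfg q F) {r₁ r₂ : F}
    (h₁ : r₁ ∈ xeM C) (h₂ : r₂ ∈ xeM C) : r₁ + r₂ ∈ xeM C := by
  obtain ⟨β₁, hβ₁, hm₁⟩ := h₁
  obtain ⟨β₂, hβ₂, hm₂⟩ := h₂
  have hc₁ : β₁ + β₁ ^ q + hh (r₁ • C.ε) (r₁ • C.ε) = 0 := by rw [xem_norm]; exact hβ₁
  have hc₂ : β₂ + β₂ ^ q + hh (r₂ • C.ε) (r₂ • C.ε) = 0 := by rw [xem_norm]; exact hβ₂
  have hmul := heis_mul hF C.hee (xem_smul_e C r₁) hc₁ (xem_smul_e C r₂) hc₂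
  have hcond := heis_aux_cond_mul hF hc₁ hc₂
  rw [← add_smul] at hmul hcond
  rw [xem_norm] at hcond
  refine ⟨β₁ + β₂ - hh (r₂ • C.ε) (r₁ • C.ε), hcond, ?_⟩
  rw [← hmul]
  exact mul_mem hm₁ hm₂

/-- XE-M: `M` is closed under negation. -/
theorem xe_M_neg (hF : Fintype.card F = q ^ 2) (C : Cfg q F) {r : F}
    (h : r ∈ xeM C) : -r ∈ xeM C := by
  obtain ⟨β, hβ, hm⟩ := h
  have hc : β + β ^ q + hh (r • C.ε) (r • C.ε) = 0 := by rw [xem_norm]; exact hβ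
  have hinv := heis_inv hF C.hee (xem_smul_e C r) hc
  have hcond := heis_aux_cond_inv hF hc
  rw [← neg_smul] at hinv hcond
  rw [xem_norm] at hcond
  refine ⟨β ^ q, hcond, ?_⟩
  rw [← hinv]
  exact inv_mem hm

end Cfsg.Agent.Lib.Helper23.U3
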