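import Cfsg.Agent.Lib.Helper70.Stn_BINJ_Hcore
import Cfsg.Agent.Lib.Helper13.Stn_WINV
import Cfsg.Agent.Lib.Helper13.Stn_HONE
import Cfsg.Agent.Lib.Helper95.Stn_WWW
import Cfsg.Agent.Lib.Helper69.Stn_HWWcore
import Cfsg.Agent.Lib.Helper99.Stn_SYMRfull

/-!
Stn hive (S2401, helper41), sub-hive BINJ (helper73), leaf BINJ-HCOMM.
-/

set_option autoImplicit false

namespace Cfsg.Agent.Lib.Helper41.Stn

open Matrix

variable {K : Type*} [Field K] {n : ℕ}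

/-- BINJ-HCOMM (M): `hh_conj_ww` gives `h_ij(t) h_kl(u) h_ij(t)⁻¹ = h_kl(c u) h_kl(c)⁻¹ = h_kl(u)` (`hh_mul`). -/
theorem hh_comm [Finite K] (hn : 3 ≤ n) {i j k l : Fin n} (hij : i ≠ j) (hkl : k ≠ l) {t u : K}
    (ht : t ≠ 0) (hu : u ≠ 0) : Commute (hh i j t) (hh k l u) :=
  binjhcomm_core ww_inv ww_eq_hh_mul
    (fun hij' _ _ ht' hu' => symr_hh_mul hn hij' ht' hu')
    (fun hij' _ ht' _ _ hkl' _ hu' =>
      hww_core hij' (fun ht'' _ _ hkl'' _ hu'' => ww_conj_ww hn hij' ht'' hkl'' hu'') ht' hkl' hu')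
    hij hkl ht hu

end Cfsg.Agent.Lib.Helper41.Stn
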