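import Mathlib
import Cfsg.Agent.Lib.Helper70.Kulakoff3
import Cfsg.Agent.Lib.Helper29.CyclicMax

set_option autoImplicit false
set_option linter.unusedSectionVars false
set_option linter.style.haveILetI false

/-!
Kulakoff's theorem: in a noncyclic group of order `p ^ n`, `p` odd, the number of subgroups of
order `p ^ a`, `1 ≤ a < n`, is congruent to `1 + p` modulo `p ^ 2`.
-/

namespace Cfsg.Agent.Lib.Helper70

open Subgroup

universe u

theorem kk_pgroup (p : ℕ) [hp : Fact p.Prime] (hodd : p ≠ 2) : ∀ n, ∀ (P : Type u) [Group P]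
    [Finite P], Nat.card P = p ^ n → ¬ IsCyclic P → ∀ a, 1 ≤ a → a + 1 ≤ n →
    Nat.card {H : Subgroup P // Nat.card H = p ^ a} ≡ 1 + p [MOD p ^ 2] := by
  intro n
  induction n using Nat.strong_induction_on with
  | _ n IH =>
  intro P _ _ hP hnc a ha1 han
  have hPg : IsPGroup p P := IsPGroup.of_card hP
  by_cases hlast : a + 1 = n
  · have h1 : Nat.card {H : Subgroup P // Nat.card H = p ^ a} =
        Nat.card {M : Subgroup P // M.index = p ∧ (⊥ : Subgroup P) ≤ M} := by
      apply Nat.card_congr
      refine Equiv.subtypeEquivRight ?_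
      intro H
      constructor
      · intro h
        have := kk_index_of_card hP (k := 1) (by omega) H (by rw [h]; congr 1; omega)
        rw [pow_one] at this
        exact ⟨this, bot_le⟩
      · intro h
        have := kk_card_of_index hP (k := 1) (by omega) H (by rw [pow_one]; exact h.1)
        rw [this]; congr 1; omega
    rw [h1]
    obtain ⟨e, he⟩ := kk_mu_formula hPg (⊥ : Subgroup P)
    apply kk_nt_modEq hp.out.two_le he
    obtain ⟨M₁, M₂, hM₁, hM₂, hne⟩ := kk_exists_two hPg hnc
    have : 1 < Nat.card {M : Subgroup P // M.index = p ∧ (⊥ : Subgroup P) ≤ M} :=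
      Finite.one_lt_card_iff_nontrivial.mpr
        ⟨⟨⟨M₁, hM₁, bot_le⟩, ⟨M₂, hM₂, bot_le⟩, fun h => hne (congrArg Subtype.val h)⟩⟩
    exact this
  · have han2 : a + 2 ≤ n := by omega
    have hIH : ∀ b, 1 ≤ b → b + 2 ≤ n → ∀ M : Subgroup P, M.index = p → ¬ IsCyclic M →
        Nat.card {H : Subgroup M // Nat.card H = p ^ b} ≡ 1 + p [MOD p ^ 2] := by
      intro b hb1 hb2 M hM hMc
      have hMcard : Nat.card M = p ^ (n - 1) :=
        kk_card_of_index hP (k := 1) (by omega) M (by rw [pow_one]; exact hM)
      exact IH (n - 1) (by omega) M hMcard hMc b hb1 (by omega)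
    have hrec := kk_recursion hP hnc han2 (hIH a ha1 han2)
    set t := Nat.card {M : Subgroup P // M.index = p ∧ IsCyclic M} with ht
    have hpt : p * t ≡ 0 [MOD p ^ 2] := by
      by_cases ht0 : t = 0
      · rw [ht0, mul_zero]
      · have hne : Nonempty {M : Subgroup P // M.index = p ∧ IsCyclic M} := by
          by_contra hne
          rw [not_nonempty_iff] at hne
          exact ht0 Nat.card_of_isEmpty
        obtain ⟨⟨M, hM, hMc⟩⟩ := hne
        obtain ⟨W, hW, hWc⟩ :=
          Cfsg.Agent.Lib.Helper29.exists_omega_card_sq hodd hPg hnc M hMc hM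
        have hs1 := kk_count_order_p W hW hWc
        have hrec1 := kk_recursion hP hnc (a := 1) (by omega) (hIH 1 le_rfl (by omega))
        rw [pow_one, hs1, ← ht, add_comm p 1] at hrec1
        have h2 : (1 + p) + p * t ≡ (1 + p) + 0 [MOD p ^ 2] := by rwa [add_zero]
        exact Nat.ModEq.add_left_cancel' (1 + p) h2
    have h3 : Nat.card {H : Subgroup P // Nat.card H = p ^ a} + p * t ≡
        Nat.card {H : Subgroup P // Nat.card H = p ^ a} + 0 [MOD p ^ 2] := Nat.ModEq.add_left _ hpt
    rw [add_zero] at h3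
    exact h3.symm.trans hrec

/-- the number of subgroups of order `p ^ a < |P|` of a `p`-group, `p` odd, modulo `p²` -/
theorem kk_pgroup_all (p : ℕ) [hp : Fact p.Prime] (hodd : p ≠ 2) {P : Type u} [Group P] [Finite P]
    {n a : ℕ} (hP : Nat.card P = p ^ n) (han : a + 1 ≤ n) :
    Nat.card {H : Subgroup P // Nat.card H = p ^ a} ≡ 1 [MOD p ^ 2] ∨
      Nat.card {H : Subgroup P // Nat.card H = p ^ a} ≡ 1 + p [MOD p ^ 2] := by
  by_cases hc : IsCyclic P
  · left
    haveI := hc
    rw [kk_cyclic_count hP (by omega)]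
  · rcases Nat.eq_zero_or_pos a with ha | ha
    · left
      subst ha
      have : Nat.card {H : Subgroup P // Nat.card H = p ^ 0} = 1 := by
        rw [Nat.card_eq_one_iff_unique]
        constructor
        · constructor
          intro H K
          apply Subtype.ext
          have hH : (H.1 : Subgroup P) = ⊥ := Subgroup.card_eq_one.mp (H.2.trans (pow_zero p))
          have hK : (K.1 : Subgroup P) = ⊥ := Subgroup.card_eq_one.mp (K.2.trans (pow_zero p))
          rw [hH, hK]
        · exact ⟨⟨⊥, by rw [pow_zero, Subgroup.card_eq_one]⟩⟩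
      rw [this]
    · right
      exact kk_pgroup p hodd n P hP hc a ha han

end Cfsg.Agent.Lib.Helper70
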