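import Cfsg.Agent.Lib.Helper37.G2zDefs

set_option autoImplicit false

namespace Cfsg.Agent.Lib.Helper37.G2z

open Cfsg Cfsg.Lie Cfsg.Agent.Lib.Helper36 Cfsg.Agent.Lib.Helper20.G2c Cfsg.Agent.Lib.Helper18

theorem g2ztrans_map_cent {G : Type*} [Group G] (φ : G ≃* G) (t0 : G) :
    (Subgroup.centralizer ({t0} : Set G)).map φ.toMonoidHom
      = Subgroup.centralizer ({φ t0} : Set G) := by
  ext x
  rw [Subgroup.mem_map, Subgroup.mem_centralizer_singleton_iff]
  constructor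
  · rintro ⟨y, hy, rfl⟩
    rw [Subgroup.mem_centralizer_singleton_iff] at hy
    show φ y * φ t0 = φ t0 * φ y
    rw [← map_mul, ← map_mul, hy]
  · intro hx
    refine ⟨φ.symm x, ?_, by simp⟩
    rw [Subgroup.mem_centralizer_singleton_iff]
    apply φ.injective
    rw [map_mul, map_mul, MulEquiv.apply_symm_apply]
    exact hx

/-- G2Z-TRANS -/
theorem good_conj {G : Type*} [Group G] {S : Type*} [Group S] (N : ℕ) (t0 t : G) (h : IsConj t0 t)
    (h0 : Good G S N t0) : Good G S N t := by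
  obtain ⟨c, hc⟩ := isConj_iff.mp h
  obtain ⟨hcard, L₁, L₂, ⟨e₁⟩, ⟨e₂⟩, hcomm, hinf, hle, hidx⟩ := h0
  have hφt : (MulAut.conj c) t0 = t := by rw [MulAut.conj_apply]; exact hc
  have hinj : Function.Injective (MulAut.conj c).toMonoidHom := (MulAut.conj c).injective
  have hcent := g2ztrans_map_cent (MulAut.conj c) t0
  rw [hφt] at hcent
  refine ⟨?_, L₁.map (MulAut.conj c).toMonoidHom, L₂.map (MulAut.conj c).toMonoidHom,
    ⟨(L₁.equivMapOfInjective _ hinj).symm.trans e₁⟩,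
    ⟨(L₂.equivMapOfInjective _ hinj).symm.trans e₂⟩, ?_, ?_, ?_, ?_⟩
  · rw [← hcent, Subgroup.card_map_of_injective hinj, hcard]
  · rintro _ ⟨a, ha, rfl⟩ _ ⟨b, hb, rfl⟩
    rw [← map_mul, ← map_mul, hcomm a ha b hb]
  · rw [← Subgroup.map_inf _ _ _ hinj, hinf, MonoidHom.map_zpowers]
    congr 1
  · rw [← Subgroup.map_sup, ← hcent]
    exact Subgroup.map_mono hle
  · rw [← Subgroup.map_sup, ← hcent, Subgroup.relIndex_map_map_of_injective _ _ hinj, hidx]

end Cfsg.Agent.Lib.Helper37.G2z
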