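import Mathlib
import Cfsg.Agent.Lib.Helper38.RhDefs

/-! # Rh hive (helper38), leaves RH-AR0, RH-AR1, RH-AR2: arithmetic of `N = q² - q + 1`, `q = 3^(2m+1)` -/

set_option autoImplicit false

namespace Cfsg.Agent.Lib.Helper38.Rh

theorem ar0_rr_sq (m : ℕ) : rr m ^ 2 = 3 * qq m := by
  unfold rr qq
  rw [← pow_mul, ← pow_succ']
  congr 1
  ring

theorem ar0_qq_ge (m : ℕ) (hm : 1 ≤ m) : 27 ≤ qq m := by
  unfold qq
  calc 27 = 3 ^ 3 := by norm_num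
    _ ≤ 3 ^ (2 * m + 1) := Nat.pow_le_pow_right (by norm_num) (by omega)

theorem ar0_rr_lt (m : ℕ) (hm : 1 ≤ m) : rr m < qq m := by
  unfold rr qq
  exact Nat.pow_lt_pow_right (by norm_num) (by omega)

theorem ar0_le_sq (q : ℕ) : q ≤ q ^ 2 := by
  rw [sq]
  rcases Nat.eq_zero_or_pos q with h | h
  · simp [h]
  · exact Nat.le_mul_of_pos_left q h

/-- RH-AR0.  `N = (q + r + 1)(q - r + 1)`, `r² = 3q`, `27 ≤ q`, `r < q`. -/
theorem NN_eq (m : ℕ) (hm : 1 ≤ m) :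
    NN m = (qq m + rr m + 1) * (qq m - rr m + 1) ∧ rr m ^ 2 = 3 * qq m ∧ 27 ≤ qq m ∧ rr m < qq m := by
  have h1 := ar0_rr_sq m
  have h3 := ar0_rr_lt m hm
  refine ⟨?_, h1, ar0_qq_ge m hm, h3⟩
  unfold NN
  have hq : qq m ≤ qq m ^ 2 := ar0_le_sq _
  zify [hq, h3.le]
  zify at h1
  linear_combination h1

theorem ar1_mod (m : ℕ) : qq m % 2 = 1 ∧ qq m % 3 = 0 ∧ (qq m % 5 = 3 ∨ qq m % 5 = 2) := by
  induction m with
  | zero => simp [qq]
  | succ k ih =>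
    have h9 : qq (k + 1) = 9 * qq k := by
      unfold qq
      rw [show 2 * (k + 1) + 1 = (2 * k + 1) + 2 by ring, pow_add]
      ring
    rw [h9]
    omega

theorem ar1_NN_add (m : ℕ) : NN m + qq m = qq m * qq m + 1 := by
  unfold NN
  have hq : qq m ≤ qq m ^ 2 := ar0_le_sq _
  rw [sq] at hq ⊢
  omega

theorem ar1_NN_mod (m : ℕ) : NN m % 2 = 1 ∧ NN m % 3 = 1 ∧ (NN m % 5 = 2 ∨ NN m % 5 = 3) := by
  obtain ⟨h2, h3, h5⟩ := ar1_mod m
  have hN := ar1_NN_add m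
  have m2 : (qq m * qq m) % 2 = 1 := by rw [Nat.mul_mod, h2]
  have m3 : (qq m * qq m) % 3 = 0 := by rw [Nat.mul_mod, h3]
  have m5 : (qq m * qq m) % 5 = 4 := by rcases h5 with h | h <;> rw [Nat.mul_mod, h]
  generalize qq m * qq m = s at hN m2 m3 m5
  refine ⟨by omega, by omega, by omega⟩

/-- RH-AR1.  Every divisor `> 1` of `N` is at least `7`. -/
theorem seven_le_of_dvd_NN (m : ℕ) {t : ℕ} (ht : t ∣ NN m) (h1 : 1 < t) : 7 ≤ t := by
  by_contra hlt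
  push Not at hlt
  obtain ⟨n2, n3, n5⟩ := ar1_NN_mod m
  obtain ⟨c, hc⟩ := ht
  interval_cases t <;> omega

theorem ar2_NN_val (m : ℕ) : NN m = qq m * (qq m - 1) + 1 := by
  unfold NN
  rw [Nat.mul_sub, mul_one, sq]

theorem ar2_gg_val (m : ℕ) : gg m = (qq m ^ 3 * (qq m - 1) * (qq m + 1)) * NN m := by
  have hpos : 1 ≤ qq m := Nat.one_le_pow _ _ (by norm_num)
  have hfac : qq m ^ 3 + 1 = (qq m + 1) * NN m := by
    rw [ar2_NN_val]
    obtain ⟨k, hk⟩ := Nat.exists_eq_add_of_le hpos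
    rw [hk, Nat.add_sub_cancel_left]
    ring
  unfold gg
  rw [hfac]
  ring

theorem ar2_not_dvd (m : ℕ) (hm : 1 ≤ m) {p : ℕ} (hp : p.Prime) (hpN : p ∣ NN m) :
    ¬ p ∣ qq m ^ 3 * (qq m - 1) * (qq m + 1) := by
  intro hdiv
  have hq27 := ar0_qq_ge m hm
  have hval := ar2_NN_val m
  have h1 : ¬ p ∣ qq m * (qq m - 1) := by
    intro h
    rw [hval] at hpN
    have : p ∣ 1 := (Nat.dvd_add_right h).mp hpN
    exact hp.one_lt.ne' (Nat.dvd_one.mp this)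
  rcases (Nat.Prime.dvd_mul hp).mp hdiv with h | h
  · rcases (Nat.Prime.dvd_mul hp).mp h with h' | h'
    · exact h1 (Dvd.dvd.mul_right (hp.dvd_of_dvd_pow h') _)
    · exact h1 (Dvd.dvd.mul_left h' _)
  · -- p ∣ q + 1
    have hval2 : NN m = (qq m + 1) * (qq m - 2) + 3 := by
      rw [hval]
      obtain ⟨k, hk⟩ := Nat.exists_eq_add_of_le (show 2 ≤ qq m by omega)
      rw [hk]
      have e1 : 2 + k - 1 = k + 1 := by omega
      have e2 : 2 + k - 2 = k := by omega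
      rw [e1, e2]
      ring
    rw [hval2] at hpN
    have h3 : p ∣ 3 := (Nat.dvd_add_right (Dvd.dvd.mul_right h _)).mp hpN
    have hp3 : p = 3 := (Nat.prime_dvd_prime_iff_eq hp Nat.prime_three).mp h3
    obtain ⟨-, n3, -⟩ := ar1_NN_mod m
    rw [← hval2, hp3] at hpN
    omega

/-- RH-AR2.  `N` is prime to `|G| / N = q³ (q - 1) (q + 1)`. -/
theorem factorization_gg (m : ℕ) (hm : 1 ≤ m) {p : ℕ} (hp : p.Prime) (hpN : p ∣ NN m) :
    (gg m).factorization p = (NN m).factorization p := by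
  have hq27 := ar0_qq_ge m hm
  have hN0 : NN m ≠ 0 := by rw [ar2_NN_val]; omega
  have ha0 : qq m ^ 3 * (qq m - 1) * (qq m + 1) ≠ 0 := by
    have h1 : qq m ^ 3 ≠ 0 := pow_ne_zero _ (by omega)
    have h2 : qq m - 1 ≠ 0 := by omega
    have h3 : qq m + 1 ≠ 0 := by omega
    exact mul_ne_zero (mul_ne_zero h1 h2) h3
  rw [ar2_gg_val, Nat.factorization_mul ha0 hN0, Finsupp.add_apply,
    Nat.factorization_eq_zero_of_not_dvd (ar2_not_dvd m hm hp hpN), zero_add]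

end Cfsg.Agent.Lib.Helper38.Rh
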