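import Mathlib
import Cfsg.Agent.Lib.Helper70.RtSL2NS

/-!
Rh hive (helper38), leaf RH-K1S: in `SL₂(q)`, `q` odd, the centraliser of an element of odd prime order `ℓ ∣ q + 1`
has a normaliser of order `2 (q + 1)` (from S2429).
-/

set_option autoImplicit false

namespace Cfsg.Agent.Lib.Helper38.Rh

open Matrix Cfsg.Agent.Lib.Helper12.Rt

theorem k1s_conj {K : Type*} [Field K] [Fintype K] (hodd : Odd (Fintype.card K))
    (p : ℕ) (hp : p.Prime) (hp2 : p ≠ 2) (hpq : p ∣ Fintype.card K + 1)
    (g : Matrix.SpecialLinearGroup (Fin 2) K) (hg : orderOf g = p) :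
    ∃ (T' : Subgroup (Matrix.SpecialLinearGroup (Fin 2) K)) (h : Matrix.SpecialLinearGroup (Fin 2) K),
      Nat.card ↥(Subgroup.normalizer (T' : Set (Matrix.SpecialLinearGroup (Fin 2) K))) =
        2 * (Fintype.card K + 1) ∧
      (Subgroup.centralizer ({g} : Set (Matrix.SpecialLinearGroup (Fin 2) K))).map
        (MulAut.conj h).toMonoidHom = T' := by
  classical
  have hq2 : 2 ≤ Fintype.card K := Fintype.one_lt_card
  have hpnq : ¬ p ∣ Fintype.card K := by
    intro h
    have : p ∣ 1 := (Nat.dvd_add_right h).mp hpq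
    exact hp.one_lt.ne' (Nat.dvd_one.mp this)
  have hpnq1 : ¬ p ∣ Fintype.card K - 1 := by
    intro h
    have h3 : p ∣ (Fintype.card K + 1) - (Fintype.card K - 1) := Nat.dvd_sub hpq h
    have h4 : (Fintype.card K + 1) - (Fintype.card K - 1) = 2 := by omega
    rw [h4] at h3
    exact hp2 ((Nat.prime_dvd_prime_iff_eq hp Nat.prime_two).mp h3)
  have hgp : g ^ p = 1 := by rw [← hg]; exact pow_orderOf_eq_one g
  -- no eigenvector
  have hnoeig : ∀ (c : K) (v : Fin 2 → K), v ≠ 0 →
      (g : Matrix (Fin 2) (Fin 2) K).mulVec v ≠ c • v := by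
    intro c v hv hgv
    have hpow : ∀ k : ℕ, ((g ^ k : Matrix.SpecialLinearGroup (Fin 2) K) :
        Matrix (Fin 2) (Fin 2) K).mulVec v = c ^ k • v := by
      intro k
      induction k with
      | zero => simp
      | succ k ih =>
        rw [pow_succ, Matrix.SpecialLinearGroup.coe_mul, ← Matrix.mulVec_mulVec, hgv,
          Matrix.mulVec_smul, ih, smul_smul, pow_succ, mul_comm]
    have hcp : c ^ p = 1 := by
      have h1 := hpow p
      rw [hgp, Matrix.SpecialLinearGroup.coe_one, Matrix.one_mulVec] at h1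
      obtain ⟨i, hi⟩ : ∃ i, v i ≠ 0 := by
        by_contra hall
        apply hv
        funext i
        by_contra hi
        exact hall ⟨i, hi⟩
      have h2 := congrFun h1 i
      simp only [Pi.smul_apply, smul_eq_mul] at h2
      have h3 : (c ^ p - 1) * v i = 0 := by linear_combination -h2
      have := (mul_eq_zero.mp h3).resolve_right hi
      linear_combination this
    have hc0 : c ≠ 0 := by
      intro h0
      rw [h0, zero_pow hp.ne_zero] at hcp
      exact zero_ne_one hcp
    have hcq : c ^ (Fintype.card K - 1) = 1 := FiniteField.pow_card_sub_one_eq_one c hc0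
    have hc1 : c = 1 := by
      have hcop : Nat.Coprime p (Fintype.card K - 1) := (Nat.Prime.coprime_iff_not_dvd hp).mpr hpnq1
      have h1 : orderOf c ∣ p := orderOf_dvd_of_pow_eq_one hcp
      have h2 : orderOf c ∣ Fintype.card K - 1 := orderOf_dvd_of_pow_eq_one hcq
      have h3 : orderOf c ∣ 1 := by
        have := Nat.dvd_gcd h1 h2
        rwa [hcop.gcd_eq_one] at this
      exact orderOf_eq_one_iff.mp (Nat.dvd_one.mp h3)
    rw [hc1, one_smul] at hgv
    have hgq := sl2ns_pow_card g v hv hgv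
    have : p ∣ Fintype.card K := by rw [← hg]; exact orderOf_dvd_of_pow_eq_one hgq
    exact hpnq this
  obtain ⟨T', hcyc, hcard, -, hcentelt, hconj, hnorm, -, -⟩ := Cfsg.Agent.S2429.result hodd (F := K)
  obtain ⟨h, hh⟩ := hconj g hnoeig
  set g' := h * g * h⁻¹ with hg'
  have horder : orderOf g' = p := by
    have := (MulAut.conj h).orderOf_eq g
    rw [MulAut.conj_apply] at this
    rw [hg', this, hg]
  have hne1 : (g' : Matrix (Fin 2) (Fin 2) K) ≠ 1 := by
    intro h1
    have : g' = 1 := Subtype.ext h1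
    rw [this, orderOf_one] at horder
    exact hp.one_lt.ne horder
  have hneg1 : (g' : Matrix (Fin 2) (Fin 2) K) ≠ -1 := by
    intro h1
    have h2 : g' ^ 2 = 1 := by
      apply Subtype.ext
      rw [Matrix.SpecialLinearGroup.coe_pow, h1, Matrix.SpecialLinearGroup.coe_one]
      simp
    have : p ∣ 2 := by rw [← horder]; exact orderOf_dvd_of_pow_eq_one h2
    exact hp2 ((Nat.prime_dvd_prime_iff_eq hp Nat.prime_two).mp this)
  have hcent : Subgroup.centralizer ({g'} : Set (Matrix.SpecialLinearGroup (Fin 2) K)) = T' :=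
    hcentelt g' hh hne1 hneg1
  -- transport the centraliser along conjugation by `h`
  have hmap : (Subgroup.centralizer ({g} : Set (Matrix.SpecialLinearGroup (Fin 2) K))).map
      (MulAut.conj h).toMonoidHom = T' := by
    rw [← hcent]
    ext y
    rw [Subgroup.mem_map_equiv, Subgroup.mem_centralizer_singleton_iff,
      Subgroup.mem_centralizer_singleton_iff, MulAut.conj_symm_apply, hg']
    constructor
    · intro hy
      have : y * (h * g * h⁻¹) = h * ((h⁻¹ * y * h) * g) * h⁻¹ := by group
      rw [this, hy]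
      group
    · intro hy
      have : h⁻¹ * y * h * g = h⁻¹ * (y * (h * g * h⁻¹)) * h := by group
      rw [this, hy]
      group
  exact ⟨T', h, hnorm, hmap⟩

/-- RH-K1S -/
theorem sl2_card_normalizer_cent {K : Type*} [Field K] [Fintype K] (hodd : Odd (Fintype.card K)) (ℓ : ℕ) (hℓ : ℓ.Prime)
    (hℓ2 : ℓ ≠ 2) (hd : ℓ ∣ Fintype.card K + 1) (z : Matrix.SpecialLinearGroup (Fin 2) K) (hz : orderOf z = ℓ) :
    Nat.card ↥(Subgroup.normalizer
      ((Subgroup.centralizer ({z} : Set (Matrix.SpecialLinearGroup (Fin 2) K)) :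
        Subgroup (Matrix.SpecialLinearGroup (Fin 2) K)) : Set (Matrix.SpecialLinearGroup (Fin 2) K))) =
      2 * (Fintype.card K + 1) := by
  obtain ⟨T', h, hnorm, hmap⟩ := k1s_conj hodd ℓ hℓ hℓ2 hd z hz
  have hN := Subgroup.map_equiv_normalizer_eq
    (Subgroup.centralizer ({z} : Set (Matrix.SpecialLinearGroup (Fin 2) K))) (MulAut.conj h)
  rw [hmap] at hN
  have e : ↥(Subgroup.normalizer
      ((Subgroup.centralizer ({z} : Set (Matrix.SpecialLinearGroup (Fin 2) K)) :
        Subgroup (Matrix.SpecialLinearGroup (Fin 2) K)) : Set (Matrix.SpecialLinearGroup (Fin 2) K))) ≃*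
      ↥(Subgroup.normalizer (T' : Set (Matrix.SpecialLinearGroup (Fin 2) K))) :=
    (Subgroup.equivMapOfInjective _ _ (MulAut.conj h).injective).trans (MulEquiv.subgroupCongr hN)
  rw [Nat.card_congr e.toEquiv, hnorm]

end Cfsg.Agent.Lib.Helper38.Rh
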