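import Mathlib
import Cfsg.Agent.Lib.Helper38.RhDefs

/-! # Rh hive (helper38), leaf RH-REPS: representatives of the conjugacy classes of tori -/

set_option autoImplicit false

namespace Cfsg.Agent.Lib.Helper38.Rh

section abstract
variable {G : Type*} [Group G] [Finite G] {N : ℕ}

/-- conjugacy of subgroups, in the form used by `IsReps`. -/
def reps_rel (T₁ T₂ : Subgroup G) : Prop := ∃ g : G, T₂ = T₁.map (MulAut.conj g).toMonoidHom

omit [Finite G] in
theorem reps_map_map (T : Subgroup G) (g h : G) :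
    (T.map (MulAut.conj g).toMonoidHom).map (MulAut.conj h).toMonoidHom =
      T.map (MulAut.conj (h * g)).toMonoidHom := by
  rw [Subgroup.map_map]
  congr 1
  ext x
  simp [mul_assoc]

omit [Finite G] in
theorem reps_map_one (T : Subgroup G) : T.map (MulAut.conj (1 : G)).toMonoidHom = T := by
  ext x
  simp

omit [Finite G] in
theorem reps_rel_refl (T : Subgroup G) : reps_rel T T := ⟨1, (reps_map_one T).symm⟩

omit [Finite G] in
theorem reps_rel_symm {T₁ T₂ : Subgroup G} (h : reps_rel T₁ T₂) : reps_rel T₂ T₁ := by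
  obtain ⟨g, rfl⟩ := h
  refine ⟨g⁻¹, ?_⟩
  rw [reps_map_map, inv_mul_cancel, reps_map_one]

omit [Finite G] in
theorem reps_rel_trans {T₁ T₂ T₃ : Subgroup G} (h : reps_rel T₁ T₂) (h' : reps_rel T₂ T₃) :
    reps_rel T₁ T₃ := by
  obtain ⟨g, rfl⟩ := h
  obtain ⟨k, rfl⟩ := h'
  exact ⟨k * g, reps_map_map T₁ g k⟩

omit [Finite G] in
theorem reps_torus_map {T : Subgroup G} (hT : IsTorus N T) (g : G) :
    IsTorus N (T.map (MulAut.conj g).toMonoidHom) := by
  obtain ⟨x, p, hp, hpN, hx, rfl⟩ := hT
  refine ⟨g * x * g⁻¹, p, hp, hpN, ?_, ?_⟩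
  · rw [← hx]
    have : g * x * g⁻¹ = MulAut.conj g x := by simp
    rw [this]
    exact MulEquiv.orderOf_eq (MulAut.conj g) x
  · ext y
    rw [Subgroup.mem_map, Subgroup.mem_centralizer_iff]
    constructor
    · rintro ⟨z, hz, rfl⟩
      rw [Subgroup.mem_centralizer_iff] at hz
      intro w hw
      rw [Set.mem_singleton_iff] at hw
      subst hw
      have hzx := hz x rfl
      simp only [MulEquiv.coe_toMonoidHom, MulAut.conj_apply]
      calc g * x * g⁻¹ * (g * z * g⁻¹) = g * (x * z) * g⁻¹ := by group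
        _ = g * (z * x) * g⁻¹ := by rw [hzx]
        _ = g * z * g⁻¹ * (g * x * g⁻¹) := by group
    · intro hy
      refine ⟨g⁻¹ * y * g, ?_, ?_⟩
      · rw [Subgroup.mem_centralizer_iff]
        intro w hw
        rw [Set.mem_singleton_iff] at hw
        subst hw
        have hyx := hy (g * w * g⁻¹) rfl
        calc w * (g⁻¹ * y * g) = g⁻¹ * ((g * w * g⁻¹) * y) * g := by group
          _ = g⁻¹ * (y * (g * w * g⁻¹)) * g := by rw [hyx]
          _ = g⁻¹ * y * g * w := by group
      · simp only [MulEquiv.coe_toMonoidHom, MulAut.conj_apply]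
        group

/-- the chosen representative of the class of `T`. -/
noncomputable def reps_rep (T : Subgroup G) : Subgroup G := Classical.epsilon (reps_rel T)

omit [Finite G] in
theorem reps_rep_spec (T : Subgroup G) : reps_rel T (reps_rep T) :=
  Classical.epsilon_spec ⟨T, reps_rel_refl T⟩

omit [Finite G] in
theorem reps_rep_eq {T₁ T₂ : Subgroup G} (h : reps_rel T₁ T₂) : reps_rep T₁ = reps_rep T₂ := by
  unfold reps_rep
  congr 1
  funext X
  apply propext
  constructor
  · intro hX
    exact reps_rel_trans (reps_rel_symm h) hX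
  · intro hX
    exact reps_rel_trans h hX

/-- RH-REPS (Mathlib only, general).  Representatives of the conjugacy classes of the subgroups with a property. -/
theorem exists_reps (N : ℕ) : ∃ R : Finset (Subgroup G), IsReps N R := by
  classical
  have hfin : Set.Finite {T : Subgroup G | IsTorus N T} := Set.toFinite _
  refine ⟨hfin.toFinset.image reps_rep, ?_, ?_, ?_⟩
  · intro T hT
    rw [Finset.mem_image] at hT
    obtain ⟨A, hA, rfl⟩ := hT
    rw [Set.Finite.mem_toFinset, Set.mem_ofPred_eq] at hA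
    obtain ⟨g, hg⟩ := reps_rep_spec A
    rw [hg]
    exact reps_torus_map hA g
  · intro T hT
    refine ⟨reps_rep T, ?_, ?_⟩
    · rw [Finset.mem_image]
      exact ⟨T, by rw [Set.Finite.mem_toFinset]; exact hT, rfl⟩
    · exact reps_rel_symm (reps_rep_spec T)
  · intro T₁ hT₁ T₂ hT₂ h12
    rw [Finset.mem_image] at hT₁ hT₂
    obtain ⟨A, -, rfl⟩ := hT₁
    obtain ⟨B, -, rfl⟩ := hT₂
    have hAB : reps_rel A B :=
      reps_rel_trans (reps_rel_trans (reps_rep_spec A) h12) (reps_rel_symm (reps_rep_spec B))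
    exact reps_rep_eq hAB

end abstract

end Cfsg.Agent.Lib.Helper38.Rh
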