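import Mathlib

set_option autoImplicit false

namespace Cfsg.Agent.Lib.Helper70

open Equiv

set_option maxRecDepth 100000 in
theorem V4mul : ∀ a b : Perm (Fin 4), (a * a = 1 ∧ Perm.sign a = 1) → (b * b = 1 ∧ Perm.sign b = 1) →
    ((a * b) * (a * b) = 1 ∧ Perm.sign (a * b) = 1) := by
  decide

set_option maxRecDepth 100000 in
theorem A4_comm : ∀ g₁ g₂ : Perm (Fin 4), Perm.sign g₁ = 1 → Perm.sign g₂ = 1 →
   (g₁ * g₂ * g₁⁻¹ * g₂⁻¹) * (g₁ * g₂ * g₁⁻¹ * g₂⁻¹) = 1 := by
  decide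

set_option maxRecDepth 100000 in
theorem V4_comm : ∀ g₁ g₂ : Perm (Fin 4), (g₁ * g₁ = 1 ∧ Perm.sign g₁ = 1) → (g₂ * g₂ = 1 ∧ Perm.sign g₂ = 1) →
    g₁ * g₂ * g₁⁻¹ * g₂⁻¹ = 1 := by
  decide

/-- the Klein four subgroup of `S₄` -/
def V4 : Subgroup (Perm (Fin 4)) where
  carrier := {σ | σ * σ = 1 ∧ Perm.sign σ = 1}
  mul_mem' := fun {a b} ha hb => V4mul a b ha hb
  one_mem' := by simp
  inv_mem' := by
    intro a ha
    obtain ⟨h1, h2⟩ := ha
    refine ⟨?_, ?_⟩
    · rw [← mul_inv_rev, h1, inv_one]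
    · rw [Perm.sign_inv]; exact h2

theorem mem_V4 (σ : Perm (Fin 4)) : σ ∈ V4 ↔ (σ * σ = 1 ∧ Perm.sign σ = 1) := Iff.rfl

/-- The symmetric group of degree four is solvable. -/
theorem perm4_solvable : Group.IsSolvable (Perm (Fin 4)) := by
  rw [Group.isSolvable_def]
  refine ⟨3, ?_⟩
  have h1 : derivedSeries (Perm (Fin 4)) 1 ≤ (Perm.sign : Perm (Fin 4) →* ℤˣ).ker := by
    rw [derivedSeries_one]
    exact Abelianization.commutator_subset_ker _
  have h2 : derivedSeries (Perm (Fin 4)) 2 ≤ V4 := by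
    rw [derivedSeries_succ]
    refine le_trans (Subgroup.commutator_mono h1 h1) ?_
    rw [Subgroup.commutator_le]
    intro g₁ hg₁ g₂ hg₂
    rw [MonoidHom.mem_ker] at hg₁ hg₂
    rw [mem_V4, commutatorElement_def]
    refine ⟨A4_comm g₁ g₂ hg₁ hg₂, ?_⟩
    simp [hg₁, hg₂]
  rw [derivedSeries_succ, eq_bot_iff]
  refine le_trans (Subgroup.commutator_mono h2 h2) ?_
  rw [Subgroup.commutator_le]
  intro g₁ hg₁ g₂ hg₂
  rw [Subgroup.mem_bot, commutatorElement_def]
  exact V4_comm g₁ g₂ hg₁ hg₂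

/-- The symmetric group on a type with four elements is solvable. -/
theorem perm_solvable_of_card_four (α : Type*) (h : Nat.card α = 4) : Group.IsSolvable (Perm α) := by
  have : Finite α := Nat.finite_of_card_ne_zero (by omega)
  let e : α ≃ Fin 4 := Finite.equivFinOfCardEq h
  have := perm4_solvable
  exact Group.isSolvable_of_isSolvable_injective (f := (e.permCongrHom : Perm α →* Perm (Fin 4)))
    e.permCongrHom.injective

/-- A finite group with a core-free subgroup of index four is solvable. -/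
theorem solvable_of_index_four_core_free {G : Type*} [Group G] (M : Subgroup G) (h4 : M.index = 4)
    (hcore : M.normalCore = ⊥) : Group.IsSolvable G := by
  have hc : Nat.card (G ⧸ M) = 4 := h4
  have := perm_solvable_of_card_four (G ⧸ M) hc
  refine Group.isSolvable_of_isSolvable_injective (f := MulAction.toPermHom G (G ⧸ M)) ?_
  rw [← MonoidHom.ker_eq_bot_iff, ← Subgroup.normalCore_eq_ker, hcore]

end Cfsg.Agent.Lib.Helper70
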