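import Cfsg.Agent.Lib.Helper4.LcDefs

set_option autoImplicit false
open Matrix

/-!
Lc hive (helper4, S0406), leaf LC-CEV (core): at most `1104 + 128 * 759 = 98256` even vectors of
sum of squares 32.  The sibling leaves are taken as hypotheses, in their skeleton form.
-/

namespace Cfsg.Agent.Lib.Helper4.Lc

variable {Λ : AddSubgroup V}

theorem lccev_sq_dbl (a : V) : sq (dbl a) = 4 * sq a := by
  unfold sq
  rw [Finset.mul_sum]
  apply Finset.sum_congr rfl
  intro i _
  rw [dbl_apply]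
  ring

theorem lccev_exists_half (v : V) (hv : AllEven v) : ∃ a : V, v = dbl a := by
  refine ⟨fun i => v i / 2, ?_⟩
  funext i
  rw [dbl_apply]
  exact (Int.mul_ediv_cancel' (hv i)).symm

theorem lccev_dbl_injective : Function.Injective (dbl : V → V) := by
  intro a b hab
  funext i
  have := congrFun hab i
  rw [dbl_apply, dbl_apply] at this
  omega

/-- LC-CEV with the sibling leaves as hypotheses. -/
theorem lccev_core (h : Fr Λ)
    (hsh8 : ∀ a : V, sq a = 8 →
      (∃ i j : Fin 24, i < j ∧ ∃ s t : ℤ, (s = 2 ∨ s = -2) ∧ (t = 2 ∨ t = -2) ∧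
          a = Pi.single i s + Pi.single j t)
      ∨ hammingNorm (red a) = 4
      ∨ ((∀ i, a i = 0 ∨ a i = 1 ∨ a i = -1) ∧ hammingNorm (red a) = 8))
    (hc44 : {v : V | ∃ i j : Fin 24, i < j ∧ ∃ s t : ℤ, (s = 4 ∨ s = -4) ∧ (t = 4 ∨ t = -4) ∧
      v = Pi.single i s + Pi.single j t}.ncard ≤ 1104)
    (hsgn : ∀ c : Fin 24 → ZMod 2, hammingNorm c = 8 →
      {a : V | dbl a ∈ Λ ∧ (∀ i, a i = 0 ∨ a i = 1 ∨ a i = -1) ∧ red a = c}.ncard ≤ 128)
    (hoct : (∀ w ∈ code Λ, w ≠ 0 → 8 ≤ hammingNorm w) →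
      {w : Fin 24 → ZMod 2 | w ∈ code Λ ∧ hammingNorm w = 8}.ncard ≤ 759)
    (hdbl : ∀ w ∈ code Λ, 4 ∣ hammingNorm w)
    (hno4 : ∀ w ∈ code Λ, hammingNorm w ≠ 4) :
    {v : V | v ∈ Λ ∧ sq v = 32 ∧ AllEven v}.ncard ≤ 98256 := by
  classical
  -- minimum weight 8
  have hmin : ∀ w ∈ code Λ, w ≠ 0 → 8 ≤ hammingNorm w := by
    intro w hw hw0
    obtain ⟨k, hk⟩ := hdbl w hw
    have h4 := hno4 w hw
    have h0 : hammingNorm w ≠ 0 := by
      intro h0
      exact hw0 (hammingNorm_eq_zero.mp h0)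
    omega
  have h759 := hoct hmin
  -- the sets
  set T1 : Set V := {v : V | ∃ i j : Fin 24, i < j ∧ ∃ s t : ℤ, (s = 4 ∨ s = -4) ∧
    (t = 4 ∨ t = -4) ∧ v = Pi.single i s + Pi.single j t} with hT1
  set B : Set V := {a : V | dbl a ∈ Λ ∧ (∀ i, a i = 0 ∨ a i = 1 ∨ a i = -1) ∧
    red a ∈ code Λ ∧ hammingNorm (red a) = 8} with hB
  have hPfin : (Set.pi Set.univ (fun _ : Fin 24 => ({0, 1, -1} : Set ℤ))).Finite :=
    Set.Finite.pi (fun _ => Set.toFinite _)
  have hBsub : B ⊆ Set.pi Set.univ (fun _ : Fin 24 => ({0, 1, -1} : Set ℤ)) := by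
    intro a ha
    rw [Set.mem_univ_pi]
    intro i
    rcases ha.2.1 i with h0 | h1 | h2
    · simp [h0]
    · simp [h1]
    · simp [h2]
  have hBfin : B.Finite := hPfin.subset hBsub
  have hT1fin : T1.Finite := by
    have hpi : (Set.pi Set.univ (fun _ : Fin 24 => ({0, 4, -4} : Set ℤ))).Finite :=
      Set.Finite.pi (fun _ => Set.toFinite _)
    apply hpi.subset
    rintro v ⟨i, j, hij, s', t', hs', ht', rfl⟩
    rw [Set.mem_univ_pi]
    intro k
    have hne : i ≠ j := ne_of_lt hij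
    simp only [Pi.add_apply, Pi.single_apply]
    by_cases hki : k = i
    · have hkj : k ≠ j := by rw [hki]; exact hne
      rw [if_pos hki, if_neg hkj, add_zero]
      rcases hs' with h | h <;> simp [h]
    · rw [if_neg hki, zero_add]
      by_cases hkj : k = j
      · rw [if_pos hkj]
        rcases ht' with h | h <;> simp [h]
      · rw [if_neg hkj]
        simp
  -- the covering
  have hcover : {v : V | v ∈ Λ ∧ sq v = 32 ∧ AllEven v} ⊆ T1 ∪ dbl '' B := by
    rintro v ⟨hvL, hv32, hvev⟩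
    obtain ⟨a, rfl⟩ := lccev_exists_half v hvev
    have hsqa : sq a = 8 := by
      rw [lccev_sq_dbl] at hv32
      omega
    have hredmem : red a ∈ code Λ := (mem_code Λ _).mpr ⟨a, hvL, rfl⟩
    rcases hsh8 a hsqa with ⟨i, j, hij, s', t', hs', ht', rfl⟩ | h4 | ⟨h01, h8⟩
    · left
      refine ⟨i, j, hij, 2 * s', 2 * t', ?_, ?_, ?_⟩
      · rcases hs' with h | h <;> rw [h] <;> norm_num
      · rcases ht' with h | h <;> rw [h] <;> norm_num
      · funext k
        simp only [dbl_apply, Pi.add_apply, Pi.single_apply]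
        split_ifs <;> ring
    · exact absurd h4 (hno4 _ hredmem)
    · right
      exact ⟨a, ⟨hvL, h01, hredmem, h8⟩, rfl⟩
  have hfin : (T1 ∪ dbl '' B).Finite := hT1fin.union (hBfin.image _)
  -- counting `B` through `red`
  have hBcard : B.ncard ≤ 128 * 759 := by
    rw [Set.ncard_eq_toFinset_card B hBfin]
    have h1 := Finset.card_le_mul_card_image (f := (red : V → Fin 24 → ZMod 2)) hBfin.toFinset 128 ?_
    · refine h1.trans (Nat.mul_le_mul_left 128 ?_)
      have h2 : ((hBfin.toFinset.image (red : V → Fin 24 → ZMod 2) : Finset (Fin 24 → ZMod 2)) :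
          Set (Fin 24 → ZMod 2)) ⊆ {w : Fin 24 → ZMod 2 | w ∈ code Λ ∧ hammingNorm w = 8} := by
        intro c hc
        rw [Finset.mem_coe, Finset.mem_image] at hc
        obtain ⟨a, ha, rfl⟩ := hc
        rw [Set.Finite.mem_toFinset] at ha
        exact ⟨ha.2.2.1, ha.2.2.2⟩
      have h3 := Set.ncard_le_ncard h2 (Set.toFinite _)
      rw [Set.ncard_coe_finset] at h3
      exact h3.trans h759
    · intro c hc
      rw [Finset.mem_image] at hc
      obtain ⟨a0, ha0, rfl⟩ := hc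
      rw [Set.Finite.mem_toFinset] at ha0
      have hw8 : hammingNorm (red a0) = 8 := ha0.2.2.2
      have h2 : ((hBfin.toFinset.filter (fun x => red x = red a0) : Finset V) : Set V) ⊆
          {a : V | dbl a ∈ Λ ∧ (∀ i, a i = 0 ∨ a i = 1 ∨ a i = -1) ∧ red a = red a0} := by
        intro a ha
        rw [Finset.mem_coe, Finset.mem_filter, Set.Finite.mem_toFinset] at ha
        exact ⟨ha.1.1, ha.1.2.1, ha.2⟩
      have hAfin : {a : V | dbl a ∈ Λ ∧ (∀ i, a i = 0 ∨ a i = 1 ∨ a i = -1) ∧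
          red a = red a0}.Finite := by
        apply hPfin.subset
        intro a ha
        rw [Set.mem_univ_pi]
        intro i
        rcases ha.2.1 i with h0 | h1 | h2
        · simp [h0]
        · simp [h1]
        · simp [h2]
      have h3 := Set.ncard_le_ncard h2 hAfin
      rw [Set.ncard_coe_finset] at h3
      exact h3.trans (hsgn _ hw8)
  calc {v : V | v ∈ Λ ∧ sq v = 32 ∧ AllEven v}.ncard ≤ (T1 ∪ dbl '' B).ncard :=
        Set.ncard_le_ncard hcover hfin
    _ ≤ T1.ncard + (dbl '' B).ncard := Set.ncard_union_le _ _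
    _ ≤ 1104 + B.ncard := Nat.add_le_add hc44 (Set.ncard_image_le hBfin)
    _ ≤ 1104 + 128 * 759 := Nat.add_le_add_left hBcard _
    _ = 98256 := by norm_num

end Cfsg.Agent.Lib.Helper4.Lc
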