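import Cfsg.Agent.Lib.Helper4.LcDefs

set_option autoImplicit false
open Matrix

/-!
Lc hive (helper4, S0406), leaf LC-CNO4 (core): the code of a frame lattice has no word of weight 4.
-/

namespace Cfsg.Agent.Lib.Helper4.Lc

variable {Λ : AddSubgroup V}

theorem lccno4_red_ne_zero_iff (a : V) (i : Fin 24) : red a i ≠ 0 ↔ a i % 2 = 1 := by
  rw [red_apply, Ne, ZMod.intCast_zmod_eq_zero_iff_dvd]
  constructor
  · intro h
    rcases Int.emod_two_eq_zero_or_one (a i) with h0 | h1
    · exact absurd (Int.dvd_of_emod_eq_zero h0) h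
    · exact h1
  · intro h hd
    have := Int.emod_eq_zero_of_dvd hd
    omega

theorem lccno4_sum_emod (a : V) : ∑ i, a i % 2 = (hammingNorm (red a) : ℤ) := by
  unfold hammingNorm
  rw [Finset.card_filter]
  push_cast
  apply Finset.sum_congr rfl
  intro i _
  by_cases h : red a i ≠ 0
  · rw [if_pos h]
    exact (lccno4_red_ne_zero_iff a i).mp h
  · rw [if_neg h]
    rcases Int.emod_two_eq_zero_or_one (a i) with h0 | h1
    · exact h0
    · exact absurd ((lccno4_red_ne_zero_iff a i).mpr h1) h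

theorem lccno4_aux (a : V) (i₀ : Fin 24) (hi₀ : a i₀ % 2 = 1) :
    ∃ y : V, (2 : ℤ) ∣ ∑ i, y i ∧ ∀ i, (2 * a i - 4 * y i) ^ 2 = 4 * (a i % 2) := by
  have hbase : ∀ i, (2 * a i - 4 * (a i / 2)) ^ 2 = 4 * (a i % 2) := by
    intro i
    have h1 : 2 * a i - 4 * (a i / 2) = 2 * (a i % 2) := by
      have := Int.emod_add_mul_ediv (a i) 2
      linarith
    rw [h1]
    rcases Int.emod_two_eq_zero_or_one (a i) with h0 | h0 <;> rw [h0] <;> norm_num
  by_cases hev : (2 : ℤ) ∣ ∑ i, a i / 2
  · exact ⟨fun i => a i / 2, hev, hbase⟩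
  · refine ⟨fun i => a i / 2 + if i = i₀ then 1 else 0, ?_, ?_⟩
    · rw [Finset.sum_add_distrib, Finset.sum_ite_eq' Finset.univ i₀]
      simp only [Finset.mem_univ, if_true]
      omega
    · intro i
      beta_reduce
      by_cases hi : i = i₀
      · subst hi
        rw [if_pos rfl]
        have h1 : 2 * a i - 4 * (a i / 2 + 1) = 2 * (a i % 2) - 4 := by
          have := Int.emod_add_mul_ediv (a i) 2
          linarith
        rw [h1, hi₀]
        norm_num
      · rw [if_neg hi, add_zero]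
        exact hbase i

/-- LC-CNO4 with the base lemma `fr_M` as a hypothesis. -/
theorem lccno4_core (h : Fr Λ)
    (hM : ∀ y : V, (2 : ℤ) ∣ ∑ i, y i → (fun i => 4 * y i : V) ∈ Λ) :
    ∀ w ∈ code Λ, hammingNorm w ≠ 4 := by
  intro w hw h4
  obtain ⟨a, ha, rfl⟩ := (mem_code Λ w).mp hw
  have hsum := lccno4_sum_emod a
  rw [h4] at hsum
  obtain ⟨i₀, hi₀⟩ : ∃ i₀, a i₀ % 2 = 1 := by
    by_contra hcon
    push Not at hcon
    have : ∑ i, a i % 2 = 0 := by
      apply Finset.sum_eq_zero
      intro i _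
      rcases Int.emod_two_eq_zero_or_one (a i) with h0 | h1
      · exact h0
      · exact absurd h1 (hcon i)
    rw [this] at hsum
    norm_num at hsum
  obtain ⟨y, hy, hsq⟩ := lccno4_aux a i₀ hi₀
  have hv : (fun i => 2 * a i - 4 * y i : V) ∈ Λ := by
    have h1 : (fun i => 2 * a i - 4 * y i : V) = dbl a - (fun i => 4 * y i : V) := by
      funext i
      simp
    rw [h1]
    exact Λ.sub_mem ha (hM y hy)
  apply h.no16 _ hv
  unfold sq
  simp only [hsq]
  rw [← Finset.mul_sum, hsum]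
  norm_num

end Cfsg.Agent.Lib.Helper4.Lc
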