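import Cfsg.Agent.Lib.Helper4.LcDefs
import Cfsg.Agent.Lib.Helper4.LcBase
import Cfsg.Agent.Lib.Helper70.LcCNO4core

set_option autoImplicit false
open Matrix

/-!
Lc hive (helper4, S0406), leaf LC-CNO4: the code of a frame lattice has no word of weight 4.
-/

namespace Cfsg.Agent.Lib.Helper4.Lc

open Cfsg.Agent.Lib.Golay.Cross48 (Hyp Qf bf)

variable {Λ : AddSubgroup V}

/-- LC-CNO4 -/
theorem code_no4 (h : Fr Λ) : ∀ w ∈ code Λ, hammingNorm w ≠ 4 :=
  lccno4_core h (fun y hy => fr_M h y hy)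

end Cfsg.Agent.Lib.Helper4.Lc
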