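import Cfsg.Agent.Lib.Helper4.LcDefs
import Cfsg.Agent.Lib.Helper34.LcSH8
import Cfsg.Agent.Lib.Helper23.LcC44
import Cfsg.Agent.Lib.Helper99.LcSGN
import Cfsg.Agent.Lib.Helper68.LcOCT
import Cfsg.Agent.Lib.Helper70.LcCNO4
import Cfsg.Agent.Lib.Helper70.LcCEVcore

set_option autoImplicit false
open Matrix

/-!
Lc hive (helper4, S0406), leaf LC-CEV: at most 98256 even vectors of sum of squares 32.
-/

namespace Cfsg.Agent.Lib.Helper4.Lc

open Cfsg.Agent.Lib.Golay.Cross48 (Hyp Qf bf)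

variable {Λ : AddSubgroup V}

theorem lccev_sq_emod (x : ℤ) : x ^ 2 % 4 = x % 2 := by
  rcases Int.emod_two_eq_zero_or_one x with h | h
  · obtain ⟨k, hk⟩ := Int.dvd_of_emod_eq_zero h
    rw [h, hk]
    have : (2 * k) ^ 2 = 4 * (k * k) := by ring
    rw [this]
    exact Int.mul_emod_right 4 (k * k)
  · have hk : x = 2 * (x / 2) + 1 := by
      have := Int.emod_add_mul_ediv x 2
      omega
    rw [h, hk]
    have : (2 * (x / 2) + 1) ^ 2 = 1 + 4 * ((x / 2) * (x / 2) + x / 2) := by ring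
    rw [this, Int.add_mul_emod_self_left]
    rfl

/-- own copy of the statement of LC-CDBL (the weights of the code are divisible by 4). -/
theorem lccev_code_dbl (h : Fr Λ) : ∀ w ∈ code Λ, 4 ∣ hammingNorm w := by
  intro w hw
  obtain ⟨a, ha, rfl⟩ := (mem_code Λ w).mp hw
  have h16 := h.sq16 _ ha
  rw [lccev_sq_dbl] at h16
  have h4 : (4 : ℤ) ∣ sq a := by
    obtain ⟨k, hk⟩ := h16
    exact ⟨k, by omega⟩
  have hmod : sq a % 4 = (∑ i, a i % 2) % 4 := by
    unfold sq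
    rw [Finset.sum_int_mod]
    congr 1
    apply Finset.sum_congr rfl
    intro i _
    exact lccev_sq_emod (a i)
  rw [lccno4_sum_emod] at hmod
  have h0 : sq a % 4 = 0 := Int.emod_eq_zero_of_dvd h4
  rw [h0] at hmod
  have : (4 : ℤ) ∣ (hammingNorm (red a) : ℤ) := Int.dvd_of_emod_eq_zero hmod.symm
  exact_mod_cast this

/-- LC-CEV -/
theorem count_even (h : Fr Λ) : {v : V | v ∈ Λ ∧ sq v = 32 ∧ AllEven v}.ncard ≤ 98256 :=
  lccev_core h shape8 card_44 (octad_signs h) (card_weight8_le (code Λ)) (lccev_code_dbl h)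
    (code_no4 h)

end Cfsg.Agent.Lib.Helper4.Lc
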