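import Mathlib
import Cfsg.Agent.Lib.Helper41.PsDefs
import Cfsg.Agent.Lib.Helper70.CgCG2

/-! # Ps hive (S4321, helper41), leaf PS24 (H): averaging over the class of `b`. -/

set_option autoImplicit false

namespace Cfsg.Agent.Lib.Helper41.Ps

open Subgroup
open Cfsg.Agent.Lib.Helper22.Cg

universe u

/-- PS24 (H). averaging: the product over the class of `b` (inside the commutative subgroup `A`)
is central, hence trivial; so `b ^ (cs b) ∈ B` and `b ∈ B`. -/
theorem ps_cH {G : Type u} [Group G] [Finite G] (A B : Subgroup G) (hBA : B ≤ A)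
    (hA : ∀ x ∈ A, ∀ y ∈ A, x * y = y * x) (b : G) (hb : b ∈ A)
    (hcen : ∀ g : G, g * b * g⁻¹ * b⁻¹ ∈ B)
    (hZ : ∀ c ∈ A, (∀ g : G, g * c = c * g) → c = 1)
    (hcop : (cs b).Coprime (orderOf b)) : b ∈ B := by
  classical
  -- all conjugates of `b` lie in `A`
  have hconjA : ∀ g : G, g * b * g⁻¹ ∈ A := by
    intro g
    have h1 : g * b * g⁻¹ * b⁻¹ ∈ A := hBA (hcen g)
    have h2 := A.mul_mem h1 hb
    simpa using h2
  -- the normal closure of `b` lies in `A`
  have hNA : Subgroup.normalClosure ({b} : Set G) ≤ A := by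
    unfold Subgroup.normalClosure
    rw [Subgroup.closure_le]
    intro a ha
    rw [Group.mem_conjugatesOfSet_iff] at ha
    obtain ⟨b', hb', hconj⟩ := ha
    rw [Set.mem_singleton_iff] at hb'
    subst hb'
    rw [isConj_iff] at hconj
    obtain ⟨k, rfl⟩ := hconj
    exact hconjA k
  -- work in the (commutative, normal) subgroup `N`
  obtain ⟨N, hN⟩ : ∃ N : Subgroup G, N = Subgroup.normalClosure ({b} : Set G) := ⟨_, rfl⟩
  have hNn : N.Normal := hN ▸ Subgroup.normalClosure_normal
  have hNA' : N ≤ A := hN ▸ hNA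
  have hbN : b ∈ N := hN ▸ Subgroup.subset_normalClosure (Set.mem_singleton b)
  let _ : CommGroup N :=
    { (inferInstance : Group N) with
      mul_comm := fun x y => Subtype.ext (hA x (hNA' x.2) y (hNA' y.2)) }
  have _ : Fintype N := Fintype.ofFinite N
  have hclsN : ∀ a ∈ cg2_cls b, a ∈ N := by
    rintro _ ⟨k, rfl⟩
    exact hNn.conj_mem b hbN k
  let S : Finset N := Finset.univ.filter (fun a : N => (a : G) ∈ cg2_cls b)
  have hS : ∀ a : N, a ∈ S ↔ (a : G) ∈ cg2_cls b := by
    intro a
    simp [S]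
  -- the number of factors
  have hcard : S.card = cs b := by
    rw [← cg2_ncard_cls b, ← Set.ncard_coe_finset S]
    have himg : cg2_cls b = (fun a : N => (a : G)) '' (S : Set N) := by
      ext a
      constructor
      · intro ha
        exact ⟨⟨a, hclsN a ha⟩, (Finset.mem_coe.mpr ((hS _).mpr ha)), rfl⟩
      · rintro ⟨a', ha', rfl⟩
        exact (hS a').mp (Finset.mem_coe.mp ha')
    rw [himg, Set.ncard_image_of_injective _ Subtype.coe_injective]
  -- the product over the class
  obtain ⟨c, hc⟩ : ∃ c : N, c = ∏ a ∈ S, a := ⟨_, rfl⟩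
  -- it is fixed under conjugation
  have hfix : ∀ g : G, g * (c : G) * g⁻¹ = (c : G) := by
    intro g
    have h1 : (MulAut.conjNormal g : N ≃* N) c = c := by
      rw [hc, map_prod]
      refine Finset.prod_equiv (MulAut.conjNormal g : N ≃* N).toEquiv ?_ ?_
      · intro a
        rw [hS, hS]
        show (a : G) ∈ cg2_cls b ↔ ((MulAut.conjNormal g : N ≃* N) a : G) ∈ cg2_cls b
        rw [MulAut.conjNormal_apply]
        constructor
        · rintro ⟨k, hk⟩
          refine ⟨g * k, ?_⟩
          show g * k * b * (g * k)⁻¹ = g * (a : G) * g⁻¹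
          rw [← hk]
          group
        · rintro ⟨k, hk⟩
          refine ⟨g⁻¹ * k, ?_⟩
          have hk' : k * b * k⁻¹ = g * (a : G) * g⁻¹ := hk
          show g⁻¹ * k * b * (g⁻¹ * k)⁻¹ = (a : G)
          calc g⁻¹ * k * b * (g⁻¹ * k)⁻¹ = g⁻¹ * (k * b * k⁻¹) * g := by group
            _ = g⁻¹ * (g * (a : G) * g⁻¹) * g := by rw [hk']
            _ = (a : G) := by group
      · intro a _
        rfl
    have h2 := congrArg (fun x : N => (x : G)) h1
    simp only [MulAut.conjNormal_apply] at h2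
    exact h2
  have hc1 : c = 1 := by
    apply Subtype.ext
    apply hZ (c : G) (hNA' c.2)
    intro g
    have := hfix g
    calc g * (c : G) = (g * (c : G) * g⁻¹) * g := by group
      _ = (c : G) * g := by rw [this]
  -- the product is `b ^ (cs b)` modulo `B`
  let bN : N := ⟨b, hbN⟩
  have hmem : ∏ a ∈ S, (a * bN⁻¹) ∈ B.subgroupOf N := by
    apply Subgroup.prod_mem
    intro a ha
    rw [hS] at ha
    obtain ⟨k, hk⟩ := ha
    rw [Subgroup.mem_subgroupOf]
    have hk' : k * b * k⁻¹ = (a : G) := hk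
    show (a : G) * b⁻¹ ∈ B
    rw [← hk']
    exact hcen k
  rw [Finset.prod_mul_distrib, ← hc, hc1, one_mul, Finset.prod_const, hcard,
    Subgroup.mem_subgroupOf] at hmem
  have hpow : b ^ (cs b) ∈ B := by
    have h3 : ((bN⁻¹ ^ (cs b) : N) : G) = (b ^ (cs b))⁻¹ := by
      simp [bN]
    rw [h3] at hmem
    exact (B.inv_mem_iff).mp hmem
  obtain ⟨m, hm⟩ := exists_pow_eq_self_of_coprime hcop
  rw [← hm]
  exact B.pow_mem hpow m

end Cfsg.Agent.Lib.Helper41.Ps
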