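import Cfsg.Agent.Lib.Helper41.StnDefs
import Cfsg.Agent.Lib.Helper64.StnNpermDefs
import Cfsg.Agent.Lib.Helper43.Stn_HMAT

/-!
Stn hive (S2401, helper41), sub-hive NPERM (helper64), leaf NP-DIAGH: images of the torus are diagonal.
-/

set_option autoImplicit false

namespace Cfsg.Agent.Lib.Helper41.Stn

open Matrix

variable {K : Type*} [Field K] {n : ℕ}

theorem npdiagh_mul (A B : Matrix (Fin n) (Fin n) K)
    (hA : ∀ i j : Fin n, i ≠ j → A i j = 0) (hB : ∀ i j : Fin n, i ≠ j → B i j = 0) :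
    ∀ i j : Fin n, i ≠ j → (A * B) i j = 0 := by
  intro i j hij
  rw [Matrix.mul_apply]
  apply Finset.sum_eq_zero
  intro k _
  by_cases hk : i = k
  · subst hk
    rw [hB i j hij, mul_zero]
  · rw [hA i k hk, zero_mul]

theorem npdiagh_mul_diag (A B : Matrix (Fin n) (Fin n) K)
    (hA : ∀ i j : Fin n, i ≠ j → A i j = 0) (i j : Fin n) :
    (A * B) i j = A i i * B i j := by
  rw [Matrix.mul_apply]
  rw [Finset.sum_eq_single i]
  · intro k _ hk
    rw [hA i k (Ne.symm hk), zero_mul]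
  · intro h
    exact absurd (Finset.mem_univ i) h

theorem npdiagh_inv (A B : Matrix (Fin n) (Fin n) K)
    (hA : ∀ i j : Fin n, i ≠ j → A i j = 0) (h : A * B = 1) :
    ∀ i j : Fin n, i ≠ j → B i j = 0 := by
  intro i j hij
  have h1 : A i i * B i i = 1 := by
    rw [← npdiagh_mul_diag A B hA i i, h, Matrix.one_apply_eq]
  have h2 : A i i * B i j = 0 := by
    rw [← npdiagh_mul_diag A B hA i j, h, Matrix.one_apply_ne hij]
  have h3 : A i i ≠ 0 := by
    intro h0
    rw [h0, zero_mul] at h1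
    exact zero_ne_one h1
  exact (mul_eq_zero.mp h2).resolve_left h3

/-- NP-DIAGH (two statements).  Closure induction with `std_hh`; the inverse of a diagonal matrix in `SL` is
diagonal (e.g. `(φ h)⁻¹ = φ h⁻¹` and `A * B = 1`, `A` diagonal ⇒ `A i i ≠ 0` ⇒ `B` diagonal). -/
theorem std_HH_diag (φ : St K n →* SpecialLinearGroup (Fin n) K) (hφ : IsStd φ) {h : St K n}
    (hh : h ∈ HH K n) : ∀ i j : Fin n, i ≠ j → (φ h).1 i j = 0 := by
  unfold HH at hh
  induction hh using Subgroup.closure_induction with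
  | mem x hx =>
    obtain ⟨i, j, t, hij, ht, rfl⟩ := hx
    intro a b hab
    rw [std_hh φ hφ hij ht, Matrix.diagonal_apply_ne _ hab]
  | one =>
    intro a b hab
    rw [map_one]
    exact Matrix.one_apply_ne hab
  | mul x y _ _ hx hy =>
    rw [map_mul]
    exact npdiagh_mul _ _ hx hy
  | inv x _ hx =>
    apply npdiagh_inv (φ x).1 (φ x⁻¹).1 hx
    have : φ x * φ x⁻¹ = 1 := by rw [← map_mul, mul_inv_cancel, map_one]
    have h2 := congrArg (fun z : SpecialLinearGroup (Fin n) K => z.1) this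
    exact h2

/-- (second part of NP-DIAGH) `φ ν' = φ h⁻¹ * φ (h * ν')` is a product of two diagonal matrices. -/
theorem diag_of_HH_mul (φ : St K n →* SpecialLinearGroup (Fin n) K) (hφ : IsStd φ) {h ν' : St K n}
    (hh : h ∈ HH K n) (hd : ∀ i j : Fin n, i ≠ j → (φ (h * ν')).1 i j = 0) :
    ∀ i j : Fin n, i ≠ j → (φ ν').1 i j = 0 := by
  have h1 : φ ν' = φ h⁻¹ * φ (h * ν') := by
    rw [← map_mul, inv_mul_cancel_left]
  have h2 : (φ ν').1 = (φ h⁻¹).1 * (φ (h * ν')).1 := by
    rw [h1]; rfl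
  rw [h2]
  exact npdiagh_mul _ _ (std_HH_diag φ hφ ((HH K n).inv_mem hh)) hd

end Cfsg.Agent.Lib.Helper41.Stn
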