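import Cfsg.Agent.Lib.Helper70.Stn_BINJ_Hcore
import Cfsg.Agent.Lib.Helper13.Stn_WINV
import Cfsg.Agent.Lib.Helper13.Stn_HONE
import Cfsg.Agent.Lib.Helper95.Stn_WSYMM
import Cfsg.Agent.Lib.Helper99.Stn_SYMRfull

/-!
Stn hive (S2401, helper41), sub-hive BINJ (helper73), leaf BINJ-HSWAP.
-/

set_option autoImplicit false

namespace Cfsg.Agent.Lib.Helper41.Stn

open Matrix

variable {K : Type*} [Field K] {n : ℕ}

/-- BINJ-HSWAP (M): `ww_symm` + `ww_inv` + `hh_mul`: `h_ji(t) = w_ij(-t⁻¹) w_ij(1) = h_ij(-t⁻¹) h_ij(-1)⁻¹`. -/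
theorem hh_swap [Finite K] (hn : 3 ≤ n) {i j : Fin n} (hij : i ≠ j) {t : K} (ht : t ≠ 0) :
    hh j i t = hh i j t⁻¹ :=
  binjhswap_core (fun hij' _ ht' => ww_symm hn hij' ht') ww_inv ww_eq_hh_mul
    (fun hij' _ _ ht' hu' => symr_hh_mul hn hij' ht' hu') hij ht

end Cfsg.Agent.Lib.Helper41.Stn
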