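import Cfsg.Agent.Lib.Helper41.StnDefs
import Cfsg.Agent.Lib.Helper73.StnBINJDefs

/-!
Stn hive (S2401, helper41), sub-hive BINJ (helper73), leaf BINJ-LEVBLOCK (pure matrices).
-/

set_option autoImplicit false

namespace Cfsg.Agent.Lib.Helper41.Stn

open Matrix

variable {K : Type*} [Field K] {n : ℕ}

/-- BINJ-LEVBLOCK (M, pure matrices): block matrix times column matrix `= 1` forces both to be `1`
(`(V A) a b = V a b` for `b ≠ c`, and `V a c = δ_ac`). -/
theorem block_col_eq_one (V A : Matrix (Fin n) (Fin n) K) (c : Fin n) (t : Fin n → K)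
    (hV : ∀ a b : Fin n, (c.val ≤ a.val ∨ c.val ≤ b.val) → V a b = if a = b then 1 else 0)
    (hA : ∀ a b : Fin n, A a b = if a = b then 1 else if b = c ∧ a < c then t a else 0)
    (h : V * A = 1) : V = 1 ∧ ∀ a, a < c → t a = 0 := by
  have hV1 : V = 1 := by
    ext a b
    by_cases hb : b = c
    · subst hb
      rw [hV a b (Or.inr le_rfl), Matrix.one_apply]
    · have h1 := congrFun (congrFun h a) b
      rw [Matrix.mul_apply] at h1
      have h2 : ∀ k ∈ Finset.univ, V a k * A k b = if k = b then V a b else 0 := by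
        intro k _
        rw [hA k b]
        by_cases hk : k = b
        · subst hk; simp
        · rw [if_neg hk, if_neg (fun hh => hb hh.1), if_neg hk, mul_zero]
      rw [Finset.sum_congr rfl h2, Finset.sum_ite_eq' Finset.univ b, if_pos (Finset.mem_univ _)] at h1
      exact h1
  refine ⟨hV1, ?_⟩
  intro a ha
  rw [hV1, one_mul] at h
  have h1 := congrFun (congrFun h a) c
  rw [hA a c, if_neg (ne_of_lt ha), if_pos ⟨rfl, ha⟩, Matrix.one_apply_ne (ne_of_lt ha)] at h1
  exact h1

end Cfsg.Agent.Lib.Helper41.Stn
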