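import Cfsg.Agent.Lib.Helper41.StnDefs
import Cfsg.Agent.Lib.Helper73.StnBINJDefs

/-!
Stn hive (S2401, helper41), sub-hive BINJ (helper73), leaf BINJ-UHMAT (pure matrices).
-/

set_option autoImplicit false

namespace Cfsg.Agent.Lib.Helper41.Stn

open Matrix

variable {K : Type*} [Field K] {n : ℕ}

/-- BINJ-UHMAT (E, pure matrices): `(U D) a a = U a a * D a a` gives `D = 1`, then `U = 1`. -/
theorem unitri_diag_eq_one (U : Matrix (Fin n) (Fin n) K) (d : Fin n → K)
    (hU : ∀ a b : Fin n, b ≤ a → U a b = if a = b then 1 else 0)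
    (h : U * Matrix.diagonal d = 1) : U = 1 ∧ Matrix.diagonal d = 1 := by
  have hd : ∀ a, d a = 1 := by
    intro a
    have h1 := congrFun (congrFun h a) a
    rw [Matrix.mul_diagonal, hU a a le_rfl, if_pos rfl, one_mul, Matrix.one_apply_eq] at h1
    exact h1
  have hD : Matrix.diagonal d = 1 := by
    have : d = fun _ => 1 := funext hd
    rw [this, Matrix.diagonal_one]
  refine ⟨?_, hD⟩
  rw [hD, mul_one] at h
  exact h

end Cfsg.Agent.Lib.Helper41.Stn
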