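import Cfsg.Agent.Lib.Helper43.FwDefs
import Cfsg.Agent.Lib.Helper53.SLPair

/-! Leaf FW-OUT of helper43's Fw hive (S3211). -/

set_option autoImplicit false

namespace Cfsg.Agent.Lib.Helper43.Fw

variable {G : Type*} [Group G] {L₁ L₂ : Subgroup G} {j n : G}

/-- the computation behind FW-OUT, for `y = a * b * n` -/
theorem fwout_core (h : Setup L₁ L₂ j n) (x₁ : G) (hx : x₁ ∈ L₁) (hxx : x₁ * x₁ = j)
    (a b : G) (ha : a ∈ L₁) (hb : b ∈ L₂) (hyy : (a * b * n) * (a * b * n) = t0 n x₁) :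
    (a * b * n) * (n * x₁ * n⁻¹) * (a * b * n)⁻¹ = x₁⁻¹ := by
  have hC1 : ∀ g ∈ L₁, g * j = j * g := fun g hg =>
    Subgroup.mem_centralizer_singleton_iff.mp (h.le ((le_sup_left : L₁ ≤ L₁ ⊔ L₂) hg))
  have hC2 : ∀ g ∈ L₂, g * j = j * g := fun g hg =>
    Subgroup.mem_centralizer_singleton_iff.mp (h.le ((le_sup_right : L₂ ≤ L₁ ⊔ L₂) hg))
  have hnj : n * j = j * n := Subgroup.mem_centralizer_singleton_iff.mp h.nmem
  have hjinv : j⁻¹ = j := inv_eq_iff_mul_eq_one.mpr h.jsq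
  have hpp : ∀ g, g * j = j * g → n * (n * g * n⁻¹) * n⁻¹ = g := by
    intro g hg
    calc n * (n * g * n⁻¹) * n⁻¹ = (n * n) * g * (n * n)⁻¹ := by group
      _ = j * g * j⁻¹ := by rw [h.nsq]
      _ = g := by rw [← hg]; group
  have hjL : j ∈ L₁ ⊓ L₂ := by rw [h.inter]; exact Subgroup.mem_zpowers j
  have hjL2 : j ∈ L₂ := hjL.2
  obtain ⟨A, hA⟩ : ∃ A, A = n * a * n⁻¹ := ⟨_, rfl⟩
  obtain ⟨B, hB⟩ : ∃ B, B = n * b * n⁻¹ := ⟨_, rfl⟩
  obtain ⟨x₂, hx₂⟩ : ∃ x₂, x₂ = n * x₁ * n⁻¹ := ⟨_, rfl⟩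
  have hAL : A ∈ L₂ := by rw [hA]; exact (h.swap a).mp ha
  have hx₂L : x₂ ∈ L₂ := by rw [hx₂]; exact (h.swap x₁).mp hx
  have hBL : B ∈ L₁ := by
    rw [h.swap B, hB, hpp b (hC2 b hb)]; exact hb
  have hnA : n * A * n⁻¹ = a := by rw [hA]; exact hpp a (hC1 a ha)
  have hnB : n * B * n⁻¹ = b := by rw [hB]; exact hpp b (hC2 b hb)
  have hnx₂ : n * x₂ * n⁻¹ = x₁ := by rw [hx₂]; exact hpp x₁ (hC1 x₁ hx)
  have hnjn : n * j * n⁻¹ = j := by rw [hnj]; group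
  -- (E1), (E2)
  have hBb : B * b = b * B := h.comm B hBL b hb
  have hBA : B * A = A * B := h.comm B hBL A hAL
  have E2 : (a * B) * (b * A) * j = x₁ * x₂ := by
    have e1 : (a * b * n) * (a * b * n) = (a * B) * (b * A) * j := by
      calc (a * b * n) * (a * b * n) = a * (b * ((n * a * n⁻¹) * (n * b * n⁻¹))) * (n * n) := by
            group
        _ = a * (b * (A * B)) * j := by rw [← hA, ← hB, h.nsq]
        _ = a * (b * (B * A)) * j := by rw [hBA]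
        _ = a * ((b * B) * A) * j := by group
        _ = a * ((B * b) * A) * j := by rw [hBb]
        _ = (a * B) * (b * A) * j := by group
    rw [← e1, hyy, hx₂]
    rfl
  have huL : a * B ∈ L₁ := L₁.mul_mem ha hBL
  have hvL : b * A ∈ L₂ := L₂.mul_mem hb hAL
  obtain ⟨c, hc⟩ : ∃ c, c = x₁⁻¹ * (a * B) := ⟨_, rfl⟩
  have hcL1 : c ∈ L₁ := by rw [hc]; exact L₁.mul_mem (L₁.inv_mem hx) huL
  have hcL2 : c ∈ L₂ := by
    have e : c = x₂ * ((b * A) * j)⁻¹ := by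
      have hu : a * B = x₁ * x₂ * ((b * A) * j)⁻¹ := by rw [← E2]; group
      rw [hc, hu]; group
    rw [e]
    exact L₂.mul_mem hx₂L (L₂.inv_mem (L₂.mul_mem hvL hjL2))
  have hcz : c ∈ Subgroup.zpowers j := by rw [← h.inter]; exact ⟨hcL1, hcL2⟩
  obtain ⟨k, hk⟩ := Subgroup.mem_zpowers_iff.mp hcz
  have hcc : c * c = 1 := by
    rw [← hk, ← (Commute.refl j).mul_zpow, h.jsq, one_zpow]
  have hcinv : c⁻¹ = c := inv_eq_iff_mul_eq_one.mpr hcc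
  have hccomm : ∀ g, g * j = j * g → g * c = c * g := by
    intro g hg
    rw [← hk]
    exact (Commute.zpow_right (show Commute g j from hg) k)
  have hncn : n * c * n⁻¹ = c := by rw [hccomm n hnj]; group
  -- (E3), (E4)
  have E3 : a * B = x₁ * c := by rw [hc]; group
  have E4 : c * (b * A) * j = x₂ := by
    have e : x₁ * (c * (b * A) * j) = x₁ * x₂ := by
      rw [← E2, E3]; group
    exact mul_left_cancel e
  -- (E5)
  have E5 : A * b = x₂ * c := by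
    calc A * b = (n * a * n⁻¹) * (n * B * n⁻¹) := by rw [← hA, hnB]
      _ = n * (a * B) * n⁻¹ := by group
      _ = n * (x₁ * c) * n⁻¹ := by rw [E3]
      _ = (n * x₁ * n⁻¹) * (n * c * n⁻¹) := by group
      _ = x₂ * c := by rw [← hx₂, hncn]
  -- (E6)
  have hAc : A * c = c * A := hccomm A (hC2 A hAL)
  have hx₂c : x₂ * c = c * x₂ := hccomm x₂ (hC2 x₂ hx₂L)
  have hx₂j : x₂ * j = j * x₂ := hC2 x₂ hx₂L
  have E6 : A⁻¹ * x₂ * A = x₂ * j := by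
    have hb' : b = A⁻¹ * (x₂ * c) := by rw [← E5]; group
    have e1 : c * (A⁻¹ * (x₂ * c) * A) * j = x₂ := by rw [← hb']; exact E4
    -- move the `c`'s together
    have e2 : c * (A⁻¹ * (x₂ * c) * A) * j = (c * c) * (A⁻¹ * x₂ * A) * j := by
      have hAic : A⁻¹ * c = c * A⁻¹ := by
        have := hAc
        calc A⁻¹ * c = A⁻¹ * (c * A) * A⁻¹ := by group
          _ = A⁻¹ * (A * c) * A⁻¹ := by rw [hAc]
          _ = c * A⁻¹ := by group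
      calc c * (A⁻¹ * (x₂ * c) * A) * j = c * (A⁻¹ * (c * x₂) * A) * j := by rw [hx₂c]
        _ = c * ((A⁻¹ * c) * x₂ * A) * j := by group
        _ = c * ((c * A⁻¹) * x₂ * A) * j := by rw [hAic]
        _ = (c * c) * (A⁻¹ * x₂ * A) * j := by group
    rw [e2, hcc, one_mul] at e1
    calc A⁻¹ * x₂ * A = (A⁻¹ * x₂ * A * j) * j⁻¹ := by group
      _ = x₂ * j⁻¹ := by rw [e1]
      _ = x₂ * j := by rw [hjinv]
  -- (E7)
  have E7 : a⁻¹ * x₁ * a = x₁ * j := by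
    calc a⁻¹ * x₁ * a = (n * A * n⁻¹)⁻¹ * (n * x₂ * n⁻¹) * (n * A * n⁻¹) := by
          rw [hnA, hnx₂]
      _ = n * (A⁻¹ * x₂ * A) * n⁻¹ := by group
      _ = n * (x₂ * j) * n⁻¹ := by rw [E6]
      _ = (n * x₂ * n⁻¹) * (n * j * n⁻¹) := by group
      _ = x₁ * j := by rw [hnx₂, hnjn]
  -- (E8)
  have E8 : x₁ * j = x₁⁻¹ := by
    apply eq_inv_of_mul_eq_one_left
    calc x₁ * j * x₁ = (x₁ * x₁) * (x₁ * x₁) := by rw [← hxx]; group
      _ = 1 := by rw [hxx, h.jsq]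
  -- (E9)
  have hbx : b * x₁ = x₁ * b := (h.comm x₁ hx b hb).symm
  have h1 : a * x₁⁻¹ * a⁻¹ = x₁ := by
    rw [← E8, ← E7]; group
  calc (a * b * n) * (n * x₁ * n⁻¹) * (a * b * n)⁻¹
      = a * (b * (n * (n * x₁ * n⁻¹) * n⁻¹)) * b⁻¹ * a⁻¹ := by group
    _ = a * (b * x₁) * b⁻¹ * a⁻¹ := by rw [hpp x₁ (hC1 x₁ hx)]
    _ = a * (x₁ * b) * b⁻¹ * a⁻¹ := by rw [hbx]
    _ = (a * x₁⁻¹ * a⁻¹)⁻¹ := by group
    _ = x₁⁻¹ := by rw [h1]

/-- `n ∉ Y` (own copy, used only inside this file) -/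
theorem fwout_nout (h : Setup L₁ L₂ j n) : n ∉ L₁ ⊔ L₂ := by
  intro hn
  obtain ⟨a, ha, b, hb, hab⟩ := Cfsg.Agent.Lib.Helper53.mem_sup_of_commute' L₁ L₂ h.comm hn
  obtain ⟨x, hx, hxx⟩ := h.ex1
  have hnj : n * j = j * n := Subgroup.mem_centralizer_singleton_iff.mp h.nmem
  have h2 : n * x * n⁻¹ ∈ L₂ := (h.swap x).mp hx
  have h1 : n * x * n⁻¹ ∈ L₁ := by
    have hxb : x * b = b * x := h.comm x hx b hb
    have e : n * x * n⁻¹ = a * x * a⁻¹ := by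
      rw [hab]
      calc a * b * x * (a * b)⁻¹ = a * (b * x) * b⁻¹ * a⁻¹ := by group
        _ = a * (x * b) * b⁻¹ * a⁻¹ := by rw [hxb]
        _ = a * x * a⁻¹ := by group
    rw [e]
    exact L₁.mul_mem (L₁.mul_mem ha hx) (L₁.inv_mem ha)
  have hz : n * x * n⁻¹ ∈ Subgroup.zpowers j := by rw [← h.inter]; exact ⟨h1, h2⟩
  obtain ⟨k, hk⟩ := Subgroup.mem_zpowers_iff.mp hz
  have hsq1 : (n * x * n⁻¹) * (n * x * n⁻¹) = 1 := by
    rw [← hk, ← (Commute.refl j).mul_zpow, h.jsq, one_zpow]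
  have hsq2 : (n * x * n⁻¹) * (n * x * n⁻¹) = j := by
    calc (n * x * n⁻¹) * (n * x * n⁻¹) = n * (x * x) * n⁻¹ := by group
      _ = n * j * n⁻¹ := by rw [hxx]
      _ = j := by rw [hnj]; group
  exact h.jne (hsq2.symm.trans hsq1)

/-- `C = Y ∪ Y n` (own copy, used only inside this file) -/
theorem fwout_dec (h : Setup L₁ L₂ j n) (y : G) (hy : y ∈ Subgroup.centralizer ({j} : Set G))
    (hyY : y ∉ L₁ ⊔ L₂) : ∃ a ∈ L₁, ∃ b ∈ L₂, y = a * b * n := by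
  have hnot := fwout_nout h
  have hidx : ((L₁ ⊔ L₂).subgroupOf (Subgroup.centralizer ({j} : Set G))).index = 2 := h.idx
  have hninv : n⁻¹ ∈ Subgroup.centralizer ({j} : Set G) := Subgroup.inv_mem _ h.nmem
  have key := Subgroup.mul_mem_iff_of_index_two hidx
    (a := (⟨y, hy⟩ : ↥(Subgroup.centralizer ({j} : Set G))))
    (b := (⟨n⁻¹, hninv⟩ : ↥(Subgroup.centralizer ({j} : Set G))))
  have hmem : y * n⁻¹ ∈ L₁ ⊔ L₂ := by
    have : (⟨y, hy⟩ : ↥(Subgroup.centralizer ({j} : Set G))) * ⟨n⁻¹, hninv⟩ ∈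
        (L₁ ⊔ L₂).subgroupOf (Subgroup.centralizer ({j} : Set G)) := by
      rw [key, Subgroup.mem_subgroupOf, Subgroup.mem_subgroupOf]
      constructor
      · intro h1; exact absurd h1 hyY
      · intro h1
        exact absurd ((Subgroup.inv_mem_iff _).mp h1) hnot
    rw [Subgroup.mem_subgroupOf] at this
    exact this
  obtain ⟨a, ha, b, hb, hab⟩ := Cfsg.Agent.Lib.Helper53.mem_sup_of_commute' L₁ L₂ h.comm hmem
  refine ⟨a, ha, b, hb, ?_⟩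
  rw [← hab]; group

/-- FW-OUT (paper proof (4) [OUT]): the key relation for square roots of `t₀` outside `Y`. -/
theorem out_rel (h : Setup L₁ L₂ j n) (x₁ : G) (hx : x₁ ∈ L₁) (hxx : x₁ * x₁ = j)
    (y : G) (hy : y ∈ Subgroup.centralizer ({j} : Set G)) (hyY : y ∉ L₁ ⊔ L₂) (hyy : y * y = t0 n x₁) :
    y * (n * x₁ * n⁻¹) * y⁻¹ = x₁⁻¹ := by
  obtain ⟨a, ha, b, hb, rfl⟩ := fwout_dec h y hy hyY
  exact fwout_core h x₁ hx hxx a b ha hb hyy

end Cfsg.Agent.Lib.Helper43.Fw
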