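import Mathlib

/-!
# A5c hive (S3278, architect helper47): leaf A5c-NEG (helper70, backup)

`d (b+c)(b-1)(c-1) = 8 (b+c-1) b c` with `b, c ≡ 3 (mod 4)`, `b ≤ c` forces `b = c = 3`, `d = 15`.
-/

set_option autoImplicit false

universe u

namespace Cfsg.Agent.Lib.Helper47.A5c

theorem a5cneg_divisors :
    Nat.divisors 648 = {1, 2, 3, 4, 6, 8, 9, 12, 18, 24, 27, 36, 54, 72, 81, 108, 162, 216, 324, 648} := by
  decide

/-- the case `b = 3` -/
theorem a5cneg_three (c d : ℕ) (hc : c % 4 = 3)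
    (h : (d : ℤ) * (3 + c) * (3 - 1) * (c - 1) = 8 * (3 + c - 1) * 3 * c) : c = 3 ∧ d = 15 := by
  have hc3 : (3 : ℤ) ≤ c := by
    have : 3 ≤ c := by omega
    exact_mod_cast this
  have h1' : 2 * (((d : ℤ) - 12) * (((c : ℤ) + 3) * ((c : ℤ) - 1))) = 72 := by
    linear_combination h
  have h1 : ((d : ℤ) - 12) * (((c : ℤ) + 3) * ((c : ℤ) - 1)) = 36 := by linarith
  by_cases hc7 : 7 ≤ c
  · exfalso
    have hC : (7 : ℤ) ≤ c := by exact_mod_cast hc7
    have hbig : (60 : ℤ) ≤ ((c : ℤ) + 3) * ((c : ℤ) - 1) := by nlinarith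
    have hpos : (0 : ℤ) < (d : ℤ) - 12 := by
      by_contra hle
      rw [not_lt] at hle
      nlinarith
    nlinarith
  · have hc' : c = 3 := by omega
    subst hc'
    refine ⟨rfl, ?_⟩
    have : (d : ℤ) = 15 := by
      push_cast at h1
      linarith
    exact_mod_cast this

/-- the case `b = 7` -/
theorem a5cneg_seven (c d : ℕ) (hc : c % 4 = 3) (hc7 : 7 ≤ c)
    (h : (d : ℤ) * (7 + c) * (7 - 1) * (c - 1) = 8 * (7 + c - 1) * 7 * c) : False := by
  have hC : (7 : ℤ) ≤ c := by exact_mod_cast hc7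
  -- `u = c^2 + 6 c`, `u (3 d - 28) = 21 d`
  have h1' : 2 * (((c : ℤ) ^ 2 + 6 * c) * (3 * (d : ℤ) - 28)) = 2 * (21 * d) := by
    linear_combination h
  have h1 : ((c : ℤ) ^ 2 + 6 * c) * (3 * (d : ℤ) - 28) = 21 * d := by linarith
  have hu : (91 : ℤ) ≤ (c : ℤ) ^ 2 + 6 * c := by nlinarith
  have hd0 : (0 : ℤ) ≤ d := Int.natCast_nonneg d
  have hpos : (0 : ℤ) < 3 * (d : ℤ) - 28 := by
    by_contra hle
    rw [not_lt] at hle
    have : ((c : ℤ) ^ 2 + 6 * c) * (3 * (d : ℤ) - 28) ≤ 0 :=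
      mul_nonpos_of_nonneg_of_nonpos (by linarith) hle
    have hd00 : (d : ℤ) = 0 := by linarith
    rw [hd00] at h1
    nlinarith
  have hd10 : (d : ℤ) ≤ 10 := by
    by_contra hgt
    rw [not_le] at hgt
    have : (91 : ℤ) * (3 * (d : ℤ) - 28) ≤ ((c : ℤ) ^ 2 + 6 * c) * (3 * (d : ℤ) - 28) :=
      mul_le_mul_of_nonneg_right hu hpos.le
    linarith
  have hd10' : (d : ℤ) = 10 := by
    have : (10 : ℤ) ≤ d := by
      by_contra hlt
      rw [not_le] at hlt
      linarith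
    linarith
  rw [hd10'] at h1
  have h2 : (c : ℤ) ^ 2 + 6 * c = 105 := by linarith
  have h3 : c ^ 2 + 6 * c = 105 := by exact_mod_cast h2
  have hc10 : c ≤ 10 := by nlinarith
  interval_cases c <;> omega

/-- the case `d = 9` -/
theorem a5cneg_nine (b c : ℕ) (hb : b % 4 = 3) (hc : c % 4 = 3) (hb11 : 11 ≤ b) (hbc : b ≤ c)
    (h : (9 : ℤ) * (b + c) * (b - 1) * (c - 1) = 8 * (b + c - 1) * b * c) : False := by
  have h1 : ((b : ℤ) * c) * ((b : ℤ) + c + 8) = 9 * ((b : ℤ) + c) * ((b : ℤ) + c - 1) := by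
    linear_combination h
  have h2 : ((b : ℤ) + c + 8) * ((b : ℤ) * c - 9 * ((b : ℤ) + c) + 81) = 648 := by
    linear_combination h1
  have hdvdZ : ((b + c + 8 : ℕ) : ℤ) ∣ ((648 : ℕ) : ℤ) := by
    refine ⟨(b : ℤ) * c - 9 * ((b : ℤ) + c) + 81, ?_⟩
    push_cast
    linear_combination (-1 : ℤ) * h2
  have hdvd : b + c + 8 ∣ 648 := Int.natCast_dvd_natCast.mp hdvdZ
  have hmem : b + c + 8 ∈ Nat.divisors 648 := Nat.mem_divisors.mpr ⟨hdvd, by norm_num⟩
  rw [a5cneg_divisors] at hmem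
  simp only [Finset.mem_insert, Finset.mem_singleton] at hmem
  have hs : b + c = 46 ∨ b + c = 154 := by omega
  rcases hs with hs | hs
  · have hsZ : (b : ℤ) + c = 46 := by exact_mod_cast hs
    have hpZ : (b : ℤ) * c = 345 := by
      have := h1
      rw [hsZ] at this
      linarith
    have hp : b * c = 345 := by exact_mod_cast hpZ
    have hb23 : b ≤ 23 := by omega
    have hc' : c = 46 - b := by omega
    subst hc'
    interval_cases b <;> omega
  · have hsZ : (b : ℤ) + c = 154 := by exact_mod_cast hs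
    have hpZ : (b : ℤ) * c = 1309 := by
      have := h1
      rw [hsZ] at this
      linarith
    have hp : b * c = 1309 := by exact_mod_cast hpZ
    have hb77 : b ≤ 77 := by omega
    have hc' : c = 154 - b := by omega
    subst hc'
    interval_cases b <;> omega

/-- LEAF A5c-NEG. -/
theorem neg_core (b c d : ℕ) (hb : b % 4 = 3) (hc : c % 4 = 3) (hbc : b ≤ c)
    (h : (d : ℤ) * (b + c) * (b - 1) * (c - 1) = 8 * (b + c - 1) * b * c) :
    b = 3 ∧ c = 3 ∧ d = 15 := by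
  by_cases hb3 : b = 3
  · subst hb3
    obtain ⟨h1, h2⟩ := a5cneg_three c d hc (by exact_mod_cast h)
    exact ⟨rfl, h1, h2⟩
  by_cases hb7 : b = 7
  · subst hb7
    exact (a5cneg_seven c d hc hbc (by exact_mod_cast h)).elim
  exfalso
  have hb11 : 11 ≤ b := by omega
  have hB : (11 : ℤ) ≤ b := by exact_mod_cast hb11
  have hC : (b : ℤ) ≤ c := by exact_mod_cast hbc
  have hpos : (0 : ℤ) < ((b : ℤ) + c) * ((b : ℤ) - 1) * ((c : ℤ) - 1) := by
    have h1 : (0 : ℤ) < (b : ℤ) + c := by linarith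
    have h2 : (0 : ℤ) < (b : ℤ) - 1 := by linarith
    have h3 : (0 : ℤ) < (c : ℤ) - 1 := by linarith
    positivity
  have hE : (d : ℤ) * (((b : ℤ) + c) * ((b : ℤ) - 1) * ((c : ℤ) - 1)) =
      8 * (((b : ℤ) + c - 1) * b * c) := by linear_combination h
  -- `d > 8`
  have hd9 : (9 : ℤ) ≤ d := by
    by_contra hlt
    rw [not_le] at hlt
    have hD : (d : ℤ) ≤ 8 := by linarith
    have h1 : (d : ℤ) * (((b : ℤ) + c) * ((b : ℤ) - 1) * ((c : ℤ) - 1)) ≤
        8 * (((b : ℤ) + c) * ((b : ℤ) - 1) * ((c : ℤ) - 1)) :=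
      mul_le_mul_of_nonneg_right hD hpos.le
    nlinarith [mul_pos (show (0 : ℤ) < b by linarith) (show (0 : ℤ) < c by linarith),
      sq_nonneg ((b : ℤ) + c), sq_nonneg ((b : ℤ) - c)]
  -- `d < 10`
  have hd10 : (d : ℤ) < 10 := by
    by_contra hge
    rw [not_lt] at hge
    have h1 : (10 : ℤ) * (((b : ℤ) + c) * ((b : ℤ) - 1) * ((c : ℤ) - 1)) ≤
        (d : ℤ) * (((b : ℤ) + c) * ((b : ℤ) - 1) * ((c : ℤ) - 1)) :=
      mul_le_mul_of_nonneg_right hge hpos.le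
    -- `100 (b-1)(c-1) ≥ 81 b c` hmm: use `(b-1)(c-1) * 121 ≥ 100 b c`
    have hk : (100 : ℤ) * ((b : ℤ) * c) ≤ 121 * (((b : ℤ) - 1) * ((c : ℤ) - 1)) := by
      nlinarith [mul_nonneg (sub_nonneg.mpr hB) (sub_nonneg.mpr (hB.trans hC))]
    have hk2 : (100 : ℤ) * ((b : ℤ) * c) * ((b : ℤ) + c) ≤
        121 * (((b : ℤ) - 1) * ((c : ℤ) - 1)) * ((b : ℤ) + c) :=
      mul_le_mul_of_nonneg_right hk (by linarith)
    have hbc0 : (0 : ℤ) < (b : ℤ) * c := mul_pos (by linarith) (by linarith)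
    nlinarith
  have hd9' : (d : ℤ) = 9 := by linarith
  rw [hd9'] at h
  exact a5cneg_nine b c hb hc hb11 hbc h

end Cfsg.Agent.Lib.Helper47.A5c
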