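import Mathlib
import Cfsg.Prelude.Def_OddOrderLocal
import Cfsg.Agent.Lib.Helper50.TildeConj
import Cfsg.Agent.Lib.Helper70.BG1369
import Cfsg.Agent.S1378

/-!
S1379 (the partition of the non-identity elements), parts (1) [disjointness of the `M̃`] and
(3b) [no conjugate of an element of `Ẑ` lies in any `Ñ`], armed on the verbatim statements of
S1433, S1366, S1367, S1434 (clause 3) and S1431 (clause a).
-/

set_option autoImplicit false
set_option linter.style.haveILetI false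
set_option linter.unusedSectionVars false
set_option linter.unusedVariables false

universe u

namespace Cfsg.Agent.Lib.Helper70.BG1379

open Subgroup Cfsg
open Cfsg.Agent.Lib.Helper33
open Cfsg.Agent.Lib.Helper50.Tilde
open Cfsg.Agent.Lib.Helper70.BG1369

/-- statement of S1433 -/
def St1433 (G : Type u) [Group G] : Prop :=
  ∀ (M N : Subgroup G) (hM : IsCoatom M) (hN : IsCoatom N) (x y : G) (hx : x ∈ Cfsg.sigmaCore M) (hy : y ∈ Cfsg.sigmaCore N)
    (hx1 : x ≠ 1) (hy1 : y ≠ 1) (hxy : x ≠ y),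
    ∀ r ∈ Cfsg.supportR M x, ∀ s ∈ Cfsg.supportR N y, x * r ≠ y * s

/-- clause (a) of the statement of S1431 -/
def St1431a (G : Type u) [Group G] : Prop :=
  ∀ (M : Subgroup G) (hM : IsCoatom M) (K : Subgroup G) (hK : Cfsg.IsPiHallOf (Cfsg.kappa M) K M) (hK1 : K ≠ ⊥),
    ∀ g : G, g ∉ M → (Cfsg.sigmaCore M ⊓ Subgroup.centralizer (K : Set G)) ⊓ M.map (MulAut.conj g).toMonoidHom = ⊥

variable {G : Type u} [Group G] [Finite G]

theorem sigmaCore_le' (M : Subgroup G) : sigmaCore M ≤ M := Subgroup.map_subtype_le _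

theorem mem_sigma_of_mem_sigmaCore (M : Subgroup G) {x : G} (hx : x ∈ sigmaCore M) {p : ℕ}
    (hp : p.Prime) (hpx : p ∣ orderOf x) : p ∈ sigma M :=
  Cfsg.Agent.Lib.Helper24.BG.mem_sigma_of_dvd_card_sigmaCore M hp
    (hpx.trans (Subgroup.orderOf_dvd_natCard _ hx))

theorem conj_ne_one {c a : G} (ha : a ≠ 1) : c * a * c⁻¹ ≠ 1 := by
  intro h
  apply ha
  have : a = c⁻¹ * (c * a * c⁻¹) * c := by group
  rw [this, h]; group

/-- a subgroup of prime order inside `⟨a⟩` -/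
theorem exists_prime_zpowers {a : G} (ha1 : a ≠ 1) :
    ∃ (p : ℕ) (P : Subgroup G), p.Prime ∧ p ∣ orderOf a ∧ Nat.card P = p ∧ P ≤ zpowers a := by
  have ho1 : orderOf a ≠ 1 := fun h => ha1 (orderOf_eq_one_iff.mp h)
  have ho0 : orderOf a ≠ 0 := (orderOf_pos a).ne'
  have hpp : (orderOf a).minFac.Prime := Nat.minFac_prime ho1
  have hpx : (orderOf a).minFac ∣ orderOf a := Nat.minFac_dvd _
  refine ⟨(orderOf a).minFac, zpowers (a ^ (orderOf a / (orderOf a).minFac)), hpp, hpx, ?_, ?_⟩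
  · rw [Nat.card_zpowers, orderOf_pow_orderOf_div ho0 hpx]
  · rw [zpowers_le]
    exact Subgroup.pow_mem _ (mem_zpowers a) _

theorem centralizer_singleton_le_of_le_zpowers {a : G} {P : Subgroup G} (hP : P ≤ zpowers a) :
    centralizer ({a} : Set G) ≤ centralizer (P : Set G) := by
  intro c hc
  have hcx : a * c = c * a := mem_centralizer_iff.mp hc a rfl
  rw [mem_centralizer_iff]
  intro y hy
  obtain ⟨k, rfl⟩ := mem_zpowers_iff.mp (hP hy)
  have h1 : Commute a c := hcx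
  exact (h1.zpow_left k).eq

theorem hall_kappa_inf_sigmaCore {M K : Subgroup G} (hK : IsPiHallOf (kappa M) K M) :
    K ⊓ sigmaCore M = ⊥ := by
  apply (Subgroup.disjoint_of_coprime_natCard ?_).eq_bot
  apply Nat.coprime_of_dvd
  intro r hr h1 h2
  exact (hK.2.1 r hr h1).2.2.1
    (Cfsg.Agent.Lib.Helper24.BG.mem_sigma_of_dvd_card_sigmaCore M hr h2)

theorem eq_bot_of_card_prime_false {P : Subgroup G} (hP : (Nat.card P).Prime) (h : P = ⊥) : False := by
  rw [h, Subgroup.card_bot] at hP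
  exact Nat.not_prime_one hP

/-- **Part (1) of S1379**: `M̃ ∩ Ñ = ∅` for non-conjugate maximal subgroups. -/
theorem part1 (hG : IsMinSimpleOddOrder G) (h33 : St1433 G)
    (M N : Subgroup G) (hM : IsCoatom M) (hN : IsCoatom N)
    (hnc : ∀ g : G, N ≠ M.map (MulAut.conj g).toMonoidHom) :
    Cfsg.tildeOf M ((Cfsg.sigmaCore M : Set G) \ {1}) ∩ Cfsg.tildeOf N ((Cfsg.sigmaCore N : Set G) \ {1}) = ∅ := by
  rw [Set.eq_empty_iff_forall_notMem]
  rintro g ⟨⟨a, ⟨haM, ha1⟩, r, hr, u, hgu⟩, ⟨b, ⟨hbN, hb1⟩, s, hs, v, hgv⟩⟩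
  have ha1' : a ≠ 1 := fun h => ha1 (Set.mem_singleton_iff.mpr h)
  have hb1' : b ≠ 1 := fun h => hb1 (Set.mem_singleton_iff.mpr h)
  obtain ⟨c, hc⟩ : ∃ c, c = v⁻¹ * u := ⟨_, rfl⟩
  have hM' : IsCoatom (cj c M) := isCoatom_cj hM c
  have ha' : c * a * c⁻¹ ∈ sigmaCore (cj c M) := by
    rw [sigmaCore_cj]; exact conj_mem_cj haM
  have ha'1 : c * a * c⁻¹ ≠ 1 := conj_ne_one ha1'
  have hr' : c * r * c⁻¹ ∈ supportR (cj c M) (c * a * c⁻¹) := by
    rw [supportR_cj]; exact conj_mem_cj hr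
  have heq : (c * a * c⁻¹) * (c * r * c⁻¹) = b * s := by
    have h1 : v⁻¹ * (u * (a * r) * u⁻¹) * v = b * s := by
      rw [← hgu, hgv]; group
    rw [← h1, hc]; group
  by_cases hab : c * a * c⁻¹ = b
  · have ho1 : orderOf b ≠ 1 := fun h => hb1' (orderOf_eq_one_iff.mp h)
    obtain ⟨p, hp, hpb⟩ := Nat.exists_prime_and_dvd ho1
    have h1 : p ∈ sigma (cj c M) := mem_sigma_of_mem_sigmaCore _ ha' hp (by rw [hab]; exact hpb)
    have h2 : p ∈ sigma N := mem_sigma_of_mem_sigmaCore _ hbN hp hpb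
    obtain ⟨g', hg'⟩ := (Cfsg.Agent.S1378.result hG).2 (cj c M) N hM' hN ⟨p, h1, h2⟩
    apply hnc (g' * c)
    rw [hg', ← cj_def, ← cj_def, cj_mul]
  · exact h33 (cj c M) N hM' hN _ b ha' hbN ha'1 hb1' hab _ hr' s hs heq

/-- **Part (3b) of S1379**: no conjugate of an element of `Ẑ` lies in any `Ñ`. -/
theorem part3b (hG : IsMinSimpleOddOrder G) (h66 : St1366 G) (h67 : St1367 G) (h34 : St1434 G)
    (h31 : St1431a G)
    (M K U : Subgroup G) (hM : IsCoatom M) (hKU : Cfsg.IsSigmaDecomposition M K U) (hK1 : K ≠ ⊥)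
    (N : Subgroup G) (hN : IsCoatom N) (y z : G)
    (hz : z ∈ ((↑(K ⊔ (Cfsg.sigmaCore M ⊓ Subgroup.centralizer (K : Set G))) : Set G) \ ((K : Set G) ∪ ↑(Cfsg.sigmaCore M ⊓ Subgroup.centralizer (K : Set G))))) :
    y * z * y⁻¹ ∉ Cfsg.tildeOf N ((Cfsg.sigmaCore N : Set G) \ {1}) := by
  classical
  intro hmem
  rw [conj_mem_tildeOf_iff] at hmem
  obtain ⟨a0, ⟨ha0N, ha01⟩, r0, hr0, w, hzw⟩ := hmem
  have ha01' : a0 ≠ 1 := fun h => ha01 (Set.mem_singleton_iff.mpr h)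
  obtain ⟨Mstar, ⟨hMstar, hKst, hKstH⟩, _⟩ := h66 M hM K U hKU hK1
  obtain ⟨Ks, hKs⟩ : ∃ Ks, Ks = sigmaCore M ⊓ centralizer (K : Set G) := ⟨_, rfl⟩
  have hKst0 := hKst
  have hKstH0 := hKstH
  have hcoe : ((sigmaCore M : Set G) ⊓ (centralizer (K : Set G) : Set G)) =
      ((sigmaCore M ⊓ centralizer (K : Set G) : Subgroup G) : Set G) := by
    exact (Subgroup.coe_inf _ _).symm
  rw [hcoe, ← hKs] at hKst
  rw [← hKs] at hz hKstH
  obtain ⟨N', hN'def⟩ : ∃ N', N' = cj w N := ⟨_, rfl⟩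
  obtain ⟨a, hadef⟩ : ∃ a, a = w * a0 * w⁻¹ := ⟨_, rfl⟩
  obtain ⟨r, hrdef⟩ : ∃ r, r = w * r0 * w⁻¹ := ⟨_, rfl⟩
  have hN' : IsCoatom N' := hN'def ▸ isCoatom_cj hN w
  have haN : a ∈ sigmaCore N' := by
    rw [hN'def, hadef, sigmaCore_cj]; exact conj_mem_cj ha0N
  have ha1 : a ≠ 1 := hadef ▸ conj_ne_one ha01'
  have hr : r ∈ supportR N' a := by
    rw [hN'def, hadef, hrdef, supportR_cj]; exact conj_mem_cj hr0
  have hzar : z = a * r := by rw [hzw, hadef, hrdef]; group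
  have hra : r ∈ centralizer ({a} : Set G) := supportR_le_centralizer N' a hr
  have hcomm : a * r = r * a := mem_centralizer_iff.mp hra a rfl
  have haz : a ∈ centralizer ({z} : Set G) := by
    rw [mem_centralizer_iff]
    intro h hh
    rw [Set.mem_singleton_iff] at hh
    subst hh
    rw [hzar, mul_assoc, ← hcomm]
  obtain ⟨hcM, _⟩ := h34 M hM K U hKU hK1 Mstar hMstar hKst0 hKstH0
  have hCz : centralizer ({z} : Set G) = K ⊔ Ks := by
    rw [hKs]; exact centralizer_zhat hcM (hKs ▸ hz)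
  have haZ : a ∈ K ⊔ Ks := hCz ▸ haz
  obtain ⟨p, P, hp, hpa, hPc, hPa⟩ := exists_prime_zpowers ha1
  have hPZ : P ≤ K ⊔ Ks := hPa.trans (zpowers_le.mpr haZ)
  have hpN : p ∈ sigma N' := mem_sigma_of_mem_sigmaCore N' haN hp hpa
  have hPN : P ≤ N' := hPa.trans (zpowers_le.mpr (sigmaCore_le' N' haN))
  have hCaP : centralizer ({a} : Set G) ≤ centralizer (P : Set G) :=
    centralizer_singleton_le_of_le_zpowers hPa
  have hPp : (Nat.card P).Prime := hPc ▸ hp
  have hcommK : ∀ a ∈ K, ∀ b ∈ Ks, a * b = b * a := hKs ▸ commute_kstar M K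
  obtain ⟨x, hx, y0, hy0, hzxy⟩ :=
    Cfsg.Agent.Lib.Helper24.exists_mul_of_mem_sup_of_le_normalizer K Ks
      (le_normalizer_of_commute hcommK) z hz.1
  have hx1 : x ≠ 1 := by
    rintro rfl
    apply hz.2
    right
    rw [hzxy, one_mul]
    exact hy0
  have hy01 : y0 ≠ 1 := by
    rintro rfl
    apply hz.2
    left
    rw [hzxy, mul_one]
    exact hx
  have hKs1 : Ks ≠ ⊥ := by
    intro h
    rw [h, mem_bot] at hy0
    exact hy01 hy0
  have hcop : (Nat.card K).Coprime (Nat.card Ks) := hKs ▸ coprime_card hKU.hall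
  rcases le_or_le_of_card_prime hcommK hcop hPZ hPp with hPK | hPKs
  · -- `P ≤ K ≤ M*_σ`
    have hKle : K ≤ sigmaCore Mstar := by
      intro k hk
      rw [hKst] at hk
      exact hk.1
    have hpMs : p ∈ sigma Mstar := by
      apply Cfsg.Agent.Lib.Helper24.BG.mem_sigma_of_dvd_card_sigmaCore Mstar hp
      rw [← hPc]
      exact Subgroup.card_dvd_of_le (hPK.trans hKle)
    obtain ⟨g, hg⟩ := (Cfsg.Agent.S1378.result hG).2 Mstar N' hMstar hN' ⟨p, hpMs, hpN⟩
    have hgM : g ∈ Mstar := by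
      by_contra hgn
      have h1 := h31 Mstar hMstar Ks hKstH hKs1 g hgn
      have hPle : P ≤ (sigmaCore Mstar ⊓ centralizer (Ks : Set G)) ⊓
          Mstar.map (MulAut.conj g).toMonoidHom := by
        refine le_inf ?_ (hg ▸ hPN)
        rw [← hKst]; exact hPK
      rw [h1] at hPle
      exact eq_bot_of_card_prime_false hPp (le_bot_iff.mp hPle)
    have hNeq : N' = Mstar := by rw [hg, ← cj_def, cj_eq_self_of_mem hgM]
    have hCP := ((h67 M hM K U hKU hK1 Mstar hMstar hKst0 hKstH0).2 P hPK hPp).1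
    have hCaN : centralizer ({a} : Set G) ≤ N' := hNeq ▸ (hCaP.trans hCP)
    have hr1 : r = 1 := by
      have h2 := supportR_eq_bot_of_le hCaN
      rw [h2] at hr
      exact mem_bot.mp hr
    have hzMs : z ∈ sigmaCore Mstar := by
      rw [hzar, hr1, mul_one, ← hNeq]; exact haN
    have hxMs : x ∈ sigmaCore Mstar := hKle hx
    have hy0Ms : y0 ∈ sigmaCore Mstar := by
      have h3 : y0 = x⁻¹ * z := by rw [hzxy]; group
      rw [h3]
      exact mul_mem (inv_mem hxMs) hzMs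
    have h4 : y0 ∈ Ks ⊓ sigmaCore Mstar := ⟨hy0, hy0Ms⟩
    rw [hall_kappa_inf_sigmaCore hKstH, mem_bot] at h4
    exact hy01 h4
  · -- `P ≤ K* ≤ M_σ`
    have hKsle : Ks ≤ sigmaCore M := by rw [hKs]; exact inf_le_left
    have hpMs : p ∈ sigma M := by
      apply Cfsg.Agent.Lib.Helper24.BG.mem_sigma_of_dvd_card_sigmaCore M hp
      rw [← hPc]
      exact Subgroup.card_dvd_of_le (hPKs.trans hKsle)
    obtain ⟨g, hg⟩ := (Cfsg.Agent.S1378.result hG).2 M N' hM hN' ⟨p, hpMs, hpN⟩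
    have hgM : g ∈ M := by
      by_contra hgn
      have h1 := h31 M hM K hKU.hall hK1 g hgn
      have hPle : P ≤ (sigmaCore M ⊓ centralizer (K : Set G)) ⊓
          M.map (MulAut.conj g).toMonoidHom := by
        refine le_inf ?_ (hg ▸ hPN)
        rw [← hKs]; exact hPKs
      rw [h1] at hPle
      exact eq_bot_of_card_prime_false hPp (le_bot_iff.mp hPle)
    have hNeq : N' = M := by rw [hg, ← cj_def, cj_eq_self_of_mem hgM]
    have hCP := ((h67 M hM K U hKU hK1 Mstar hMstar hKst0 hKstH0).1 P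
      (hKs ▸ hPKs) hPp).1
    have hCaN : centralizer ({a} : Set G) ≤ N' := hNeq ▸ (hCaP.trans hCP)
    have hr1 : r = 1 := by
      have h2 := supportR_eq_bot_of_le hCaN
      rw [h2] at hr
      exact mem_bot.mp hr
    have hzMs : z ∈ sigmaCore M := by
      rw [hzar, hr1, mul_one, ← hNeq]; exact haN
    have hy0Ms : y0 ∈ sigmaCore M := hKsle hy0
    have hxMs : x ∈ sigmaCore M := by
      have h3 : x = z * y0⁻¹ := by rw [hzxy]; group
      rw [h3]
      exact mul_mem hzMs (inv_mem hy0Ms)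
    have h4 : x ∈ K ⊓ sigmaCore M := ⟨hx, hxMs⟩
    rw [hall_kappa_inf_sigmaCore hKU.hall, mem_bot] at h4
    exact hx1 h4

end Cfsg.Agent.Lib.Helper70.BG1379
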