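import Mathlib
import Cfsg.Prelude.Def_OddOrderLocal
import Cfsg.Agent.Lib.Helper22.BG144e
import Cfsg.Agent.S1405
import Cfsg.Agent.S1408
import Cfsg.Agent.S1414
import Cfsg.Agent.S1417
import Cfsg.Agent.S1418
import Cfsg.Agent.S1423
import Cfsg.Agent.S1425
import Cfsg.Agent.S1429
import Cfsg.Agent.S1432
import Cfsg.Agent.Lib.Helper50.CoprimeHyperplane
import Cfsg.Agent.Lib.Helper56.FrobApply
import Cfsg.Agent.Lib.Helper63.BG13a
import Cfsg.Agent.Lib.Helper63.BG10
import Cfsg.Agent.Lib.Helper96.BG127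
import Cfsg.Agent.Lib.Helper24.BG142II
import Cfsg.Agent.Lib.Helper47.BG11b
import Cfsg.Agent.Lib.Helper30.PPrimeCore
import Cfsg.Agent.Lib.Helper76.BGSigU
import Cfsg.Agent.Lib.Helper50.TildeConj

set_option autoImplicit false
set_option linter.style.haveILetI false
set_option linter.unusedSectionVars false
set_option linter.unusedVariables false

/-!
# B&G 14.4(d) / S1436(a), `τ₂`-part, in the case `κ(N) = ∅`

`Cfg M x N` (helper22): `x ∈ M_σ#`, `C_G(x) ⊄ M`, `N` maximal over `C_G(x)`.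
Main result: `Cfg.tau2_eq_empty_of_kappa_empty`: if `κ(M) = ∅ = κ(N)` and a prime of `σ(N)`
divides `|M|`, then `τ₂(M) = ∅`.
-/

namespace Cfsg.Agent.Lib.Helper70.BG1436

open Subgroup Cfsg Cfsg.Agent.Lib.Helper33
open Cfsg.Agent.Lib.Helper22.BG144d (Cfg)

universe u

variable {G : Type u} [Group G] [Finite G]

/-- an element of prime order `q` outside a normal subgroup `K` forces `q ∣ |Y : K|` -/
theorem prime_dvd_index_of_not_mem {Y : Type*} [Group Y] [Finite Y] (K : Subgroup Y) [K.Normal]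
    {a : Y} {q : ℕ} (hq : q.Prime) (ha : a ^ q = 1) (haK : a ∉ K) : q ∣ K.index := by
  have h1 : (QuotientGroup.mk' K a) ^ q = 1 := by rw [← map_pow, ha, map_one]
  have h2 : QuotientGroup.mk' K a ≠ 1 := by
    intro h
    exact haK ((QuotientGroup.eq_one_iff a).mp h)
  have h3 : orderOf (QuotientGroup.mk' K a) = q := by
    have := orderOf_dvd_of_pow_eq_one h1
    rcases (Nat.dvd_prime hq).mp this with h | h
    · exact absurd (orderOf_eq_one_iff.mp h) h2
    · exact h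
  rw [← h3, Subgroup.index_eq_card]
  exact orderOf_dvd_natCard _

/-- `O_{q'}(M)` centralizes every `q`-subgroup of `M` normalized by `M` -/
theorem commute_pPrimeCore_of_normal_pgroup {M Q : Subgroup G} {q : ℕ} [Fact q.Prime]
    (hQ : IsPGroup q Q) (hQM : Q ≤ M) (hMQ : M ≤ normalizer (Q : Set G)) {y : M}
    (hy : y ∈ pPrimeCore q ↥M) {x : G} (hx : x ∈ Q) : (y : G) * x = x * y := by
  haveI : (Q.subgroupOf M).Normal := (Subgroup.normal_subgroupOf_iff_le_normalizer hQM).mpr hMQ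
  have hQ' : IsPGroup q ↥(Q.subgroupOf M) := hQ.comap_subtype
  have hcop : (Nat.card (pPrimeCore q ↥M)).Coprime q :=
    Cfsg.Agent.Lib.Helper30.pPrimeCore_card_coprime q
  have hdis : Disjoint (Q.subgroupOf M) (pPrimeCore q ↥M) := by
    rw [disjoint_iff]
    exact Cfsg.Agent.Lib.Helper50.inf_eq_bot_of_isPGroup_of_coprime hQ' hcop
  have h := Subgroup.commute_of_normal_of_disjoint _ _ inferInstance inferInstance hdis
    (⟨x, hQM hx⟩ : M) y (by simpa [Subgroup.mem_subgroupOf] using hx) hy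
  have h2 := congrArg Subtype.val h.eq
  simpa using h2.symm

/-- in an elementary abelian group `A` of order `p²` acting coprimely on `R ≠ 1`, some subgroup of
order `p` of `A` has a nontrivial centralizer in `R` -/
theorem exists_order_p_cent_ne_bot {p : ℕ} [hp : Fact p.Prime] (A R : Subgroup G)
    (hA : IsElementaryAbelian p A) (hcard : Nat.card A = p ^ 2) (hRp : ¬ p ∣ Nat.card R)
    (hAR : A ≤ normalizer (R : Set G)) (hR1 : R ≠ ⊥) :
    ∃ X : Subgroup G, X ≤ A ∧ Nat.card X = p ∧ R ⊓ centralizer (X : Set G) ≠ ⊥ := by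
  have hp1 : 1 < p := hp.out.one_lt
  -- `b ≠ 1` in `A`
  have hA1 : A ≠ ⊥ := by
    intro h
    rw [h, Subgroup.card_bot] at hcard
    nlinarith
  obtain ⟨⟨b, hbA⟩, hb1'⟩ := (Subgroup.ne_bot_iff_exists_ne_one).mp hA1
  have hb1 : b ≠ 1 := fun h => hb1' (Subtype.ext h)
  have hbp : b ^ p = 1 := hA.2 b hbA
  have hob : orderOf b = p := by
    rcases (Nat.dvd_prime hp.out).mp (orderOf_dvd_of_pow_eq_one hbp) with h | h
    · exact absurd (orderOf_eq_one_iff.mp h) hb1
    · exact h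
  -- `a ∈ A` outside `⟨b⟩`
  have hzb : zpowers b ≤ A := (Subgroup.zpowers_le).mpr hbA
  have hcb : Nat.card (zpowers b) = p := by rw [Nat.card_zpowers, hob]
  obtain ⟨a, haA, hab⟩ : ∃ a ∈ A, a ∉ zpowers b := by
    by_contra hno
    have : A ≤ zpowers b := fun a ha => by
      by_contra h
      exact hno ⟨a, ha, h⟩
    have h2 := Subgroup.card_le_of_le this
    rw [hcard, hcb] at h2
    nlinarith
  have hcomm : a * b = b * a := by
    have := hA.1.is_comm.comm (⟨a, haA⟩ : A) ⟨b, hbA⟩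
    exact congrArg Subtype.val this
  obtain ⟨c, hc, hcR⟩ := Cfsg.Agent.Lib.Helper50.exists_mem_genSet_centralizer_ne_bot R hRp hR1 a b
    (hAR haA) (hAR hbA) (hA.2 a haA) hbp hcomm
  have hcA : c ∈ A := by
    rcases hc with rfl | ⟨n, rfl⟩
    · exact hbA
    · exact A.mul_mem haA (A.pow_mem hbA n)
  have hc1 : c ≠ 1 := by
    rcases hc with rfl | ⟨n, rfl⟩
    · exact hb1
    · intro h
      apply hab
      have : a = (b ^ n)⁻¹ := eq_inv_of_mul_eq_one_left h
      rw [this]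
      exact (zpowers b).inv_mem (Subgroup.pow_mem _ (Subgroup.mem_zpowers b) n)
  have hoc : orderOf c = p := by
    rcases (Nat.dvd_prime hp.out).mp (orderOf_dvd_of_pow_eq_one (hA.2 c hcA)) with h | h
    · exact absurd (orderOf_eq_one_iff.mp h) hc1
    · exact h
  refine ⟨zpowers c, (Subgroup.zpowers_le).mpr hcA, by rw [Nat.card_zpowers, hoc], ?_⟩
  have : centralizer ((zpowers c : Subgroup G) : Set G) = centralizer {c} := by
    rw [Subgroup.zpowers_eq_closure, Subgroup.centralizer_closure]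
  rw [this]
  exact hcR

theorem isPGroup_zpowers_of_orderOf {y : G} {p : ℕ} (h : orderOf y = p) :
    IsPGroup p (zpowers y) := by
  apply IsPGroup.of_card (n := 1)
  rw [Nat.card_zpowers, h, pow_one]

theorem ne_one_of_orderOf_prime {y : G} {p : ℕ} (hp : p.Prime) (h : orderOf y = p) : y ≠ 1 := by
  intro h1
  rw [h1, orderOf_one] at h
  exact hp.one_lt.ne h

variable {M N : Subgroup G} {x : G}

/-- reduction to an element of prime order -/
theorem exists_prime_order (c : Cfg M x N) :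
    ∃ (q : ℕ) (x₀ : G), q.Prime ∧ orderOf x₀ = q ∧ Cfg M x₀ N := by
  have ho1 : orderOf x ≠ 1 := fun h => c.hx1 (orderOf_eq_one_iff.mp h)
  have hq : (orderOf x).minFac.Prime := Nat.minFac_prime ho1
  have ho0 : orderOf x ≠ 0 := (orderOf_pos x).ne'
  have hox₀ : orderOf (x ^ (orderOf x / (orderOf x).minFac)) = (orderOf x).minFac :=
    orderOf_pow_orderOf_div ho0 (Nat.minFac_dvd _)
  refine ⟨(orderOf x).minFac, x ^ (orderOf x / (orderOf x).minFac), hq, hox₀, ?_⟩
  have hle : centralizer ({x} : Set G) ≤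
      centralizer ({x ^ (orderOf x / (orderOf x).minFac)} : Set G) := by
    intro g hg
    rw [mem_centralizer_iff] at hg ⊢
    intro h hh
    rw [Set.mem_singleton_iff.mp hh]
    have h1 : x * g = g * x := hg x rfl
    exact ((Commute.pow_left (show Commute x g from h1) _).eq)
  have hx₀1 := ne_one_of_orderOf_prime hq hox₀
  have hx₀σ : x ^ (orderOf x / (orderOf x).minFac) ∈ sigmaCore M := Subgroup.pow_mem _ c.hx _
  have hx₀M : ¬ centralizer ({x ^ (orderOf x / (orderOf x).minFac)} : Set G) ≤ M :=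
    fun h => c.hxM (hle.trans h)
  obtain ⟨N₀, -, huniq, -⟩ := Cfsg.Agent.S1375.result c.hG M c.hM x c.hx c.hx1 c.hxM
  obtain ⟨N₁, ⟨hN₁, hN₁x⟩, -⟩ := Cfsg.Agent.S1375.result c.hG M c.hM _ hx₀σ hx₀1 hx₀M
  have h1 : N₁ = N₀ := huniq N₁ hN₁ (hle.trans hN₁x)
  have h2 : N = N₀ := huniq N c.hN c.hxN
  have h3 : N₁ = N := h1.trans h2.symm
  exact ⟨c.hG, c.hM, hx₀σ, hx₀1, hx₀M, c.hN, h3 ▸ hN₁x⟩

/-- the prime order `q` of `x` lies in `σ(M)` -/
theorem q_mem_sigma (c : Cfg M x N) {q : ℕ} (hq : q.Prime) (hox : orderOf x = q) : q ∈ sigma M :=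
  Cfsg.Agent.Lib.Helper10.BG144T.sigma_of_mem_sigmaCore c.hG c.hM c.hx hq (by rw [hox])

/-- `q ∈ τ₂(N)` when `κ(N) = ∅` -/
theorem q_mem_tau2 (c : Cfg M x N) (hκN : kappa N = ∅) {q : ℕ} (hq : q.Prime)
    (hox : orderOf x = q) : q ∈ tau2 N := by
  obtain ⟨r, hrN, hrx, hrM⟩ := c.exists_R
  have hr1 : r ≠ 1 := fun h => hrM (h ▸ M.one_mem)
  have hxN : x ∈ N := c.hxN (Cfsg.Agent.Lib.Helper10.BG144T.self_mem_centralizer x)
  have hx' : x ∈ N ⊓ centralizer ({r} : Set G) := by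
    refine Subgroup.mem_inf.mpr ⟨hxN, ?_⟩
    rw [mem_centralizer_iff]
    intro h hh
    rw [Set.mem_singleton_iff.mp hh]
    exact hrx
  have hσ : ∀ p : ℕ, p.Prime → p ∣ orderOf x → p ∉ sigma N := by
    intro p hp hpd hpN
    rw [hox] at hpd
    have : p = q := (Nat.prime_dvd_prime_iff_eq hp hq).mp hpd
    exact c.sigma_disj q (q_mem_sigma c hq hox) (this ▸ hpN)
  rcases Cfsg.Agent.S1432.result c.hG N c.hN r hrN hr1 x hx' c.hx1 hσ with h | h
  · have := h.1 q hq (by rw [hox])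
    rw [hκN] at this
    exact absurd this (Set.notMem_empty q)
  · exact h.1 q hq (by rw [hox])

/-- `M_σ` is nilpotent when `κ(M) = ∅` and some prime of `σ(N)` divides `|M|` -/
theorem sigmaCore_nilpotent_of_kappa_empty (c : Cfg M x N) (hκM : kappa M = ∅) {t : ℕ}
    (ht : t ∈ sigma N) (htM : t ∣ Nat.card M) : Group.IsNilpotent ↥(sigmaCore M) := by
  obtain ⟨q, hq, hqM⟩ := c.exists_sigma
  have htσ : t ∉ sigma M := fun h => c.sigma_disj t h ht
  haveI : Fact t.Prime := ⟨ht.1⟩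
  obtain ⟨S⟩ : Nonempty (Sylow t M) := inferInstance
  refine (Cfsg.Agent.S1429.result c.hG M c.hM ?_ t htM ?_ S).2.2
  · intro h
    have h1 := h t ht.1 htM htσ
    rw [hκM] at h1
    exact h1
  · rintro (h | h)
    · exact htσ h
    · rw [hκM] at h
      exact h

/-- **Lemma D** (B&G 14.4(d)): every prime of `σ(N)` dividing `|M|` lies in `β(N)`. -/
theorem mem_beta_of_sigma (c : Cfg M x N) (hκM : kappa M = ∅) (hκN : kappa N = ∅) {q : ℕ}
    (hq : q.Prime) (hox : orderOf x = q) {t : ℕ} (ht : t ∈ sigma N) (htM : t ∣ Nat.card M) :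
    t ∈ beta N := by
  by_contra hβ
  have htp : t.Prime := ht.1
  haveI : Fact t.Prime := ⟨htp⟩
  haveI : Fact q.Prime := ⟨hq⟩
  have hqσM : q ∈ sigma M := q_mem_sigma c hq hox
  have hqτN : q ∈ tau2 N := q_mem_tau2 c hκN hq hox
  have hne : t ≠ q := fun h => c.sigma_disj q hqσM (h ▸ ht)
  have hnilM : Group.IsNilpotent ↥(sigmaCore M) := sigmaCore_nilpotent_of_kappa_empty c hκM ht htM
  have hnilN : Group.IsNilpotent ↥(sigmaCore N) := by
    rcases c.ctx.hcase with h | h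
    · exact absurd h c.hNM
    · exact h.2.2.2
  -- `A ≤ N` elementary abelian of order `q²`
  obtain ⟨A, hAN, hAel, hAcard⟩ := Cfsg.Agent.Lib.Helper63.BG10.exists_elemAb_sq_le hqτN.2.2.2
  have h17 := Cfsg.Agent.S1417.result c.hG N c.hN q hqτN A ⟨hAN, hAel, hAcard⟩
  have hCA : sigmaCore N ⊓ centralizer (A : Set G) = ⊥ := h17.2.2.2.1
  -- the normal Sylow `t`-subgroup of `N`
  obtain ⟨Ps, hPsp, hPsσ, hPsi, hPsN, hPsall⟩ :=
    Cfsg.Agent.Lib.Helper47.BG11.Exc.exists_normal_sylow c.hσN hnilN ht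
  have hPs1 : Ps ≠ ⊥ := by
    obtain ⟨y, hy⟩ := exists_prime_orderOf_dvd_card' t (ht.2.1 : t ∣ Nat.card ↥N)
    have hy' : orderOf (y : G) = t := by rw [Subgroup.orderOf_coe]; exact hy
    have h1 : zpowers (y : G) ≤ Ps :=
      hPsall _ ((Subgroup.zpowers_le).mpr y.2) (isPGroup_zpowers_of_orderOf hy')
    intro h0
    rw [h0] at h1
    exact ne_one_of_orderOf_prime htp hy' (Subgroup.mem_bot.mp (h1 (Subgroup.mem_zpowers _)))
  -- some `a ∈ A` does not centralize `Ps`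
  obtain ⟨a, haA, b, hbPs, hab⟩ : ∃ a ∈ A, ∃ b ∈ Ps, a * b ≠ b * a := by
    by_contra hno
    apply hPs1
    rw [eq_bot_iff, ← hCA]
    intro b hb
    refine Subgroup.mem_inf.mpr ⟨hPsσ hb, ?_⟩
    rw [mem_centralizer_iff]
    intro a ha
    by_contra h
    exact hno ⟨a, ha, b, hb, h⟩
  -- `q ≤ t`
  have h14N := (Cfsg.Agent.S1414.result c.hG N c.hN).2.2.2.2 t htp ht.2.1 hβ
  have hq_le : q ≤ t := by
    apply h14N.2.2 q hq
    have haN : a ∈ N := hAN haA
    apply prime_dvd_index_of_not_mem (pPrimeCore t ↥N) (a := (⟨a, haN⟩ : N)) hq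
    · apply Subtype.ext
      simp [hAel.2 a haA]
    · intro hmem
      exact hab (commute_pPrimeCore_of_normal_pgroup hPsp (hPsσ.trans c.hσN.1) hPsN hmem hbPs)
  -- `t ≤ q`
  have hqβ : q ∉ beta M := by
    intro h
    exact (Cfsg.Agent.S1408.result c.hG N c.hN q hqτN.2.1 hqτN.2.2.1 hqτN.2.2.2).1 h.2
  have h14M := (Cfsg.Agent.S1414.result c.hG M c.hM).2.2.2.2 q hq hqσM.2.1 hqβ
  obtain ⟨Q, hQp, hQσ, hQi, hQM, hQall⟩ :=
    Cfsg.Agent.Lib.Helper47.BG11.Exc.exists_normal_sylow c.hσM hnilM hqσM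
  have hxQ : x ∈ Q :=
    hQall _ ((Subgroup.zpowers_le).mpr c.hxMem) (isPGroup_zpowers_of_orderOf hox)
      (Subgroup.mem_zpowers x)
  have ht_le : t ≤ q := by
    apply h14M.2.2 t htp
    obtain ⟨y, hy⟩ := exists_prime_orderOf_dvd_card' t (htM : t ∣ Nat.card ↥M)
    have hy' : orderOf (y : G) = t := by rw [Subgroup.orderOf_coe]; exact hy
    apply prime_dvd_index_of_not_mem (pPrimeCore q ↥M) (a := y) htp
      (by rw [← hy]; exact pow_orderOf_eq_one y)
    intro hmem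
    have hcomm : (y : G) * x = x * y :=
      commute_pPrimeCore_of_normal_pgroup hQp (hQσ.trans c.hσM.1) hQM hmem hxQ
    have hyN : (y : G) ∈ N := by
      apply c.hxN
      rw [mem_centralizer_iff]
      intro h hh
      rw [Set.mem_singleton_iff.mp hh]
      exact hcomm.symm
    have hzy : zpowers (y : G) ≤ Ps :=
      hPsall _ ((Subgroup.zpowers_le).mpr hyN) (isPGroup_zpowers_of_orderOf hy')
    have hmem2 : (y : G) ∈ (M ⊓ N) ⊓ sigmaCore N :=
      Subgroup.mem_inf.mpr ⟨Subgroup.mem_inf.mpr ⟨y.2, hyN⟩, hPsσ (hzy (Subgroup.mem_zpowers _))⟩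
    rw [c.compl.2.2.1] at hmem2
    exact ne_one_of_orderOf_prime htp hy' (Subgroup.mem_bot.mp hmem2)
  exact hne (le_antisymm ht_le hq_le)

theorem orderOf_conj_g (g a : G) : orderOf (g * a * g⁻¹) = orderOf a := by
  have := orderOf_injective (MulAut.conj g).toMonoidHom (MulAut.conj g).injective a
  simpa [MulAut.conj_apply] using this

theorem elemAb_cj' {q : ℕ} {B : Subgroup G} (hB : IsElementaryAbelian q B) (m : G) :
    IsElementaryAbelian q (cj m B) := by
  refine ⟨⟨⟨?_⟩⟩, ?_⟩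
  · rintro ⟨a, ha⟩ ⟨b, hb⟩
    apply Subtype.ext
    obtain ⟨a', ha', rfl⟩ := mem_cj'.mp ha
    obtain ⟨b', hb', rfl⟩ := mem_cj'.mp hb
    have h : a' * b' = b' * a' := congrArg Subtype.val (hB.1.is_comm.comm ⟨a', ha'⟩ ⟨b', hb'⟩)
    show m * a' * m⁻¹ * (m * b' * m⁻¹) = m * b' * m⁻¹ * (m * a' * m⁻¹)
    calc m * a' * m⁻¹ * (m * b' * m⁻¹) = m * (a' * b') * m⁻¹ := by group
      _ = m * (b' * a') * m⁻¹ := by rw [h]
      _ = m * b' * m⁻¹ * (m * a' * m⁻¹) := by group
  · intro a ha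
    obtain ⟨a', ha', rfl⟩ := mem_cj'.mp ha
    rw [conj_pow, hB.2 a' ha']
    group

/-- no conjugate of `M` equals `N` -/
theorem cj_ne (c : Cfg M x N) (g : G) : cj g M ≠ N := by
  intro h
  obtain ⟨p, hp, hpM⟩ := c.exists_sigma
  have h1 : sigma (cj g M) = sigma M := Cfsg.Agent.Lib.Helper56.BG147.sigma_cj_eq g M
  rw [h] at h1
  exact c.sigma_disj p hpM (h1 ▸ hpM)

/-- a prime of `σ(N)` does not divide `|M_σ|` -/
theorem not_dvd_card_sigmaCore (c : Cfg M x N) {t : ℕ} (ht : t ∈ sigma N) :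
    ¬ t ∣ Nat.card (sigmaCore M) :=
  fun h => c.sigma_disj t (c.hσM.2.1 t ht.1 h) ht

/-- **(*)**: a subgroup `X ≤ M` of prime order `t ∈ σ(N)` has a conjugate inside `N_σ` whose
centralizer lies in `N` and in no other maximal subgroup. -/
theorem exists_conj_unique (c : Cfg M x N) (hκM : kappa M = ∅) (hκN : kappa N = ∅) {q : ℕ}
    (hq : q.Prime) (hox : orderOf x = q) {t : ℕ} (ht : t ∈ sigma N) {X : Subgroup G}
    (hXM : X ≤ M) (hX : Nat.card X = t) :
    ∃ g : G, cj g X ≤ sigmaCore N ∧ centralizer ((cj g X : Subgroup G) : Set G) ≤ N ∧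
      ∀ L : Subgroup G, IsCoatom L → centralizer ((cj g X : Subgroup G) : Set G) ≤ L → L = N := by
  have htp : t.Prime := ht.1
  haveI : Fact t.Prime := ⟨htp⟩
  have htM : t ∣ Nat.card M := hX ▸ Subgroup.card_dvd_of_le hXM
  have hX1 : X ≠ ⊥ := by
    intro h
    rw [h, Subgroup.card_bot] at hX
    exact htp.one_lt.ne hX
  have hβ : t ∈ beta N := mem_beta_of_sigma c hκM hκN hq hox ht htM
  obtain ⟨g, hg⟩ := Cfsg.Agent.S1425.result c.hG N c.hN X hX1 (by
    intro p hp hpd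
    rw [hX] at hpd
    rw [(Nat.prime_dvd_prime_iff_eq hp htp).mp hpd]
    exact ht)
  have hg' : cj g X ≤ sigmaCore N := hg
  obtain ⟨P⟩ : Nonempty (Sylow t ↥(sigmaCore N)) := inferInstance
  have h23 := Cfsg.Agent.S1423.result c.hG N c.hN t ht (cj g X) (hg'.trans c.hσN.1)
    (by rw [card_cj, hX]) P (Or.inl hβ)
  exact ⟨g, hg', h23.1.1, h23.1.2⟩

/-- **(i)**: no prime of `σ(N)` lies in `τ₂(M)`. -/
theorem not_tau2_of_sigma (c : Cfg M x N) (hκM : kappa M = ∅) (hκN : kappa N = ∅) {q : ℕ}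
    (hq : q.Prime) (hox : orderOf x = q) {t : ℕ} (ht : t ∈ sigma N) (htτ : t ∈ tau2 M) : False := by
  have htp : t.Prime := ht.1
  haveI : Fact t.Prime := ⟨htp⟩
  obtain ⟨A, hAM, hAel, hAcard⟩ := Cfsg.Agent.Lib.Helper63.BG10.exists_elemAb_sq_le htτ.2.2.2
  have hnd : ¬ t ∣ Nat.card (sigmaCore M) := not_dvd_card_sigmaCore c ht
  have hcop : (Nat.card A).Coprime (Nat.card (sigmaCore M)) := by
    rw [hAcard]
    exact Nat.Coprime.pow_left 2 ((Nat.Prime.coprime_iff_not_dvd htp).mpr hnd)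
  obtain ⟨E, hE, hAE⟩ := Cfsg.Agent.Lib.Helper63.BG13.exists_compl_ge c.hG c.hM.1 c.hσM hAM hcop
  have hMn : M ≤ normalizer ((sigmaCore M : Subgroup G) : Set G) :=
    Cfsg.Agent.Lib.Helper76.BGSigU.le_normalizer_sigmaCore' M
  have hσ1 : sigmaCore M ≠ ⊥ := Cfsg.Agent.Lib.Helper19.BG124.sigmaCore_ne_bot c.hG c.hM
  obtain ⟨X, hXA, hXc, hXne⟩ :=
    exists_order_p_cent_ne_bot A (sigmaCore M) hAel hAcard hnd (hAM.trans hMn) hσ1
  have h18 := (Cfsg.Agent.S1418.result c.hG M c.hM E hE t htτ A ⟨hAE, hAel, hAcard⟩).2.2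
    X hXA hXc hXne
  obtain ⟨g, hgσ, hgN, hguniq⟩ := exists_conj_unique c hκM hκN hq hox ht (hXA.trans hAM) hXc
  have h1 : centralizer ((cj g X : Subgroup G) : Set G) ≤ cj g M := by
    rw [centralizer_cj]
    exact cj_mono h18.1
  exact cj_ne c g (hguniq (cj g M) (Cfsg.Agent.Lib.Helper50.Tilde.isCoatom_cj c.hM g) h1)

/-- **(ii)**: a subgroup of `M` of prime order `t ∈ σ(N)` acts regularly on `M_σ`. -/
theorem fpf_of_sigma (c : Cfg M x N) (hκM : kappa M = ∅) (hκN : kappa N = ∅) {q : ℕ}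
    (hq : q.Prime) (hox : orderOf x = q) {t : ℕ} (ht : t ∈ sigma N) {X : Subgroup G}
    (hXM : X ≤ M) (hX : Nat.card X = t) : sigmaCore M ⊓ centralizer (X : Set G) = ⊥ := by
  by_contra hne
  have htp : t.Prime := ht.1
  have htM : t ∣ Nat.card M := hX ▸ Subgroup.card_dvd_of_le hXM
  have htσ : t ∉ sigma M := fun h => c.sigma_disj t h ht
  have hr : t ∈ tau1 M ∪ tau3 M := by
    by_cases h1 : PRankLE t 1 M
    · by_cases h' : t ∣ Nat.card ↥⁅M, M⁆
      · exact Or.inr ⟨htp, htσ, h', h1⟩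
      · exact Or.inl ⟨htp, htσ, htM, h', h1⟩
    · exfalso
      by_cases h2 : PRankLE t 2 M
      · exact not_tau2_of_sigma c hκM hκN hq hox ht ⟨htp, htσ, h2, h1⟩
      · have h05 := Cfsg.Agent.S1405.result c.hG M c.hM
        exact htσ (Cfsg.Agent.Lib.Helper76.BGSigU.alpha_subset_sigma c.hσM h05.1 h05.2.2.1
          ⟨htp, h2⟩)
  have := Cfsg.Agent.Lib.Helper32.BG142.eq_of_cent_ne_bot_mem_kappa c.hG c.hM hr hXM hX hne
  rw [hκM] at this
  exact this

/-- **(iii)**, prime-order form of the main result. -/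
theorem tau2_eq_empty_prime (c : Cfg M x N) (hκM : kappa M = ∅) (hκN : kappa N = ∅) {q : ℕ}
    (hq : q.Prime) (hox : orderOf x = q) (h : ∃ t ∈ sigma N, t ∣ Nat.card M) : tau2 M = ∅ := by
  obtain ⟨t, ht, htM⟩ := h
  rw [Set.eq_empty_iff_forall_notMem]
  intro s hs
  have htp : t.Prime := ht.1
  haveI : Fact t.Prime := ⟨htp⟩
  haveI : Fact s.Prime := ⟨hs.1⟩
  -- `z ∈ M` of order `t`
  obtain ⟨z, hz⟩ := exists_prime_orderOf_dvd_card' t (htM : t ∣ Nat.card ↥M)
  have hz' : orderOf (z : G) = t := by rw [Subgroup.orderOf_coe]; exact hz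
  have hz1 : (z : G) ≠ 1 := ne_one_of_orderOf_prime htp hz'
  have hXM : zpowers (z : G) ≤ M := (Subgroup.zpowers_le).mpr z.2
  have hXc : Nat.card (zpowers (z : G)) = t := by rw [Nat.card_zpowers, hz']
  have hfpf := fpf_of_sigma c hκM hκN hq hox ht hXM hXc
  obtain ⟨g, hgσ, hgN, hguniq⟩ := exists_conj_unique c hκM hκN hq hox ht hXM hXc
  have hsN : s ∉ sigma N := fun h => not_tau2_of_sigma c hκM hκN hq hox h hs
  have hnd : ¬ t ∣ Nat.card (sigmaCore M) := not_dvd_card_sigmaCore c ht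
  have hcopX : (Nat.card (zpowers (z : G))).Coprime (Nat.card (sigmaCore M)) := by
    rw [hXc]
    exact (Nat.Prime.coprime_iff_not_dvd htp).mpr hnd
  obtain ⟨E, hE, hXE⟩ := Cfsg.Agent.Lib.Helper63.BG13.exists_compl_ge c.hG c.hM.1 c.hσM hXM hcopX
  obtain ⟨A, hAE, hAel, hAcard⟩ := Cfsg.Agent.Lib.Helper96.BG127.exists_elemAb_sq_le_compl hE hs
  have h18 := Cfsg.Agent.S1418.result c.hG M c.hM E hE s hs A ⟨hAE, hAel, hAcard⟩
  have hEA : E ≤ normalizer (A : Set G) := h18.1.1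
  have hAM : A ≤ M := hAE.trans hE.1
  have h17 := Cfsg.Agent.S1417.result c.hG M c.hM s hs A ⟨hAM, hAel, hAcard⟩
  have hCA : sigmaCore M ⊓ centralizer (A : Set G) = ⊥ := h17.2.2.2.1
  have hσ1 : sigmaCore M ≠ ⊥ := Cfsg.Agent.Lib.Helper19.BG124.sigmaCore_ne_bot c.hG c.hM
  have hMn : M ≤ normalizer ((sigmaCore M : Subgroup G) : Set G) :=
    Cfsg.Agent.Lib.Helper76.BGSigU.le_normalizer_sigmaCore' M
  have hzE : (z : G) ∈ E := hXE (Subgroup.mem_zpowers _)
  by_cases hcase : ∃ a ∈ A, a ≠ 1 ∧ a * (z : G) = z * a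
  · -- some `a ∈ A#` centralizes `z`
    obtain ⟨a, haA, ha1, haz⟩ := hcase
    have hz1σ : g * z * g⁻¹ ∈ sigmaCore N := hgσ (conj_mem_cj (Subgroup.mem_zpowers _))
    have hz11 : g * (z : G) * g⁻¹ ≠ 1 := by
      intro h
      apply hz1
      have : (z : G) = g⁻¹ * (g * z * g⁻¹) * g := by group
      rw [this, h]; group
    have ha11 : g * a * g⁻¹ ≠ 1 := by
      intro h
      apply ha1
      have : a = g⁻¹ * (g * a * g⁻¹) * g := by group
      rw [this, h]; group
    have ha1C : g * a * g⁻¹ ∈ centralizer ((cj g (zpowers (z : G)) : Subgroup G) : Set G) := by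
      rw [centralizer_cj]
      apply conj_mem_cj
      rw [Subgroup.zpowers_eq_closure, Subgroup.centralizer_closure, mem_centralizer_iff]
      intro h hh
      rw [Set.mem_singleton_iff.mp hh]
      exact haz.symm
    have ha1N : g * a * g⁻¹ ∈ N := hgN ha1C
    have hcomm1 : g * (z : G) * g⁻¹ * (g * a * g⁻¹) = g * a * g⁻¹ * (g * z * g⁻¹) := by
      calc g * (z : G) * g⁻¹ * (g * a * g⁻¹) = g * (z * a) * g⁻¹ := by group
        _ = g * (a * z) * g⁻¹ := by rw [haz]
        _ = g * a * g⁻¹ * (g * z * g⁻¹) := by group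
    have ha1' : g * a * g⁻¹ ∈ N ⊓ centralizer ({g * (z : G) * g⁻¹} : Set G) := by
      refine Subgroup.mem_inf.mpr ⟨ha1N, ?_⟩
      rw [mem_centralizer_iff]
      intro h hh
      rw [Set.mem_singleton_iff.mp hh]
      exact hcomm1
    have hoa : orderOf a = s := by
      rcases (Nat.dvd_prime hs.1).mp (orderOf_dvd_of_pow_eq_one (hAel.2 a haA)) with h | h
      · exact absurd (orderOf_eq_one_iff.mp h) ha1
      · exact h
    have hoa1 : orderOf (g * a * g⁻¹) = s := by rw [orderOf_conj_g, hoa]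
    have hσ' : ∀ p : ℕ, p.Prime → p ∣ orderOf (g * a * g⁻¹) → p ∉ sigma N := by
      intro p hp hpd
      rw [hoa1] at hpd
      rw [(Nat.prime_dvd_prime_iff_eq hp hs.1).mp hpd]
      exact hsN
    rcases Cfsg.Agent.S1432.result c.hG N c.hN (g * z * g⁻¹) hz1σ hz11 (g * a * g⁻¹) ha1' ha11 hσ'
      with h | h
    · have := h.1 s hs.1 (by rw [hoa1])
      rw [hκN] at this
      exact this
    · have hsτN : s ∈ tau2 N := h.1 s hs.1 (by rw [hoa1])
      have hCa1 : centralizer ({g * a * g⁻¹} : Set G) ≤ N := h.2.2.1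
      have hA1N : cj g A ≤ N := by
        intro y hy
        apply hCa1
        obtain ⟨b, hb, rfl⟩ := mem_cj'.mp hy
        rw [mem_centralizer_iff]
        intro h' hh
        rw [Set.mem_singleton_iff.mp hh]
        have hab : a * b = b * a := congrArg Subtype.val (hAel.1.is_comm.comm ⟨a, haA⟩ ⟨b, hb⟩)
        calc g * a * g⁻¹ * (g * b * g⁻¹) = g * (a * b) * g⁻¹ := by group
          _ = g * (b * a) * g⁻¹ := by rw [hab]
          _ = g * b * g⁻¹ * (g * a * g⁻¹) := by group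
      have h17N := Cfsg.Agent.S1417.result c.hG N c.hN s hsτN (cj g A)
        ⟨hA1N, elemAb_cj' hAel g, by rw [card_cj, hAcard]⟩
      have hbot := h17N.2.2.2.2.1 (cj g M) (Cfsg.Agent.Lib.Helper50.Tilde.isCoatom_cj c.hM g)
        (cj_ne c g) (cj_mono hAM)
      have hmem : g * (z : G) * g⁻¹ ∈ sigmaCore N ⊓ cj g M :=
        Subgroup.mem_inf.mpr ⟨hz1σ, conj_mem_cj z.2⟩
      rw [hbot] at hmem
      exact hz11 (Subgroup.mem_bot.mp hmem)
  · -- `z` acts regularly on `A`: Frobenius formula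
    have hcase' : ∀ a ∈ A, a * (z : G) = z * a → a = 1 := by
      intro a ha haz
      by_contra ha1
      exact hcase ⟨a, ha, ha1, haz⟩
    have hX1 : zpowers (z : G) ≠ ⊥ := by
      intro h
      rw [h, Subgroup.card_bot] at hXc
      exact htp.one_lt.ne hXc
    have hUn : ∀ e ∈ zpowers (z : G), ∀ u ∈ A, e * u * e⁻¹ ∈ A := by
      intro e he u hu
      have heN : e ∈ normalizer (A : Set G) := hEA (hXE he)
      exact (Subgroup.mem_normalizer_iff.mp heN u).mp hu
    have hfpf' : ∀ e ∈ zpowers (z : G), e ≠ 1 → ∀ u ∈ A, e * u = u * e → u = 1 := by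
      intro e he he1 u hu heu
      apply hcase' u hu
      -- `z` is a power of `e`
      have hoe : orderOf e = t := by
        have h1 : orderOf e ∣ t := by
          rw [← hXc]
          exact Subgroup.orderOf_dvd_natCard _ he
        rcases (Nat.dvd_prime htp).mp h1 with h | h
        · exact absurd (orderOf_eq_one_iff.mp h) he1
        · exact h
      have hze : zpowers e = zpowers (z : G) := by
        apply Subgroup.eq_of_le_of_card_ge ((Subgroup.zpowers_le).mpr he)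
        rw [Nat.card_zpowers, Nat.card_zpowers, hoe, hz']
      have hzmem : (z : G) ∈ zpowers e := hze ▸ Subgroup.mem_zpowers _
      obtain ⟨k, hk⟩ := Subgroup.mem_zpowers_iff.mp hzmem
      rw [← hk]
      exact ((Commute.zpow_left (show Commute e u from heu) k).eq).symm
    have hHn : ∀ y ∈ A ⊔ zpowers (z : G), ∀ h ∈ sigmaCore M, y * h * y⁻¹ ∈ sigmaCore M := by
      intro y hy h hh
      have hyM : y ∈ M := (sup_le hAM hXM) hy
      exact (Subgroup.mem_normalizer_iff.mp (hMn hyM) h).mp hh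
    haveI : Group.IsSolvable ↥M := Cfsg.Agent.Lib.Helper23.isSolvable_of_ne_top c.hG c.hM.1
    have hsolv : Group.IsSolvable ↥(sigmaCore M) :=
      Group.isSolvable_of_isSolvable_injective (f := Subgroup.inclusion c.hσM.1)
        (Subgroup.inclusion_injective c.hσM.1)
    have hcopE : (Nat.card E).Coprime (Nat.card (sigmaCore M)) :=
      Cfsg.Agent.Lib.Helper70.BG1216.coprime_card_compl c.hσM hE
    have hcop : Nat.Coprime (Nat.card (sigmaCore M)) (Nat.card ↥(A ⊔ zpowers (z : G))) := by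
      have hle : A ⊔ zpowers (z : G) ≤ E := sup_le hAE hXE
      exact (Nat.Coprime.coprime_dvd_left (Subgroup.card_dvd_of_le hle) hcopE).symm
    have hform := Cfsg.Agent.Lib.Helper56.FrobApply.frobenius_formula A (zpowers (z : G))
      (sigmaCore M) hX1 hUn hfpf' hHn hsolv hcop
    have h1 : sigmaCore M ⊓ centralizer ((A ⊔ zpowers (z : G) : Subgroup G) : Set G) = ⊥ := by
      rw [eq_bot_iff, ← hfpf]
      exact inf_le_inf_left _ (Subgroup.centralizer_le (by
        intro y hy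
        exact (le_sup_right : zpowers (z : G) ≤ A ⊔ zpowers (z : G)) hy))
    rw [h1, hfpf, hCA, Subgroup.card_bot, one_pow, one_mul, one_mul] at hform
    exact hσ1 (Subgroup.card_eq_one.mp hform)

/-- **Main result** (S1436(a), `τ₂`-part, case `κ(N) = ∅`). -/
theorem tau2_eq_empty_of_kappa_empty (c : Cfg M x N) (hκM : kappa M = ∅) (hκN : kappa N = ∅)
    (h : ∃ t ∈ sigma N, t ∣ Nat.card M) : tau2 M = ∅ := by
  obtain ⟨q, x₀, hq, hox₀, c₀⟩ := exists_prime_order c
  exact tau2_eq_empty_prime c₀ hκM hκN hq hox₀ h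

end Cfsg.Agent.Lib.Helper70.BG1436
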