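import Mathlib
import Cfsg.Agent.Lib.Helper41.SpBNDefs

/-! # S2316 hive (helper70): Steinberg's count for `Sp_{2m}(F)` -- definitions

Basis order `e_0 < ... < e_{m-1} < f_{m-1} < ... < f_0` (`pos`).  For a level function `ℓ : Idx m → ℕ`:
* `Pl F ℓ` : the symplectic matrices which are block upper triangular for `ℓ` (`ℓ b < ℓ a → g a b = 0`);
* `Vl F ℓ` : the block upper unitriangular ones (`ℓ b ≤ ℓ a → g a b = δ_ab`).
`Bsp = Pl pos`, `Usp := Vl pos`.  For a set `J` of simple reflections, `lev J a` is the number of cuts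
before `a`, a cut being a position which is not joined to its successor by an element of `J`;
`V_J := Vl (lev J)` is the unipotent radical of the parabolic subgroup `P_J ≤ Pl (lev J)`. -/

set_option autoImplicit false

namespace Cfsg.Agent.Lib.Helper70.SpU

open Matrix Cfsg.Agent.Lib.Helper13 Cfsg.Agent.Lib.Helper41.SpBN

variable {F : Type*} [Field F] {m : ℕ}

/-- position of a basis vector in the order `e_0 < ... < e_{m-1} < f_{m-1} < ... < f_0` -/
def pos : Idx m → ℕ
  | Sum.inl i => (i : ℕ)
  | Sum.inr i => 2 * m - 1 - (i : ℕ)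

@[simp] theorem pos_inl (i : Fin m) : pos (Sum.inl i : Idx m) = (i : ℕ) := rfl
@[simp] theorem pos_inr (i : Fin m) : pos (Sum.inr i : Idx m) = 2 * m - 1 - (i : ℕ) := rfl

theorem pos_injective : Function.Injective (pos : Idx m → ℕ) := by
  rintro (i | i) (j | j) h
  · simp only [pos_inl] at h
    rw [Fin.ext h]
  · simp only [pos_inl, pos_inr] at h
    have := i.2; have := j.2; omega
  · simp only [pos_inl, pos_inr] at h
    have := i.2; have := j.2; omega
  · simp only [pos_inr] at h
    have := i.2; have := j.2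
    have : (i : ℕ) = j := by omega
    rw [Fin.ext this]

theorem coe_mul' (g h : SpG F m) : (g * h).1 = g.1 * h.1 := rfl

theorem coe_one' : (1 : SpG F m).1 = 1 := rfl

/-- a subset of a finite group containing `1` and closed under products is a subgroup -/
def subgroupOfMulClosed {G : Type*} [Group G] [Finite G] (S : Set G) (h1 : (1 : G) ∈ S)
    (hmul : ∀ a b, a ∈ S → b ∈ S → a * b ∈ S) : Subgroup G where
  carrier := S
  one_mem' := h1
  mul_mem' := fun {a b} ha hb => hmul a b ha hb
  inv_mem' := by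
    intro x hx
    have h2 : x⁻¹ ∈ Submonoid.powers x := by
      rw [mem_powers_iff_mem_zpowers]
      exact Subgroup.inv_mem _ (Subgroup.mem_zpowers x)
    obtain ⟨k, hk⟩ := h2
    have h3 : ∀ k : ℕ, x ^ k ∈ S := by
      intro k
      induction k with
      | zero => rw [pow_zero]; exact h1
      | succ k ih => rw [pow_succ]; exact hmul _ _ ih hx
    change x⁻¹ ∈ S
    rw [← hk]
    exact h3 k

variable (F)

/-- block upper triangular symplectic matrices for the level function `ℓ` -/
def Pl [Finite F] (ℓ : Idx m → ℕ) : Subgroup (SpG F m) :=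
  subgroupOfMulClosed {g : SpG F m | ∀ a b, ℓ b < ℓ a → g.1 a b = 0}
    (by
      intro a b hab
      rw [coe_one', Matrix.one_apply_ne]
      rintro rfl
      exact lt_irrefl _ hab)
    (by
      intro g h hg hh a b hab
      rw [coe_mul', Matrix.mul_apply]
      apply Finset.sum_eq_zero
      intro c _
      by_cases hc : ℓ c < ℓ a
      · rw [hg a c hc, zero_mul]
      · rw [hh c b (by omega), mul_zero])

/-- block upper unitriangular symplectic matrices for the level function `ℓ` -/
def Vl [Finite F] (ℓ : Idx m → ℕ) : Subgroup (SpG F m) :=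
  subgroupOfMulClosed
    {g : SpG F m | ∀ a b, ℓ b ≤ ℓ a → g.1 a b = (1 : Matrix (Idx m) (Idx m) F) a b}
    (by
      intro a b _
      rw [coe_one'])
    (by
      intro g h hg hh a b hab
      rw [coe_mul', Matrix.mul_apply]
      have h1 : ∀ c ∈ Finset.univ, g.1 a c * h.1 c b =
          (1 : Matrix (Idx m) (Idx m) F) a c * h.1 c b := by
        intro c _
        by_cases hc : ℓ c ≤ ℓ a
        · rw [hg a c hc]
        · have h2 : h.1 c b = 0 := by
            rw [hh c b (by omega), Matrix.one_apply_ne]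
            rintro rfl
            omega
          rw [h2, mul_zero, mul_zero]
      rw [Finset.sum_congr rfl h1, ← Matrix.mul_apply, Matrix.one_mul]
      exact hh a b hab)

variable {F}

theorem mem_Pl [Finite F] {ℓ : Idx m → ℕ} {g : SpG F m} :
    g ∈ Pl F ℓ ↔ ∀ a b, ℓ b < ℓ a → g.1 a b = 0 := Iff.rfl

theorem mem_Vl [Finite F] {ℓ : Idx m → ℕ} {g : SpG F m} :
    g ∈ Vl F ℓ ↔ ∀ a b, ℓ b ≤ ℓ a → g.1 a b = (1 : Matrix (Idx m) (Idx m) F) a b := Iff.rfl

theorem Vl_le_of_mono [Finite F] {ℓ ℓ' : Idx m → ℕ} (h : ∀ a b, ℓ' b ≤ ℓ' a → ℓ b ≤ ℓ a) :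
    Vl F ℓ ≤ Vl F ℓ' := fun _ hg a b hab => hg a b (h a b hab)

theorem Pl_le_of_mono [Finite F] {ℓ ℓ' : Idx m → ℕ} (h : ∀ a b, ℓ b < ℓ a → ℓ' b < ℓ' a) :
    Pl F ℓ' ≤ Pl F ℓ := fun _ hg a b hab => hg a b (h a b hab)

theorem Vl_le_Pl [Finite F] (ℓ : Idx m → ℕ) : Vl F ℓ ≤ Pl F ℓ := by
  intro g hg a b hab
  rw [hg a b hab.le, Matrix.one_apply_ne]
  rintro rfl
  exact lt_irrefl _ hab

/-- for a constant level function there is only one block, and `Vl` is trivial -/
theorem Vl_eq_bot_of_const [Finite F] {ℓ : Idx m → ℕ} (h : ∀ a b, ℓ a = ℓ b) : Vl F ℓ = ⊥ := by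
  rw [eq_bot_iff]
  intro g hg
  rw [Subgroup.mem_bot]
  apply Subtype.ext
  ext a b
  rw [hg a b (h b a).le, coe_one']

variable (F m)

/-- the upper unitriangular subgroup of `Sp_{2m}(F)` (for the order `pos`) -/
def Usp [Finite F] : Subgroup (SpG F m) := Vl F (pos : Idx m → ℕ)

variable {F m}

/-- `a` and `b` are consecutive for `pos` and exchanged by (the permutation of) a simple reflection in `J` -/
def Joined (J : Set (SpG F m)) (a b : Idx m) : Prop :=
  pos b = pos a + 1 ∧ ∃ s ∈ J, ∃ σ : Equiv.Perm (Idx m), IsSimpleGen σ ∧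
    s.1 = monoMat σ (1 : Fin m → Fˣ) ∧ σ a = b

open Classical in
/-- the level of `a`: the number of cuts strictly before `a`, a cut being a position not joined to its
successor by `J` -/
noncomputable def lev (J : Set (SpG F m)) (a : Idx m) : ℕ :=
  (Finset.univ.filter (fun c : Idx m => pos c < pos a ∧ ¬ ∃ d, Joined J c d)).card

theorem lev_mono (J : Set (SpG F m)) {a b : Idx m} (h : pos a ≤ pos b) : lev J a ≤ lev J b := by
  classical
  unfold lev
  apply Finset.card_le_card
  intro c hc
  rw [Finset.mem_filter] at hc ⊢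
  exact ⟨hc.1, lt_of_lt_of_le hc.2.1 h, hc.2.2⟩

/-- the permutations of the simple reflections in `J` -/
def permsOf (J : Set (SpG F m)) : Set (Equiv.Perm (Idx m)) :=
  {σ | IsSimpleGen σ ∧ ∃ s ∈ J, s.1 = monoMat σ (1 : Fin m → Fˣ)}

end Cfsg.Agent.Lib.Helper70.SpU
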