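import Cfsg.Agent.Lib.Helper66.S3Defs

/-! # S3 hive (S4305, helper66), sub-split C1B (helper32), leaf C1B-G7: core lemma.

`c1bg7_core` is the statement `c1b_inverts` with every fact it uses from other leaves
(G1, G2, G3, D3, D4, D9, CLS) taken as an explicit hypothesis. -/

set_option autoImplicit false

namespace Cfsg.Agent.Lib.Helper66.S3

universe u

section c1bg7

variable {H V : Type u} [Group H] [CommGroup V] [MulDistribMulAction A3 H]
  [MulDistribMulAction A3 V] [MulDistribMulAction H V] {p r : ℕ} {F : Subgroup H}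

/-- two distinct nontrivial elements of `S₃`, one of them an involution, generate `σ` -/
theorem c1bg7_sig_mem : ∀ t b : A3, (t ≠ 1 ∧ t * t = 1 ∧ b ≠ 1 ∧ b ≠ t) →
    (sig = b ∨ sig = b * b ∨ sig = t * b ∨ sig = b * t) := by
  unfold sig
  decide

/-- Case A: if the stabilizer of `C` in `A3` is `{1, t}` then `t` inverts `W(C)`. -/
theorem c1bg7_caseA (C : Subgroup H) (t : A3) (htt : t * t = 1) (htC : mapA t C = C)
    (hstab : ∀ b : A3, mapA b C = C → b = 1 ∨ b = t)
    (hD9 : ∀ v ∈ comp (V := V) F C, (∀ b : A3, mapA b C = C → b • v = v) → v = 1)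
    (hsmulA : ∀ (a : A3) (v : V), v ∈ comp (V := V) F C → a • v ∈ comp (V := V) F (mapA a C)) :
    ∀ v ∈ comp (V := V) F C, t • v = v⁻¹ := by
  intro v hv
  have htv : t • v ∈ comp (V := V) F C := by
    have := hsmulA t v hv
    rwa [htC] at this
  have hu : v * t • v ∈ comp (V := V) F C := Subgroup.mul_mem _ hv htv
  have hfixu : ∀ b : A3, mapA b C = C → b • (v * t • v) = v * t • v := by
    intro b hb
    rcases hstab b hb with rfl | rfl
    · exact one_smul _ _
    · rw [smul_mul', ← mul_smul, htt, one_smul, mul_comm]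
  have h1 := hD9 _ hu hfixu
  exact eq_inv_of_mul_eq_one_right h1

/-- C1B-G7, with the facts from the other leaves as hypotheses. -/
theorem c1bg7_core (cfg : Config H V p r F)
    (hmapH_mul : ∀ (h k : H) (C : Subgroup H), mapH (h * k) C = mapH h (mapH k C))
    (hmapH_one : ∀ C : Subgroup H, mapH 1 C = C)
    (hmapA_mul : ∀ (a b : A3) (C : Subgroup H), mapA (a * b) C = mapA a (mapA b C))
    (hmapA_mapH : ∀ (a : A3) (h : H) (C : Subgroup H),
      mapA a (mapH h C) = mapH (a • h) (mapA a C))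
    (hOm : ∀ C : Subgroup H, comp (V := V) F C ≠ ⊥ → ∀ h : H, comp (V := V) F (mapH h C) ≠ ⊥)
    (hFstab : ∀ C : Subgroup H, comp (V := V) F C ≠ ⊥ → ∀ f ∈ F, mapH f C = C)
    (hstab9 : ∀ C : Subgroup H, comp (V := V) F C ≠ ⊥ → ∃ a : A3, a ≠ 1 ∧ mapA a C = C ∧
      ∀ v ∈ comp (V := V) F C, (∀ b : A3, mapA b C = C → b • v = v) → v = 1)
    (hsmulA : ∀ (C : Subgroup H) (a : A3) (v : V), v ∈ comp (V := V) F C →
      a • v ∈ comp (V := V) F (mapA a C))
    (hsmulH : ∀ (C : Subgroup H) (h : H) (v : V), v ∈ comp (V := V) F C →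
      h • v ∈ comp (V := V) F (mapH h C))
    (hCLS : ∀ (t : A3) (N : Subgroup H) [N.Normal], Group.IsSolvable N →
      (Nat.card N).Coprime (Nat.card ↥(Subgroup.zpowers t)) →
      (∀ b : ↥(Subgroup.zpowers t), ∀ n ∈ N, b • n ∈ N) → ∀ g : H,
      (∀ b : ↥(Subgroup.zpowers t), g⁻¹ * b • g ∈ N) →
      ∃ n ∈ N, ∀ b : ↥(Subgroup.zpowers t), b • (g * n) = g * n)
    (hone : ∀ (C : Subgroup H), comp (V := V) F C ≠ ⊥ → mapA sig C = C → ∀ h : H,
      mapA sig (mapH h C) = mapH h C → mapH h C = C)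
    (C : Subgroup H) (hC : comp (V := V) F C ≠ ⊥) (hCtop : ∃ h : H, mapH h C ≠ C)
    (t : A3) (ht1 : t ≠ 1) (htt : t * t = 1) (hfix : ∀ h : H, mapA t (mapH h C) = mapH h C) :
    ∀ v ∈ comp (V := V) F C, t • v = v⁻¹ := by
  have hfinH : Finite H := cfg.hyp.finH
  -- `t` fixes `C`
  have htC : mapA t C = C := by
    have := hfix 1
    rwa [hmapH_one] at this
  obtain ⟨_, _, _, hD9⟩ := hstab9 C hC
  by_cases hst : ∀ b : A3, mapA b C = C → b = 1 ∨ b = t
  · exact c1bg7_caseA C t htt htC hst hD9 (hsmulA C)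
  -- otherwise `σ` fixes `C`
  have hst' : ∃ b : A3, mapA b C = C ∧ b ≠ 1 ∧ b ≠ t := by
    by_contra hcon
    apply hst
    intro b hb
    by_contra hb'
    apply hcon
    refine ⟨b, hb, fun h => hb' (Or.inl h), fun h => hb' (Or.inr h)⟩
  obtain ⟨b, hbC, hb1, hbt⟩ := hst'
  -- products of elements fixing a subgroup fix it
  have hmulfix : ∀ (D : Subgroup H) (x y : A3), mapA x D = D → mapA y D = D →
      mapA (x * y) D = D := by
    intro D x y hx hy
    rw [hmapA_mul, hy, hx]
  have hsigfix : ∀ (D : Subgroup H) (b : A3), mapA t D = D → mapA b D = D → b ≠ 1 → b ≠ t →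
      mapA sig D = D := by
    intro D b htD hbD hb1 hbt
    rcases c1bg7_sig_mem t b ⟨ht1, htt, hb1, hbt⟩ with h | h | h | h <;> rw [h]
    · exact hbD
    · exact hmulfix D b b hbD hbD
    · exact hmulfix D t b htD hbD
    · exact hmulfix D b t hbD htD
  have hsC : mapA sig C = C := hsigfix C b htC hbC hb1 hbt
  -- the stabilizer `HC` of `C` in `H`
  let HC : Subgroup H :=
    { carrier := {k | mapH k C = C}
      one_mem' := hmapH_one C
      mul_mem' := by
        intro x y hx hy
        show mapH (x * y) C = C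
        rw [hmapH_mul, hy, hx]
      inv_mem' := by
        intro x hx
        show mapH x⁻¹ C = C
        have hx' : mapH x C = C := hx
        calc mapH x⁻¹ C = mapH x⁻¹ (mapH x C) := by rw [hx']
          _ = mapH (x⁻¹ * x) C := (hmapH_mul _ _ _).symm
          _ = C := by rw [inv_mul_cancel, hmapH_one] }
  have hHCmem : ∀ k : H, k ∈ HC ↔ mapH k C = C := fun _ => Iff.rfl
  have hFHC : F ≤ HC := fun f hf => hFstab C hC f hf
  have hcommHC : commutator H ≤ HC := cfg.quot_comm.trans hFHC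
  have hHCn : HC.Normal := by
    constructor
    intro n hn g
    have : g * n * g⁻¹ = (g * n * g⁻¹ * n⁻¹) * n := by group
    rw [this]
    refine HC.mul_mem (hcommHC ?_) hn
    rw [commutator_def]
    exact Subgroup.commutator_mem_commutator (Subgroup.mem_top g) (Subgroup.mem_top n)
  have hHCsolv : Group.IsSolvable HC := by
    have := cfg.hyp.solv
    infer_instance
  have hcardB : Nat.card ↥(Subgroup.zpowers t) = 2 := by
    rw [Nat.card_zpowers]
    exact orderOf_eq_prime (by rw [pow_two]; exact htt) ht1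
  have hcop : (Nat.card HC).Coprime (Nat.card ↥(Subgroup.zpowers t)) := by
    rw [hcardB]
    have h6 : (Nat.card H).Coprime 6 := cfg.hyp.copH
    have hdvd : Nat.card HC ∣ Nat.card H := Subgroup.card_subgroup_dvd_card HC
    have h2 : (Nat.card H).Coprime 2 := Nat.Coprime.coprime_dvd_right (by norm_num) h6
    exact Nat.Coprime.coprime_dvd_left hdvd h2
  -- elements of `zpowers t`
  have hB : ∀ b : ↥(Subgroup.zpowers t), (b : A3) = 1 ∨ (b : A3) = t := by
    intro b
    obtain ⟨k, hk⟩ := Subgroup.mem_zpowers_iff.mp b.2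
    have h2 : t ^ (2 : ℤ) = 1 := by rw [zpow_two]; exact htt
    rcases Int.even_or_odd' k with ⟨m, hm | hm⟩
    · left
      rw [← hk, hm, zpow_mul, h2, one_zpow]
    · right
      rw [← hk, hm, zpow_add, zpow_mul, h2, one_zpow, one_mul, zpow_one]
  have hbsmul : ∀ (b : ↥(Subgroup.zpowers t)) (h : H), b • h = (b : A3) • h := fun _ _ => rfl
  -- `t • k` and `k` move `C` to the same subgroup
  have htk : ∀ k : H, mapH (t • k) C = mapH k C := by
    intro k
    have := hfix k
    rw [hmapA_mapH, htC] at this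
    exact this
  have hNB : ∀ b : ↥(Subgroup.zpowers t), ∀ n ∈ HC, b • n ∈ HC := by
    intro b n hn
    rw [hbsmul]
    rcases hB b with h | h <;> rw [h]
    · rw [one_smul]; exact hn
    · show mapH (t • n) C = C
      rw [htk]; exact hn
  have hg : ∀ k : H, ∀ b : ↥(Subgroup.zpowers t), k⁻¹ * b • k ∈ HC := by
    intro k b
    rw [hbsmul]
    rcases hB b with h | h <;> rw [h]
    · rw [one_smul, inv_mul_cancel]; exact HC.one_mem
    · show mapH (k⁻¹ * t • k) C = C
      rw [hmapH_mul, htk, ← hmapH_mul, inv_mul_cancel, hmapH_one]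
  obtain ⟨k, hk⟩ := hCtop
  obtain ⟨n, hn, hny⟩ := hCLS t HC hHCsolv hcop hNB k (hg k)
  have hty : t • (k * n) = k * n := by
    have := hny ⟨t, Subgroup.mem_zpowers t⟩
    exact this
  have hyC : mapH (k * n) C ≠ C := by
    rw [hmapH_mul, (hn : mapH n C = C)]
    exact hk
  -- the component `C' = mapH y C`
  have hC' : comp (V := V) F (mapH (k * n) C) ≠ ⊥ := hOm C hC (k * n)
  have htC' : mapA t (mapH (k * n) C) = mapH (k * n) C := hfix (k * n)
  have hstab' : ∀ b : A3, mapA b (mapH (k * n) C) = mapH (k * n) C → b = 1 ∨ b = t := by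
    intro b hb
    by_contra hcon
    have hb1 : b ≠ 1 := fun h => hcon (Or.inl h)
    have hbt : b ≠ t := fun h => hcon (Or.inr h)
    have hs' := hsigfix (mapH (k * n) C) b htC' hb hb1 hbt
    exact hyC (hone C hC hsC (k * n) hs')
  obtain ⟨_, _, _, hD9'⟩ := hstab9 (mapH (k * n) C) hC'
  have hinv' := c1bg7_caseA (mapH (k * n) C) t htt htC' hstab' hD9' (hsmulA (mapH (k * n) C))
  intro v hv
  have hyv := hsmulH C (k * n) v hv
  have h1 := hinv' _ hyv
  have h2 : t • ((k * n) • v) = (k * n) • (t • v) := by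
    rw [cfg.hyp.compat, hty]
  rw [h2, ← smul_inv'] at h1
  exact MulAction.injective (k * n) h1

end c1bg7

end Cfsg.Agent.Lib.Helper66.S3
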