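import Cfsg.Agent.Lib.Helper66.S3Defs
import Cfsg.Agent.Lib.Helper66.S3.CLS
import Cfsg.Agent.Lib.Helper66.S3.D1p
import Cfsg.Agent.Lib.Helper66.S3.D3
import Cfsg.Agent.Lib.Helper66.S3.D4
import Cfsg.Agent.Lib.Helper66.S3.D6
import Cfsg.Agent.Lib.Helper11.S3D9core
import Cfsg.Agent.Lib.Helper32.S3C1Bbase
import Cfsg.Agent.Lib.Helper70.S3C1BG7core

/-! # S3 hive (S4305, helper66), sub-split C1B (helper32), leaf C1B-G7 `c1b_inverts`. -/

set_option autoImplicit false

namespace Cfsg.Agent.Lib.Helper66.S3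

universe u

section c1b

variable {H V : Type u} [Group H] [CommGroup V] [MulDistribMulAction A3 H]
  [MulDistribMulAction A3 V] [MulDistribMulAction H V] {p r : ℕ} {F : Subgroup H}

/-- private copy of G2 -/
theorem c1bg7_Om_mapH (cfg : Config H V p r F) (C : Subgroup H) (hC : comp (V := V) F C ≠ ⊥)
    (h : H) : comp (V := V) F (mapH h C) ≠ ⊥ := by
  intro hbot
  apply hC
  rw [eq_bot_iff]
  intro v hv
  have h1 := comp_smulH cfg C h v hv
  rw [hbot, Subgroup.mem_bot] at h1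
  rw [Subgroup.mem_bot]
  have h2 : h • v = h • (1 : V) := by rw [h1, smul_one]
  exact MulAction.injective h h2

/-- private copy of G3 -/
theorem c1bg7_F_le_stab (cfg : Config H V p r F) (C : Subgroup H) (hC : comp (V := V) F C ≠ ⊥) :
    ∀ f ∈ F, mapH f C = C := by
  intro f hf
  have hCF : C ≤ F := comp_le C hC
  have hconj : ∀ c ∈ C, f * c * f⁻¹ = c := by
    intro c hc
    rw [cfg.Fcomm f hf c (hCF hc)]
    group
  ext x
  unfold mapH
  rw [Subgroup.mem_map]
  constructor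
  · rintro ⟨c, hc, rfl⟩
    show f * c * f⁻¹ ∈ C
    rw [hconj c hc]; exact hc
  · intro hx
    exact ⟨x, hx, hconj x hx⟩

/-- C1B-G7: the involution `t` fixing the `H`-orbit of `C` pointwise inverts `W(C)`. -/
theorem c1b_inverts (cfg : Config H V p r F)
    (hone : ∀ (C : Subgroup H), comp (V := V) F C ≠ ⊥ → mapA sig C = C → ∀ h : H,
      mapA sig (mapH h C) = mapH h C → mapH h C = C)
    (C : Subgroup H) (hC : comp (V := V) F C ≠ ⊥) (hCtop : ∃ h : H, mapH h C ≠ C)
    (t : A3) (ht1 : t ≠ 1) (htt : t * t = 1) (hfix : ∀ h : H, mapA t (mapH h C) = mapH h C) :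
    ∀ v ∈ comp (V := V) F C, t • v = v⁻¹ := by
  have hfinH : Finite H := cfg.hyp.finH
  exact c1bg7_core cfg c1b_mapH_mul c1b_mapH_one c1b_mapA_mul c1b_mapA_mapH
    (fun C hC h => c1bg7_Om_mapH cfg C hC h) (fun C hC => c1bg7_F_le_stab cfg C hC)
    (fun C hC => d9_core cfg (fun C a v hv => comp_smulA cfg C a v hv) (comp_indep cfg) C hC)
    (fun C a v hv => comp_smulA cfg C a v hv)
    (fun C h v hv => comp_smulH cfg C h v hv)
    (fun t N _ hs hc hNB g hg => coprime_lift_solv N hs hc hNB g hg)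
    hone C hC hCtop t ht1 htt hfix

end c1b

end Cfsg.Agent.Lib.Helper66.S3
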