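import Mathlib
import Cfsg.Agent.Lib.Helper66.TpDefs
import Cfsg.Agent.Lib.Helper68.PNilp
import Cfsg.Agent.Lib.Helper55.InvolSylow
import Cfsg.Agent.Lib.Helper55.Cores

/-!
# Tp hive (helper66, S4017), leaf TP-A: the case `p > q^a - 1`
-/

set_option autoImplicit false

namespace Cfsg.Agent.Lib.Helper66.Tp

open Cfsg.Agent.Lib.Helper2 Cfsg.Agent.Lib.Helper68

section

variable {G : Type*} [Group G] [Finite G]

/-- a `{q,ℓ}`-subgroup divisible by `q` and `ℓ` contradicts the mixing hypothesis. -/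
theorem tpa_key {p q : ℕ} (hp : p.Prime) (hq : q.Prime)
    (hpG : p ∣ Nat.card G)
    (hmix : ∀ H : Subgroup G, H ≠ ⊤ → ¬ IsPGroup q H → q ∣ Nat.card H → p ∣ Nat.card H)
    (H : Subgroup G) (ℓ : ℕ) (hℓ : ℓ.Prime) (hℓp : ℓ ≠ p) (hℓq : ℓ ≠ q) (hpq : p ≠ q) (i j : ℕ)
    (hdvd : Nat.card H ∣ q ^ i * ℓ ^ j) (hqH : q ∣ Nat.card H) (hℓH : ℓ ∣ Nat.card H) : False := by
  have hnotq : ¬ IsPGroup q H := by
    intro hH
    have : Fact q.Prime := ⟨hq⟩
    obtain ⟨n, hn⟩ := IsPGroup.iff_card.mp hH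
    rw [hn] at hℓH
    exact hℓq ((Nat.prime_dvd_prime_iff_eq hℓ hq).mp (hℓ.dvd_of_dvd_pow hℓH))
  have hpH : p ∣ Nat.card H := by
    by_cases hT : H = ⊤
    · rw [hT, Subgroup.card_top]
      exact hpG
    · exact hmix H hT hnotq hqH
  have h1 : p ∣ q ^ i * ℓ ^ j := hpH.trans hdvd
  rcases (Nat.Prime.dvd_mul hp).mp h1 with h | h
  · exact hpq ((Nat.prime_dvd_prime_iff_eq hp hq).mp (hp.dvd_of_dvd_pow h))
  · exact hℓp ((Nat.prime_dvd_prime_iff_eq hp hℓ).mp (hp.dvd_of_dvd_pow h)).symm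

/-- a `p`-element normalising a subgroup with fewer than `p + 1` elements centralises it. -/
theorem tpa_cent {p : ℕ} (hp : p.Prime) (Q₀ : Subgroup G) (g : G)
    (hg : g ∈ Subgroup.normalizer (Q₀ : Set G)) (j : ℕ) (hord : orderOf g = p ^ j)
    (hcard : Nat.card Q₀ - 1 < p) : g ∈ Subgroup.centralizer (Q₀ : Set G) := by
  rw [Subgroup.mem_centralizer_iff]
  intro h hh
  have hhQ : h ∈ Q₀ := hh
  by_cases h1 : h = 1
  · rw [h1, mul_one, one_mul]
  let K : Subgroup (ConjAct G) := Subgroup.zpowers (ConjAct.toConjAct g)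
  have hKcard : Nat.card K = p ^ j := by
    rw [Nat.card_zpowers, ← hord]
    exact (ConjAct.toConjAct (G := G)).orderOf_eq g
  have hdvd : Nat.card (MulAction.orbit K h) ∣ p ^ j := by
    rw [← hKcard]
    refine ⟨Nat.card (MulAction.stabilizer K h), ?_⟩
    rw [← Nat.card_prod]
    exact (Nat.card_congr (MulAction.orbitProdStabilizerEquivGroup K h)).symm
  have hsub : (MulAction.orbit K h : Set G) ⊆ (Q₀ : Set G) \ {1} := by
    rintro x ⟨⟨k, hk⟩, rfl⟩
    obtain ⟨n, rfl⟩ := Subgroup.mem_zpowers_iff.mp hk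
    have hgn : g ^ n ∈ Subgroup.normalizer (Q₀ : Set G) := Subgroup.zpow_mem _ hg n
    have hx : (⟨ConjAct.toConjAct g ^ n, hk⟩ : K) • h = g ^ n * h * (g ^ n)⁻¹ := by
      rw [Subgroup.smul_def]
      simp only
      rw [← map_zpow, ConjAct.toConjAct_smul]
    simp only [hx]
    refine ⟨?_, ?_⟩
    · exact (Subgroup.mem_normalizer_iff.mp hgn h).mp hhQ
    · intro hone
      rw [Set.mem_singleton_iff] at hone
      apply h1
      have : h = (g ^ n)⁻¹ * (g ^ n * h * (g ^ n)⁻¹) * (g ^ n) := by group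
      rw [this, hone]
      group
  have hle : Nat.card (MulAction.orbit K h) ≤ Nat.card Q₀ - 1 := by
    have e1 : Nat.card (MulAction.orbit K h) = (MulAction.orbit K h : Set G).ncard :=
      _root_.Nat.card_coe_set_eq _
    have e2 : Nat.card Q₀ = (Q₀ : Set G).ncard := _root_.Nat.card_coe_set_eq _
    rw [e1, e2, ← Set.ncard_sdiff_singleton_of_mem (Q₀.one_mem)]
    exact Set.ncard_le_ncard hsub (Set.toFinite _)
  obtain ⟨i, -, hi⟩ := (Nat.dvd_prime_pow hp).mp hdvd
  have hi0 : i = 0 := by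
    by_contra hne
    have : p ≤ p ^ i := by
      calc p = p ^ 1 := (pow_one p).symm
        _ ≤ p ^ i := Nat.pow_le_pow_right hp.pos (Nat.one_le_iff_ne_zero.mpr hne)
    omega
  rw [hi0, pow_zero] at hi
  have hss : Subsingleton (MulAction.orbit K h) := (Nat.card_eq_one_iff_unique.mp hi).1
  have hmem1 : (⟨ConjAct.toConjAct g, Subgroup.mem_zpowers _⟩ : K) • h ∈ MulAction.orbit K h :=
    MulAction.mem_orbit _ _
  have hmem2 : h ∈ MulAction.orbit K h := MulAction.mem_orbit_self _
  have heq := congrArg Subtype.val (hss.elim ⟨_, hmem1⟩ ⟨_, hmem2⟩)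
  simp only at heq
  rw [Subgroup.smul_def] at heq
  simp only at heq
  rw [ConjAct.toConjAct_smul] at heq
  calc h * g = g * h * g⁻¹ * g := by rw [heq]
    _ = g * h := by group

/-- TP-A (case `p > q^a - 1`, general `q`). -/
theorem caseA {G : Type*} [Group G] [Finite G] {p q : ℕ} (hp : p.Prime) (hq : q.Prime) (hpq : p ≠ q)
    (hpG : p ∣ Nat.card G) (hqG : q ∣ Nat.card G)
    (hmix : ∀ H : Subgroup G, H ≠ ⊤ → ¬ IsPGroup q H → q ∣ Nat.card H → p ∣ Nat.card H)
    (hlt : q ^ (Nat.card G).factorization q - 1 < p) :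
    ∀ r : ℕ, r.Prime → r ∣ Nat.card G → r = p ∨ r = q := by
  intro r hr hrG
  by_contra hcon
  push Not at hcon
  obtain ⟨hrp, hrq⟩ := hcon
  have : Fact q.Prime := ⟨hq⟩
  have : Fact r.Prime := ⟨hr⟩
  have hF : FrobCond q G := by
    apply frobCond_of_primePow
    intro Q₀ hQ₀ g hg ℓ j hℓ hℓq hord
    by_cases hbot : Q₀ = ⊥
    · rw [hbot, Subgroup.mem_centralizer_iff]
      intro h hh
      have : h = 1 := Subgroup.mem_bot.mp hh
      rw [this, one_mul, mul_one]
    by_cases hg1 : g = 1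
    · rw [hg1]
      exact one_mem _
    obtain ⟨n, hn⟩ := IsPGroup.iff_card.mp hQ₀
    by_cases hℓp : ℓ = p
    · subst hℓp
      apply tpa_cent hp Q₀ g hg j hord
      have hle : Nat.card Q₀ ≤ q ^ (Nat.card G).factorization q := by
        rw [hn]
        apply Nat.pow_le_pow_right hq.pos
        have hdvd : q ^ n ∣ Nat.card G := hn ▸ Subgroup.card_subgroup_dvd_card Q₀
        exact (hq.pow_dvd_iff_le_factorization Nat.card_pos.ne').mp hdvd
      omega
    · exfalso
      have hBle : Subgroup.zpowers g ≤ Subgroup.normalizer (Q₀ : Set G) :=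
        Subgroup.zpowers_le.mpr hg
      have hBcard : Nat.card (Subgroup.zpowers g) = ℓ ^ j := by rw [Nat.card_zpowers, hord]
      have hdvd := Cfsg.Agent.Lib.Helper55.card_sup_dvd_mul_of_le_normalizer _ _ hBle
      rw [hBcard, hn, mul_comm] at hdvd
      have hn1 : n ≠ 0 := by
        intro h0
        rw [h0, pow_zero] at hn
        exact hbot (Subgroup.eq_bot_of_card_eq _ hn)
      have hj1 : j ≠ 0 := by
        intro h0
        rw [h0, pow_zero] at hord
        exact hg1 (orderOf_eq_one_iff.mp hord)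
      refine tpa_key hp hq hpG hmix (Subgroup.zpowers g ⊔ Q₀) ℓ hℓ hℓp hℓq hpq n j hdvd ?_ ?_
      · have h1 : Nat.card Q₀ ∣ Nat.card (Subgroup.zpowers g ⊔ Q₀ : Subgroup G) :=
          Subgroup.card_dvd_of_le le_sup_right
        rw [hn] at h1
        exact (dvd_pow_self q hn1).trans h1
      · have h1 : Nat.card (Subgroup.zpowers g) ∣ Nat.card (Subgroup.zpowers g ⊔ Q₀ : Subgroup G) :=
          Subgroup.card_dvd_of_le le_sup_left
        rw [hBcard] at h1
        exact (dvd_pow_self ℓ hj1).trans h1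
  obtain ⟨P, K, hKn, hKc⟩ := hasNormalPComplement_of_frobCond hF
  have := hKn
  have hcardKP : Nat.card K * Nat.card P = Nat.card G := hKc.card_mul_card
  have hPcard : Nat.card P = q ^ (Nat.card G).factorization q := P.card_eq_multiplicity
  have hqK : ¬ q ∣ Nat.card K := by
    intro h
    obtain ⟨c, hc⟩ := h
    have : q ^ ((Nat.card G).factorization q + 1) ∣ Nat.card G := by
      refine ⟨c, ?_⟩
      calc Nat.card G = Nat.card K * Nat.card P := hcardKP.symm
        _ = (q * c) * q ^ (Nat.card G).factorization q := by rw [hc, hPcard]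
        _ = q ^ ((Nat.card G).factorization q + 1) * c := by rw [pow_succ]; ring
    exact Nat.pow_succ_factorization_not_dvd Nat.card_pos.ne' hq this
  have hrK : r ∣ Nat.card K := by
    rw [← hcardKP, hPcard] at hrG
    rcases (Nat.Prime.dvd_mul hr).mp hrG with h | h
    · exact h
    · exact absurd ((Nat.prime_dvd_prime_iff_eq hr hq).mp (hr.dvd_of_dvd_pow h)) hrq
  let R : Sylow r K := default
  have hRne : (R : Subgroup K) ≠ ⊥ := R.ne_bot_of_dvd_card hrK
  have hfrat : Subgroup.normalizer (((R : Subgroup K).map K.subtype : Subgroup G) : Set G) ⊔ K = ⊤ :=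
    Sylow.normalizer_sup_eq_top R
  have hR₁card : Nat.card ((R : Subgroup K).map K.subtype : Subgroup G) = Nat.card (R : Subgroup K) :=
    Subgroup.card_map_of_injective K.subtype_injective
  obtain ⟨n, hn⟩ := IsPGroup.iff_card.mp R.isPGroup'
  have hn1 : n ≠ 0 := by
    intro h0
    rw [h0, pow_zero] at hn
    exact hRne (Subgroup.eq_bot_of_card_eq _ hn)
  have hqN : q ∣ Nat.card (Subgroup.normalizer
      (((R : Subgroup K).map K.subtype : Subgroup G) : Set G)) := by
    have h1 := Cfsg.Agent.Lib.Helper55.card_sup_dvd_mul (Subgroup.normalizer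
      (((R : Subgroup K).map K.subtype : Subgroup G) : Set G)) K
    rw [hfrat, Subgroup.card_top] at h1
    rcases (Nat.Prime.dvd_mul hq).mp (hqG.trans h1) with h | h
    · exact h
    · exact absurd h hqK
  obtain ⟨y, hy⟩ := exists_prime_orderOf_dvd_card' q hqN
  have hBle : Subgroup.zpowers (y : G) ≤ Subgroup.normalizer
      (((R : Subgroup K).map K.subtype : Subgroup G) : Set G) := Subgroup.zpowers_le.mpr y.2
  have hBcard : Nat.card (Subgroup.zpowers (y : G)) = q := by
    rw [Nat.card_zpowers, Subgroup.orderOf_coe, hy]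
  have hdvd := Cfsg.Agent.Lib.Helper55.card_sup_dvd_mul_of_le_normalizer _ _ hBle
  rw [hBcard, hR₁card, hn] at hdvd
  refine tpa_key hp hq hpG hmix _ r hr hrp hrq hpq 1 n (by rw [pow_one]; exact hdvd) ?_ ?_
  · have h1 : Nat.card (Subgroup.zpowers (y : G)) ∣ _ :=
      Subgroup.card_dvd_of_le (le_sup_left (b := ((R : Subgroup K).map K.subtype : Subgroup G)))
    rw [hBcard] at h1
    exact h1
  · have h1 : Nat.card ((R : Subgroup K).map K.subtype : Subgroup G) ∣ _ :=
      Subgroup.card_dvd_of_le (le_sup_right (a := Subgroup.zpowers (y : G)))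
    rw [hR₁card, hn] at h1
    exact (dvd_pow_self r hn1).trans h1

end

end Cfsg.Agent.Lib.Helper66.Tp
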