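import Mathlib
import Cfsg.Agent.Lib.Helper66.TpDefs
import Cfsg.Agent.S0105

/-!
# Tp hive (helper66, S4017), leaf TP-D2: `C_R(Q) = 1`
-/

set_option autoImplicit false

namespace Cfsg.Agent.Lib.Helper66.Tp

section ctx

variable {p : ℕ} {G : Type*} [Group G] [Finite G]

variable (s : Setup p G)
include s

theorem tpd2_card_Q : Nat.card (s.Q : Subgroup G) = p + 1 := by
  rw [s.Q.card_eq_multiplicity, s.ctx.two_part]

/-- TP-D2 -/
theorem dich2 (R : Sylow p G)
    (hQR : (s.Q : Subgroup G) ≤ Subgroup.normalizer ((R : Subgroup G) : Set G))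
    (hcard : Nat.card (Subgroup.normalizer ((R : Subgroup G) : Set G)) =
      Nat.card (R : Subgroup G) * (p + 1)) :
    ∀ z ∈ (R : Subgroup G), (∀ v ∈ (s.Q : Subgroup G), v * z = z * v) → z = 1 := by
  intro z hzR hzQ
  have hp : p.Prime := s.ctx.hp
  have : Fact p.Prime := ⟨hp⟩
  have := s.ctx.simple
  obtain ⟨n, hn⟩ := IsPGroup.iff_card.mp R.isPGroup'
  obtain ⟨N, hN, ⟨e⟩⟩ := Cfsg.Agent.S0105.result R (s.ctx.abel R)
  have h2 : Nat.card (G ⧸ N) = Nat.card ↥((R : Subgroup G) ⊓
      Subgroup.centralizer (Subgroup.normalizer ((R : Subgroup G) : Set G) : Set G)) :=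
    Nat.card_congr e.toEquiv
  have hbot : (R : Subgroup G) ⊓
      Subgroup.centralizer (Subgroup.normalizer ((R : Subgroup G) : Set G) : Set G) = ⊥ := by
    rcases hN.eq_bot_or_eq_top with h | h
    · exfalso
      have h1 : Nat.card (G ⧸ N) = Nat.card G := by
        subst h
        exact Nat.card_congr (QuotientGroup.quotientBot (G := G)).toEquiv
      have h3 : Nat.card ↥((R : Subgroup G) ⊓
          Subgroup.centralizer (Subgroup.normalizer ((R : Subgroup G) : Set G) : Set G)) ∣
          Nat.card (R : Subgroup G) := Subgroup.card_dvd_of_le inf_le_left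
      rw [← h2, h1, hn] at h3
      obtain ⟨r, hr, hrG, -, hrp⟩ := s.ctx.bad
      exact hrp ((Nat.prime_dvd_prime_iff_eq hr hp).mp (hr.dvd_of_dvd_pow (hrG.trans h3)))
    · have h1 : Nat.card (G ⧸ N) = 1 := by
        subst h
        exact Nat.card_eq_one_iff_unique.mpr ⟨QuotientGroup.subsingleton_quotient_top, ⟨1⟩⟩
      exact Subgroup.eq_bot_of_card_eq _ (h2 ▸ h1)
  -- N(R) = R ⊔ Q
  have hle : (R : Subgroup G) ⊔ (s.Q : Subgroup G) ≤
      Subgroup.normalizer ((R : Subgroup G) : Set G) := sup_le Subgroup.le_normalizer hQR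
  have hcop : Nat.Coprime (Nat.card (R : Subgroup G)) (p + 1) := by
    rw [hn]
    apply Nat.Coprime.pow_left
    simp
  have hdvd : Nat.card (R : Subgroup G) * (p + 1) ∣
      Nat.card ((R : Subgroup G) ⊔ (s.Q : Subgroup G) : Subgroup G) := by
    apply hcop.mul_dvd_of_dvd_of_dvd
    · exact Subgroup.card_dvd_of_le le_sup_left
    · rw [← tpd2_card_Q s]
      exact Subgroup.card_dvd_of_le le_sup_right
  have hsup : (R : Subgroup G) ⊔ (s.Q : Subgroup G) =
      Subgroup.normalizer ((R : Subgroup G) : Set G) := by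
    apply Subgroup.eq_of_le_of_card_ge hle
    rw [hcard]
    exact Nat.le_of_dvd Nat.card_pos hdvd
  have hzc : (R : Subgroup G) ⊔ (s.Q : Subgroup G) ≤ Subgroup.centralizer ({z} : Set G) := by
    apply sup_le
    · intro y hy
      rw [Subgroup.mem_centralizer_singleton_iff]
      have := (s.ctx.abel R).is_comm.comm (⟨y, hy⟩ : ↥(R : Subgroup G)) ⟨z, hzR⟩
      exact congrArg Subtype.val this
    · intro y hy
      rw [Subgroup.mem_centralizer_singleton_iff]
      exact hzQ y hy
  have hzmem : z ∈ (R : Subgroup G) ⊓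
      Subgroup.centralizer (Subgroup.normalizer ((R : Subgroup G) : Set G) : Set G) := by
    refine Subgroup.mem_inf.mpr ⟨hzR, ?_⟩
    rw [Subgroup.mem_centralizer_iff]
    intro y hy
    have hy' : y ∈ (R : Subgroup G) ⊔ (s.Q : Subgroup G) := by rw [hsup]; exact hy
    have := hzc hy'
    rw [Subgroup.mem_centralizer_singleton_iff] at this
    exact this
  rw [hbot] at hzmem
  exact Subgroup.mem_bot.mp hzmem

end ctx

end Cfsg.Agent.Lib.Helper66.Tp
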