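import Mathlib
import Cfsg.Agent.Lib.Helper66.TpDefs
import Cfsg.Agent.Lib.Helper55.InvolSylow

/-!
# Tp hive (helper66, S4017), leaf TP-D4: `C_R(v) = 1`
-/

set_option autoImplicit false

namespace Cfsg.Agent.Lib.Helper66.Tp

/-- a `p`-subgroup of the normaliser of a Sylow `p`-subgroup lies in it. -/
theorem tpd4_le {G : Type*} [Group G] [Finite G] {p : ℕ} [Fact p.Prime] (R : Sylow p G)
    (A : Subgroup G) (hA : IsPGroup p A)
    (hAN : A ≤ Subgroup.normalizer ((R : Subgroup G) : Set G)) : A ≤ (R : Subgroup G) := by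
  have hdvd := Cfsg.Agent.Lib.Helper55.card_sup_dvd_mul_of_le_normalizer A (R : Subgroup G) hAN
  obtain ⟨a, ha⟩ := IsPGroup.iff_card.mp hA
  obtain ⟨n, hn⟩ := IsPGroup.iff_card.mp R.isPGroup'
  rw [ha, hn, ← pow_add] at hdvd
  obtain ⟨i, -, hi⟩ := (Nat.dvd_prime_pow Fact.out).mp hdvd
  have hP : IsPGroup p (A ⊔ (R : Subgroup G) : Subgroup G) := IsPGroup.of_card hi
  have := R.is_maximal' hP le_sup_right
  rw [← this]
  exact le_sup_left

section ctx

variable {p : ℕ} {G : Type*} [Group G] [Finite G]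

variable (s : Setup p G)
include s

/-- TP-D4 -/
theorem dich4 {u : G} (hu : u ∈ (s.Q : Subgroup G)) (hu1 : u ≠ 1)
    (R : Sylow p G) (hYR : Yof p u ≤ (R : Subgroup G))
    (hQR : (s.Q : Subgroup G) ≤ Subgroup.normalizer ((R : Subgroup G) : Set G))
    (h3 : ∀ z ∈ (R : Subgroup G), z ≠ 1 → 2 ∣ Nat.card (Subgroup.centralizer ({z} : Set G)) →
      Subgroup.centralizer ({z} : Set G) ≤ Subgroup.normalizer ((R : Subgroup G) : Set G))
    {v : G} (hv : v ∈ (s.Q : Subgroup G)) (hv1 : v ≠ 1) (hvu : v ≠ u) :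
    ∀ z ∈ (R : Subgroup G), v * z = z * v → z = 1 := by
  intro z hzR hvz
  by_contra hz1
  have hp : p.Prime := s.ctx.hp
  have : Fact p.Prime := ⟨hp⟩
  -- `C(z)` has even order
  have hvC : v ∈ Subgroup.centralizer ({z} : Set G) := by
    rw [Subgroup.mem_centralizer_singleton_iff]
    exact hvz
  have hv2 : orderOf v = 2 := by
    apply orderOf_eq_prime
    · rw [sq]
      exact s.hexp v hv
    · exact hv1
  have heven : 2 ∣ Nat.card (Subgroup.centralizer ({z} : Set G)) := by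
    have h1 : orderOf (⟨v, hvC⟩ : ↥(Subgroup.centralizer ({z} : Set G))) = 2 := by
      rw [← hv2]
      exact Subgroup.orderOf_mk v hvC
    rw [← h1]
    exact orderOf_dvd_natCard _
  have hCN := h3 z hzR hz1 heven
  -- the conjugating power of `x`
  obtain ⟨k, hk⟩ := s.htrans u hu v hv hu1 hv1
  set g : G := s.x ^ k with hg
  -- `w := g⁻¹ z g ∈ Yof p u`
  obtain ⟨kz, hkz⟩ : ∃ kz : ℕ, orderOf z = p ^ kz := by
    obtain ⟨kz, hkz⟩ := (IsPGroup.iff_orderOf.mp R.isPGroup') ⟨z, hzR⟩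
    exact ⟨kz, by rw [← hkz]; exact (Subgroup.orderOf_mk z hzR).symm⟩
  have hwY : g⁻¹ * z * g ∈ Yof p u := by
    apply mem_Yof
    · rw [Subgroup.mem_centralizer_singleton_iff]
      have hu' : u = g⁻¹ * v * g := by rw [← hk]; group
      rw [hu']
      symm
      calc g⁻¹ * v * g * (g⁻¹ * z * g) = g⁻¹ * (v * z) * g := by group
        _ = g⁻¹ * (z * v) * g := by rw [hvz]
        _ = g⁻¹ * z * g * (g⁻¹ * v * g) := by group
    · refine ⟨kz, ?_⟩
      rw [← hkz]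
      have := (MulAut.conj g⁻¹).orderOf_eq z
      rw [MulAut.conj_apply, inv_inv] at this
      exact this
  have hwR : g⁻¹ * z * g ∈ (R : Subgroup G) := hYR hwY
  -- `R' = g R g⁻¹ ≤ C(z)`
  have hR'C : (R : Subgroup G).map (MulAut.conj g).toMonoidHom ≤
      Subgroup.centralizer ({z} : Set G) := by
    rintro y' ⟨y, hy, rfl⟩
    rw [Subgroup.mem_centralizer_singleton_iff]
    simp only [MulEquiv.coe_toMonoidHom, MulAut.conj_apply]
    have hc := congrArg Subtype.val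
      ((s.ctx.abel R).is_comm.comm (⟨g⁻¹ * z * g, hwR⟩ : ↥(R : Subgroup G)) ⟨y, hy⟩)
    simp only [Subgroup.coe_mul] at hc
    symm
    calc z * (g * y * g⁻¹) = g * ((g⁻¹ * z * g) * y) * g⁻¹ := by group
      _ = g * (y * (g⁻¹ * z * g)) * g⁻¹ := by rw [hc]
      _ = g * y * g⁻¹ * z := by group
  have hR'p : IsPGroup p ((R : Subgroup G).map (MulAut.conj g).toMonoidHom) :=
    R.isPGroup'.map _
  have hR'R : (R : Subgroup G).map (MulAut.conj g).toMonoidHom ≤ (R : Subgroup G) :=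
    tpd4_le R _ hR'p (hR'C.trans hCN)
  have hgN : g ∈ Subgroup.normalizer ((R : Subgroup G) : Set G) := by
    apply Cfsg.Agent.Lib.Helper55.mem_normalizer_of_conj_mem
    intro y hy
    exact hR'R ⟨y, hy, rfl⟩
  -- `g` is a `p`-element, so `g ∈ R`
  obtain ⟨kx, hkx⟩ := s.hxp
  have hgp : IsPGroup p (Subgroup.zpowers g) := by
    have h1 : orderOf g ∣ p ^ kx := by
      rw [← hkx, hg]
      exact orderOf_pow_dvd k
    obtain ⟨i, -, hi⟩ := (Nat.dvd_prime_pow hp).mp h1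
    apply IsPGroup.of_card (n := i)
    rw [Nat.card_zpowers, hi]
  have hgR : g ∈ (R : Subgroup G) :=
    tpd4_le R _ hgp (Subgroup.zpowers_le.mpr hgN) (Subgroup.mem_zpowers g)
  -- the commutator `v u⁻¹` lies in `Q ⊓ R`
  have hcQ : v * u⁻¹ ∈ (s.Q : Subgroup G) := mul_mem hv (inv_mem hu)
  have hcR : v * u⁻¹ ∈ (R : Subgroup G) := by
    have huN : u ∈ Subgroup.normalizer ((R : Subgroup G) : Set G) := hQR hu
    have h1 : u * g⁻¹ * u⁻¹ ∈ (R : Subgroup G) :=
      (Subgroup.mem_normalizer_iff.mp huN g⁻¹).mp (inv_mem hgR)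
    have h2 : v * u⁻¹ = g * (u * g⁻¹ * u⁻¹) := by rw [← hk]; group
    rw [h2]
    exact mul_mem hgR h1
  have hc1 : v * u⁻¹ = 1 := by
    have h2 : (v * u⁻¹) ^ 2 = 1 := by rw [sq]; exact s.hexp _ hcQ
    obtain ⟨kc, hkc⟩ := (IsPGroup.iff_orderOf.mp R.isPGroup') ⟨v * u⁻¹, hcR⟩
    rw [Subgroup.orderOf_mk] at hkc
    have hd : p ^ kc ∣ 2 := by rw [← hkc]; exact orderOf_dvd_of_pow_eq_one h2
    by_cases hk0 : kc = 0
    · rw [hk0, pow_zero] at hkc
      exact orderOf_eq_one_iff.mp hkc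
    · exfalso
      have : p ∣ 2 := (dvd_pow_self p hk0).trans hd
      exact s.ctx.hp2 ((Nat.prime_dvd_prime_iff_eq hp Nat.prime_two).mp this)
  apply hvu
  calc v = v * u⁻¹ * u := by group
    _ = u := by rw [hc1, one_mul]

end ctx

end Cfsg.Agent.Lib.Helper66.Tp
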