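import Mathlib

/-!
# A5c hive (S3278, architect helper47): leaf A5c-POS (helper70)

The Diophantine equation `d (a+1)(b+1)(a+b) = 8 a b (a+b+1)` has no solution with `a, b ≡ 1 (mod 4)`,
`a, b ≥ 5`, `d` odd.
-/

set_option autoImplicit false

universe u

namespace Cfsg.Agent.Lib.Helper47.A5c

theorem a5cpos_divisors : Nat.divisors 392 = {1, 2, 4, 7, 8, 14, 28, 49, 56, 98, 196, 392} := by
  decide

/-- the case `d = 7` -/
theorem a5cpos_seven (a b : ℕ) (ha : a % 4 = 1) (hb : b % 4 = 1) (ha5 : 5 ≤ a) (hb5 : 5 ≤ b)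
    (hab : a ≤ b)
    (h : 7 * (a + 1) * (b + 1) * (a + b) = 8 * a * b * (a + b + 1)) : False := by
  have hZ : (7 : ℤ) * (a + 1) * (b + 1) * (a + b) = 8 * a * b * (a + b + 1) := by exact_mod_cast h
  -- `p (s + 8) = 7 s (s + 1)`
  have h1 : ((a : ℤ) * b) * ((a : ℤ) + b + 8) = 7 * ((a : ℤ) + b) * ((a : ℤ) + b + 1) := by
    linear_combination (-1 : ℤ) * hZ
  have h2 : ((a : ℤ) + b + 8) * ((a : ℤ) * b - 7 * ((a : ℤ) + b) + 49) = 392 := by
    linear_combination h1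
  have hdvdZ : ((a + b + 8 : ℕ) : ℤ) ∣ ((392 : ℕ) : ℤ) := by
    refine ⟨(a : ℤ) * b - 7 * ((a : ℤ) + b) + 49, ?_⟩
    push_cast
    linear_combination (-1 : ℤ) * h2
  have hdvd : a + b + 8 ∣ 392 := Int.natCast_dvd_natCast.mp hdvdZ
  have hmem : a + b + 8 ∈ Nat.divisors 392 := Nat.mem_divisors.mpr ⟨hdvd, by norm_num⟩
  rw [a5cpos_divisors] at hmem
  simp only [Finset.mem_insert, Finset.mem_singleton] at hmem
  have hs : a + b = 90 := by omega
  have hsZ : (a : ℤ) + b = 90 := by exact_mod_cast hs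
  have hpZ : (a : ℤ) * b = 585 := by
    have h3 : ((a : ℤ) * b) * 98 = 7 * 90 * 91 := by
      have := h1
      rw [hsZ] at this
      linarith
    linarith
  have hp : a * b = 585 := by exact_mod_cast hpZ
  have ha45 : a ≤ 45 := by omega
  have hb' : b = 90 - a := by omega
  subst hb'
  interval_cases a <;> omega

/-- LEAF A5c-POS. -/
theorem pos_core (a b d : ℕ) (ha : a % 4 = 1) (hb : b % 4 = 1) (ha1 : a ≠ 1) (hb1 : b ≠ 1)
    (hab : a ≤ b) (hd : Odd d)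
    (h : d * (a + 1) * (b + 1) * (a + b) = 8 * a * b * (a + b + 1)) : False := by
  have ha5 : 5 ≤ a := by omega
  have hb5 : 5 ≤ b := by omega
  have hZ : (d : ℤ) * (a + 1) * (b + 1) * (a + b) = 8 * a * b * (a + b + 1) := by exact_mod_cast h
  have hA : (5 : ℤ) ≤ a := by exact_mod_cast ha5
  have hB : (5 : ℤ) ≤ b := by exact_mod_cast hb5
  have hpos : (0 : ℤ) < ((a : ℤ) + 1) * ((b : ℤ) + 1) * ((a : ℤ) + b) := by positivity
  have hd8 : d < 8 := by
    by_contra hge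
    rw [not_lt] at hge
    have hD : (8 : ℤ) ≤ d := by exact_mod_cast hge
    have h1 : (8 : ℤ) * (((a : ℤ) + 1) * ((b : ℤ) + 1) * ((a : ℤ) + b)) ≤
        (d : ℤ) * (((a : ℤ) + 1) * ((b : ℤ) + 1) * ((a : ℤ) + b)) :=
      mul_le_mul_of_nonneg_right hD hpos.le
    nlinarith [mul_pos (show (0 : ℤ) < a by linarith) (show (0 : ℤ) < b by linarith),
      sq_nonneg ((a : ℤ) + b), sq_nonneg ((a : ℤ) - b)]
  have hd6 : 6 ≤ d := by
    by_contra hlt
    rw [not_le] at hlt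
    have hD : (d : ℤ) ≤ 5 := by exact_mod_cast Nat.lt_succ_iff.mp hlt
    have h1 : (d : ℤ) * (((a : ℤ) + 1) * ((b : ℤ) + 1) * ((a : ℤ) + b)) ≤
        (5 : ℤ) * (((a : ℤ) + 1) * ((b : ℤ) + 1) * ((a : ℤ) + b)) :=
      mul_le_mul_of_nonneg_right hD hpos.le
    have hk : (25 : ℤ) * (((a : ℤ) + 1) * ((b : ℤ) + 1)) ≤ 36 * ((a : ℤ) * b) := by
      nlinarith [mul_nonneg (sub_nonneg.mpr hA) (sub_nonneg.mpr hB)]
    have hk2 : (25 : ℤ) * (((a : ℤ) + 1) * ((b : ℤ) + 1)) * ((a : ℤ) + b) ≤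
        36 * ((a : ℤ) * b) * ((a : ℤ) + b) :=
      mul_le_mul_of_nonneg_right hk (by linarith)
    have hab0 : (0 : ℤ) < (a : ℤ) * b := mul_pos (by linarith) (by linarith)
    nlinarith [mul_pos hab0 (show (0 : ℤ) < (a : ℤ) + b by linarith)]
  have hd7 : d = 7 := by
    obtain ⟨k, hk⟩ := hd
    omega
  subst hd7
  exact a5cpos_seven a b ha hb ha5 hb5 hab h

end Cfsg.Agent.Lib.Helper47.A5c
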