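import Mathlib
import Cfsg.Agent.Lib.Helper35.AltAutMain

set_option autoImplicit false

/-!
Automorphisms of the alternating group of degree six: the automorphism group has order dividing
`1440`.  (An automorphism preserving the class of 3-cycles is induced by a permutation; the proof
of this part follows helper35's proof for the other degrees.)
-/

namespace Cfsg.Agent.Lib.Helper70

open Equiv Equiv.Perm Subgroup MulAction
open scoped Pointwise
open Cfsg.Agent.Lib.Helper35

variable {α : Type*} [Fintype α] [DecidableEq α]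

/-- an automorphism of `A_n` that preserves 3-cycles is conjugation by a permutation -/
theorem aa_mem_range_of_preserve (hα : 4 ≤ Fintype.card α) (ψ : MulAut (alternatingGroup α))
    (h3c : ∀ g : alternatingGroup α, (g : Perm α).IsThreeCycle →
      ((ψ g : alternatingGroup α) : Perm α).IsThreeCycle) :
    ∃ σ : Perm α, MulAut.conjNormal σ = ψ := by
  classical
  have hcard3 : 3 ≤ Nat.card α := by rw [Nat.card_eq_fintype_card]; omega
  have : Nontrivial α := by
    rw [← Fintype.one_lt_card_iff_nontrivial]; omega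
  have hprim : IsPreprimitive (alternatingGroup α) α :=
    alternatingGroup.isPreprimitive_of_three_le_card α hcard3
  have hcoatom : ∀ i : α, IsCoatom (stabilizer (alternatingGroup α) i) :=
    fun i => IsPreprimitive.isCoatom_stabilizer_of_isPreprimitive (alternatingGroup α) i
  -- the image of each point stabilizer is a point stabilizer
  have hkey : ∀ i : α, ∃ j : α, (stabilizer (alternatingGroup α) i).map ψ.toMonoidHom =
      stabilizer (alternatingGroup α) j := by
    intro i
    set T := {t : alternatingGroup α | (t : Perm α).IsThreeCycle ∧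
        t ∈ stabilizer (alternatingGroup α) i} with hT
    have hmap : (stabilizer (alternatingGroup α) i).map ψ.toMonoidHom =
        closure (ψ.toMonoidHom '' T) := by
      conv_lhs => rw [stabilizer_eq_closure i]
      rw [MonoidHom.map_closure]
    have hco : IsCoatom (closure (ψ.toMonoidHom '' T)) := by
      rw [← hmap]
      exact (OrderIso.isCoatom_iff (ψ.mapSubgroup) _).mpr (hcoatom i)
    have h3 : ∀ t ∈ ψ.toMonoidHom '' T, (t : Perm α).IsThreeCycle := by
      rintro _ ⟨t, ht, rfl⟩
      exact h3c t ht.1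
    by_cases hne : (ψ.toMonoidHom '' T).Nonempty
    · obtain ⟨j, hj⟩ := exists_fixed_point_of_coatom _ h3 hne hco
      refine ⟨j, ?_⟩
      rw [hmap]
      by_contra hne'
      exact (hcoatom j).1 (hco.2 _ (lt_of_le_of_ne hj hne'))
    · rw [Set.not_nonempty_iff_eq_empty] at hne
      rw [hne, Subgroup.closure_empty] at hco
      -- then the whole group has a trivial maximal subgroup, and any stabilizer is trivial
      refine ⟨i, ?_⟩
      rw [hmap, hne, Subgroup.closure_empty]
      symm
      by_contra hne'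
      have hlt : (⊥ : Subgroup (alternatingGroup α)) < stabilizer (alternatingGroup α) i :=
        bot_lt_iff_ne_bot.mpr hne'
      exact (hcoatom i).1 (hco.2 _ hlt)
  choose σ₀ hσ₀ using hkey
  have hinj : Function.Injective σ₀ := by
    intro i i' h
    have h1 : (stabilizer (alternatingGroup α) i).map ψ.toMonoidHom =
        (stabilizer (alternatingGroup α) i').map ψ.toMonoidHom := by
      rw [hσ₀ i, hσ₀ i', h]
    have h2 := Subgroup.map_injective ψ.injective h1
    exact stabilizer_injective hα h2
  have hbij : Function.Bijective σ₀ := Finite.injective_iff_bijective.mp hinj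
  set σ : Perm α := Equiv.ofBijective σ₀ hbij with hσ
  -- equivariance
  have hequiv : ∀ (g : alternatingGroup α) (i : α),
      ((ψ g : alternatingGroup α) : Perm α) (σ i) = σ ((g : Perm α) i) := by
    intro g i
    have h1 : stabilizer (alternatingGroup α) (g • i) =
        (stabilizer (alternatingGroup α) i).map (MulAut.conj g).toMonoidHom :=
      stabilizer_smul_eq_stabilizer_map_conj g i
    have h2 : stabilizer (alternatingGroup α) ((ψ g) • (σ₀ i)) =
        (stabilizer (alternatingGroup α) (σ₀ i)).map (MulAut.conj (ψ g)).toMonoidHom :=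
      stabilizer_smul_eq_stabilizer_map_conj (ψ g) (σ₀ i)
    have h3 : stabilizer (alternatingGroup α) (σ₀ (g • i)) =
        stabilizer (alternatingGroup α) ((ψ g) • (σ₀ i)) := by
      rw [← hσ₀ (g • i), h1, h2, ← hσ₀ i, Subgroup.map_map, Subgroup.map_map]
      congr 1
      ext x
      simp
    have h4 := stabilizer_injective hα h3
    exact h4.symm
  refine ⟨σ, ?_⟩
  ext g x
  rw [MulAut.conjNormal_apply]
  obtain ⟨i, rfl⟩ := σ.surjective x
  have h7 : σ⁻¹ (σ i) = i := σ.symm_apply_apply i
  simp only [Perm.coe_mul, Function.comp_apply, h7]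
  exact (hequiv g i).symm

/-! ### degree six -/

section Six

variable (h6 : Fintype.card α = 6)

/-- even permutations of a given cycle type -/
def aaT (α : Type*) [Fintype α] [DecidableEq α] (m : Multiset ℕ) : Finset (alternatingGroup α) :=
  Finset.univ.filter (fun g => (g : Perm α).cycleType = m)

theorem mem_aaT {m : Multiset ℕ} {g : alternatingGroup α} :
    g ∈ aaT α m ↔ (g : Perm α).cycleType = m := by
  unfold aaT
  rw [Finset.mem_filter]
  exact ⟨fun h => h.2, fun h => ⟨Finset.mem_univ _, h⟩⟩

include h6 in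
theorem aaT_card_eq : (aaT α ({3} : Multiset ℕ)).card = (aaT α ({3, 3} : Multiset ℕ)).card := by
  unfold aaT
  rw [AlternatingGroup.card_of_cycleType, AlternatingGroup.card_of_cycleType, h6]
  decide

include h6 in
/-- elements of order three in `A_6` -/
theorem aa_order_three (g : alternatingGroup α) (hg : orderOf g = 3) :
    g ∈ aaT α ({3} : Multiset ℕ) ∨ g ∈ aaT α ({3, 3} : Multiset ℕ) := by
  have h1 : orderOf (g : Perm α) = 3 := by rw [Subgroup.orderOf_coe]; exact hg
  have h2 : (orderOf (g : Perm α)).Prime := by rw [h1]; exact Nat.prime_three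
  obtain ⟨k, hk⟩ := cycleType_prime_order h2
  rw [h1] at hk
  have h3 := sum_cycleType_le (g : Perm α)
  rw [hk, Multiset.sum_replicate, h6, smul_eq_mul] at h3
  have hk1 : k = 0 ∨ k = 1 := by omega
  rcases hk1 with rfl | rfl
  · left
    rw [mem_aaT, hk]
    rfl
  · right
    rw [mem_aaT, hk]
    rfl

theorem aa_disjoint (g : alternatingGroup α) (h1 : g ∈ aaT α ({3} : Multiset ℕ))
    (h2 : g ∈ aaT α ({3, 3} : Multiset ℕ)) : False := by
  rw [mem_aaT] at h1 h2
  rw [h1] at h2
  have := congrArg Multiset.card h2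
  simp at this

theorem aa_orderOf_of_mem (g : alternatingGroup α) (h1 : g ∈ aaT α ({3} : Multiset ℕ)) :
    orderOf g = 3 := by
  rw [mem_aaT] at h1
  rw [← Subgroup.orderOf_coe]
  exact IsThreeCycle.orderOf h1

include h6 in
/-- an automorphism maps the 3-cycles to 3-cycles or all of them to double 3-cycles -/
theorem aa_dichotomy (ψ : MulAut (alternatingGroup α)) :
    (∀ g ∈ aaT α ({3} : Multiset ℕ), ψ g ∈ aaT α ({3} : Multiset ℕ)) ∨
      (∀ g ∈ aaT α ({3} : Multiset ℕ), ψ g ∈ aaT α ({3, 3} : Multiset ℕ)) := by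
  by_cases hex : ∃ g₀ ∈ aaT α ({3} : Multiset ℕ), ψ g₀ ∈ aaT α ({3} : Multiset ℕ)
  · left
    obtain ⟨g₀, hg₀, hψg₀⟩ := hex
    intro g hg
    rw [mem_aaT] at hg hg₀ hψg₀ ⊢
    have h5 : 5 ≤ Nat.card α := by rw [Nat.card_eq_fintype_card, h6]; omega
    have hconj : IsConj g₀ g := alternatingGroup.isThreeCycle_isConj h5 hg₀ hg
    obtain ⟨c, hc⟩ := isConj_iff.mp hconj
    rw [← hc, map_mul, map_mul, map_inv]
    have : (((ψ c * ψ g₀ * (ψ c)⁻¹ : alternatingGroup α)) : Perm α) =
        (ψ c : Perm α) * (ψ g₀ : Perm α) * ((ψ c : Perm α))⁻¹ := by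
      simp
    rw [this, cycleType_conj]
    exact hψg₀
  · right
    push Not at hex
    intro g hg
    have h1 : orderOf (ψ g) = 3 := by
      rw [MulEquiv.orderOf_eq]
      exact aa_orderOf_of_mem g hg
    rcases aa_order_three h6 (ψ g) h1 with h | h
    · exact absurd h (hex g hg)
    · exact h

include h6 in
/-- an automorphism that does not preserve 3-cycles swaps the two classes -/
theorem aa_swap (ψ : MulAut (alternatingGroup α))
    (hψ : ¬ ∀ g ∈ aaT α ({3} : Multiset ℕ), ψ g ∈ aaT α ({3} : Multiset ℕ)) :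
    (∀ g ∈ aaT α ({3} : Multiset ℕ), ψ g ∈ aaT α ({3, 3} : Multiset ℕ)) ∧
      (∀ g ∈ aaT α ({3, 3} : Multiset ℕ), ψ g ∈ aaT α ({3} : Multiset ℕ)) := by
  have h1 := (aa_dichotomy h6 ψ).resolve_left hψ
  refine ⟨h1, ?_⟩
  -- the image of T₁ is all of T₂
  have himg : (aaT α ({3} : Multiset ℕ)).image ψ = aaT α ({3, 3} : Multiset ℕ) := by
    apply Finset.eq_of_subset_of_card_le
    · intro y hy
      obtain ⟨g, hg, rfl⟩ := Finset.mem_image.mp hy
      exact h1 g hg
    · rw [Finset.card_image_of_injective _ ψ.injective, aaT_card_eq h6]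
  intro y hy
  have ho : orderOf (ψ y) = 3 := by
    rw [MulEquiv.orderOf_eq, ← Subgroup.orderOf_coe, ← lcm_cycleType, mem_aaT.mp hy]
    decide
  rcases aa_order_three h6 (ψ y) ho with h | h
  · exact h
  · exfalso
    rw [← himg] at h
    obtain ⟨g, hg, hgy⟩ := Finset.mem_image.mp h
    have : g = y := ψ.injective hgy
    rw [this] at hg
    exact aa_disjoint y hg hy

/-- the automorphisms preserving the 3-cycles -/
def aaPres (α : Type*) [Fintype α] [DecidableEq α] : Subgroup (MulAut (alternatingGroup α)) where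
  carrier := {ψ | ∀ g ∈ aaT α ({3} : Multiset ℕ), ψ g ∈ aaT α ({3} : Multiset ℕ)}
  one_mem' := fun g hg => hg
  mul_mem' := by
    intro a b ha hb g hg
    exact ha _ (hb g hg)
  inv_mem' := by
    intro a ha g hg
    have himg : (aaT α ({3} : Multiset ℕ)).image a = aaT α ({3} : Multiset ℕ) := by
      apply Finset.eq_of_subset_of_card_le
      · intro y hy
        obtain ⟨g, hg, rfl⟩ := Finset.mem_image.mp hy
        exact ha g hg
      · rw [Finset.card_image_of_injective _ a.injective]
    rw [← himg] at hg
    obtain ⟨g', hg', rfl⟩ := Finset.mem_image.mp hg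
    have : a⁻¹ (a g') = g' := a.symm_apply_apply g'
    rw [this]
    exact hg'

theorem mem_aaPres (ψ : MulAut (alternatingGroup α)) :
    ψ ∈ aaPres α ↔ ∀ g ∈ aaT α ({3} : Multiset ℕ), ψ g ∈ aaT α ({3} : Multiset ℕ) := Iff.rfl

include h6 in
theorem aaPres_index : (aaPres α).index = 1 ∨ (aaPres α).index = 2 := by
  by_cases htop : aaPres α = ⊤
  · left
    rw [htop, Subgroup.index_top]
  · right
    obtain ⟨a, -, ha⟩ := SetLike.exists_of_lt (lt_top_iff_ne_top.mpr htop)
    rw [Subgroup.index_eq_two_iff]
    refine ⟨a, fun b => ?_⟩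
    by_cases hb : b ∈ aaPres α
    · right
      refine ⟨hb, ?_⟩
      intro hba
      apply ha
      have : a = b⁻¹ * (b * a) := by group
      rw [this]
      exact (aaPres α).mul_mem ((aaPres α).inv_mem hb) hba
    · left
      refine ⟨?_, hb⟩
      rw [mem_aaPres] at ha hb ⊢
      intro g hg
      have h1 := (aa_swap h6 a ha).1 g hg
      exact (aa_swap h6 b hb).2 _ h1

include h6 in
theorem aaPres_card_dvd : Nat.card (aaPres α) ∣ 720 := by
  have hα : 4 ≤ Fintype.card α := by rw [h6]; omega
  have hle : aaPres α ≤ (MulAut.conjNormal : Perm α →* MulAut (alternatingGroup α)).range := by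
    intro ψ hψ
    rw [mem_aaPres] at hψ
    obtain ⟨σ, hσ⟩ := aa_mem_range_of_preserve hα ψ (fun g hg => mem_aaT.mp (hψ g (mem_aaT.mpr hg)))
    exact ⟨σ, hσ⟩
  have h1 := Subgroup.card_dvd_of_le hle
  have h2 : Nat.card (MulAut.conjNormal : Perm α →* MulAut (alternatingGroup α)).range = 720 := by
    rw [Nat.card_congr (MonoidHom.ofInjective (conjNormal_injective hα)).toEquiv.symm,
      Nat.card_perm, Nat.card_eq_fintype_card, h6]
    rfl
  rwa [h2] at h1

include h6 in
/-- the order of `Aut(A_6)` divides `1440` -/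
theorem aa_card_aut_six : Nat.card (MulAut (alternatingGroup α)) ∣ 1440 := by
  rw [← (aaPres α).card_mul_index]
  have h1 := aaPres_card_dvd h6
  rcases aaPres_index h6 with h | h
  · rw [h, mul_one]
    exact dvd_trans h1 (by norm_num)
  · rw [h]
    have : (1440 : ℕ) = 720 * 2 := by norm_num
    rw [this]
    exact Nat.mul_dvd_mul_right h1 2

end Six

end Cfsg.Agent.Lib.Helper70
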