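import Mathlib
import Cfsg.Agent.Lib.Helper70.AltAutSix

set_option autoImplicit false

/-!
Groups between `Inn(A_n)` and `Aut(A_n)` without elements of order `p q`: one of the Sylow
subgroups is abelian.
-/

namespace Cfsg.Agent.Lib.Helper70

open Equiv Equiv.Perm Subgroup
open Cfsg.Agent.Lib.Helper35

/-- a group of order `q ^ k`, `k ≤ 2`, is commutative -/
theorem aa_comm_of_card {H : Type*} [Group H] [Finite H] {q k : ℕ} [hq : Fact q.Prime]
    (h : Nat.card H = q ^ k) (hk : k ≤ 2) : IsMulCommutative H := by
  interval_cases k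
  · rw [pow_zero] at h
    have : Subsingleton H := (Nat.card_eq_one_iff_unique.mp h).1
    exact ⟨⟨fun a b => Subsingleton.elim _ _⟩⟩
  · rw [pow_one] at h
    have := isCyclic_of_prime_card h
    exact ⟨⟨fun a b => IsCyclic.commGroup.mul_comm a b⟩⟩
  · exact IsPGroup.isMulCommutative_of_card_eq_prime_sq h

/-- `q ^ 3 ∣ n !` forces `3 q ≤ n` for a prime `q ≥ 3` -/
theorem aa_three_mul_le {q n : ℕ} (hq : q.Prime) (hq3 : 3 ≤ q) (h : q ^ 3 ∣ n.factorial) :
    3 * q ≤ n := by
  by_contra hlt
  push Not at hlt
  have hnq2 : n < q ^ 2 := by nlinarith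
  have hlog : Nat.log q n < 2 := by
    rcases Nat.eq_zero_or_pos n with h0 | h0
    · rw [h0]; simp
    · exact (Nat.log_lt_iff_lt_pow hq.one_lt h0.ne').mpr hnq2
  rw [hq.pow_dvd_factorial_iff hlog] at h
  have hs : ∑ i ∈ Finset.Ico 1 2, n / q ^ i = n / q := by
    rw [show Finset.Ico 1 2 = {1} from rfl, Finset.sum_singleton, pow_one]
  rw [hs] at h
  have : n / q < 3 := (Nat.div_lt_iff_lt_mul hq.pos).mpr hlt
  omega

/-- the order of `Aut(A_n)` -/
theorem aa_card_aut (n : ℕ) (hn : 5 ≤ n) :
    (n ≠ 6 ∧ Nat.card (MulAut (alternatingGroup (Fin n))) = n.factorial) ∨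
      (n = 6 ∧ Nat.card (MulAut (alternatingGroup (Fin n))) ∣ 1440) := by
  by_cases h6 : n = 6
  · right
    refine ⟨h6, ?_⟩
    exact aa_card_aut_six (by rw [Fintype.card_fin]; exact h6)
  · left
    refine ⟨h6, ?_⟩
    have hb := conjNormal_bijective (α := Fin n) (by rw [Fintype.card_fin]; omega)
      (by rw [Fintype.card_fin]; exact h6)
    rw [← Nat.card_congr (MulEquiv.ofBijective _ hb).toEquiv, Nat.card_perm, Nat.card_eq_fintype_card,
      Fintype.card_fin]

/-- existence of an even permutation of order `p q` -/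
theorem aa_exists_order {p q n : ℕ} (hp : p.Prime) (hq : q.Prime) (hlt : p < q) (hn : 3 * q ≤ n) :
    ∃ g : alternatingGroup (Fin n), orderOf g = p * q := by
  have hq3 : 3 ≤ q := by have := hp.two_le; omega
  have hqodd : Odd q := hq.odd_of_ne_two (by omega)
  by_cases hp2 : p = 2
  · subst hp2
    obtain ⟨g, hg⟩ := (Equiv.Perm.exists_with_cycleType_iff (Fin n) (m := {2, 2, q})).mpr (by
      constructor
      · simp only [Multiset.insert_eq_cons, Multiset.sum_cons, Multiset.sum_singleton,
          Fintype.card_fin]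
        omega
      · intro a ha
        simp only [Multiset.insert_eq_cons, Multiset.mem_cons, Multiset.mem_singleton] at ha
        rcases ha with rfl | rfl | rfl <;> omega)
    have hsign : Equiv.Perm.sign g = 1 := by
      rw [sign_of_cycleType, hg]
      simp only [Multiset.insert_eq_cons, Multiset.sum_cons, Multiset.sum_singleton,
        Multiset.card_cons, Multiset.card_singleton]
      obtain ⟨k, hk⟩ := hqodd
      rw [hk]
      have : 2 + (2 + (2 * k + 1)) + (1 + 1 + 1) = 2 * (k + 4) := by ring
      rw [this, pow_mul]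
      simp
    refine ⟨⟨g, Equiv.Perm.mem_alternatingGroup.mpr hsign⟩, ?_⟩
    rw [← Subgroup.orderOf_coe]
    change orderOf g = 2 * q
    rw [← lcm_cycleType, hg]
    simp only [Multiset.insert_eq_cons, Multiset.lcm_cons, Multiset.lcm_singleton, normalize_eq,
      lcm_eq_nat_lcm]
    have hc : Nat.Coprime 2 q := (Nat.coprime_primes Nat.prime_two hq).mpr (by omega)
    rw [hc.lcm_eq_mul]
    have : Nat.lcm 2 (2 * q) = 2 * q := Nat.lcm_eq_right (Dvd.intro _ rfl)
    exact this
  · have hpodd : Odd p := hp.odd_of_ne_two hp2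
    obtain ⟨g, hg⟩ := (Equiv.Perm.exists_with_cycleType_iff (Fin n) (m := {p, q})).mpr (by
      constructor
      · simp only [Multiset.insert_eq_cons, Multiset.sum_cons, Multiset.sum_singleton,
          Fintype.card_fin]
        omega
      · intro a ha
        simp only [Multiset.insert_eq_cons, Multiset.mem_cons, Multiset.mem_singleton] at ha
        rcases ha with rfl | rfl
        · exact hp.two_le
        · exact hq.two_le)
    have hsign : Equiv.Perm.sign g = 1 := by
      rw [sign_of_cycleType, hg]
      simp only [Multiset.insert_eq_cons, Multiset.sum_cons, Multiset.sum_singleton,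
        Multiset.card_cons, Multiset.card_singleton]
      obtain ⟨k, hk⟩ := hqodd
      obtain ⟨j, hj⟩ := hpodd
      rw [hk, hj]
      have : 2 * j + 1 + (2 * k + 1) + (1 + 1) = 2 * (j + k + 2) := by ring
      rw [this, pow_mul]
      simp
    refine ⟨⟨g, Equiv.Perm.mem_alternatingGroup.mpr hsign⟩, ?_⟩
    rw [← Subgroup.orderOf_coe]
    change orderOf g = p * q
    rw [← lcm_cycleType, hg]
    simp only [Multiset.insert_eq_cons, Multiset.lcm_cons, Multiset.lcm_singleton, normalize_eq,
      lcm_eq_nat_lcm]
    have hc : Nat.Coprime p q := (Nat.coprime_primes hp hq).mpr (by omega)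
    exact hc.lcm_eq_mul

/-- the inner automorphism map of `A_n` is injective -/
theorem aa_conj_injective (n : ℕ) (hn : 5 ≤ n) : Function.Injective
    (MulAut.conj : alternatingGroup (Fin n) →* MulAut (alternatingGroup (Fin n))) := by
  intro a b hab
  have hinj := conjNormal_injective (α := Fin n) (by rw [Fintype.card_fin]; omega)
  have h1 : (MulAut.conjNormal (a : Perm (Fin n)) : MulAut (alternatingGroup (Fin n))) =
      MulAut.conjNormal (b : Perm (Fin n)) := by
    rw [MulAut.conjNormal_val, MulAut.conjNormal_val]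
    exact hab
  exact Subtype.ext (hinj h1)

/-- the key statement: the Sylow subgroups for the larger prime are abelian -/
theorem aa_key (n : ℕ) (hn : 5 ≤ n) (G : Subgroup (MulAut (alternatingGroup (Fin n))))
    (hG : (MulAut.conj : alternatingGroup (Fin n) →* MulAut (alternatingGroup (Fin n))).range ≤ G)
    (p q : ℕ) [hp : Fact p.Prime] [hq : Fact q.Prime] (hlt : p < q)
    (h : ∀ g : G, orderOf g ≠ p * q) :
    ∀ Q : Sylow q G, IsMulCommutative (Q : Subgroup G) := by
  intro Q
  have hq3 : 3 ≤ q := by have := hp.out.two_le; omega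
  have hfin : Finite (MulAut (alternatingGroup (Fin n))) := by
    rcases aa_card_aut n hn with ⟨-, hc⟩ | ⟨-, hc⟩
    · apply Nat.finite_of_card_ne_zero
      rw [hc]
      exact Nat.factorial_ne_zero n
    · apply Nat.finite_of_card_ne_zero
      intro h0
      rw [h0] at hc
      simp at hc
  have hQcard := Sylow.card_eq_multiplicity Q
  by_cases hk : (Nat.card G).factorization q ≤ 2
  · exact aa_comm_of_card hQcard hk
  · exfalso
    push Not at hk
    have hd1 : q ^ 3 ∣ Nat.card (Q : Subgroup G) := by
      rw [hQcard]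
      exact pow_dvd_pow q hk
    have hd2 : q ^ 3 ∣ Nat.card G := dvd_trans hd1 (Subgroup.card_subgroup_dvd_card _)
    have hd3 : q ^ 3 ∣ Nat.card (MulAut (alternatingGroup (Fin n))) :=
      dvd_trans hd2 (Subgroup.card_subgroup_dvd_card G)
    rcases aa_card_aut n hn with ⟨h6, hc⟩ | ⟨h6, hc⟩
    · rw [hc] at hd3
      have h3q := aa_three_mul_le hq.out hq3 hd3
      obtain ⟨g, hg⟩ := aa_exists_order hp.out hq.out hlt h3q
      have hmem : MulAut.conj g ∈ G := hG ⟨g, rfl⟩
      apply h ⟨MulAut.conj g, hmem⟩
      rw [← Subgroup.orderOf_coe]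
      change orderOf (MulAut.conj g) = p * q
      rw [orderOf_injective _ (aa_conj_injective n hn) g]
      exact hg
    · have hd4 : q ^ 3 ∣ 1440 := dvd_trans hd3 hc
      have hle : q ^ 3 ≤ 1440 := Nat.le_of_dvd (by norm_num) hd4
      have hq12 : q < 12 := by
        by_contra hge
        push Not at hge
        have : 12 ^ 3 ≤ q ^ 3 := Nat.pow_le_pow_left hge 3
        omega
      have hqp := hq.out
      interval_cases q <;> omega

end Cfsg.Agent.Lib.Helper70
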