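import Mathlib

set_option autoImplicit false

/-!
Involutions of the alternating group of degree six: every involution is conjugate (in the symmetric
group) to `(0 1)(2 3)`; its centralizer in `A_6` has order `8`; for an involution `τ` and
`m ∈ {2,3,4,5}` at most `17` elements `s` of `A_6` with `s * s = 1` satisfy `(τ * s) ^ m = 1`.
-/

namespace Cfsg.Agent.Lib.Helper70

open Equiv Equiv.Perm

/-- the standard involution `(0 1)(2 3)` -/
def asT0 : Perm (Fin 6) := swap 0 1 * swap 2 3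

theorem as_c1 : (Finset.univ.filter
    (fun g : Perm (Fin 6) => sign g = 1 ∧ g * asT0 = asT0 * g)).card = 8 := by
  decide +kernel

theorem as_c2 : ∀ m ∈ ({2, 3, 4, 5} : Finset ℕ), (Finset.univ.filter
    (fun t : Perm (Fin 6) => sign t = 1 ∧ t * t = 1 ∧ (asT0 * t) ^ m = 1)).card ≤ 17 := by
  decide +kernel

theorem as_c3 : ∀ g : Perm (Fin 6), sign g = 1 →
    g ^ 2 = 1 ∨ g ^ 3 = 1 ∨ g ^ 4 = 1 ∨ g ^ 5 = 1 := by
  decide +kernel

theorem asT0_props : sign asT0 = 1 ∧ asT0 * asT0 = 1 ∧ asT0 ≠ 1 := by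
  decide +kernel

/-- an even involution of degree six has cycle type `{2, 2}` -/
theorem as_cycleType {τ : Perm (Fin 6)} (hs : sign τ = 1) (h2 : τ * τ = 1) (h1 : τ ≠ 1) :
    τ.cycleType = Multiset.replicate 2 2 := by
  have hord : orderOf τ = 2 := orderOf_eq_prime (by rw [pow_two]; exact h2) h1
  obtain ⟨n, hn⟩ := cycleType_prime_order (σ := τ) (by rw [hord]; exact Nat.prime_two)
  rw [hord] at hn
  have hsum := sum_cycleType_le τ
  rw [hn, Multiset.sum_replicate, smul_eq_mul, Fintype.card_fin] at hsum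
  have hsign := sign_of_cycleType τ
  rw [hn, Multiset.sum_replicate, Multiset.card_replicate, smul_eq_mul, hs] at hsign
  have hn2 : n ≤ 2 := by omega
  interval_cases n
  · norm_num at hsign
  · exact hn
  · norm_num at hsign

/-- every even involution of degree six is conjugate to `(0 1)(2 3)` -/
theorem as_conj {τ : Perm (Fin 6)} (hs : sign τ = 1) (h2 : τ * τ = 1) (h1 : τ ≠ 1) :
    ∃ σ : Perm (Fin 6), τ = σ * asT0 * σ⁻¹ := by
  have h := as_cycleType hs h2 h1
  have h0 := as_cycleType asT0_props.1 asT0_props.2.1 asT0_props.2.2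
  have hc : IsConj asT0 τ := isConj_iff_cycleType_eq.mpr (h0.trans h.symm)
  obtain ⟨σ, hσ⟩ := isConj_iff.mp hc
  exact ⟨σ, hσ.symm⟩

theorem as_sign_conj (σ g : Perm (Fin 6)) : sign (σ * g * σ⁻¹) = sign g := by
  rw [Perm.sign_mul, Perm.sign_mul, Perm.sign_inv, mul_comm (sign σ), mul_assoc, Int.units_mul_self, mul_one]

theorem as_card_filter_conj (σ : Perm (Fin 6)) (P Q : Perm (Fin 6) → Prop) [DecidablePred P]
    [DecidablePred Q] (h : ∀ g, P (σ * g * σ⁻¹) ↔ Q g) :
    (Finset.univ.filter P).card = (Finset.univ.filter Q).card := by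
  symm
  apply Finset.card_bij' (fun g _ => σ * g * σ⁻¹) (fun g _ => σ⁻¹ * g * σ)
  · intro g hg
    rw [Finset.mem_filter] at hg ⊢
    exact ⟨Finset.mem_univ _, (h g).mpr hg.2⟩
  · intro g hg
    rw [Finset.mem_filter] at hg ⊢
    refine ⟨Finset.mem_univ _, (h _).mp ?_⟩
    have : σ * (σ⁻¹ * g * σ) * σ⁻¹ = g := by group
    rw [this]; exact hg.2
  · intro g _; group
  · intro g _; group

/-- transfer of a count from permutations to the alternating group -/
theorem as_card_subtype_eq (P : Perm (Fin 6) → Prop) [DecidablePred P] :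
    Nat.card {g : alternatingGroup (Fin 6) // P g.1} =
      (Finset.univ.filter (fun g : Perm (Fin 6) => sign g = 1 ∧ P g)).card := by
  classical
  rw [← Fintype.card_coe, ← Nat.card_eq_fintype_card]
  apply Nat.card_congr
  refine ⟨fun g => ⟨g.1.1, Finset.mem_filter.mpr
      ⟨Finset.mem_univ _, mem_alternatingGroup.mp g.1.2, g.2⟩⟩,
    fun x => ⟨⟨x.1, mem_alternatingGroup.mpr (Finset.mem_filter.mp x.2).2.1⟩,
      (Finset.mem_filter.mp x.2).2.2⟩, ?_, ?_⟩
  · intro g; rfl
  · intro x; rfl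

theorem as_card_subtype_le (P : Perm (Fin 6) → Prop) [DecidablePred P] (c : ℕ)
    (h : (Finset.univ.filter (fun g : Perm (Fin 6) => sign g = 1 ∧ P g)).card ≤ c) :
    Nat.card {g : alternatingGroup (Fin 6) // P g.1} ≤ c := by
  rw [as_card_subtype_eq]; exact h

theorem as_c4 : (Finset.univ.filter
    (fun t : Perm (Fin 6) => sign t = 1 ∧ (t * t = 1 ∧ t ≠ 1))).card = 45 := by
  decide +kernel

/-- `A_6` has `45` involutions -/
theorem as_card_inv :
    Nat.card {s : alternatingGroup (Fin 6) // s * s = 1 ∧ s ≠ 1} = 45 := by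
  rw [← as_c4, ← as_card_subtype_eq (fun t => t * t = 1 ∧ t ≠ 1)]
  apply Nat.card_congr
  refine Equiv.subtypeEquivRight ?_
  intro g
  constructor
  · rintro ⟨ha, hb⟩
    refine ⟨?_, fun h => hb (Subtype.ext h)⟩
    have := congrArg Subtype.val ha; simpa using this
  · rintro ⟨ha, hb⟩
    exact ⟨Subtype.ext (by simpa using ha), fun h => hb (by rw [h]; rfl)⟩

variable (τ : alternatingGroup (Fin 6))

/-- the centralizer of an involution of `A_6` has at most `8` elements -/
theorem as_card_centralizer_le (h2 : τ * τ = 1) (h1 : τ ≠ 1) :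
    Nat.card {g : alternatingGroup (Fin 6) // g * τ = τ * g} ≤ 8 := by
  have hs : sign τ.1 = 1 := mem_alternatingGroup.mp τ.2
  have h2' : τ.1 * τ.1 = 1 := by
    have := congrArg Subtype.val h2
    simpa using this
  have h1' : τ.1 ≠ 1 := fun h => h1 (Subtype.ext h)
  obtain ⟨σ, hσ⟩ := as_conj hs h2' h1'
  have hcard : (Finset.univ.filter
      (fun g : Perm (Fin 6) => sign g = 1 ∧ g * τ.1 = τ.1 * g)).card ≤ 8 := by
    rw [as_card_filter_conj σ _ (fun g : Perm (Fin 6) => sign g = 1 ∧ g * asT0 = asT0 * g)]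
    · exact as_c1.le
    · intro g
      rw [hσ]
      constructor
      · rintro ⟨hg1, hg2⟩
        refine ⟨by rwa [as_sign_conj] at *, ?_⟩
        have h3 : σ⁻¹ * (σ * g * σ⁻¹ * (σ * asT0 * σ⁻¹)) * σ =
            σ⁻¹ * (σ * asT0 * σ⁻¹ * (σ * g * σ⁻¹)) * σ := by rw [hg2]
        have e1 : σ⁻¹ * (σ * g * σ⁻¹ * (σ * asT0 * σ⁻¹)) * σ = g * asT0 := by group
        have e2 : σ⁻¹ * (σ * asT0 * σ⁻¹ * (σ * g * σ⁻¹)) * σ = asT0 * g := by group
        rw [e1, e2] at h3
        exact h3
      · rintro ⟨hg1, hg2⟩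
        refine ⟨by rwa [as_sign_conj] at *, ?_⟩
        have e1 : σ * g * σ⁻¹ * (σ * asT0 * σ⁻¹) = σ * (g * asT0) * σ⁻¹ := by group
        have e2 : σ * asT0 * σ⁻¹ * (σ * g * σ⁻¹) = σ * (asT0 * g) * σ⁻¹ := by group
        rw [e1, e2, hg2]
  have := as_card_subtype_le (fun g => g * τ.1 = τ.1 * g) 8 hcard
  refine le_trans (le_of_eq ?_) this
  apply Nat.card_congr
  refine Equiv.subtypeEquivRight ?_
  intro g
  constructor
  · intro h; have := congrArg Subtype.val h; simpa using this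
  · intro h; apply Subtype.ext; simpa using h

/-- some power `m ∈ {2,3,4,5}` kills any element of `A_6` -/
theorem as_exists_pow (g : alternatingGroup (Fin 6)) :
    ∃ m ∈ ({2, 3, 4, 5} : Finset ℕ), g ^ m = 1 := by
  have hs : sign g.1 = 1 := mem_alternatingGroup.mp g.2
  rcases as_c3 g.1 hs with h | h | h | h
  · exact ⟨2, by decide, Subtype.ext (by simpa using h)⟩
  · exact ⟨3, by decide, Subtype.ext (by simpa using h)⟩
  · exact ⟨4, by decide, Subtype.ext (by simpa using h)⟩
  · exact ⟨5, by decide, Subtype.ext (by simpa using h)⟩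

/-- for an involution `τ` of `A_6` and `m ∈ {2,3,4,5}`, at most `17` elements `s` with
`s * s = 1` have `(τ * s) ^ m = 1` -/
theorem as_card_pow_le (h2 : τ * τ = 1) (h1 : τ ≠ 1) (m : ℕ) (hm : m ∈ ({2, 3, 4, 5} : Finset ℕ)) :
    Nat.card {s : alternatingGroup (Fin 6) // s * s = 1 ∧ (τ * s) ^ m = 1} ≤ 17 := by
  have hs : sign τ.1 = 1 := mem_alternatingGroup.mp τ.2
  have h2' : τ.1 * τ.1 = 1 := by
    have := congrArg Subtype.val h2
    simpa using this
  have h1' : τ.1 ≠ 1 := fun h => h1 (Subtype.ext h)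
  obtain ⟨σ, hσ⟩ := as_conj hs h2' h1'
  have hcard : (Finset.univ.filter
      (fun g : Perm (Fin 6) => sign g = 1 ∧ (g * g = 1 ∧ (τ.1 * g) ^ m = 1))).card ≤ 17 := by
    rw [as_card_filter_conj σ _
      (fun g : Perm (Fin 6) => sign g = 1 ∧ g * g = 1 ∧ (asT0 * g) ^ m = 1)]
    · exact as_c2 m hm
    · intro g
      rw [hσ]
      have e1 : σ * g * σ⁻¹ * (σ * g * σ⁻¹) = σ * (g * g) * σ⁻¹ := by group
      have e2 : σ * asT0 * σ⁻¹ * (σ * g * σ⁻¹) = σ * (asT0 * g) * σ⁻¹ := by group
      rw [e1, e2, conj_pow]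
      constructor
      · rintro ⟨hg1, hg2, hg3⟩
        refine ⟨by rwa [as_sign_conj] at *, ?_, ?_⟩
        · have := congrArg (fun z => σ⁻¹ * z * σ) hg2
          simpa [mul_assoc] using this
        · have := congrArg (fun z => σ⁻¹ * z * σ) hg3
          simpa [mul_assoc] using this
      · rintro ⟨hg1, hg2, hg3⟩
        refine ⟨by rwa [as_sign_conj] at *, ?_, ?_⟩
        · rw [hg2]; group
        · rw [hg3]; group
  have := as_card_subtype_le (fun g => g * g = 1 ∧ (τ.1 * g) ^ m = 1) 17 hcard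
  refine le_trans (le_of_eq ?_) this
  apply Nat.card_congr
  refine Equiv.subtypeEquivRight ?_
  intro g
  constructor
  · rintro ⟨ha, hb⟩
    refine ⟨?_, ?_⟩
    · have := congrArg Subtype.val ha; simpa using this
    · have := congrArg Subtype.val hb; simpa using this
  · rintro ⟨ha, hb⟩
    refine ⟨Subtype.ext (by simpa using ha), Subtype.ext (by simpa using hb)⟩

end Cfsg.Agent.Lib.Helper70
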