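import Mathlib
import Cfsg.Agent.Lib.Helper56.FrobApply
import Cfsg.Agent.Lib.Helper24.CoprimeAbelian
import Cfsg.Agent.Lib.Helper67.ZGroupConj
import Cfsg.Agent.Lib.Helper70.BG1216a

set_option autoImplicit false
set_option linter.unusedSectionVars false
set_option linter.unusedVariables false
set_option linter.style.haveILetI false

/-!
# Two pure lemmas on Frobenius-like groups acting coprimely on `p`-groups (for B&G Theorem 13.4)

`FrobPair Q R`: `R ≠ 1` normalizes `Q` and no non-identity element of `R` centralizes a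
non-identity element of `Q`.

* `frob_centralizes` (FC): if `Q R` acts coprimely on the `p`-group `S` and `C_S(R)` is normalized
  by `Q`, then `Q` centralizes `S`.
* `frob_cyclic_centralizers` (FS): if `R` has prime order, `P ≤ S` has order `p` and is centralized
  by `Q R`, and both `C_S(R)` and `C_S(Q)` are cyclic, then `Q` centralizes `S`.
-/

namespace Cfsg.Agent.Lib.Helper70.BG134

open Subgroup
open scoped commutatorElement

universe u
variable {X : Type u} [Group X] [Finite X]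

/-- A Frobenius-like pair: `R ≠ 1` normalizes `Q` and acts on it without fixed points. -/
structure FrobPair (Q R : Subgroup X) : Prop where
  ne : R ≠ ⊥
  norm : R ≤ normalizer (Q : Set X)
  fpf : ∀ e ∈ R, e ≠ 1 → ∀ u ∈ Q, e * u = u * e → u = 1

theorem conj_mem_of_nmem {T : Subgroup X} {x t : X} (hx : x ∈ normalizer (T : Set X))
    (ht : t ∈ T) : x * t * x⁻¹ ∈ T :=
  (mem_normalizer_iff.mp hx t).mp ht

theorem conj_mem_of_nmem' {T : Subgroup X} {x t : X} (hx : x ∈ normalizer (T : Set X))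
    (ht : t ∈ T) : x⁻¹ * t * x ∈ T := by
  have := conj_mem_of_nmem (inv_mem hx) ht
  simpa using this

theorem nmem_of_forall {T : Subgroup X} {g : X} (h : ∀ t ∈ T, g * t * g⁻¹ ∈ T)
    (h' : ∀ t ∈ T, g⁻¹ * t * g ∈ T) : g ∈ normalizer (T : Set X) := by
  rw [mem_normalizer_iff]
  intro t
  constructor
  · exact h t
  · intro ht
    have := h' _ ht
    have e : g⁻¹ * (g * t * g⁻¹) * g = t := by group
    rwa [e] at this

theorem nmem_inf {H K : Subgroup X} {g : X} (hH : g ∈ normalizer (H : Set X))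
    (hK : g ∈ normalizer (K : Set X)) : g ∈ normalizer ((H ⊓ K : Subgroup X) : Set X) :=
  nmem_of_forall
    (fun t ht => ⟨conj_mem_of_nmem hH ht.1, conj_mem_of_nmem hK ht.2⟩)
    (fun t ht => ⟨conj_mem_of_nmem' hH ht.1, conj_mem_of_nmem' hK ht.2⟩)

theorem nmem_centralizer {H : Subgroup X} {g : X} (hH : g ∈ normalizer (H : Set X)) :
    g ∈ normalizer ((centralizer (H : Set X) : Subgroup X) : Set X) := by
  have key : ∀ g : X, g ∈ normalizer (H : Set X) → ∀ c ∈ centralizer (H : Set X),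
      g * c * g⁻¹ ∈ centralizer (H : Set X) := by
    intro g hg c hc
    rw [mem_centralizer_iff] at hc ⊢
    intro h hh
    have h1 := hc (g⁻¹ * h * g) (conj_mem_of_nmem' hg hh)
    calc h * (g * c * g⁻¹) = g * ((g⁻¹ * h * g) * c) * g⁻¹ := by group
      _ = g * (c * (g⁻¹ * h * g)) * g⁻¹ := by rw [h1]
      _ = g * c * g⁻¹ * h := by group
  refine nmem_of_forall (key g hH) ?_
  intro c hc
  have := key g⁻¹ (inv_mem hH) c hc
  simpa using this

theorem le_normalizer_centralizer_self (R : Subgroup X) :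
    R ≤ normalizer ((centralizer (R : Set X) : Subgroup X) : Set X) :=
  fun _ hx => nmem_centralizer (le_normalizer hx)

/-- `C(Q ⊔ R) = C(Q) ∩ C(R)` inside `T`. -/
theorem mem_centralizer_sup_iff {Q R : Subgroup X} {x : X} :
    x ∈ centralizer ((Q ⊔ R : Subgroup X) : Set X) ↔
      x ∈ centralizer (Q : Set X) ∧ x ∈ centralizer (R : Set X) := by
  constructor
  · intro h
    exact ⟨centralizer_le (show (Q : Set X) ⊆ ((Q ⊔ R : Subgroup X) : Set X) from
        fun _ hy => (le_sup_left : Q ≤ Q ⊔ R) hy) h,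
      centralizer_le (show (R : Set X) ⊆ ((Q ⊔ R : Subgroup X) : Set X) from
        fun _ hy => (le_sup_right : R ≤ Q ⊔ R) hy) h⟩
  · rintro ⟨hQ, hR⟩
    have h1 : Q ≤ centralizer ((zpowers x : Subgroup X) : Set X) := by
      rw [le_centralizer_iff, zpowers_le]; exact hQ
    have h2 : R ≤ centralizer ((zpowers x : Subgroup X) : Set X) := by
      rw [le_centralizer_iff, zpowers_le]; exact hR
    have h3 : Q ⊔ R ≤ centralizer ((zpowers x : Subgroup X) : Set X) := sup_le h1 h2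
    rw [le_centralizer_iff, zpowers_le] at h3
    exact h3

/-- A minimal `Q R`-invariant subgroup of `S` not centralized by `Q`. -/
theorem exists_minimal (Q R S : Subgroup X) (hS : Q ⊔ R ≤ normalizer (S : Set X))
    (hne : ¬ S ≤ centralizer (Q : Set X)) :
    ∃ T : Subgroup X, T ≤ S ∧ Q ⊔ R ≤ normalizer (T : Set X) ∧ ¬ T ≤ centralizer (Q : Set X) ∧
      ∀ T' : Subgroup X, T' ≤ T → Q ⊔ R ≤ normalizer (T' : Set X) →
        T' = T ∨ T' ≤ centralizer (Q : Set X) := by
  classical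
  let 𝒯 : Set (Subgroup X) :=
    {T | T ≤ S ∧ Q ⊔ R ≤ normalizer (T : Set X) ∧ ¬ T ≤ centralizer (Q : Set X)}
  have hne' : 𝒯.Nonempty := ⟨S, le_rfl, hS, hne⟩
  obtain ⟨T, hT, hmin⟩ :=
    WellFounded.has_min (measure (fun T : Subgroup X => Nat.card T)).wf 𝒯 hne'
  refine ⟨T, hT.1, hT.2.1, hT.2.2, ?_⟩
  intro T' hT'T hT'N
  by_cases hc : T' ≤ centralizer (Q : Set X)
  · exact Or.inr hc
  · left
    have hmem : T' ∈ 𝒯 := ⟨hT'T.trans hT.1, hT'N, hc⟩
    have h1 : ¬ Nat.card T' < Nat.card T := hmin T' hmem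
    exact Subgroup.eq_of_le_of_card_ge hT'T (not_lt.mp h1)

/-- If the complement `R` centralizes the `Q`-invariant subgroup `T`, so does the kernel `Q`. -/
theorem le_centralizer_of_le_centralizer_compl {Q R T : Subgroup X} (h : FrobPair Q R)
    (hQT : Q ≤ normalizer (T : Set X)) (hTR : T ≤ centralizer (R : Set X)) :
    T ≤ centralizer (Q : Set X) := by
  obtain ⟨ρ, hρR, hρ1⟩ : ∃ ρ ∈ R, ρ ≠ 1 := by
    by_contra hcon
    push Not at hcon
    exact h.ne ((eq_bot_iff_forall R).mpr hcon)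
  let φ : Q → Q := fun a =>
    ⟨(a : X)⁻¹ * (ρ * a * ρ⁻¹), Q.mul_mem (Q.inv_mem a.2) (conj_mem_of_nmem (h.norm hρR) a.2)⟩
  have hinj : Function.Injective φ := by
    intro a b hab
    have h1 : (a : X)⁻¹ * (ρ * a * ρ⁻¹) = (b : X)⁻¹ * (ρ * b * ρ⁻¹) := congrArg Subtype.val hab
    have h2 : ρ * ((b : X) * (a : X)⁻¹) = ((b : X) * (a : X)⁻¹) * ρ := by
      calc ρ * ((b : X) * (a : X)⁻¹)
          = (b : X) * ((b : X)⁻¹ * (ρ * b * ρ⁻¹)) * ρ * (a : X)⁻¹ := by group
        _ = (b : X) * ((a : X)⁻¹ * (ρ * a * ρ⁻¹)) * ρ * (a : X)⁻¹ := by rw [h1]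
        _ = ((b : X) * (a : X)⁻¹) * ρ := by group
    have h3 := h.fpf ρ hρR hρ1 ((b : X) * (a : X)⁻¹) (Q.mul_mem b.2 (Q.inv_mem a.2)) h2
    apply Subtype.ext
    have : (b : X) = a := by
      calc (b : X) = ((b : X) * (a : X)⁻¹) * a := by group
        _ = a := by rw [h3, one_mul]
    exact this.symm
  have hsurj : Function.Surjective φ := Finite.injective_iff_surjective.mp hinj
  have hρt : ∀ s ∈ T, ρ * s = s * ρ := fun s hs => (mem_centralizer_iff.mp (hTR hs) ρ hρR)
  intro t ht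
  rw [mem_centralizer_iff]
  intro u hu
  obtain ⟨a, ha⟩ := hsurj ⟨u, hu⟩
  have hu' : u = (a : X)⁻¹ * (ρ * a * ρ⁻¹) := (congrArg Subtype.val ha).symm
  have hs : (a : X) * t * (a : X)⁻¹ ∈ T := conj_mem_of_nmem (hQT a.2) ht
  have e1 := hρt t ht
  have e2 := hρt _ hs
  have e1' : ρ⁻¹ * t = t * ρ⁻¹ := by
    calc ρ⁻¹ * t = ρ⁻¹ * (t * ρ) * ρ⁻¹ := by group
      _ = ρ⁻¹ * (ρ * t) * ρ⁻¹ := by rw [e1]
      _ = t * ρ⁻¹ := by group
  rw [hu']
  calc (a : X)⁻¹ * (ρ * a * ρ⁻¹) * t = (a : X)⁻¹ * ρ * a * (ρ⁻¹ * t) := by group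
    _ = (a : X)⁻¹ * ρ * a * (t * ρ⁻¹) := by rw [e1']
    _ = (a : X)⁻¹ * (ρ * ((a : X) * t * (a : X)⁻¹)) * a * ρ⁻¹ := by group
    _ = (a : X)⁻¹ * (((a : X) * t * (a : X)⁻¹) * ρ) * a * ρ⁻¹ := by rw [e2]
    _ = t * ((a : X)⁻¹ * (ρ * a * ρ⁻¹)) := by group

/-- The Frobenius fixed point formula for an invariant solvable subgroup. -/
theorem formula {Q R T : Subgroup X} (h : FrobPair Q R) (hT : Q ⊔ R ≤ normalizer (T : Set X))
    (hsolv : Group.IsSolvable T) (hcop : (Nat.card T).Coprime (Nat.card ↥(Q ⊔ R))) :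
    Nat.card ↥(T ⊓ centralizer ((Q ⊔ R : Subgroup X) : Set X)) ^ Nat.card R * Nat.card T
      = Nat.card ↥(T ⊓ centralizer (R : Set X)) ^ Nat.card R
        * Nat.card ↥(T ⊓ centralizer (Q : Set X)) :=
  Cfsg.Agent.Lib.Helper56.FrobApply.frobenius_formula Q R T h.ne
    (fun e he u hu => conj_mem_of_nmem (h.norm he) hu) h.fpf
    (fun x hx t ht => conj_mem_of_nmem (hT hx) ht) hsolv hcop

/-- Consequence of the formula: if `T` is not centralized by `Q` then `C_T(R) ≰ C_T(Q)`. -/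
theorem exists_mem_not_mem {Q R T : Subgroup X} (h : FrobPair Q R)
    (hT : Q ⊔ R ≤ normalizer (T : Set X))
    (hsolv : Group.IsSolvable T) (hcop : (Nat.card T).Coprime (Nat.card ↥(Q ⊔ R)))
    (hne : ¬ T ≤ centralizer (Q : Set X)) :
    ∃ x ∈ T, x ∈ centralizer (R : Set X) ∧ x ∉ centralizer (Q : Set X) := by
  by_contra hcon
  push Not at hcon
  have hf := formula h hT hsolv hcop
  have heq : T ⊓ centralizer ((Q ⊔ R : Subgroup X) : Set X) = T ⊓ centralizer (R : Set X) := by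
    ext x
    simp only [mem_inf, mem_centralizer_sup_iff]
    constructor
    · rintro ⟨hx, _, hR⟩; exact ⟨hx, hR⟩
    · rintro ⟨hx, hR⟩; exact ⟨hx, hcon x hx hR, hR⟩
  rw [heq] at hf
  have hpos : 0 < Nat.card ↥(T ⊓ centralizer (R : Set X)) ^ Nat.card R :=
    pow_pos Nat.card_pos _
  have h1 : Nat.card T = Nat.card ↥(T ⊓ centralizer (Q : Set X)) :=
    Nat.eq_of_mul_eq_mul_left hpos hf
  have h2 : T ⊓ centralizer (Q : Set X) = T :=
    Subgroup.eq_of_le_of_card_ge inf_le_left h1.le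
  exact hne (h2 ▸ inf_le_right)

/-- **Lemma FC.** -/
theorem frob_centralizes {p : ℕ} [Fact p.Prime] {Q R S : Subgroup X} (h : FrobPair Q R)
    (hSp : IsPGroup p S) (hS : Q ⊔ R ≤ normalizer (S : Set X))
    (hcop : (Nat.card S).Coprime (Nat.card ↥(Q ⊔ R)))
    (hinv : Q ≤ normalizer ((S ⊓ centralizer (R : Set X) : Subgroup X) : Set X)) :
    S ≤ centralizer (Q : Set X) := by
  by_contra hne
  obtain ⟨T, hTS, hTN, hTQ, hmin⟩ := exists_minimal Q R S hS hne
  have hTp : IsPGroup p T := hSp.to_le hTS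
  haveI : Group.IsNilpotent T := hTp.isNilpotent
  have hsolv : Group.IsSolvable T := inferInstance
  have hcopT : (Nat.card T).Coprime (Nat.card ↥(Q ⊔ R)) :=
    Nat.Coprime.coprime_dvd_left (Subgroup.card_dvd_of_le hTS) hcop
  -- `C := C_T(R)` is invariant
  have hCeq : T ⊓ centralizer (R : Set X) = T ⊓ (S ⊓ centralizer (R : Set X)) := by
    ext x; simp only [mem_inf]
    constructor
    · rintro ⟨hx, hR⟩; exact ⟨hx, hTS hx, hR⟩
    · rintro ⟨hx, _, hR⟩; exact ⟨hx, hR⟩
  have hCN : Q ⊔ R ≤ normalizer ((T ⊓ centralizer (R : Set X) : Subgroup X) : Set X) := by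
    refine sup_le ?_ ?_
    · intro a ha
      rw [hCeq]
      exact nmem_inf (hTN (le_sup_left (a := Q) (b := R) ha)) (hinv ha)
    · intro a ha
      exact nmem_inf (hTN (le_sup_right (a := Q) (b := R) ha)) (le_normalizer_centralizer_self R ha)
  rcases hmin _ inf_le_left hCN with hC | hC
  · -- `R` centralizes `T`
    have hTR : T ≤ centralizer (R : Set X) := by
      rw [← hC]; exact inf_le_right
    exact hTQ (le_centralizer_of_le_centralizer_compl h (le_sup_left.trans hTN) hTR)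
  · obtain ⟨x, hxT, hxR, hxQ⟩ := exists_mem_not_mem h hTN hsolv hcopT hTQ
    exact hxQ (hC ⟨hxT, hxR⟩)

/-- a nontrivial `p`-subgroup contains a subgroup of order `p`. -/
theorem exists_card_eq_prime_le {p : ℕ} [hp : Fact p.Prime] {W : Subgroup X} (hW : IsPGroup p W)
    (hne : W ≠ ⊥) : ∃ P' : Subgroup X, P' ≤ W ∧ Nat.card P' = p := by
  have h1 : Nat.card W ≠ 1 := fun h => hne (Subgroup.card_eq_one.mp h)
  obtain ⟨n, hn⟩ := hW.exists_card_eq
  have hpd : p ∣ Nat.card W := by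
    rw [hn]
    cases n with
    | zero => rw [pow_zero] at hn; exact absurd hn h1
    | succ n => exact dvd_pow_self p (Nat.succ_ne_zero n)
  obtain ⟨g, hg⟩ := exists_prime_orderOf_dvd_card' (G := W) p hpd
  refine ⟨zpowers (g : X), ?_, ?_⟩
  · rw [zpowers_le]; exact g.2
  · rw [Nat.card_zpowers, Subgroup.orderOf_coe, hg]

theorem comm_of_isCyclic {K : Subgroup X} (hK : IsCyclic K) {a b : X} (ha : a ∈ K) (hb : b ∈ K) :
    a * b = b * a := by
  letI := IsCyclic.commGroup (α := K)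
  have := mul_comm (⟨a, ha⟩ : K) ⟨b, hb⟩
  exact congrArg Subtype.val this

/-- A coprime group `R` normalizing a cyclic `p`-group `C` and centralizing its subgroup of order
`p` centralizes `C`. -/
theorem le_centralizer_of_cyclic {p : ℕ} [hp : Fact p.Prime] {C R P : Subgroup X}
    (hCp : IsPGroup p C) (hCc : IsCyclic C)
    (hRC : R ≤ normalizer (C : Set X)) (hcop : (Nat.card R).Coprime (Nat.card C))
    (hPC : P ≤ C) (hP : Nat.card P = p) (hPR : P ≤ centralizer (R : Set X)) :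
    C ≤ centralizer (R : Set X) := by
  haveI : IsMulCommutative C := ⟨⟨fun a b => Subtype.ext (comm_of_isCyclic hCc a.2 b.2)⟩⟩
  have h1 := Cfsg.Agent.Lib.Helper24.commutator_inf_centralizer_eq_bot_of_abelian C R hRC hcop
  have hle : ⁅C, R⁆ ≤ C := Cfsg.Agent.Lib.Helper24.commutator_le_of_le_normalizer C R hRC
  by_cases hb : ⁅C, R⁆ = ⊥
  · exact commutator_eq_bot_iff_le_centralizer.mp hb
  · exfalso
    obtain ⟨P', hP'le, hP'⟩ := exists_card_eq_prime_le (hCp.to_le hle) hb
    have hPP : P' = P :=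
      Cfsg.Agent.Lib.Helper67.eq_of_le_isCyclic_of_card_eq C P' P (hP'le.trans hle) hPC
        (hP'.trans hP.symm)
    have hPbot : P ≤ ⁅C, R⁆ ⊓ centralizer (R : Set X) := le_inf (hPP ▸ hP'le) hPR
    rw [h1] at hPbot
    have h2 : Nat.card P = 1 := by rw [le_bot_iff.mp hPbot]; simp
    rw [hP] at h2
    exact hp.out.one_lt.ne' h2

/-- **Lemma FS.** -/
theorem frob_cyclic_centralizers {p r : ℕ} [hp : Fact p.Prime] [hr : Fact r.Prime]
    {Q R S P : Subgroup X} (h : FrobPair Q R) (hR : Nat.card R = r)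
    (hSp : IsPGroup p S) (hS : Q ⊔ R ≤ normalizer (S : Set X))
    (hcop : (Nat.card S).Coprime (Nat.card ↥(Q ⊔ R)))
    (hPS : P ≤ S) (hP : Nat.card P = p)
    (hPQ : P ≤ centralizer (Q : Set X)) (hPR : P ≤ centralizer (R : Set X))
    (hcR : IsCyclic ↥(S ⊓ centralizer (R : Set X)))
    (hcQ : IsCyclic ↥(S ⊓ centralizer (Q : Set X))) :
    S ≤ centralizer (Q : Set X) := by
  by_contra hne
  obtain ⟨T, hTS, hTN, hTQ, hmin⟩ := exists_minimal Q R S hS hne
  have hTp : IsPGroup p T := hSp.to_le hTS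
  haveI : Group.IsNilpotent T := hTp.isNilpotent
  have hsolv : Group.IsSolvable T := inferInstance
  have hcopT : (Nat.card T).Coprime (Nat.card ↥(Q ⊔ R)) :=
    Nat.Coprime.coprime_dvd_left (Subgroup.card_dvd_of_le hTS) hcop
  have hQN : Q ≤ normalizer (T : Set X) := le_sup_left.trans hTN
  have hRN : R ≤ normalizer (T : Set X) := le_sup_right.trans hTN
  have hcopR : (Nat.card R).Coprime (Nat.card S) :=
    (Nat.Coprime.coprime_dvd_right (Subgroup.card_dvd_of_le le_sup_right) hcop).symm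
  have hcopQ : (Nat.card Q).Coprime (Nat.card S) :=
    (Nat.Coprime.coprime_dvd_right (Subgroup.card_dvd_of_le le_sup_left) hcop).symm
  -- `R` centralizes `P₁ = C_S(Q)`
  have hRP₁ : R ≤ normalizer ((S ⊓ centralizer (Q : Set X) : Subgroup X) : Set X) :=
    fun ρ hρ => nmem_inf (hS (le_sup_right (a := Q) (b := R) hρ)) (nmem_centralizer (h.norm hρ))
  have hP₁R : S ⊓ centralizer (Q : Set X) ≤ centralizer (R : Set X) :=
    le_centralizer_of_cyclic (hSp.to_le inf_le_left) hcQ hRP₁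
      (Nat.Coprime.coprime_dvd_right (Subgroup.card_dvd_of_le inf_le_left) hcopR)
      (le_inf hPS hPQ) hP hPR
  -- `T' ≤ C(Q)`
  have hTne : T ≠ ⊥ := by
    intro hb; apply hTQ; rw [hb]; exact bot_le
  have hTT : ⁅T, T⁆ ≤ centralizer (Q : Set X) := by
    have hinv : Q ⊔ R ≤ normalizer ((⁅T, T⁆ : Subgroup X) : Set X) :=
      Cfsg.Agent.Lib.Helper70.BG1216.le_normalizer_commutator' hTN hTN
    rcases hmin ⁅T, T⁆ (commutator_le_self T) hinv with h1 | h1
    · exfalso
      haveI : Nontrivial T := (Subgroup.nontrivial_iff_ne_bot T).mpr hTne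
      have h2 : _root_.commutator T < ⊤ := Group.IsSolvable.commutator_lt_top_of_nontrivial T
      have h3 : (_root_.commutator T).map T.subtype = (⊤ : Subgroup T).map T.subtype := by
        rw [Subgroup.map_subtype_commutator, h1, ← MonoidHom.range_eq_map, Subgroup.range_subtype]
      have h4 := Subgroup.map_injective T.subtype_injective h3
      exact h2.ne h4
    · exact h1
  -- an element of `C_T(R)` outside `C_T(Q)`
  obtain ⟨x, hxT, hxR, hxQ⟩ := exists_mem_not_mem h hTN hsolv hcopT hTQ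
  have hRp : IsPGroup r R := IsPGroup.of_card (n := 1) (by rw [hR, pow_one])
  -- `x` is central in `T`
  have hxZ : ∀ y ∈ T, y * x * y⁻¹ = x := by
    intro y hy
    have hyx : ∀ ρ ∈ R, ρ * (y * x * y⁻¹) = (y * x * y⁻¹) * ρ := by
      intro ρ hρ
      have hcT : ⁅y, x⁆ ∈ ⁅T, T⁆ := commutator_mem_commutator hy hxT
      have hc : ⁅y, x⁆ ∈ centralizer (R : Set X) :=
        hP₁R ⟨hTS (commutator_le_self T hcT), hTT hcT⟩
      have e : y * x * y⁻¹ = ⁅y, x⁆ * x := by rw [commutatorElement_def]; group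
      rw [e]
      have h1 := mem_centralizer_iff.mp hc ρ hρ
      have h2 := mem_centralizer_iff.mp hxR ρ hρ
      calc ρ * (⁅y, x⁆ * x) = (ρ * ⁅y, x⁆) * x := by group
        _ = ⁅y, x⁆ * (ρ * x) := by rw [h1]; group
        _ = ⁅y, x⁆ * x * ρ := by rw [h2]; group
    let Ω := {z : X // z ∈ T ∧ z * x * z⁻¹ = y * x * y⁻¹}
    letI : MulAction R Ω :=
      { smul := fun ρ z => ⟨(ρ : X) * z.1 * (ρ : X)⁻¹, conj_mem_of_nmem (hRN ρ.2) z.2.1, by
            have h2 := mem_centralizer_iff.mp hxR ρ ρ.2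
            have h3 := hyx ρ ρ.2
            calc (ρ : X) * z.1 * (ρ : X)⁻¹ * x * ((ρ : X) * z.1 * (ρ : X)⁻¹)⁻¹
                = (ρ : X) * z.1 * ((ρ : X)⁻¹ * (x * ρ)) * z.1⁻¹ * (ρ : X)⁻¹ := by group
              _ = (ρ : X) * z.1 * ((ρ : X)⁻¹ * (ρ * x)) * z.1⁻¹ * (ρ : X)⁻¹ := by rw [h2]
              _ = (ρ : X) * (z.1 * x * z.1⁻¹) * (ρ : X)⁻¹ := by group
              _ = (ρ : X) * (y * x * y⁻¹) * (ρ : X)⁻¹ := by rw [z.2.2]
              _ = (y * x * y⁻¹) * ρ * (ρ : X)⁻¹ := by rw [h3]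
              _ = y * x * y⁻¹ := by group⟩
        one_smul := fun z => Subtype.ext (by
          show ((1 : R) : X) * z.1 * ((1 : R) : X)⁻¹ = z.1
          simp)
        mul_smul := fun a b z => Subtype.ext (by
          show ((a * b : R) : X) * z.1 * ((a * b : R) : X)⁻¹
            = (a : X) * ((b : X) * z.1 * (b : X)⁻¹) * (a : X)⁻¹
          rw [Subgroup.coe_mul]; group) }
    have hsmul : ∀ (ρ : R) (z : Ω), ((ρ • z : Ω) : X) = (ρ : X) * z.1 * (ρ : X)⁻¹ := fun _ _ => rfl
    haveI : Finite Ω := Subtype.finite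
    have hΩ : Nat.card Ω ∣ Nat.card T := by
      have e : Ω ≃ ↥(T ⊓ centralizer ({x} : Set X)) :=
        { toFun := fun z => ⟨y⁻¹ * z.1, T.mul_mem (T.inv_mem hy) z.2.1, by
              show y⁻¹ * z.1 ∈ centralizer ({x} : Set X)
              rw [mem_centralizer_iff]
              intro w hw
              rw [Set.mem_singleton_iff] at hw
              subst hw
              have h1 := z.2.2
              calc w * (y⁻¹ * z.1) = y⁻¹ * (y * w * y⁻¹) * z.1 := by group
                _ = y⁻¹ * (z.1 * w * z.1⁻¹) * z.1 := by rw [h1]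
                _ = y⁻¹ * z.1 * w := by group⟩
          invFun := fun c => ⟨y * c.1, T.mul_mem hy c.2.1, by
              have h1 := mem_centralizer_iff.mp c.2.2 x (Set.mem_singleton x)
              calc y * c.1 * x * (y * c.1)⁻¹ = y * (c.1 * x) * c.1⁻¹ * y⁻¹ := by group
                _ = y * (x * c.1) * c.1⁻¹ * y⁻¹ := by rw [h1]
                _ = y * x * y⁻¹ := by group⟩
          left_inv := fun z => Subtype.ext (by simp)
          right_inv := fun c => Subtype.ext (by simp) }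
      rw [Nat.card_congr e]
      exact Subgroup.card_dvd_of_le inf_le_left
    have hmod := hRp.card_modEq_card_fixedPoints Ω
    have hfix : (MulAction.fixedPoints R Ω).Nonempty := by
      by_contra hemp
      rw [Set.not_nonempty_iff_eq_empty] at hemp
      rw [hemp] at hmod
      have h0 : Nat.card (∅ : Set Ω) = 0 := by simp
      rw [h0] at hmod
      have hrd : r ∣ Nat.card Ω := (Nat.modEq_zero_iff_dvd).mp hmod
      have hrT : r ∣ Nat.card T := hrd.trans hΩ
      have hrQR : r ∣ Nat.card ↥(Q ⊔ R) := hR ▸ Subgroup.card_dvd_of_le le_sup_right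
      have := Nat.dvd_gcd hrT hrQR
      rw [Nat.Coprime.gcd_eq_one hcopT] at this
      exact hr.out.one_lt.ne' (Nat.dvd_one.mp this)
    obtain ⟨z, hz⟩ := hfix
    have hzR : z.1 ∈ centralizer (R : Set X) := by
      rw [mem_centralizer_iff]
      intro ρ hρ
      have h1 := hz ⟨ρ, hρ⟩
      have h2 : ρ * z.1 * ρ⁻¹ = z.1 := by
        have := congrArg Subtype.val h1
        rwa [hsmul] at this
      calc ρ * z.1 = (ρ * z.1 * ρ⁻¹) * ρ := by group
        _ = z.1 * ρ := by rw [h2]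
    have hcomm : z.1 * x = x * z.1 :=
      comm_of_isCyclic hcR ⟨hTS z.2.1, hzR⟩ ⟨hTS hxT, hxR⟩
    rw [← z.2.2]
    calc z.1 * x * z.1⁻¹ = (x * z.1) * z.1⁻¹ := by rw [hcomm]
      _ = x := by group
  -- `T` is abelian
  have hZ : T ≤ centralizer (T : Set X) := by
    have hinvZ : Q ⊔ R ≤ normalizer ((T ⊓ centralizer (T : Set X) : Subgroup X) : Set X) :=
      fun g hg => nmem_inf (hTN hg) (nmem_centralizer (hTN hg))
    rcases hmin _ inf_le_left hinvZ with h1 | h1
    · intro t ht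
      have : t ∈ T ⊓ centralizer (T : Set X) := by rw [h1]; exact ht
      exact this.2
    · exfalso
      apply hxQ
      apply h1
      refine ⟨hxT, ?_⟩
      show x ∈ centralizer (T : Set X)
      rw [mem_centralizer_iff]
      intro y hy
      have := hxZ y hy
      calc y * x = (y * x * y⁻¹) * y := by group
        _ = x * y := by rw [this]
  haveI : IsMulCommutative T :=
    ⟨⟨fun a b => Subtype.ext ((mem_centralizer_iff.mp (hZ b.2) a a.2))⟩⟩
  -- `P ≤ T`
  have hPT : P ≤ T := by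
    have hCne : T ⊓ centralizer (R : Set X) ≠ ⊥ := by
      intro hb
      have : x ∈ T ⊓ centralizer (R : Set X) := ⟨hxT, hxR⟩
      rw [hb, mem_bot] at this
      apply hxQ
      rw [this]
      exact one_mem _
    obtain ⟨P', hP'le, hP'⟩ := exists_card_eq_prime_le (hTp.to_le inf_le_left) hCne
    haveI := hcR
    have hPP : P' = P :=
      Cfsg.Agent.Lib.Helper67.eq_of_le_isCyclic_of_card_eq (S ⊓ centralizer (R : Set X)) P' P
        (hP'le.trans (inf_le_inf_right _ hTS)) (le_inf hPS hPR) (hP'.trans hP.symm)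
    rw [← hPP]
    exact hP'le.trans inf_le_left
  -- `[T, Q] = T`
  have hcopQT : (Nat.card Q).Coprime (Nat.card T) :=
    Nat.Coprime.coprime_dvd_right (Subgroup.card_dvd_of_le hTS) hcopQ
  have hTQbot := Cfsg.Agent.Lib.Helper24.commutator_inf_centralizer_eq_bot_of_abelian T Q hQN hcopQT
  have hTQeq : ⁅T, Q⁆ = T := by
    have hinv : Q ⊔ R ≤ normalizer ((⁅T, Q⁆ : Subgroup X) : Set X) :=
      Cfsg.Agent.Lib.Helper70.BG1216.le_normalizer_commutator' hTN
        (sup_le le_normalizer h.norm)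
    rcases hmin ⁅T, Q⁆ (Cfsg.Agent.Lib.Helper24.commutator_le_of_le_normalizer T Q hQN) hinv
      with h1 | h1
    · exact h1
    · exfalso
      have h2 : ⁅T, Q⁆ ≤ ⁅T, Q⁆ ⊓ centralizer (Q : Set X) := le_inf le_rfl h1
      rw [hTQbot, le_bot_iff] at h2
      exact hTQ (commutator_eq_bot_iff_le_centralizer.mp h2)
  rw [hTQeq] at hTQbot
  have hPbot : P ≤ T ⊓ centralizer (Q : Set X) := le_inf hPT hPQ
  rw [hTQbot] at hPbot
  have h2 : Nat.card P = 1 := by rw [le_bot_iff.mp hPbot]; simp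
  rw [hP] at h2
  exact hp.out.one_lt.ne' h2

end Cfsg.Agent.Lib.Helper70.BG134
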