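import Mathlib
import Cfsg.Prelude.Def_OddOrderLocal
import Cfsg.Agent.Lib.Helper70.BG1379a
import Cfsg.Agent.Lib.Helper24.PiClasses
import Cfsg.Agent.Lib.Helper68.BG1215b
import Cfsg.Agent.Lib.Helper96.BG127
import Cfsg.Agent.Lib.Helper23.FitUniqueB
import Cfsg.Agent.Lib.Helper23.TypeP
import Cfsg.Agent.S1350
import Cfsg.Agent.S1425

/-!
S1379 (the partition of the non-identity elements): the covering, armed on the verbatim
statements of S1375, S1432, S1430 (clause 1) and on the second half of S1369.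
-/

set_option autoImplicit false
set_option linter.style.haveILetI false
set_option linter.unusedSectionVars false
set_option linter.unusedVariables false

universe u

namespace Cfsg.Agent.Lib.Helper70.BG1379

open Subgroup Cfsg
open Cfsg.Agent.Lib.Helper33
open Cfsg.Agent.Lib.Helper50.Tilde
open Cfsg.Agent.Lib.Helper70.BG1369
open Cfsg.Agent.Lib.Helper67
open Cfsg.Agent.Lib.Helper24.PiCl

/-- the part of the statement of S1375 used here -/
def St1375 (G : Type u) [Group G] : Prop :=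
  ∀ (M : Subgroup G) (hM : IsCoatom M) (x : G) (hx : x ∈ Cfsg.sigmaCore M) (hx1 : x ≠ 1) (hxM : ¬ Subgroup.centralizer ({x} : Set G) ≤ M),
    ∃ N : Subgroup G, (IsCoatom N ∧ Subgroup.centralizer ({x} : Set G) ≤ N) ∧ (∀ L : Subgroup G, IsCoatom L → Subgroup.centralizer ({x} : Set G) ≤ L → L = N) ∧
        Cfsg.sigmaCore N = Cfsg.fittingHallOf N ∧
        Subgroup.centralizer ({x} : Set G) ≤ Subgroup.normalizer ((Cfsg.sigmaCore N ⊓ Subgroup.centralizer ({x} : Set G) : Subgroup G) : Set G) ∧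
        Cfsg.IsComplIn (M ⊓ Subgroup.centralizer ({x} : Set G)) (Cfsg.sigmaCore N ⊓ Subgroup.centralizer ({x} : Set G)) (Subgroup.centralizer ({x} : Set G)) ∧
        Cfsg.IsComplIn (M ⊓ N) (Cfsg.sigmaCore N) N

/-- statement of S1432 -/
def St1432 (G : Type u) [Group G] : Prop :=
  ∀ (M : Subgroup G) (hM : IsCoatom M) (x : G) (hx : x ∈ Cfsg.sigmaCore M) (hx1 : x ≠ 1) (x' : G) (hx' : x' ∈ M ⊓ Subgroup.centralizer ({x} : Set G)) (hx'1 : x' ≠ 1)
    (hσ : ∀ p : ℕ, p.Prime → p ∣ orderOf x' → p ∉ Cfsg.sigma M),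
    ((∀ p : ℕ, p.Prime → p ∣ orderOf x' → p ∈ Cfsg.kappa M) ∧ Subgroup.centralizer ({x} : Set G) ≤ M) ∨
      ((∀ p : ℕ, p.Prime → p ∣ orderOf x' → p ∈ Cfsg.tau2 M) ∧
        (∃ L : Subgroup G, IsCoatom L ∧ ∀ p : ℕ, p.Prime → p ∣ orderOf x' → p ∈ Cfsg.sigma L) ∧
        (Subgroup.centralizer ({x'} : Set G) ≤ M ∧ ∀ L : Subgroup G, IsCoatom L → Subgroup.centralizer ({x'} : Set G) ≤ L → L = M))

/-- clause 1 of the statement of S1430 -/
def St1430a (G : Type u) [Group G] : Prop :=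
  ∀ (M : Subgroup G) (hM : IsCoatom M) (K : Subgroup G) (hK : Cfsg.IsPiHallOf (Cfsg.kappa M) K M) (hK1 : K ≠ ⊥),
    ∀ k ∈ K, k ≠ 1 → Cfsg.sigmaCore M ⊓ Subgroup.centralizer ({k} : Set G) = (Cfsg.sigmaCore M ⊓ Subgroup.centralizer (K : Set G))

variable {G : Type u} [Group G] [Finite G]

/-- `κ(cMc⁻¹) = κ(M)`. -/
theorem kappa_cj_eq (c : G) (M : Subgroup G) : kappa (cj c M) = kappa M := by
  have key : ∀ (c : G) (M : Subgroup G), kappa M ⊆ kappa (cj c M) := by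
    intro c M p hp
    obtain ⟨hpp, hd, hns, hall⟩ := hp
    haveI : Fact p.Prime := ⟨hpp⟩
    refine ⟨hpp, by rwa [card_cj], by rwa [sigma_cj_eq], ?_⟩
    intro P'
    let e := cjEquiv c M
    let P : Sylow p ↥M := P'.comapOfInjective e.toMonoidHom e.injective
      (by
        intro x _
        exact ⟨e.symm x, by simp⟩)
    obtain ⟨hcyc, x, hxP, hx1, y, hy, hy1, hxy⟩ := hall P
    have hmemP : ∀ z : ↥M, z ∈ (P : Subgroup ↥M) ↔ e z ∈ (P' : Subgroup ↥(cj c M)) := by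
      intro z
      exact Iff.rfl
    refine ⟨?_, e x, (hmemP x).mp hxP, ?_, c * y * c⁻¹, ?_, conj_ne_one hy1, ?_⟩
    · let f : ↥(P : Subgroup ↥M) →* ↥(P' : Subgroup ↥(cj c M)) :=
        { toFun := fun z => ⟨e z.1, (hmemP z.1).mp z.2⟩
          map_one' := by ext; simp
          map_mul' := by intro a b; ext; simp }
      have hf : Function.Surjective f := by
        rintro ⟨z', hz'⟩
        refine ⟨⟨e.symm z', (hmemP _).mpr (by simpa using hz')⟩, ?_⟩
        apply Subtype.ext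
        simp [f]
      haveI := hcyc
      exact isCyclic_of_surjective f hf
    · intro h
      apply hx1
      apply e.injective
      rw [h, map_one]
    · rw [sigmaCore_cj]; exact conj_mem_cj hy
    · rw [coe_cjEquiv]
      calc c * (x : G) * c⁻¹ * (c * y * c⁻¹) = c * ((x : G) * y) * c⁻¹ := by group
        _ = c * (y * (x : G)) * c⁻¹ := by rw [hxy]
        _ = c * y * c⁻¹ * (c * (x : G) * c⁻¹) := by group
  apply Set.Subset.antisymm
  · have := key c⁻¹ (cj c M)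
    rwa [cj_inv_cj] at this
  · exact key c M

/-- the `Ẑ`-form of an element -/
def ZForm (g : G) : Prop :=
  ∃ H : Subgroup G, IsCoatom H ∧ ∃ a ∈ sigmaCore H, a ≠ 1 ∧ ∃ k ∈ H, k ≠ 1 ∧
    (∀ p : ℕ, p.Prime → p ∣ orderOf k → p ∈ kappa H) ∧ a * k = k * a ∧
      ∃ y : G, g = y * (a * k) * y⁻¹

/-- the element is covered -/
def Cov (g : G) : Prop :=
  (∃ N : Subgroup G, IsCoatom N ∧ g ∈ tildeOf N ((sigmaCore N : Set G) \ {1})) ∨ ZForm g

theorem cov_of_conj {g : G} (c : G) (h : Cov (c * g * c⁻¹)) : Cov g := by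
  rcases h with ⟨N, hN, hg⟩ | ⟨H, hH, a, ha, ha1, k, hk, hk1, hκ, hak, y, hy⟩
  · left; exact ⟨N, hN, (conj_mem_tildeOf_iff c).mp hg⟩
  · right
    refine ⟨H, hH, a, ha, ha1, k, hk, hk1, hκ, hak, c⁻¹ * y, ?_⟩
    have h1 : g = c⁻¹ * (c * g * c⁻¹) * c := by group
    rw [h1, hy]; group

theorem card_mul_relIndex_le {H K : Subgroup G} (h : H ≤ K) :
    Nat.card H * H.relIndex K = Nat.card K := by
  have h1 := Subgroup.relIndex_mul_relIndex (⊥ : Subgroup G) H K bot_le h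
  rwa [Subgroup.relIndex_bot_left, Subgroup.relIndex_bot_left] at h1

/-- the `τ₂`-pattern: `b` a `σ(N)'`-element with `M(C_G(b)) = {N}` and `π(b) ⊆ σ(L)` -/
theorem cov_tau2 (hG : IsMinSimpleOddOrder G) (h75 : St1375 G)
    {N : Subgroup G} (hN : IsCoatom N) {a b : G} (haN : a ∈ sigmaCore N) (ha1 : a ≠ 1)
    (hb1 : b ≠ 1) (hab : a * b = b * a)
    (hbσ : ∀ p : ℕ, p.Prime → p ∣ orderOf b → p ∉ sigma N)
    (hL : ∃ L : Subgroup G, IsCoatom L ∧ ∀ p : ℕ, p.Prime → p ∣ orderOf b → p ∈ sigma L)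
    (hCb : centralizer ({b} : Set G) ≤ N)
    (huniq : ∀ L : Subgroup G, IsCoatom L → centralizer ({b} : Set G) ≤ L → L = N) :
    ∃ L' : Subgroup G, IsCoatom L' ∧ a * b ∈ tildeOf L' ((sigmaCore L' : Set G) \ {1}) := by
  obtain ⟨L, hL, hLσ⟩ := hL
  have hY1 : zpowers b ≠ ⊥ := by
    rw [Ne, zpowers_eq_bot]; exact hb1
  obtain ⟨h, hh⟩ := Cfsg.Agent.S1425.result hG L hL (zpowers b) hY1
    (fun q hq hqd => hLσ q hq (by rwa [Nat.card_zpowers] at hqd))
  rw [← cj_def] at hh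
  have hhb : h * b * h⁻¹ ∈ sigmaCore L := hh (conj_mem_cj (mem_zpowers b))
  obtain ⟨L', hL'def⟩ : ∃ L', L' = cj h⁻¹ L := ⟨_, rfl⟩
  have hL' : IsCoatom L' := hL'def ▸ isCoatom_cj hL h⁻¹
  have hbL' : b ∈ sigmaCore L' := by
    rw [hL'def, sigmaCore_cj, mem_cj, inv_inv]; exact hhb
  have hσL' : sigma L' = sigma L := by rw [hL'def, sigma_cj_eq]
  have hnot : ¬ centralizer ({b} : Set G) ≤ L' := by
    intro hle
    have h1 : L' = N := huniq L' hL' hle
    have ho1 : orderOf b ≠ 1 := fun h => hb1 (orderOf_eq_one_iff.mp h)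
    obtain ⟨p, hp, hpb⟩ := Nat.exists_prime_and_dvd ho1
    apply hbσ p hp hpb
    rw [← h1, hσL']
    exact hLσ p hp hpb
  have hsupp : supportR L' b = fittingHallOf N ⊓ centralizer ({b} : Set G) :=
    supportR_eq_of_unique hnot hN hCb huniq
  obtain ⟨N0, ⟨hN0, hCN0⟩, hN0uniq, hσF, _, _, _⟩ := h75 L' hL' b hbL' hb1 hnot
  have hNN0 : N = N0 := hN0uniq N hN hCb
  have haF : a ∈ fittingHallOf N := by
    rw [hNN0, ← hσF, ← hNN0]; exact haN
  have haCb : a ∈ centralizer ({b} : Set G) := by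
    rw [mem_centralizer_iff]
    intro x hx
    rw [Set.mem_singleton_iff] at hx
    subst hx
    exact hab.symm
  refine ⟨L', hL', ?_⟩
  rw [mem_tildeOf]
  refine ⟨b, ⟨hbL', fun h => hb1 (Set.mem_singleton_iff.mp h)⟩, a, ?_, 1, ?_⟩
  · rw [hsupp]; exact ⟨haF, haCb⟩
  · rw [hab]; group

/-- Case B: `C_G(a) ≰ N`. -/
theorem cov_caseB (hG : IsMinSimpleOddOrder G) (h75 : St1375 G) (h32 : St1432 G)
    {N : Subgroup G} (hN : IsCoatom N) {a b : G} (haN : a ∈ sigmaCore N) (ha1 : a ≠ 1)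
    (hab : a * b = b * a)
    (hbσ : ∀ p : ℕ, p.Prime → p ∣ orderOf b → p ∉ sigma N)
    (hCa : ¬ centralizer ({a} : Set G) ≤ N) : Cov (a * b) := by
  classical
  obtain ⟨L, ⟨hL, hCL⟩, hLuniq, hLσF, hRnorm, hcompl, hcomplNL⟩ := h75 N hN a haN ha1 hCa
  obtain ⟨C, hCdef⟩ : ∃ C, C = centralizer ({a} : Set G) := ⟨_, rfl⟩
  rw [← hCdef] at hCL hRnorm hcompl
  obtain ⟨R, hRdef⟩ : ∃ R, R = sigmaCore L ⊓ C := ⟨_, rfl⟩
  rw [← hRdef] at hRnorm hcompl
  have hsupp : supportR N a = R := by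
    rw [supportR_eq_of_unique hCa hL (hCdef ▸ hCL) hLuniq, ← hLσF, hRdef, hCdef]
  have hHallL : IsPiHallOf (sigma L) (sigmaCore L) L := (Cfsg.Agent.S1350.result hG L hL).1
  have hbC : b ∈ C := by
    rw [hCdef, mem_centralizer_iff]
    intro x hx
    rw [Set.mem_singleton_iff] at hx
    subst hx
    exact hab
  obtain ⟨b1, hb1def⟩ : ∃ b1, b1 = piPart (sigma L) b := ⟨_, rfl⟩
  obtain ⟨b2, hb2def⟩ : ∃ b2, b2 = piPart' (sigma L) b := ⟨_, rfl⟩
  obtain ⟨hb12, hb1z, hb2z, hb1π, hb2π⟩ := piPart_spec (sigma L) b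
  rw [← hb1def, ← hb2def] at hb12
  rw [← hb1def] at hb1z hb1π
  rw [← hb2def] at hb2z hb2π
  have hcomm12 : Commute b1 b2 := by
    rw [hb1def, hb2def]; exact commute_piPart_piPart' b
  have hzC : zpowers b ≤ C := zpowers_le.mpr hbC
  have hb1C : b1 ∈ C := hzC hb1z
  have hb2C : b2 ∈ C := hzC hb2z
  -- `b1 ∈ R`
  have hb1R : b1 ∈ R := by
    rw [hRdef]
    refine ⟨?_, hb1C⟩
    have h1 : zpowers b1 ≤ sigmaCore L :=
      Cfsg.Agent.Lib.Helper68.BG1215.le_sigmaCore_of_pi hHallL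
        (zpowers_le.mpr (hCL hb1C))
        (fun p hp hpd => hb1π p hp (by rwa [Nat.card_zpowers] at hpd))
    exact h1 (mem_zpowers b1)
  -- conjugate `b2` into `N ⊓ C`
  have hCtop : C ≠ ⊤ := fun h => hL.1 (top_le_iff.mp (h ▸ hCL))
  haveI : Group.IsSolvable ↥C := Cfsg.Agent.Lib.Helper23.isSolvable_of_ne_top hG hCtop
  have hRle : R ≤ sigmaCore L := by rw [hRdef]; exact inf_le_left
  have hcardC := Cfsg.Agent.Lib.Helper23.card_isComplIn hcompl
  have hrel : (N ⊓ C).relIndex C = Nat.card R := by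
    have h1 := card_mul_relIndex_le (inf_le_right : N ⊓ C ≤ C)
    have hpos : 0 < Nat.card ↥(N ⊓ C) := Nat.card_pos
    exact Nat.eq_of_mul_eq_mul_left hpos (h1.trans hcardC.symm)
  obtain ⟨c, hcC, hcle⟩ := Cfsg.Agent.Lib.Helper68.BG1215.hall_pi_conj_le (K := C) (sigma L)ᶜ
    (H := N ⊓ C) (Y := zpowers b2) inf_le_right
    (fun p hp hpd => by
      have h1 : p ∣ Nat.card ↥(N ⊓ L) :=
        hpd.trans (Subgroup.card_dvd_of_le (inf_le_inf_left N hCL))
      exact Cfsg.Agent.Lib.Helper96.BG127.not_mem_sigma_of_dvd_card_compl hHallL hcomplNL hp h1)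
    (fun p hp hpn hpd => by
      rw [hrel] at hpd
      apply hpn
      exact Cfsg.Agent.Lib.Helper24.BG.mem_sigma_of_dvd_card_sigmaCore L hp
        (hpd.trans (Subgroup.card_dvd_of_le hRle)))
    (zpowers_le.mpr hb2C)
    (fun p hp hpd => hb2π p hp (by rwa [Nat.card_zpowers] at hpd))
  have hca : c * a * c⁻¹ = a := by
    have h1 : a * c = c * a := by
      rw [hCdef] at hcC
      exact mem_centralizer_iff.mp hcC a rfl
    rw [← h1]; group
  obtain ⟨b1', hb1'def⟩ : ∃ b1', b1' = c * b1 * c⁻¹ := ⟨_, rfl⟩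
  obtain ⟨b2', hb2'def⟩ : ∃ b2', b2' = c * b2 * c⁻¹ := ⟨_, rfl⟩
  have hb2'NC : b2' ∈ N ⊓ C := hb2'def ▸ hcle (conj_mem_cj (mem_zpowers b2))
  have hb1'R : b1' ∈ R := by
    rw [hb1'def]
    exact (mem_normalizer_iff.mp (hRnorm hcC) b1).mp hb1R
  have hcomm' : b1' * b2' = b2' * b1' := by
    rw [hb1'def, hb2'def]
    calc c * b1 * c⁻¹ * (c * b2 * c⁻¹) = c * (b1 * b2) * c⁻¹ := by group
      _ = c * (b2 * b1) * c⁻¹ := by rw [hcomm12.eq]
      _ = c * b2 * c⁻¹ * (c * b1 * c⁻¹) := by group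
  have hb1'C : b1' ∈ C := by
    have : R ≤ C := by rw [hRdef]; exact inf_le_right
    exact this hb1'R
  have hab1' : a * b1' = b1' * a := by
    rw [hCdef] at hb1'C
    exact mem_centralizer_iff.mp hb1'C a rfl
  have hab2' : a * b2' = b2' * a := by
    have := hb2'NC.2
    rw [hCdef] at this
    exact mem_centralizer_iff.mp this a rfl
  have hconj : c * (a * b) * c⁻¹ = a * b1' * b2' := by
    rw [← hb12, hb1'def, hb2'def]
    calc c * (a * (b1 * b2)) * c⁻¹ = (c * a * c⁻¹) * (c * b1 * c⁻¹) * (c * b2 * c⁻¹) := by group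
      _ = a * (c * b1 * c⁻¹) * (c * b2 * c⁻¹) := by rw [hca]
  apply cov_of_conj c
  rw [hconj]
  by_cases hb2'1 : b2' = 1
  · rw [hb2'1, mul_one]
    left
    refine ⟨N, hN, ?_⟩
    rw [mem_tildeOf]
    refine ⟨a, ⟨haN, fun h => ha1 (Set.mem_singleton_iff.mp h)⟩, b1', ?_, 1, by group⟩
    rw [hsupp]; exact hb1'R
  · have hσ' : ∀ p : ℕ, p.Prime → p ∣ orderOf b2' → p ∉ sigma N := by
      intro p hp hpd
      rw [hb2'def, orderOf_conj_eq] at hpd
      exact hbσ p hp (hpd.trans (orderOf_dvd_of_mem_zpowers hb2z))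
    have hb2'mem : b2' ∈ N ⊓ centralizer ({a} : Set G) := by rw [← hCdef]; exact hb2'NC
    rcases h32 N hN a haN ha1 b2' hb2'mem hb2'1 hσ' with ⟨_, hCaN⟩ | ⟨_, hL', hCb2, huniq2⟩
    · exact absurd hCaN hCa
    · have hb1'N : b1' ∈ N := by
        apply hCb2
        rw [mem_centralizer_iff]
        intro x hx
        rw [Set.mem_singleton_iff] at hx
        subst hx
        exact hcomm'.symm
      have hb1'1 : b1' = 1 := by
        have h1 : b1' ∈ (N ⊓ L) ⊓ sigmaCore L := ⟨⟨hb1'N, hCL hb1'C⟩, hRle hb1'R⟩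
        rw [hcomplNL.2.2.1, mem_bot] at h1
        exact h1
      rw [hb1'1, mul_one]
      left
      exact cov_tau2 hG h75 hN haN ha1 hb2'1 hab2' hσ' hL' hCb2 huniq2

/-- the core of the covering: `a ∈ N_σ^#`, `b` a `σ(N)'`-element commuting with `a` -/
theorem cov_core (hG : IsMinSimpleOddOrder G) (h75 : St1375 G) (h32 : St1432 G)
    {N : Subgroup G} (hN : IsCoatom N) {a b : G} (haN : a ∈ sigmaCore N) (ha1 : a ≠ 1)
    (hab : a * b = b * a)
    (hbσ : ∀ p : ℕ, p.Prime → p ∣ orderOf b → p ∉ sigma N) : Cov (a * b) := by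
  by_cases hb1 : b = 1
  · subst hb1
    rw [mul_one]
    left
    exact ⟨N, hN, subset_tildeOf N _ ⟨haN, fun h => ha1 (Set.mem_singleton_iff.mp h)⟩⟩
  by_cases hCa : centralizer ({a} : Set G) ≤ N
  · have hbCa : b ∈ centralizer ({a} : Set G) := by
      rw [mem_centralizer_iff]
      intro x hx
      rw [Set.mem_singleton_iff] at hx
      subst hx
      exact hab
    have hbN : b ∈ N ⊓ centralizer ({a} : Set G) := ⟨hCa hbCa, hbCa⟩
    rcases h32 N hN a haN ha1 b hbN hb1 hbσ with ⟨hκ, _⟩ | ⟨_, hL, hCb, huniq⟩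
    · right
      exact ⟨N, hN, a, haN, ha1, b, hbN.1, hb1, hκ, hab, 1, by group⟩
    · left
      exact cov_tau2 hG h75 hN haN ha1 hb1 hab hbσ hL hCb huniq
  · exact cov_caseB hG h75 h32 hN haN ha1 hab hbσ hCa

/-- **The covering**: every non-identity element lies in some `Ñ` or has the `Ẑ`-form. -/
theorem covering (hG : IsMinSimpleOddOrder G) (h75 : St1375 G) (h32 : St1432 G)
    (g : G) (hg1 : g ≠ 1) : Cov g := by
  have ho1 : orderOf g ≠ 1 := fun h => hg1 (orderOf_eq_one_iff.mp h)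
  obtain ⟨p, hp, hpg⟩ := Nat.exists_prime_and_dvd ho1
  have hpG : p ∣ Nat.card G := hpg.trans (orderOf_dvd_natCard g)
  obtain ⟨N0, hN0, hpN0⟩ := (Cfsg.Agent.S1378.result hG).1 p hp hpG
  obtain ⟨a, hadef⟩ : ∃ a, a = piPart (sigma N0) g := ⟨_, rfl⟩
  obtain ⟨b, hbdef⟩ : ∃ b, b = piPart' (sigma N0) g := ⟨_, rfl⟩
  obtain ⟨hab, ha_mem, hb_mem, haπ, hbπ⟩ := piPart_spec (sigma N0) g
  rw [← hadef, ← hbdef] at hab
  rw [← hadef] at ha_mem haπ
  rw [← hbdef] at hb_mem hbπ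
  have hcomm : Commute a b := by
    rw [hadef, hbdef]; exact commute_piPart_piPart' g
  have ha1 : a ≠ 1 := by
    intro h
    rw [h, one_mul] at hab
    have h1 := hbπ p hp (hab ▸ hpg)
    exact h1 hpN0
  have hY1 : zpowers a ≠ ⊥ := by
    rw [Ne, zpowers_eq_bot]; exact ha1
  obtain ⟨h, hh⟩ := Cfsg.Agent.S1425.result hG N0 hN0 (zpowers a) hY1
    (fun q hq hqd => haπ q hq (by rwa [Nat.card_zpowers] at hqd))
  rw [← cj_def] at hh
  have hha : h * a * h⁻¹ ∈ sigmaCore N0 := hh (conj_mem_cj (mem_zpowers a))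
  obtain ⟨N, hNdef⟩ : ∃ N, N = cj h⁻¹ N0 := ⟨_, rfl⟩
  have hN : IsCoatom N := hNdef ▸ isCoatom_cj hN0 h⁻¹
  have haN : a ∈ sigmaCore N := by
    rw [hNdef, sigmaCore_cj, mem_cj, inv_inv]; exact hha
  have hσN : sigma N = sigma N0 := by rw [hNdef, sigma_cj_eq]
  have hbσ : ∀ q : ℕ, q.Prime → q ∣ orderOf b → q ∉ sigma N := by
    intro q hq hqd
    rw [hσN]
    exact hbπ q hq hqd
  rw [← hab]
  exact cov_core hG h75 h32 hN haN ha1 hcomm.eq hbσ

end Cfsg.Agent.Lib.Helper70.BG1379
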