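import Mathlib
import Cfsg.Prelude.Def_OddOrderLocal
import Cfsg.Agent.Lib.Helper70.BG1379b

/-!
S1379 (the partition of the non-identity elements): from the `Ẑ`-form to `Ẑ`, and the assembly
`s1379_of` of the statement from the verbatim statements of S1433, S1375, S1432, S1430 (clause 1),
S1431 (clause a), S1366, S1367, S1434 (clauses 3, 6) and the existence of sigma-decompositions.
-/

set_option autoImplicit false
set_option linter.style.haveILetI false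
set_option linter.unusedSectionVars false
set_option linter.unusedVariables false

universe u

namespace Cfsg.Agent.Lib.Helper70.BG1379

open Subgroup Cfsg
open Cfsg.Agent.Lib.Helper33
open Cfsg.Agent.Lib.Helper50.Tilde
open Cfsg.Agent.Lib.Helper70.BG1369
open Cfsg.Agent.Lib.Helper67

variable {G : Type u} [Group G] [Finite G]

/-- an element `a k` (`a ∈ M_σ^#`, `k ≠ 1` a `κ(M)`-element of `C_M(a)`) is `M`-conjugate into `Ẑ` -/
theorem zhat_of (hG : IsMinSimpleOddOrder G) (h30a : St1430a G) {M K : Subgroup G}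
    (hM : IsCoatom M) (hK : IsPiHallOf (kappa M) K M) (hK1 : K ≠ ⊥)
    {a k : G} (ha : a ∈ sigmaCore M) (ha1 : a ≠ 1) (hk : k ∈ M) (hk1 : k ≠ 1)
    (hkκ : ∀ p : ℕ, p.Prime → p ∣ orderOf k → p ∈ kappa M) (hak : a * k = k * a) :
    ∃ m ∈ M, m * (a * k) * m⁻¹ ∈ ((↑(K ⊔ (sigmaCore M ⊓ centralizer (K : Set G))) : Set G) \
      ((K : Set G) ∪ ↑(sigmaCore M ⊓ centralizer (K : Set G)))) := by
  have hMtop : M ≠ ⊤ := hM.1
  haveI : Group.IsSolvable ↥M := Cfsg.Agent.Lib.Helper23.isSolvable_of_ne_top hG hMtop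
  obtain ⟨m, hmM, hmle⟩ := Cfsg.Agent.Lib.Helper68.BG1215.hall_pi_conj_le (K := M) (kappa M)
    (H := K) (Y := zpowers k) hK.1 hK.2.1 hK.2.2 (zpowers_le.mpr hk)
    (fun p hp hpd => hkκ p hp (by rwa [Nat.card_zpowers] at hpd))
  obtain ⟨k', hk'def⟩ : ∃ k', k' = m * k * m⁻¹ := ⟨_, rfl⟩
  obtain ⟨a', ha'def⟩ : ∃ a', a' = m * a * m⁻¹ := ⟨_, rfl⟩
  have hk'K : k' ∈ K := hk'def ▸ hmle (conj_mem_cj (mem_zpowers k))
  have hk'1 : k' ≠ 1 := hk'def ▸ conj_ne_one hk1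
  have ha'σ : a' ∈ sigmaCore M := by
    have h1 : a' ∈ sigmaCore (cj m M) := by
      rw [ha'def, sigmaCore_cj]; exact conj_mem_cj ha
    rwa [cj_eq_self_of_mem hmM] at h1
  have ha'1 : a' ≠ 1 := ha'def ▸ conj_ne_one ha1
  have hcomm : a' * k' = k' * a' := by
    rw [ha'def, hk'def]
    calc m * a * m⁻¹ * (m * k * m⁻¹) = m * (a * k) * m⁻¹ := by group
      _ = m * (k * a) * m⁻¹ := by rw [hak]
      _ = m * k * m⁻¹ * (m * a * m⁻¹) := by group
  have ha'Ks : a' ∈ sigmaCore M ⊓ centralizer (K : Set G) := by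
    rw [← h30a M hM K hK hK1 k' hk'K hk'1]
    have h0 : a' ∈ centralizer ({k'} : Set G) := by
      rw [mem_centralizer_iff]
      intro x hx
      rw [Set.mem_singleton_iff] at hx
      subst hx
      exact hcomm.symm
    exact ⟨ha'σ, h0⟩
  refine ⟨m, hmM, ?_⟩
  have heq : m * (a * k) * m⁻¹ = a' * k' := by rw [ha'def, hk'def]; group
  rw [heq]
  refine ⟨?_, ?_⟩
  · exact mul_mem (mem_sup_right ha'Ks) (mem_sup_left hk'K)
  · rintro (h | h)
    · have h1 : a' ∈ K := by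
        have h0 : a' = (a' * k') * k'⁻¹ := by group
        rw [h0]; exact mul_mem h (inv_mem hk'K)
      have h2 : a' ∈ K ⊓ sigmaCore M := ⟨h1, ha'σ⟩
      rw [hall_kappa_inf_sigmaCore hK, mem_bot] at h2
      exact ha'1 h2
    · have h1 : k' ∈ sigmaCore M ⊓ centralizer (K : Set G) := by
        have h0 : k' = a'⁻¹ * (a' * k') := by group
        rw [h0]; exact mul_mem (inv_mem ha'Ks) h
      have h2 : k' ∈ K ⊓ sigmaCore M := ⟨hk'K, h1.1⟩
      rw [hall_kappa_inf_sigmaCore hK, mem_bot] at h2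
      exact hk'1 h2

/-- the same for a conjugate `cMc⁻¹` -/
theorem zhat_of_cj (hG : IsMinSimpleOddOrder G) (h30a : St1430a G) {M K : Subgroup G}
    (hM : IsCoatom M) (hK : IsPiHallOf (kappa M) K M) (hK1 : K ≠ ⊥)
    {c a k : G} (ha : a ∈ sigmaCore (cj c M)) (ha1 : a ≠ 1) (hk : k ∈ cj c M) (hk1 : k ≠ 1)
    (hkκ : ∀ p : ℕ, p.Prime → p ∣ orderOf k → p ∈ kappa (cj c M)) (hak : a * k = k * a) :
    ∃ y : G, ∃ z ∈ ((↑(K ⊔ (sigmaCore M ⊓ centralizer (K : Set G))) : Set G) \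
      ((K : Set G) ∪ ↑(sigmaCore M ⊓ centralizer (K : Set G)))), a * k = y * z * y⁻¹ := by
  obtain ⟨a0, ha0def⟩ : ∃ a0, a0 = c⁻¹ * a * c := ⟨_, rfl⟩
  obtain ⟨k0, hk0def⟩ : ∃ k0, k0 = c⁻¹ * k * c := ⟨_, rfl⟩
  have ha0 : a0 ∈ sigmaCore M := by
    rw [sigmaCore_cj, mem_cj] at ha
    rw [ha0def]; exact ha
  have hk0 : k0 ∈ M := by rw [hk0def]; exact mem_cj.mp hk
  have ha01 : a0 ≠ 1 := by
    have h1 := conj_ne_one (c := c⁻¹) ha1
    rw [inv_inv] at h1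
    rw [ha0def]; exact h1
  have hk01 : k0 ≠ 1 := by
    have h1 := conj_ne_one (c := c⁻¹) hk1
    rw [inv_inv] at h1
    rw [hk0def]; exact h1
  have hord : orderOf k0 = orderOf k := by
    have h1 := orderOf_conj_eq c⁻¹ k
    rw [inv_inv] at h1
    rw [hk0def]; exact h1
  have hκ0 : ∀ p : ℕ, p.Prime → p ∣ orderOf k0 → p ∈ kappa M := by
    intro p hp hpd
    rw [← kappa_cj_eq c M]
    exact hkκ p hp (hord ▸ hpd)
  have hcomm0 : a0 * k0 = k0 * a0 := by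
    rw [ha0def, hk0def]
    calc c⁻¹ * a * c * (c⁻¹ * k * c) = c⁻¹ * (a * k) * c := by group
      _ = c⁻¹ * (k * a) * c := by rw [hak]
      _ = c⁻¹ * k * c * (c⁻¹ * a * c) := by group
  obtain ⟨m, hmM, hz⟩ := zhat_of hG h30a hM hK hK1 ha0 ha01 hk0 hk01 hκ0 hcomm0
  refine ⟨c * m⁻¹, m * (a0 * k0) * m⁻¹, hz, ?_⟩
  rw [ha0def, hk0def]; group

/-- from the `Ẑ`-form to a conjugate of an element of `Ẑ` -/
theorem zform_to_zhat (hG : IsMinSimpleOddOrder G) (h30a : St1430a G)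
    (h66 : St1366 G) (h67 : St1367 G) (h34 : St1434 G) (hDec : StDec G)
    (M K U : Subgroup G) (hM : IsCoatom M) (hKU : Cfsg.IsSigmaDecomposition M K U) (hK1 : K ≠ ⊥)
    {g : G} (hZ : ZForm g) :
    ∃ y : G, ∃ z ∈ ((↑(K ⊔ (Cfsg.sigmaCore M ⊓ Subgroup.centralizer (K : Set G))) : Set G) \ ((K : Set G) ∪ ↑(Cfsg.sigmaCore M ⊓ Subgroup.centralizer (K : Set G)))), g = y * z * y⁻¹ := by
  obtain ⟨H, hH, a, haH, ha1, k, hkH, hk1, hkκ, hak, y0, hg⟩ := hZ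
  obtain ⟨Mstar, ⟨hMstar, hKst, hKstH⟩, _⟩ := h66 M hM K U hKU hK1
  have ho1 : orderOf k ≠ 1 := fun h => hk1 (orderOf_eq_one_iff.mp h)
  obtain ⟨p, hp, hpd⟩ := Nat.exists_prime_and_dvd ho1
  have hpκ : p ∈ kappa H := hkκ p hp hpd
  obtain ⟨c, hc⟩ := conj_of_kappa_nonempty h66 h67 h34 hDec M hM K U hKU hK1 Mstar hMstar hKst
    hKstH H hH ⟨p, hpκ⟩
  rcases hc with hc | hc
  · rw [← cj_def] at hc
    subst hc
    obtain ⟨y, z, hz, hyz⟩ := zhat_of_cj hG h30a hM hKU.hall hK1 haH ha1 hkH hk1 hkκ hak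
    exact ⟨y0 * y, z, hz, by rw [hg, hyz]; group⟩
  · rw [← cj_def] at hc
    subst hc
    have hpκ' : p ∈ kappa Mstar := by rwa [kappa_cj_eq] at hpκ
    have hKs1 : sigmaCore M ⊓ centralizer (K : Set G) ≠ ⊥ := by
      intro h
      have hidx := hKstH.2.2 p hpκ'.1 hpκ'
      rw [h, Subgroup.relIndex_bot_left] at hidx
      exact hidx hpκ'.2.1
    obtain ⟨y, z, hz, hyz⟩ := zhat_of_cj hG h30a hMstar hKstH hKs1 haH ha1 hkH hk1 hkκ hak
    refine ⟨y0 * y, z, ?_, by rw [hg, hyz]; group⟩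
    have hcoe : ((sigmaCore M : Set G) ⊓ (centralizer (K : Set G) : Set G)) =
        ((sigmaCore M ⊓ centralizer (K : Set G) : Subgroup G) : Set G) :=
      (Subgroup.coe_inf _ _).symm
    have hK' : sigmaCore Mstar ⊓
        centralizer ((sigmaCore M ⊓ centralizer (K : Set G) : Subgroup G) : Set G) = K := by
      rw [← hcoe]; exact hKst.symm
    rw [hK', sup_comm, Set.union_comm] at hz
    exact hz

/-- **S1379**, armed on the statements it uses. -/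
theorem s1379_of (hG : IsMinSimpleOddOrder G) (h33 : St1433 G) (h75 : St1375 G) (h32 : St1432 G)
    (h30a : St1430a G) (h31 : St1431a G) (h66 : St1366 G) (h67 : St1367 G) (h34 : St1434 G)
    (hDec : StDec G) :
    (∀ M N : Subgroup G, IsCoatom M → IsCoatom N → (∀ g : G, N ≠ M.map (MulAut.conj g).toMonoidHom) → Cfsg.tildeOf M ((Cfsg.sigmaCore M : Set G) \ {1}) ∩ Cfsg.tildeOf N ((Cfsg.sigmaCore N : Set G) \ {1}) = ∅) ∧
      ((∀ M : Subgroup G, IsCoatom M → Cfsg.kappa M = ∅) →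
        ∀ g : G, g ≠ 1 → ∃ M : Subgroup G, IsCoatom M ∧ g ∈ Cfsg.tildeOf M ((Cfsg.sigmaCore M : Set G) \ {1})) ∧
      ∀ (M K U : Subgroup G), IsCoatom M → Cfsg.IsSigmaDecomposition M K U → K ≠ ⊥ →
        (∀ g : G, g ≠ 1 → (∃ N : Subgroup G, IsCoatom N ∧ g ∈ Cfsg.tildeOf N ((Cfsg.sigmaCore N : Set G) \ {1})) ∨
            ∃ y : G, ∃ z ∈ ((↑(K ⊔ (Cfsg.sigmaCore M ⊓ Subgroup.centralizer (K : Set G))) : Set G) \ ((K : Set G) ∪ ↑(Cfsg.sigmaCore M ⊓ Subgroup.centralizer (K : Set G)))), g = y * z * y⁻¹) ∧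
        ∀ N : Subgroup G, IsCoatom N → ∀ y : G, ∀ z ∈ ((↑(K ⊔ (Cfsg.sigmaCore M ⊓ Subgroup.centralizer (K : Set G))) : Set G) \ ((K : Set G) ∪ ↑(Cfsg.sigmaCore M ⊓ Subgroup.centralizer (K : Set G)))), y * z * y⁻¹ ∉ Cfsg.tildeOf N ((Cfsg.sigmaCore N : Set G) \ {1}) := by
  refine ⟨fun M N hM hN hnc => part1 hG h33 M N hM hN hnc, ?_, ?_⟩
  · intro hκ g hg1
    rcases covering hG h75 h32 g hg1 with h | ⟨H, hH, a, ha, ha1, k, hk, hk1, hkκ, _⟩
    · exact h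
    · exfalso
      have ho1 : orderOf k ≠ 1 := fun h => hk1 (orderOf_eq_one_iff.mp h)
      obtain ⟨p, hp, hpd⟩ := Nat.exists_prime_and_dvd ho1
      have h1 := hkκ p hp hpd
      rw [hκ H hH] at h1
      exact h1
  · intro M K U hM hKU hK1
    refine ⟨fun g hg1 => ?_, fun N hN y z hz =>
      part3b hG h66 h67 h34 h31 M K U hM hKU hK1 N hN y z hz⟩
    rcases covering hG h75 h32 g hg1 with h | hZ
    · left; exact h
    · right
      exact zform_to_zhat hG h30a h66 h67 h34 hDec M K U hM hKU hK1 hZ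

end Cfsg.Agent.Lib.Helper70.BG1379
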