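import Mathlib
import Cfsg.Prelude.Def_OddOrderLocal
import Cfsg.Agent.Lib.Helper70.BG1379c
import Cfsg.Agent.Lib.Helper10.BG145c

/-!
The part of S1375 used by S1379 (`St1375`), unconditionally, from helper10's Lemma T context
(`Ctx`, `exists_ctx`) and `uniq75`.
-/

set_option autoImplicit false
set_option linter.style.haveILetI false
set_option linter.unusedSectionVars false
set_option linter.unusedVariables false

universe u

namespace Cfsg.Agent.Lib.Helper70.BG1379

open Subgroup Cfsg
open Cfsg.Agent.Lib.Helper10.BG144T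

variable {G : Type u} [Group G] [Finite G]

/-- the first six conjuncts of S1375 -/
theorem st1375 (hG : IsMinSimpleOddOrder G) : St1375 G := by
  intro M hM x hx hx1 hCM
  obtain ⟨N, ⟨hN, hCN⟩, huniq, hσF⟩ := Cfsg.Agent.Lib.Helper10.BG145.uniq75 hG M hM x hx hx1 hCM
  obtain ⟨L, c⟩ := exists_ctx hG hM hx hx1
  have hLN : L = N := huniq L c.hL c.hCL
  subst hLN
  have hne : L ≠ M := fun h => hCM (h ▸ c.hCL)
  have hxM : x ∈ M := sigmaCore_le' M hx
  exact ⟨L, ⟨hN, hCN⟩, huniq, hσF, c.le_normalizer, c.isComplIn hne hxM,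
    (c.hcase.resolve_left hne).2.1⟩

end Cfsg.Agent.Lib.Helper70.BG1379
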