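import Cfsg.Agent.Lib.Helper70.BG14E
import Cfsg.Agent.S1417
import Cfsg.Agent.S1418
import Cfsg.Agent.S1419
import Cfsg.Agent.Lib.Helper23.BadTau2Main
import Cfsg.Agent.Lib.Helper24.GoodPointB

/-!
`StmtB` (the form of BG 13.12 consumed by STEP A) from helper24's LEMMA N (`StmtN`):
the abelian-Sylow case is done here by the eigenspace argument, the nonabelian case is reduced to
LEMMA N by S1419.
-/

set_option autoImplicit false
set_option linter.style.haveILetI false
set_option linter.unusedSectionVars false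
set_option linter.unusedVariables false

universe u

namespace Cfsg.Agent.Lib.Helper70.BG14

open Subgroup Cfsg
open Cfsg.Agent.Lib.Helper33
open scoped commutatorElement

variable {G : Type u} [Group G] [Finite G]

/-- helper24's LEMMA N (nonabelian case of BG 13.12), as a proposition. -/
def StmtN (G : Type u) [Group G] : Prop :=
  ∀ (M E A P : Subgroup G) (p q : ℕ) [Fact p.Prime] [Fact q.Prime], IsCoatom M →
    IsComplIn E (sigmaCore M) M → q ∈ tau2 M →
    (∀ S : Sylow q G, ¬ IsMulCommutative (S : Subgroup G)) → A ≤ E → IsElementaryAbelian q A →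
    Nat.card A = q ^ 2 → p ∈ tau1 M → P ≤ E → Nat.card P = p →
    P ≤ centralizer ((A ⊓ centralizer (sigmaCore M : Set G) : Subgroup G) : Set G) →
    ¬ P ≤ centralizer (A : Set G) → False

theorem inf_eq_bot_or_eq_of_card_prime {q : ℕ} (hq : q.Prime) {H K : Subgroup G}
    (hH : Nat.card H = q) (hK : Nat.card K = q) : H ⊓ K = ⊥ ∨ H = K := by
  have hd : Nat.card ↥(H ⊓ K) ∣ q := hH ▸ Subgroup.card_dvd_of_le inf_le_left
  rcases (Nat.dvd_prime hq).mp hd with h | h
  · left; exact Subgroup.card_eq_one.mp h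
  · right
    have h1 : H ⊓ K = H := Subgroup.eq_of_le_of_card_ge inf_le_left (by rw [h, hH])
    have h2 : H ⊓ K = K := Subgroup.eq_of_le_of_card_ge inf_le_right (by rw [h, hK])
    exact h1.symm.trans h2

/-- an element normalizing every subgroup of the elementary abelian group `A` and centralizing a
nontrivial element of `A` centralizes `A`. -/
theorem mem_centralizer_of_normalizes_all {q : ℕ} [hq : Fact q.Prime] {A : Subgroup G}
    (hAc : ∀ a ∈ A, ∀ b ∈ A, a * b = b * a) (hAe : ∀ a ∈ A, a ^ q = 1) {a₀ : G} (ha₀ : a₀ ∈ A)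
    (ha₀1 : a₀ ≠ 1) {x : G} (hxa : x * a₀ = a₀ * x)
    (hall : ∀ ℓ : Subgroup G, ℓ ≤ A → x ∈ normalizer (ℓ : Set G)) :
    x ∈ centralizer (A : Set G) := by
  rw [mem_centralizer_iff]
  intro b hb
  by_cases hb0 : b ∈ zpowers a₀
  · obtain ⟨k, rfl⟩ := mem_zpowers_iff.mp hb0
    exact ((Commute.zpow_right (show Commute x a₀ from hxa) k).eq).symm
  · have hb1 : b ≠ 1 := fun h => hb0 (h ▸ one_mem _)
    have hcz : ∀ {c : G}, c ∈ A → c ≠ 1 → Nat.card (zpowers c) = q := by
      intro c hc hc1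
      rw [Nat.card_zpowers]
      exact orderOf_eq_prime (hAe c hc) hc1
    have hab : a₀ * b ∈ A := A.mul_mem ha₀ hb
    have hab1 : a₀ * b ≠ 1 := by
      intro h
      apply hb0
      have : b = a₀⁻¹ := eq_inv_of_mul_eq_one_right h
      rw [this]
      exact (zpowers a₀).inv_mem (mem_zpowers a₀)
    have hbA : zpowers b ≤ A := zpowers_le.mpr hb
    have habA : zpowers (a₀ * b) ≤ A := zpowers_le.mpr hab
    have hw1 : x * b * x⁻¹ * b⁻¹ ∈ zpowers b :=
      (zpowers b).mul_mem ((mem_normalizer_iff.mp (hall _ hbA) b).mp (mem_zpowers b))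
        ((zpowers b).inv_mem (mem_zpowers b))
    have hw2 : x * b * x⁻¹ * b⁻¹ ∈ zpowers (a₀ * b) := by
      have h1 : x * (a₀ * b) * x⁻¹ * (a₀ * b)⁻¹ ∈ zpowers (a₀ * b) :=
        (zpowers (a₀ * b)).mul_mem
          ((mem_normalizer_iff.mp (hall _ habA) (a₀ * b)).mp (mem_zpowers _))
          ((zpowers (a₀ * b)).inv_mem (mem_zpowers _))
      have h2 : x * (a₀ * b) * x⁻¹ * (a₀ * b)⁻¹ = x * b * x⁻¹ * b⁻¹ := by
        have hcomm : a₀ * (x * b * x⁻¹ * b⁻¹) = (x * b * x⁻¹ * b⁻¹) * a₀ :=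
          hAc a₀ ha₀ _ (hbA hw1)
        calc x * (a₀ * b) * x⁻¹ * (a₀ * b)⁻¹ = (x * a₀) * b * x⁻¹ * b⁻¹ * a₀⁻¹ := by group
          _ = (a₀ * x) * b * x⁻¹ * b⁻¹ * a₀⁻¹ := by rw [hxa]
          _ = a₀ * (x * b * x⁻¹ * b⁻¹) * a₀⁻¹ := by group
          _ = (x * b * x⁻¹ * b⁻¹) * a₀ * a₀⁻¹ := by rw [hcomm]
          _ = x * b * x⁻¹ * b⁻¹ := by group
      rwa [h2] at h1
    rcases inf_eq_bot_or_eq_of_card_prime hq.out (hcz hb hb1) (hcz hab hab1) with h | h
    · have hw : x * b * x⁻¹ * b⁻¹ ∈ zpowers b ⊓ zpowers (a₀ * b) := ⟨hw1, hw2⟩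
      rw [h, mem_bot] at hw
      have : x * b = b * x := by
        calc x * b = (x * b * x⁻¹ * b⁻¹) * (b * x) := by group
          _ = b * x := by rw [hw, one_mul]
      exact this.symm
    · exfalso
      apply hb0
      have h1 : a₀ * b ∈ zpowers b := h ▸ mem_zpowers (a₀ * b)
      have h2 : a₀ ∈ zpowers b := by
        have := (zpowers b).mul_mem h1 ((zpowers b).inv_mem (mem_zpowers b))
        rwa [mul_inv_cancel_right] at this
      have h3 : zpowers a₀ = zpowers b :=
        Subgroup.eq_of_le_of_card_ge (zpowers_le.mpr h2) (by rw [hcz ha₀ ha₀1, hcz hb hb1])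
      rw [h3]
      exact mem_zpowers b

theorem stmtB_of (hG : IsMinSimpleOddOrder G) (hN : StmtN G) : StmtB G := by
  intro M E A X P p q hpF hqF hM hE hq hAE hAe hAc hXA hXc hNX hp hPE hPc hPX hPA
  obtain ⟨⟨hEN, hall⟩, ⟨hCA, hMN, hnN⟩, h18c⟩ :=
    Cfsg.Agent.S1418.result hG M hM E hE q hq A ⟨hAE, hAe, hAc⟩
  have hEM : E ≤ M := hE.1
  have hXE : X ≤ E := hXA.trans hAE
  have hpp : p.Prime := hpF.out
  have hqp : q.Prime := hqF.out
  by_cases hS : ∀ S : Sylow q G, ¬ IsMulCommutative (S : Subgroup G)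
  · -- nonabelian Sylow `q`-subgroups
    obtain ⟨_, _, h19⟩ := Cfsg.Agent.S1419.result hG M hM E hE q hq hS A ⟨hAE, hAe, hAc⟩
    have hXA0 : X = A ⊓ centralizer (sigmaCore M : Set G) := by
      by_contra hne
      exact (h19 X hXE hXc hne).2 ((centralizer_le_normalizer _).trans hNX)
    exact hN M E A P p q hM hE hq hS hAE hAe hAc hp hPE hPc (hXA0 ▸ hPX) hPA
  · -- abelian Sylow `q`-subgroups
    push Not at hS
    obtain ⟨S, hSab⟩ := hS
    have hAcomm := Cfsg.Agent.Lib.Helper10.elemAb_comm hAe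
    have hAq : IsPGroup q A := IsPGroup.of_card (n := 2) hAc
    obtain ⟨Q, hAQ⟩ := hAq.exists_le_sylow
    obtain ⟨g, hg⟩ := sylow_exists_cj S Q
    have hSc := isMulCommutative_iff_of_setLike.mp hSab
    have hQab : ∀ x ∈ (Q : Subgroup G), ∀ y ∈ (Q : Subgroup G), x * y = y * x := by
      intro x hx y hy
      rw [← hg] at hx hy
      obtain ⟨s, hs, rfl⟩ := mem_cj'.mp hx
      obtain ⟨t, ht, rfl⟩ := mem_cj'.mp hy
      have hst : s * t = t * s := hSc s hs t ht
      calc g * s * g⁻¹ * (g * t * g⁻¹) = g * (s * t) * g⁻¹ := by group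
        _ = g * (t * s) * g⁻¹ := by rw [hst]
        _ = g * t * g⁻¹ * (g * s * g⁻¹) := by group
    have hQcA : (Q : Subgroup G) ≤ centralizer (A : Set G) := by
      intro x hx
      rw [mem_centralizer_iff]
      intro a ha
      exact hQab a (hAQ ha) x hx
    have hQE : (Q : Subgroup G) ≤ E := by
      intro x hx
      have := hCA (hQcA hx)
      rwa [hMN] at this
    have hQM : (Q : Subgroup G) ≤ M := hQE.trans hEM
    obtain ⟨Q₀, hQ₀⟩ := Cfsg.Agent.Lib.Helper32.BG12.exists_sylow_map_ge (M := M) hQM Q.isPGroup'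
    obtain ⟨_, h17b, _⟩ := Cfsg.Agent.S1417.result hG M hM q hq A ⟨hAE.trans hEM, hAe, hAc⟩
    obtain ⟨_, h17b2⟩ := h17b Q₀
    obtain ⟨hΩ, _⟩ := h17b2 (hAQ.trans hQ₀)
    have hΩQ : ∀ x ∈ (Q : Subgroup G), x ^ q = 1 → x ∈ A :=
      fun x hx hxq => (hΩ x (hQ₀ hx)).mp hxq
    have hNQA : normalizer ((Q : Subgroup G) : Set G) ≤ normalizer (A : Set G) := by
      intro n hn
      apply Cfsg.Agent.Lib.Helper24.GoodPoint.mem_normalizer_of_conj_mem
      intro a ha
      apply hΩQ
      · exact (mem_normalizer_iff.mp hn a).mp (hAQ ha)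
      · rw [conj_pow, hAe.2 a ha]; group
    have hQ1 : (Q : Subgroup G) ≠ ⊥ := by
      intro h
      have hA1 : A = ⊥ := eq_bot_iff.mpr (h ▸ hAQ)
      rw [hA1, Subgroup.card_bot] at hAc
      have := Nat.one_lt_pow (n := 2) two_ne_zero hqp.one_lt
      omega
    have hcomm := Cfsg.Agent.Lib.Helper24.GoodPoint.commutator_mem_centralizer hG Q hQ1 hAcomm
      hAe.2 hAc hQcA hNQA
    have hEQ : E ≤ normalizer ((Q : Subgroup G) : Set G) :=
      Cfsg.Agent.Lib.Helper23.Bad.stmtAb hG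
        (fun M hM p _ hp A hA => Cfsg.Agent.S1417.result hG M hM p hp A hA)
        (fun M hM E hE p _ hp A hA => Cfsg.Agent.S1418.result hG M hM E hE p hp A hA)
        M E hM hE q hq Q hQE
    have hpq : p ≠ q := by
      rintro rfl
      exact hq.2.2.2 hp.2.2.2.2
    obtain ⟨x, hxP, hx1⟩ : ∃ x ∈ P, x ≠ 1 := by
      by_contra hcon
      push Not at hcon
      have : P = ⊥ := (Subgroup.eq_bot_iff_forall P).mpr hcon
      rw [this, Subgroup.card_bot] at hPc
      exact hpp.one_lt.ne hPc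
    have hxA : x ∉ centralizer (A : Set G) := by
      intro hxc
      apply hPA
      intro y hy
      have htop := zpowers_eq_top_of_prime_card (G := ↥P) hPc (g := ⟨x, hxP⟩)
        (by intro h; exact hx1 (congrArg Subtype.val h))
      have hmem : (⟨y, hy⟩ : ↥P) ∈ zpowers (⟨x, hxP⟩ : ↥P) := htop ▸ mem_top _
      obtain ⟨k, hk⟩ := mem_zpowers_iff.mp hmem
      have hyk : y = x ^ k := by
        have := congrArg Subtype.val hk
        simpa using this.symm
      rw [hyk]
      exact zpow_mem hxc k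
    have hxo : orderOf x = p := by
      have h1 : orderOf x ∣ p := by
        have := Subgroup.orderOf_dvd_natCard P hxP
        rwa [hPc] at this
      rcases (Nat.dvd_prime hpp).mp h1 with h | h
      · exact absurd (orderOf_eq_one_iff.mp h) hx1
      · exact h
    have hxcop : (orderOf x).Coprime q := by
      rw [hxo]
      exact (Nat.coprime_primes hpp hqp).mpr hpq
    have hxN : x ∈ normalizer ((Q : Subgroup G) : Set G) := hEQ (hPE hxP)
    have hxX : x ∈ normalizer (X : Set G) := (centralizer_le_normalizer _) (hPX hxP)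
    have hns : ∃ ℓ' : Subgroup G, ℓ' ≤ A ∧ x ∉ normalizer (ℓ' : Set G) := by
      by_contra hcon
      push Not at hcon
      apply hxA
      obtain ⟨a₀, ha₀X, ha₀1⟩ : ∃ a ∈ X, a ≠ 1 := by
        by_contra hcon2
        push Not at hcon2
        have : X = ⊥ := (Subgroup.eq_bot_iff_forall X).mpr hcon2
        rw [this, Subgroup.card_bot] at hXc
        exact hqp.one_lt.ne hXc
      have hxa : x * a₀ = a₀ * x := (mem_centralizer_iff.mp (hPX hxP) a₀ ha₀X).symm
      exact mem_centralizer_of_normalizes_all hAcomm hAe.2 (hXA ha₀X) ha₀1 hxa hcon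
    have hNodd : Odd (Nat.card (normalizer ((Q : Subgroup G) : Set G))) :=
      Cfsg.Agent.Lib.Helper23.odd_card_subgroup hG _
    obtain ⟨_, _, _, _, hNX', _⟩ := Cfsg.Agent.Lib.Helper24.GoodPoint.normalizes_both A
      (normalizer ((Q : Subgroup G) : Set G)) hAcomm hAe.2 hAc hNQA hcomm hNodd x hxN hxcop X hXA
      hXc hxX hns
    have hQidx : ¬ q ∣ (Q : Subgroup G).relIndex (centralizer (A : Set G)) := by
      intro hd
      apply Q.not_dvd_index
      rw [← Subgroup.relIndex_mul_index hQcA]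
      exact Dvd.dvd.mul_right hd _
    apply hnN
    intro l hl
    obtain ⟨k, hk, n, hn, hlkn⟩ := frattini_mul (q := q) (L := normalizer (A : Set G))
      (K := centralizer (A : Set G)) (A := (Q : Subgroup G)) (centralizer_le_normalizer _)
      (Cfsg.Agent.Lib.Helper24.Tau2.normalizer_le_normalizer_centralizer A) hQcA Q.isPGroup'
      hQidx hl
    apply hNX
    rw [hlkn]
    apply mul_mem
    · apply Cfsg.Agent.Lib.Helper24.GoodPoint.mem_normalizer_of_conj_mem
      intro b hb
      have h1 : b * k = k * b := mem_centralizer_iff.mp hk b (hXA hb)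
      have h2 : k * b * k⁻¹ = b := by rw [← h1, mul_inv_cancel_right]
      rw [h2]; exact hb
    · exact hNX' hn.2

end Cfsg.Agent.Lib.Helper70.BG14
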