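import Cfsg.Agent.Lib.Helper70.BG14E
import Cfsg.Agent.Lib.Helper32.BG142Defs
import Cfsg.Agent.Lib.Helper23.BG1310Defs

/-!
Wrappers: the collapse (0) and STEP A in the shapes used by the 14.2 / 13.10 teams.
-/

set_option autoImplicit false
set_option linter.unusedSectionVars false
set_option linter.unusedVariables false
set_option linter.style.haveILetI false

universe u

namespace Cfsg.Agent.Lib.Helper70.BG14

open Subgroup Cfsg

variable {G : Type u} [Group G] [Finite G]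

/-- PIECE E0 of the 14.2 plan, exact shape. -/
theorem inf_isComplIn_of_normalizer_le (hG : IsMinSimpleOddOrder G)
    (h139 : Cfsg.Agent.Lib.Helper32.BG142.SigmaDisj G) {M N : Subgroup G} (hM : IsCoatom M)
    (hN : IsCoatom N) (hne : N ≠ M) {q : ℕ} [Fact q.Prime] (hq : q ∈ sigma M) {C : Subgroup G}
    (hCq : IsPGroup q C) (hC1 : C ≠ ⊥) (hCM : C ≤ M) (hNC : normalizer (C : Set G) ≤ N) :
    q ∈ tau2 N ∧ IsComplIn (M ⊓ N) (sigmaCore N) N ∧ sigmaCore N ⊓ M = ⊥ := by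
  obtain ⟨h1, h2, _⟩ := tau2_of_sigma_normalizer hG h139 hM hN hne hq hCq hC1 hCM hNC
  refine ⟨h1, h2, ?_⟩
  rw [eq_bot_iff, ← h2.2.2.1]
  intro x hx
  exact ⟨⟨hx.2, h2.2.1 hx.1⟩, hx.1⟩

/-- Lemma E in helper23's shape. -/
theorem stmtE_of (hG : IsMinSimpleOddOrder G)
    (h78 : Cfsg.Agent.Lib.Helper23.BG1310.Stmt1378b G) (hB : StmtB G) :
    Cfsg.Agent.Lib.Helper23.BG1310.StmtE G := by
  intro M H hM hH p hp X hX hXM hY hNX
  have hpp : p.Prime := by
    rcases hp with h | h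
    · exact h.1
    · exact h.1
  haveI : Fact p.Prime := ⟨hpp⟩
  exact stepA hG h78 hB hM hH hp hX hXM hY hNX

/-- STEP A in helper32's shape. -/
theorem stepA_of (hG : IsMinSimpleOddOrder G)
    (h139 : Cfsg.Agent.Lib.Helper32.BG142.SigmaDisj G) (hB : StmtB G) :
    Cfsg.Agent.Lib.Helper32.BG142.StepA G := by
  intro M hM X hXM hX hY L hL hNX
  have hpp : (Nat.card X).Prime := hX.1
  haveI : Fact (Nat.card X).Prime := ⟨hpp⟩
  exact stepA hG h139 hB hM hL (Or.inl hX) rfl hXM hY hNX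

end Cfsg.Agent.Lib.Helper70.BG14
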