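import Cfsg.Agent.Lib.Helper22.CgDefs
import Cfsg.Agent.Lib.Helper90.CgCG1
import Cfsg.Agent.Lib.Helper70.CgCG2

/-! # Cg hive (S4257, helper22), leaf CG2 (absorption). -/

set_option autoImplicit false

namespace Cfsg.Agent.Lib.Helper22.Cg

open Subgroup

universe u

/-- CG2. Absorption (uses CG1a, CG1b): the class of `x` is stable under right multiplication
by `y^g (y^h)⁻¹`. -/
theorem cg2 {G : Type u} [Group G] [Finite G] (x y : G) (hc : (cs x).Coprime (cs y))
    (hlt : cs y < cs x)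
    (hC : ∀ z : G, cs z ∣ cs x * cs y → cs z ∣ cs x ∨ cs z ∣ cs y) (g h k : G) :
    ∃ k' : G, (k * x * k⁻¹) * ((g * y * g⁻¹) * (h * y * h⁻¹)⁻¹) = k' * x * k'⁻¹ :=
  cg2_core x y (fun g h => cg1a x y hc g h) (cg1b x y hc) hlt hC g h k

end Cfsg.Agent.Lib.Helper22.Cg
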