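import Mathlib
import Cfsg.Agent.Lib.Helper9.CoprimeIndex

set_option autoImplicit false
set_option linter.unusedSectionVars false

/-!
Conjugacy class sizes: basic lemmas, products of classes of coprime sizes
(Bertram--Herzog--Mann), right stabilizers of classes.
-/

namespace Cfsg.Agent.Lib.Helper70

open Subgroup
open scoped Pointwise

section Basics

variable {G : Type*} [Group G]

/-- class size as the index of the centralizer -/
noncomputable def cgs (g : G) : ℕ := (centralizer ({g} : Set G)).index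

/-- the conjugacy class as a set -/
def ccl (g : G) : Set G := Set.range (fun h : G => h * g * h⁻¹)

theorem mem_ccl {g x : G} : x ∈ ccl g ↔ ∃ h : G, h * g * h⁻¹ = x := Iff.rfl

theorem self_mem_ccl (g : G) : g ∈ ccl g := ⟨1, by simp⟩

theorem conj_mem_ccl (g h : G) : h * g * h⁻¹ ∈ ccl g := ⟨h, rfl⟩

theorem ccl_conj_mem {g x : G} (hx : x ∈ ccl g) (k : G) : k * x * k⁻¹ ∈ ccl g := by
  obtain ⟨h, rfl⟩ := hx
  exact ⟨k * h, by group⟩

theorem ccl_eq_of_mem {g x : G} (hx : x ∈ ccl g) : ccl x = ccl g := by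
  obtain ⟨h, rfl⟩ := hx
  ext y
  constructor
  · rintro ⟨k, rfl⟩
    exact ⟨k * h, by group⟩
  · rintro ⟨k, rfl⟩
    exact ⟨k * h⁻¹, by group⟩

theorem mem_cent_iff {g a : G} : a ∈ centralizer ({g} : Set G) ↔ g * a = a * g := by
  rw [Subgroup.mem_centralizer_singleton_iff]
  exact eq_comm

theorem card_ccl (g : G) : Nat.card (ccl g) = cgs g := by
  unfold cgs Subgroup.index
  symm
  let f : G ⧸ centralizer ({g} : Set G) → ccl g :=
    Quotient.lift (fun h : G => (⟨h * g * h⁻¹, h, rfl⟩ : ccl g)) (by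
      intro a b hab
      have hab' : a⁻¹ * b ∈ centralizer ({g} : Set G) := QuotientGroup.leftRel_apply.mp hab
      rw [mem_cent_iff] at hab'
      apply Subtype.ext
      show a * g * a⁻¹ = b * g * b⁻¹
      have : g = a⁻¹ * b * g * (a⁻¹ * b)⁻¹ := by
        rw [← hab']; group
      calc a * g * a⁻¹ = a * (a⁻¹ * b * g * (a⁻¹ * b)⁻¹) * a⁻¹ := by rw [← this]
        _ = b * g * b⁻¹ := by group)
  have hf : ∀ h : G, f (QuotientGroup.mk h) = ⟨h * g * h⁻¹, h, rfl⟩ := fun h => rfl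
  apply Nat.card_congr
  refine Equiv.ofBijective f ⟨?_, ?_⟩
  · intro u v
    induction u using QuotientGroup.induction_on with
    | H a =>
      induction v using QuotientGroup.induction_on with
      | H b =>
        intro huv
        rw [hf, hf] at huv
        have h1 : a * g * a⁻¹ = b * g * b⁻¹ := congrArg Subtype.val huv
        rw [QuotientGroup.eq, mem_cent_iff]
        calc g * (a⁻¹ * b) = a⁻¹ * (a * g * a⁻¹) * b := by group
          _ = a⁻¹ * (b * g * b⁻¹) * b := by rw [h1]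
          _ = a⁻¹ * b * g := by group
  · rintro ⟨x, h, rfl⟩
    exact ⟨QuotientGroup.mk h, hf h⟩

theorem cgs_conj (g h : G) : cgs (h * g * h⁻¹) = cgs g := by
  rw [← card_ccl, ← card_ccl, ccl_eq_of_mem (conj_mem_ccl g h)]

theorem cgs_eq_of_mem_ccl {g x : G} (hx : x ∈ ccl g) : cgs x = cgs g := by
  rw [← card_ccl, ← card_ccl, ccl_eq_of_mem hx]

theorem cgs_eq_one_iff {g : G} : cgs g = 1 ↔ g ∈ center G := by
  unfold cgs
  rw [Subgroup.index_eq_one, Subgroup.centralizer_eq_top_iff_subset, Set.singleton_subset_iff]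
  rfl

theorem cgs_dvd_of_le {a b : G}
    (h : centralizer ({a} : Set G) ≤ centralizer ({b} : Set G)) : cgs b ∣ cgs a :=
  Subgroup.index_dvd_of_le h

theorem cgs_inv (g : G) : cgs g⁻¹ = cgs g := by
  unfold cgs
  congr 1
  ext a
  rw [mem_cent_iff, mem_cent_iff]
  constructor
  · intro h
    calc g * a = g * (a * g⁻¹) * g := by group
      _ = g * (g⁻¹ * a) * g := by rw [h]
      _ = a * g := by group
  · intro h
    calc g⁻¹ * a = g⁻¹ * (a * g) * g⁻¹ := by group
      _ = g⁻¹ * (g * a) * g⁻¹ := by rw [h]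
      _ = a * g⁻¹ := by group

theorem cgs_mul_central (g : G) {z : G} (hz : z ∈ center G) : cgs (g * z) = cgs g := by
  unfold cgs
  congr 1
  ext a
  rw [mem_cent_iff, mem_cent_iff]
  have hza : z * a = a * z := (Subgroup.mem_center_iff.mp hz a).symm
  constructor
  · intro h
    have h1 : g * a * z = a * g * z := by
      calc g * a * z = g * (a * z) := by group
        _ = g * (z * a) := by rw [hza]
        _ = g * z * a := by group
        _ = a * (g * z) := h
        _ = a * g * z := by group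
    exact mul_right_cancel h1
  · intro h
    calc g * z * a = g * (z * a) := by group
      _ = g * (a * z) := by rw [hza]
      _ = (g * a) * z := by group
      _ = (a * g) * z := by rw [h]
      _ = a * (g * z) := by group

theorem cgs_pow_dvd (g : G) (j : ℕ) : cgs (g ^ j) ∣ cgs g := by
  apply cgs_dvd_of_le
  intro a ha
  rw [mem_cent_iff] at ha ⊢
  exact ((Commute.pow_left (show Commute g a from ha) j)).eq

variable [Finite G]

theorem cgs_pos (g : G) : 0 < cgs g :=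
  Nat.pos_of_ne_zero Subgroup.index_ne_zero_of_finite

theorem one_lt_cgs {g : G} (hg : g ∉ center G) : 1 < cgs g := by
  have h1 := cgs_pos g
  have h2 : cgs g ≠ 1 := fun h => hg (cgs_eq_one_iff.mp h)
  omega

end Basics

section RStab

variable {G : Type*} [Group G]

/-- the right stabilizer of a set -/
def rstab (B : Set G) : Subgroup G where
  carrier := {a | (∀ b ∈ B, b * a ∈ B) ∧ (∀ b ∈ B, b * a⁻¹ ∈ B)}
  one_mem' := by simp
  mul_mem' := by
    rintro a a' ⟨h1, h2⟩ ⟨h1', h2'⟩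
    refine ⟨fun b hb => ?_, fun b hb => ?_⟩
    · rw [← mul_assoc]; exact h1' _ (h1 b hb)
    · rw [mul_inv_rev, ← mul_assoc]; exact h2 _ (h2' b hb)
  inv_mem' := by
    rintro a ⟨h1, h2⟩
    exact ⟨h2, by simpa using h1⟩

theorem mem_rstab {B : Set G} {a : G} :
    a ∈ rstab B ↔ (∀ b ∈ B, b * a ∈ B) ∧ (∀ b ∈ B, b * a⁻¹ ∈ B) := Iff.rfl

theorem rstab_normal {B : Set G} (hB : ∀ b ∈ B, ∀ k : G, k * b * k⁻¹ ∈ B) : (rstab B).Normal := by
  constructor
  intro a ha g
  rw [mem_rstab] at ha ⊢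
  refine ⟨fun b hb => ?_, fun b hb => ?_⟩
  · have h1 := ha.1 _ (hB b hb g⁻¹)
    have h2 := hB _ h1 g
    have e : g * (g⁻¹ * b * g⁻¹⁻¹ * a) * g⁻¹ = b * (g * a * g⁻¹) := by group
    rwa [e] at h2
  · have h1 := ha.2 _ (hB b hb g⁻¹)
    have h2 := hB _ h1 g
    have e : g * (g⁻¹ * b * g⁻¹⁻¹ * a⁻¹) * g⁻¹ = b * (g * a * g⁻¹)⁻¹ := by group
    rwa [e] at h2

theorem card_rstab_dvd [Finite G] (B : Set G) : Nat.card (rstab B) ∣ Nat.card B := by
  have h1 : B * ((rstab B : Subgroup G) : Set G) = B := by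
    ext x
    constructor
    · rintro ⟨b, hb, a, ha, rfl⟩
      exact (mem_rstab.mp ha).1 b hb
    · intro hx
      exact ⟨x, hx, 1, (rstab B).one_mem, mul_one x⟩
  have h2 := Subgroup.card_mul_eq_card_subgroup_mul_card_quotient (rstab B) B
  rw [h1] at h2
  exact ⟨_, h2⟩

end RStab

section Split

variable {G : Type*} [Group G] [Finite G]

/-- `X` is one side of a coprime splitting of the non-central elements. -/
structure CGSplit (X : Set G) : Prop where
  notCentral : ∀ x ∈ X, x ∉ center G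
  cop : ∀ x ∈ X, ∀ y : G, y ∉ center G → y ∉ X → (cgs x).Coprime (cgs y)

/-- the other side of a splitting -/
def CGOther (X : Set G) : Set G := {y | y ∉ center G ∧ y ∉ X}

variable {X : Set G}

theorem CGSplit.other (h : CGSplit X) : CGSplit (CGOther X) where
  notCentral := fun y hy => hy.1
  cop := by
    intro y hy x hx hxY
    have hxX : x ∈ X := by
      by_contra hxX
      exact hxY ⟨hx, hxX⟩
    exact (h.cop x hxX y hy.1 hy.2).symm

theorem CGSplit.other_other (h : CGSplit X) : CGOther (CGOther X) = X := by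
  ext g
  constructor
  · rintro ⟨h1, h2⟩
    by_contra hg
    exact h2 ⟨h1, hg⟩
  · intro hg
    exact ⟨h.notCentral g hg, fun h2 => h2.2 hg⟩

theorem CGSplit.cop' (h : CGSplit X) {x y : G} (hx : x ∈ X) (hy : y ∈ CGOther X) :
    (cgs x).Coprime (cgs y) := h.cop x hx y hy.1 hy.2

theorem CGSplit.mem_of_dvd (h : CGSplit X) {x g : G} (hx : x ∈ X) (hg : g ∉ center G)
    (hd : cgs g ∣ cgs x) : g ∈ X := by
  by_contra hgX
  have h1 := (h.cop x hx g hg hgX).symm
  have h2 : cgs g = 1 := Nat.Coprime.eq_one_of_dvd h1 hd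
  exact hg (cgs_eq_one_iff.mp h2)

theorem CGSplit.conj_mem (h : CGSplit X) {x : G} (hx : x ∈ X) (k : G) : k * x * k⁻¹ ∈ X := by
  apply h.mem_of_dvd hx
  · intro hc
    have := cgs_eq_one_iff.mpr hc
    rw [cgs_conj] at this
    exact h.notCentral x hx (cgs_eq_one_iff.mp this)
  · rw [cgs_conj]

theorem CGSplit.inv_mem (h : CGSplit X) {x : G} (hx : x ∈ X) : x⁻¹ ∈ X := by
  apply h.mem_of_dvd hx
  · intro hc
    exact h.notCentral x hx (by simpa using (center G).inv_mem hc)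
  · rw [cgs_inv]

theorem CGSplit.mul_central_mem (h : CGSplit X) {x z : G} (hx : x ∈ X) (hz : z ∈ center G) :
    x * z ∈ X := by
  apply h.mem_of_dvd hx
  · intro hc
    have : x = (x * z) * z⁻¹ := by group
    rw [this] at hx
    exact h.notCentral _ hx ((center G).mul_mem hc ((center G).inv_mem hz))
  · rw [cgs_mul_central x hz]

theorem CGSplit.mem_ccl (h : CGSplit X) {x c : G} (hx : x ∈ X) (hc : c ∈ ccl x) : c ∈ X := by
  obtain ⟨k, rfl⟩ := hc
  exact h.conj_mem hx k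

/-- `G = C(x) C(y)` -/
theorem CGSplit.exists_mul (h : CGSplit X) {x y : G} (hx : x ∈ X) (hy : y ∈ CGOther X) (g : G) :
    ∃ a ∈ centralizer ({x} : Set G), ∃ b ∈ centralizer ({y} : Set G), g = a * b :=
  Cfsg.Agent.Lib.Helper9.exists_mul_of_coprime_index _ _ (h.cop' hx hy) g

/-- `C(x)` is transitive on the class of `y` -/
theorem CGSplit.conj_eq (h : CGSplit X) {x y : G} (hx : x ∈ X) (hy : y ∈ CGOther X) (g : G) :
    ∃ a ∈ centralizer ({x} : Set G), g * y * g⁻¹ = a * y * a⁻¹ := by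
  obtain ⟨a, ha, b, hb, rfl⟩ := h.exists_mul hx hy g
  refine ⟨a, ha, ?_⟩
  rw [mem_cent_iff] at hb
  calc a * b * y * (a * b)⁻¹ = a * (b * y) * b⁻¹ * a⁻¹ := by group
    _ = a * (y * b) * b⁻¹ * a⁻¹ := by rw [hb]
    _ = a * y * a⁻¹ := by group

/-- the product of the classes of `x` and `y` is the class of `x * y` -/
theorem CGSplit.mul_mem_ccl (h : CGSplit X) {x y : G} (hx : x ∈ X) (hy : y ∈ CGOther X)
    {c d : G} (hc : c ∈ ccl x) (hd : d ∈ ccl y) : c * d ∈ ccl (x * y) := by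
  obtain ⟨g, rfl⟩ := hc
  obtain ⟨k, rfl⟩ := hd
  obtain ⟨a, ha, hak⟩ := h.conj_eq hx hy (g⁻¹ * k)
  rw [mem_cent_iff] at ha
  refine ⟨g * a, ?_⟩
  calc g * a * (x * y) * (g * a)⁻¹ = g * (a * x) * y * a⁻¹ * g⁻¹ := by group
    _ = g * (x * a) * y * a⁻¹ * g⁻¹ := by rw [ha]
    _ = g * x * (a * y * a⁻¹) * g⁻¹ := by group
    _ = g * x * (g⁻¹ * k * y * (g⁻¹ * k)⁻¹) * g⁻¹ := by rw [hak]
    _ = g * x * g⁻¹ * (k * y * k⁻¹) := by group

theorem CGSplit.cgs_mul_dvd (h : CGSplit X) {x y : G} (hx : x ∈ X) (hy : y ∈ CGOther X) :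
    cgs (x * y) ∣ cgs x * cgs y := by
  have h1 := Cfsg.Agent.Lib.Helper9.index_inf_of_coprime_index _ _ (h.cop' hx hy)
  unfold cgs
  rw [← h1]
  apply Subgroup.index_dvd_of_le
  intro a ha
  obtain ⟨ha1, ha2⟩ := Subgroup.mem_inf.mp ha
  rw [mem_cent_iff] at ha1 ha2 ⊢
  calc x * y * a = x * (y * a) := by group
    _ = x * (a * y) := by rw [ha2]
    _ = (x * a) * y := by group
    _ = (a * x) * y := by rw [ha1]
    _ = a * (x * y) := by group

theorem CGSplit.cgs_le_mul (h : CGSplit X) {x y : G} (hx : x ∈ X) (hy : y ∈ CGOther X) :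
    cgs x ≤ cgs (x * y) := by
  rw [← card_ccl, ← card_ccl]
  have : Finite (ccl (x * y)) := Subtype.finite
  apply Nat.card_le_card_of_injective
    (fun c : ccl x => (⟨c.1 * y, h.mul_mem_ccl hx hy c.2 (self_mem_ccl y)⟩ : ccl (x * y)))
  intro c c' hcc'
  have := congrArg Subtype.val hcc'
  exact Subtype.ext (mul_right_cancel this)

theorem CGSplit.cgs_le_mul' (h : CGSplit X) {x y : G} (hx : x ∈ X) (hy : y ∈ CGOther X) :
    cgs y ≤ cgs (x * y) := by
  rw [← card_ccl, ← card_ccl]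
  have : Finite (ccl (x * y)) := Subtype.finite
  apply Nat.card_le_card_of_injective
    (fun c : ccl y => (⟨x * c.1, h.mul_mem_ccl hx hy (self_mem_ccl x) c.2⟩ : ccl (x * y)))
  intro c c' hcc'
  have := congrArg Subtype.val hcc'
  exact Subtype.ext (mul_left_cancel this)

theorem CGSplit.mul_notCentral (h : CGSplit X) {x y : G} (hx : x ∈ X) (hy : y ∈ CGOther X) :
    x * y ∉ center G := by
  intro hz
  have h1 : x = y⁻¹ * (x * y) := by
    have := (Subgroup.mem_center_iff.mp hz y⁻¹)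
    rw [this]; group
  have h2 : cgs x = cgs y := by
    rw [h1, cgs_mul_central _ hz, cgs_inv]
  have h3 := h.cop' hx hy
  rw [h2, Nat.coprime_self] at h3
  exact hy.1 (cgs_eq_one_iff.mp h3)

/-- Bertram--Herzog--Mann: if `|x^G| > |y^G|` then `x y` is on the side of `x` with the same class
size -/
theorem CGSplit.mul_mem_of_lt (h : CGSplit X) {x y : G} (hx : x ∈ X) (hy : y ∈ CGOther X)
    (hlt : cgs y < cgs x) : x * y ∈ X ∧ cgs (x * y) = cgs x := by
  have hnc := h.mul_notCentral hx hy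
  have hdvd := h.cgs_mul_dvd hx hy
  have hle := h.cgs_le_mul hx hy
  have hxy : x * y ∈ X := by
    by_contra hxy
    have h1 : (cgs x).Coprime (cgs (x * y)) := h.cop x hx _ hnc hxy
    have h2 : cgs (x * y) ∣ cgs y := (Nat.Coprime.dvd_of_dvd_mul_left h1.symm hdvd)
    have h3 := Nat.le_of_dvd (cgs_pos y) h2
    omega
  refine ⟨hxy, ?_⟩
  have h1 : (cgs (x * y)).Coprime (cgs y) := h.cop' hxy hy
  have h2 : cgs (x * y) ∣ cgs x := Nat.Coprime.dvd_of_dvd_mul_right h1 hdvd
  exact le_antisymm (Nat.le_of_dvd (cgs_pos x) h2) hle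

theorem CGSplit.other_conj_mem (h : CGSplit X) {y : G} (hy : y ∈ CGOther X) (k : G) :
    k * y * k⁻¹ ∈ CGOther X := h.other.conj_mem hy k

/-- surjectivity of `c ↦ c * y` from the class of `x` to the class of `x * y` -/
theorem CGSplit.exists_mul_eq (h : CGSplit X) {x y : G} (hx : x ∈ X) (hy : y ∈ CGOther X)
    (hlt : cgs y < cgs x) {w : G} (hw : w ∈ ccl (x * y)) : ∃ c ∈ ccl x, c * y = w := by
  have : Finite (ccl (x * y)) := Subtype.finite
  have : Finite (ccl x) := Subtype.finite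
  let f : ccl x → ccl (x * y) :=
    fun c => ⟨c.1 * y, h.mul_mem_ccl hx hy c.2 (self_mem_ccl y)⟩
  have hf : Function.Injective f := by
    intro c c' hcc'
    have := congrArg Subtype.val hcc'
    exact Subtype.ext (mul_right_cancel this)
  have hcard : Nat.card (ccl x) = Nat.card (ccl (x * y)) := by
    rw [card_ccl, card_ccl, (h.mul_mem_of_lt hx hy hlt).2]
  have hbij : Function.Bijective f := (Nat.bijective_iff_injective_and_card f).mpr ⟨hf, hcard⟩
  obtain ⟨c, hc⟩ := hbij.2 ⟨w, hw⟩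
  exact ⟨c.1, c.2, congrArg Subtype.val hc⟩

/-- the class of `x` is stable under right multiplication by `y * (k y k⁻¹)⁻¹` -/
theorem CGSplit.mul_mem_ccl_of_lt (h : CGSplit X) {x y : G} (hx : x ∈ X) (hy : y ∈ CGOther X)
    (hlt : cgs y < cgs x) {c : G} (hc : c ∈ ccl x) (k : G) :
    c * (y * (k * y * k⁻¹)⁻¹) ∈ ccl x := by
  have hy' : k * y * k⁻¹ ∈ CGOther X := h.other_conj_mem hy k
  have hlt' : cgs (k * y * k⁻¹) < cgs x := by rw [cgs_conj]; exact hlt
  have h1 : c * y ∈ ccl (x * y) := h.mul_mem_ccl hx hy hc (self_mem_ccl y)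
  have h2 : x * (k * y * k⁻¹) ∈ ccl (x * y) :=
    h.mul_mem_ccl hx hy (self_mem_ccl x) (conj_mem_ccl y k)
  rw [← ccl_eq_of_mem h2] at h1
  obtain ⟨c', hc', hcc'⟩ := h.exists_mul_eq hx hy' hlt' h1
  have : c * (y * (k * y * k⁻¹)⁻¹) = c' := by
    rw [← mul_assoc, ← hcc']; group
  rw [this]
  exact hc'

/-- `y * (k y k⁻¹)⁻¹` lies in the right stabilizer of the class of `x` -/
theorem CGSplit.mem_rstab_of_lt (h : CGSplit X) {x y : G} (hx : x ∈ X) (hy : y ∈ CGOther X)
    (hlt : cgs y < cgs x) (k : G) : y * (k * y * k⁻¹)⁻¹ ∈ rstab (ccl x) := by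
  rw [mem_rstab]
  refine ⟨fun c hc => h.mul_mem_ccl_of_lt hx hy hlt hc k, fun c hc => ?_⟩
  have hy' : k * y * k⁻¹ ∈ CGOther X := h.other_conj_mem hy k
  have hlt' : cgs (k * y * k⁻¹) < cgs x := by rw [cgs_conj]; exact hlt
  have := h.mul_mem_ccl_of_lt hx hy' hlt' hc k⁻¹
  have e : k * y * k⁻¹ * (k⁻¹ * (k * y * k⁻¹) * k⁻¹⁻¹)⁻¹ = (y * (k * y * k⁻¹)⁻¹)⁻¹ := by group
  rwa [e] at this

/-- `y⁻¹ * (k y k⁻¹)` lies in the right stabilizer of the class of `x` -/
theorem CGSplit.mem_rstab_of_lt' (h : CGSplit X) {x y : G} (hx : x ∈ X) (hy : y ∈ CGOther X)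
    (hlt : cgs y < cgs x) (k : G) : y⁻¹ * (k * y * k⁻¹) ∈ rstab (ccl x) := by
  have hy' : y⁻¹ ∈ CGOther X := h.other.inv_mem hy
  have hlt' : cgs y⁻¹ < cgs x := by rw [cgs_inv]; exact hlt
  have := h.mem_rstab_of_lt hx hy' hlt' k
  have e : y⁻¹ * (k * y⁻¹ * k⁻¹)⁻¹ = y⁻¹ * (k * y * k⁻¹) := by group
  rwa [e] at this

end Split

end Cfsg.Agent.Lib.Helper70
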