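import Mathlib
import Cfsg.Agent.Lib.Helper70.ClassGraph1

set_option autoImplicit false
set_option linter.unusedSectionVars false

/-!
A coprime splitting of the class sizes in which one side dominates: the other side together with
the centre is an abelian normal subgroup.
-/

namespace Cfsg.Agent.Lib.Helper70

open Subgroup
open scoped Pointwise

section Index

variable {G : Type*} [Group G] [Finite G]

/-- for a normal subgroup `N`, `|N : N ∩ C|` divides `|G : C|` -/
theorem relIndex_dvd_index_of_normal' (N : Subgroup G) [N.Normal] (C : Subgroup G) :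
    C.relIndex N ∣ C.index := by
  have h1 : (C ⊓ N).relIndex C * C.relIndex (C ⊔ N) = (C ⊓ N).relIndex (C ⊔ N) :=
    Subgroup.relIndex_mul_relIndex _ _ _ inf_le_left le_sup_left
  have h2 : (C ⊓ N).relIndex N * N.relIndex (C ⊔ N) = (C ⊓ N).relIndex (C ⊔ N) :=
    Subgroup.relIndex_mul_relIndex _ _ _ inf_le_right le_sup_right
  rw [Subgroup.inf_relIndex_left] at h1
  rw [Subgroup.inf_relIndex_right, Subgroup.relIndex_sup_right] at h2
  have h3 : C.relIndex (C ⊔ N) = C.relIndex N := by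
    have hne : N.relIndex C ≠ 0 := by
      unfold Subgroup.relIndex
      exact Subgroup.index_ne_zero_of_finite
    have : N.relIndex C * C.relIndex (C ⊔ N) = N.relIndex C * C.relIndex N := by
      rw [h1, ← h2, mul_comm]
    exact Nat.eq_of_mul_eq_mul_left (Nat.pos_of_ne_zero hne) this
  rw [← h3]
  exact Subgroup.relIndex_dvd_index_of_le le_sup_left

theorem normal_le_of_coprime (N : Subgroup G) [N.Normal] (C : Subgroup G)
    (h : (Nat.card N).Coprime C.index) : N ≤ C := by
  rw [← Subgroup.relIndex_eq_one]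
  have h1 : C.relIndex N ∣ Nat.card N := Subgroup.relIndex_dvd_card _ _
  have h2 := relIndex_dvd_index_of_normal' N C
  exact Nat.eq_one_of_dvd_coprimes h h1 h2

end Index

section Dom

variable {G : Type*} [Group G] [Finite G] {X : Set G}

/-- if `b ∈ X` dominates the other side then every element of `X` does -/
theorem CGSplit.lt_of_dom (h : CGSplit X) {b : G} (hb : b ∈ X)
    (hmax : ∀ y ∈ CGOther X, cgs y < cgs b) {x y : G} (hx : x ∈ X) (hy : y ∈ CGOther X) :
    cgs y < cgs x := by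
  by_contra hcon
  have hcop := h.cop' hx hy
  have hne : cgs x ≠ cgs y := by
    intro he
    rw [he, Nat.coprime_self] at hcop
    exact hy.1 (cgs_eq_one_iff.mp hcop)
  have hlt : cgs x < cgs y := by omega
  have hx' : x ∈ CGOther (CGOther X) := by rw [h.other_other]; exact hx
  -- the right stabilizer of the class of `y`
  have hN' : ∀ k : G, x * (k * x * k⁻¹)⁻¹ ∈ rstab (ccl y) :=
    fun k => h.other.mem_rstab_of_lt hy hx' hlt k
  have hN : ∀ k : G, y⁻¹ * (k * y * k⁻¹) ∈ rstab (ccl b) :=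
    fun k => h.mem_rstab_of_lt' hb hy (hmax y hy) k
  have hle : rstab (ccl y) ≤ rstab (ccl b) := by
    intro n hn
    have h1 : y * n ∈ ccl y := (mem_rstab.mp hn).1 y (self_mem_ccl y)
    obtain ⟨k, hk⟩ := h1
    have hk' : k * y * k⁻¹ = y * n := hk
    have : n = y⁻¹ * (k * y * k⁻¹) := by rw [hk']; group
    rw [this]
    exact hN k
  have hc1 : Nat.card (rstab (ccl y)) ∣ cgs y := by
    rw [← card_ccl]; exact card_rstab_dvd _
  have hc2 : Nat.card (rstab (ccl y)) ∣ cgs b :=
    (Subgroup.card_dvd_of_le hle).trans (by rw [← card_ccl]; exact card_rstab_dvd _)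
  have hc3 : Nat.card (rstab (ccl y)) = 1 :=
    Nat.eq_one_of_dvd_coprimes (h.cop' hb hy) hc2 hc1
  have hbot : rstab (ccl y) = ⊥ := Subgroup.card_eq_one.mp hc3
  apply h.notCentral x hx
  rw [Subgroup.mem_center_iff]
  intro k
  have h1 := hN' k
  rw [hbot, Subgroup.mem_bot] at h1
  have h2 : x = k * x * k⁻¹ := by
    have := mul_inv_eq_one.mp h1
    exact this
  calc k * x = (k * x * k⁻¹) * k := by group
    _ = x * k := by rw [← h2]

variable (h : CGSplit X) (hlt : ∀ x ∈ X, ∀ y ∈ CGOther X, cgs y < cgs x)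

/-- the complement of `X` is a subgroup -/
def CGSplit.K (h : CGSplit X) (hlt : ∀ x ∈ X, ∀ y ∈ CGOther X, cgs y < cgs x) : Subgroup G where
  carrier := {g | g ∉ X}
  one_mem' := fun h1 => h.notCentral 1 h1 (Subgroup.one_mem _)
  mul_mem' := by
    intro a c ha hc hac
    change a ∉ X at ha; change c ∉ X at hc; change a * c ∈ X at hac
    have hc' : c⁻¹ ∉ X := fun h1 => hc (by simpa using h.inv_mem h1)
    by_cases hz : c⁻¹ ∈ center G
    · have := h.mul_central_mem hac hz
      rw [mul_inv_cancel_right] at this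
      exact ha this
    · have := (h.mul_mem_of_lt hac ⟨hz, hc'⟩ (hlt _ hac _ ⟨hz, hc'⟩)).1
      rw [mul_inv_cancel_right] at this
      exact ha this
  inv_mem' := by
    intro a ha h1
    change a ∉ X at ha
    exact ha (by simpa using h.inv_mem h1)

theorem CGSplit.mem_K {g : G} : g ∈ h.K hlt ↔ g ∉ X := Iff.rfl

theorem CGSplit.K_normal : (h.K hlt).Normal := by
  constructor
  intro a ha g
  rw [CGSplit.mem_K] at ha ⊢
  intro h1
  apply ha
  have := h.conj_mem h1 g⁻¹
  have e : g⁻¹ * (g * a * g⁻¹) * g⁻¹⁻¹ = a := by group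
  rwa [e] at this

theorem CGSplit.center_le_K : center G ≤ h.K hlt := by
  intro z hz
  rw [CGSplit.mem_K]
  exact fun h1 => h.notCentral z h1 hz

theorem CGSplit.other_mem_K {y : G} (hy : y ∈ CGOther X) : y ∈ h.K hlt := hy.2

theorem CGSplit.mem_K_iff {g : G} : g ∈ h.K hlt ↔ g ∈ center G ∨ g ∈ CGOther X := by
  rw [CGSplit.mem_K]
  constructor
  · intro hg
    by_cases hz : g ∈ center G
    · exact Or.inl hz
    · exact Or.inr ⟨hz, hg⟩
  · rintro (hz | hy)
    · exact fun h1 => h.notCentral g h1 hz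
    · exact hy.2

/-- the normal subgroup `N₁` -/
def CGSplit.N1 (h : CGSplit X) (hlt : ∀ x ∈ X, ∀ y ∈ CGOther X, cgs y < cgs x) (b : G) :
    Subgroup G := rstab (ccl b) ⊓ h.K hlt

theorem CGSplit.N1_normal (b : G) : (h.N1 hlt b).Normal := by
  have : (rstab (ccl b)).Normal := rstab_normal (fun c hc k => ccl_conj_mem hc k)
  have : (h.K hlt).Normal := h.K_normal hlt
  unfold CGSplit.N1
  infer_instance

theorem CGSplit.N1_le_K (b : G) : h.N1 hlt b ≤ h.K hlt := inf_le_right

theorem CGSplit.card_N1_dvd (b : G) : Nat.card (h.N1 hlt b) ∣ cgs b := by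
  refine (Subgroup.card_dvd_of_le (inf_le_left : h.N1 hlt b ≤ rstab (ccl b))).trans ?_
  rw [← card_ccl]
  exact card_rstab_dvd _

variable {b : G} (hb : b ∈ X)

include hb

theorem CGSplit.mem_N1 {y : G} (hy : y ∈ CGOther X) (k : G) :
    y⁻¹ * (k * y * k⁻¹) ∈ h.N1 hlt b := by
  refine Subgroup.mem_inf.mpr ⟨h.mem_rstab_of_lt' hb hy (hlt b hb y hy) k, ?_⟩
  exact (h.K hlt).mul_mem ((h.K hlt).inv_mem hy.2) (h.other_conj_mem hy k).2

theorem CGSplit.N1_coprime {y : G} (hy : y ∈ CGOther X) :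
    (Nat.card (h.N1 hlt b)).Coprime (cgs y) :=
  Nat.Coprime.coprime_dvd_left (h.card_N1_dvd hlt b) (h.cop' hb hy)

theorem CGSplit.N1_le_cent {y : G} (hy : y ∈ CGOther X) :
    h.N1 hlt b ≤ centralizer ({y} : Set G) := by
  have := h.N1_normal hlt b
  exact normal_le_of_coprime _ _ (h.N1_coprime hlt hb hy)

theorem CGSplit.N1_comm {n k : G} (hn : n ∈ h.N1 hlt b) (hk : k ∈ h.K hlt) : n * k = k * n := by
  rcases (h.mem_K_iff hlt).mp hk with hz | hy
  · exact Subgroup.mem_center_iff.mp hz n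
  · have := h.N1_le_cent hlt hb hy hn
    rw [mem_cent_iff] at this
    exact this.symm

theorem CGSplit.K_le_cent {y : G} (hy : y ∈ CGOther X) :
    h.K hlt ≤ centralizer ({y} : Set G) := by
  have := h.K_normal hlt
  rw [← Subgroup.relIndex_eq_one]
  -- the homomorphism `k ↦ y⁻¹ * (k y k⁻¹)` from `K` to `N₁`
  let f : (h.K hlt) →* G := MonoidHom.mk' (fun k => y⁻¹ * ((k : G) * y * (k : G)⁻¹)) (by
    intro k k'
    have h1 : y⁻¹ * ((k' : G) * y * (k' : G)⁻¹) ∈ h.N1 hlt b := h.mem_N1 hlt hb hy k'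
    have h2 := h.N1_comm hlt hb h1 k.2
    show y⁻¹ * (((k * k' : h.K hlt) : G) * y * ((k * k' : h.K hlt) : G)⁻¹) = _
    rw [Subgroup.coe_mul]
    calc y⁻¹ * ((k : G) * (k' : G) * y * ((k : G) * (k' : G))⁻¹)
        = y⁻¹ * (k : G) * y * (k : G)⁻¹ * ((k : G) * (y⁻¹ * ((k' : G) * y * (k' : G)⁻¹))) *
            (k : G)⁻¹ := by group
      _ = y⁻¹ * (k : G) * y * (k : G)⁻¹ * ((y⁻¹ * ((k' : G) * y * (k' : G)⁻¹)) * (k : G)) *
            (k : G)⁻¹ := by rw [h2]
      _ = y⁻¹ * ((k : G) * y * (k : G)⁻¹) * (y⁻¹ * ((k' : G) * y * (k' : G)⁻¹)) := by group)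
  have hf : ∀ k : h.K hlt, f k = y⁻¹ * ((k : G) * y * (k : G)⁻¹) := fun k => rfl
  have hker : f.ker = (centralizer ({y} : Set G)).subgroupOf (h.K hlt) := by
    ext k
    rw [MonoidHom.mem_ker, hf, Subgroup.mem_subgroupOf, mem_cent_iff]
    constructor
    · intro h1
      have h2 : (k : G) * y * (k : G)⁻¹ = y := by
        have := inv_mul_eq_one.mp h1
        exact this.symm
      calc y * (k : G) = ((k : G) * y * (k : G)⁻¹) * (k : G) := by rw [h2]
        _ = (k : G) * y := by group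
    · intro h1
      calc y⁻¹ * ((k : G) * y * (k : G)⁻¹) = y⁻¹ * ((y * (k : G)) * (k : G)⁻¹) := by rw [h1]
        _ = 1 := by group
  have hrange : f.range ≤ h.N1 hlt b := by
    rintro _ ⟨k, rfl⟩
    rw [hf]
    exact h.mem_N1 hlt hb hy k
  have h1 : (centralizer ({y} : Set G)).relIndex (h.K hlt) ∣ Nat.card (h.N1 hlt b) := by
    unfold Subgroup.relIndex
    rw [← hker, Subgroup.index_ker]
    exact Subgroup.card_dvd_of_le hrange
  have h2 : (centralizer ({y} : Set G)).relIndex (h.K hlt) ∣ cgs y :=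
    relIndex_dvd_index_of_normal' _ _
  exact Nat.eq_one_of_dvd_coprimes (h.N1_coprime hlt hb hy) h1 h2

theorem CGSplit.K_comm {a c : G} (ha : a ∈ h.K hlt) (hc : c ∈ h.K hlt) : a * c = c * a := by
  rcases (h.mem_K_iff hlt).mp hc with hz | hy
  · exact Subgroup.mem_center_iff.mp hz a
  · have := h.K_le_cent hlt hb hy ha
    rw [mem_cent_iff] at this
    exact this.symm

end Dom

end Cfsg.Agent.Lib.Helper70
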