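import Mathlib
import Cfsg.Agent.Lib.Helper70.ClassGraph2
import Cfsg.Agent.Lib.Helper63.PrimeParts
import Cfsg.Agent.Lib.Helper69.ClassSize

set_option autoImplicit false
set_option linter.unusedSectionVars false

/-!
In a dominated coprime splitting of the class sizes, no element of the dominating side commutes
with an element of the other side.
-/

namespace Cfsg.Agent.Lib.Helper70

open Subgroup
open scoped Pointwise

section Tools

variable {G : Type*} [Group G]

theorem orderOf_conj' (k u : G) : orderOf (k * u * k⁻¹) = orderOf u :=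
  orderOf_injective (MulAut.conj k).toMonoidHom (MulAut.conj k).injective u

/-- a finite `p`-group is not the union of a proper subgroup and the conjugates of another proper
subgroup -/
theorem pgroup_not_union {P : Type*} [Group P] [Finite P] {p : ℕ} [Fact p.Prime]
    (hP : IsPGroup p P) (A B : Subgroup P) (hA : A ≠ ⊤) (hB : B ≠ ⊤)
    (hcover : ∀ u : P, u ∈ B ∨ ∃ v : P, v⁻¹ * u * v ∈ A) : False := by
  have : Group.IsNilpotent P := hP.isNilpotent
  have hnc : NormalizerCondition P := Group.normalizerCondition_of_isNilpotent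
  obtain ⟨M₁, hM₁, hAM₁⟩ := (eq_top_or_exists_le_coatom A).resolve_left hA
  obtain ⟨M₂, hM₂, hBM₂⟩ := (eq_top_or_exists_le_coatom B).resolve_left hB
  have hn₁ : M₁.Normal := Subgroup.NormalizerCondition.normal_of_coatom M₁ hnc hM₁
  have hcov : ∀ u : P, u ∈ M₁ ∨ u ∈ M₂ := by
    intro u
    rcases hcover u with hu | ⟨v, hv⟩
    · exact Or.inr (hBM₂ hu)
    · left
      have h1 := hn₁.conj_mem _ (hAM₁ hv) v
      have e : v * (v⁻¹ * u * v) * v⁻¹ = u := by group
      rwa [e] at h1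
  obtain ⟨a, ha⟩ : ∃ a, a ∉ M₁ := by
    by_contra hcon
    push Not at hcon
    exact hM₁.1 (Subgroup.eq_top_iff' M₁ |>.mpr hcon)
  obtain ⟨c, hc⟩ : ∃ c, c ∉ M₂ := by
    by_contra hcon
    push Not at hcon
    exact hM₂.1 (Subgroup.eq_top_iff' M₂ |>.mpr hcon)
  have ha₂ : a ∈ M₂ := (hcov a).resolve_left ha
  have hc₁ : c ∈ M₁ := (hcov c).resolve_right hc
  rcases hcov (a * c) with h1 | h2
  · apply ha
    have := M₁.mul_mem h1 (M₁.inv_mem hc₁)
    rwa [mul_inv_cancel_right] at this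
  · apply hc
    have := M₂.mul_mem (M₂.inv_mem ha₂) h2
    rwa [inv_mul_cancel_left] at this

variable [Finite G]

/-- a `p`-element has a conjugate commuting with `g` if `p` does not divide the class size of
`g` -/
theorem exists_conj_commute_of_not_dvd {p : ℕ} [Fact p.Prime] (u g : G)
    (hu : ∃ k : ℕ, orderOf u = p ^ k) (hg : ¬ p ∣ cgs g) :
    ∃ k : G, Commute (k * u * k⁻¹) g := by
  obtain ⟨P₁, hP₁⟩ := Cfsg.Agent.Lib.Helper69.exists_sylow_le_of_not_dvd_index
    (centralizer ({g} : Set G)) hg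
  obtain ⟨j, hj⟩ := hu
  have hpg : IsPGroup p (zpowers u) := IsPGroup.of_card (n := j) (by rw [Nat.card_zpowers, hj])
  obtain ⟨P₂, hP₂⟩ := hpg.exists_le_sylow
  obtain ⟨k, hk⟩ := MulAction.exists_smul_eq G P₂ P₁
  refine ⟨k, ?_⟩
  have hmem : k * u * k⁻¹ ∈ (P₁ : Subgroup G) := by
    rw [← hk, Sylow.coe_subgroup_smul]
    exact ⟨u, hP₂ (Subgroup.mem_zpowers u), rfl⟩
  have := hP₁ hmem
  rw [mem_cent_iff] at this
  exact this.symm

/-- every `p`-element has a conjugate in a given Sylow `p`-subgroup -/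
theorem exists_conj_mem_sylow {p : ℕ} [Fact p.Prime] (P : Sylow p G) (u : G)
    (hu : ∃ k : ℕ, orderOf u = p ^ k) : ∃ k : G, k * u * k⁻¹ ∈ (P : Subgroup G) := by
  obtain ⟨j, hj⟩ := hu
  have hpg : IsPGroup p (zpowers u) := IsPGroup.of_card (n := j) (by rw [Nat.card_zpowers, hj])
  obtain ⟨P₂, hP₂⟩ := hpg.exists_le_sylow
  obtain ⟨k, hk⟩ := MulAction.exists_smul_eq G P₂ P
  refine ⟨k, ?_⟩
  rw [← hk, Sylow.coe_subgroup_smul]
  exact ⟨u, hP₂ (Subgroup.mem_zpowers u), rfl⟩

theorem orderOf_eq_prime_pow_of_mem_sylow {p : ℕ} [hp : Fact p.Prime] (P : Sylow p G) {g : G}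
    (hg : g ∈ (P : Subgroup G)) : ∃ k : ℕ, orderOf g = p ^ k := by
  obtain ⟨k, hk⟩ := P.isPGroup' ⟨g, hg⟩
  have h1 : g ^ (p ^ k) = 1 := by
    have := congrArg Subtype.val hk
    simpa using this
  obtain ⟨i, -, hi⟩ := (Nat.dvd_prime_pow hp.out).mp (orderOf_dvd_of_pow_eq_one h1)
  exact ⟨i, hi⟩

end Tools

section NoCommute

variable {G : Type*} [Group G] [Finite G] {X : Set G}

/-- commuting elements of the two sides cannot have coprime orders -/
theorem CGSplit.not_commute_of_coprime (h : CGSplit X) {x y : G} (hx : x ∈ X)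
    (hy : y ∈ CGOther X) (hc : Commute x y) (hcop : (orderOf x).Coprime (orderOf y)) : False := by
  have key : ∀ (u v : G), Commute u v → (orderOf u).Coprime (orderOf v) →
      centralizer ({u * v} : Set G) ≤ centralizer ({u} : Set G) := by
    intro u v huv hcop' a ha
    rw [mem_cent_iff] at ha ⊢
    have ha' : Commute (u * v) a := ha
    obtain ⟨m, hm⟩ := exists_pow_eq_self_of_coprime (x := u) (n := orderOf v) hcop'.symm
    have h1 : (u * v) ^ (orderOf v) = u ^ (orderOf v) := by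
      rw [huv.mul_pow, pow_orderOf_eq_one, mul_one]
    have h2 : Commute ((u * v) ^ (orderOf v)) a := ha'.pow_left _
    rw [h1] at h2
    have h3 := h2.pow_left m
    rw [hm] at h3
    exact h3.eq
  have h1 : cgs x ∣ cgs (x * y) := cgs_dvd_of_le (key x y hc hcop)
  have h2 : cgs y ∣ cgs (x * y) := by
    have := key y x hc.symm hcop.symm
    rw [← hc.eq] at this
    exact cgs_dvd_of_le this
  have hnc := h.mul_notCentral hx hy
  by_cases hxy : x * y ∈ X
  · have h3 := (h.cop' hxy hy).symm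
    have h4 : cgs y = 1 := Nat.Coprime.eq_one_of_dvd h3 h2
    exact hy.1 (cgs_eq_one_iff.mp h4)
  · have h3 := h.cop x hx _ hnc hxy
    have h4 : cgs x = 1 := Nat.Coprime.eq_one_of_dvd h3 h1
    exact h.notCentral x hx (cgs_eq_one_iff.mp h4)

/-- if `x` commutes with `y` then it commutes with every conjugate of `y` -/
theorem CGSplit.commute_conj (h : CGSplit X) {x y : G} (hx : x ∈ X) (hy : y ∈ CGOther X)
    (hc : Commute x y) (k : G) : Commute x (k * y * k⁻¹) := by
  obtain ⟨a, ha, hak⟩ := h.conj_eq hx hy k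
  rw [hak]
  rw [mem_cent_iff] at ha
  have ha' : Commute x a := ha
  exact (ha'.mul_right hc).mul_right ha'.inv_right

theorem CGSplit.commute_conj' (h : CGSplit X) {x y : G} (hx : x ∈ X) (hy : y ∈ CGOther X)
    (hc : Commute x y) (k : G) : Commute (k * x * k⁻¹) y := by
  have h1 := h.commute_conj hx hy hc k⁻¹
  have h2 : Commute (k * x * k⁻¹) (k * (k⁻¹ * y * k⁻¹⁻¹) * k⁻¹) := by
    have e1 : k * x * k⁻¹ = MulAut.conj k x := rfl
    have e2 : k * (k⁻¹ * y * k⁻¹⁻¹) * k⁻¹ = MulAut.conj k (k⁻¹ * y * k⁻¹⁻¹) := rfl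
    rw [e1, e2]
    exact h1.map (MulAut.conj k)
  have e : k * (k⁻¹ * y * k⁻¹⁻¹) * k⁻¹ = y := by group
  rwa [e] at h2

variable (h : CGSplit X) (hlt : ∀ x ∈ X, ∀ y ∈ CGOther X, cgs y < cgs x) {b : G} (hb : b ∈ X)

include h hlt hb in
/-- the key case: commuting `p`-elements on the two sides do not exist -/
theorem CGSplit.not_commute_aux {p : ℕ} [Fact p.Prime] {x y : G} (hx : x ∈ X)
    (hy : y ∈ CGOther X) {k l : ℕ} (hxo : orderOf x = p ^ k) (hyo : orderOf y = p ^ l) :
    False := by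
  have hp : p.Prime := Fact.out
  have hyK : y ∈ h.K hlt := hy.2
  -- `p` divides `|N₁|`
  have hpN : p ∣ Nat.card (h.N1 hlt b) := by
    obtain ⟨g, hg⟩ : ∃ g : G, g * y ≠ y * g := by
      by_contra hcon
      push Not at hcon
      exact hy.1 (Subgroup.mem_center_iff.mpr hcon)
    set n := y⁻¹ * (g * y * g⁻¹) with hn
    have hnN : n ∈ h.N1 hlt b := h.mem_N1 hlt hb hy g
    have hn1 : n ≠ 1 := by
      intro h1
      apply hg
      have h2 : g * y * g⁻¹ = y := (inv_mul_eq_one.mp h1).symm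
      calc g * y = (g * y * g⁻¹) * g := by group
        _ = y * g := by rw [h2]
    have hcomm : Commute y n := h.K_comm hlt hb hyK (h.N1_le_K hlt b hnN)
    have hpow : n ^ (p ^ l) = 1 := by
      have h1 : (y * n) ^ (p ^ l) = 1 := by
        have e : y * n = g * y * g⁻¹ := by rw [hn]; group
        rw [e, ← orderOf_dvd_iff_pow_eq_one, orderOf_conj', hyo]
      rw [hcomm.mul_pow] at h1
      have h2 : y ^ (p ^ l) = 1 := by rw [← hyo]; exact pow_orderOf_eq_one y
      rwa [h2, one_mul] at h1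
    obtain ⟨j, -, hj⟩ := (Nat.dvd_prime_pow hp).mp (orderOf_dvd_of_pow_eq_one hpow)
    have hj0 : j ≠ 0 := by
      rintro rfl
      rw [pow_zero, orderOf_eq_one_iff] at hj
      exact hn1 hj
    have h2 : orderOf n ∣ Nat.card (h.N1 hlt b) := Subgroup.orderOf_dvd_natCard _ hnN
    rw [hj] at h2
    exact (dvd_pow_self p hj0).trans h2
  have hpY : ∀ y' ∈ CGOther X, ¬ p ∣ cgs y' := by
    intro y' hy' hdiv
    exact Nat.Prime.not_coprime_iff_dvd.mpr ⟨p, hp, hpN, hdiv⟩ (h.N1_coprime hlt hb hy')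
  -- class sizes in `X` are powers of `p`
  have hrX : ∀ r : ℕ, r.Prime → r ≠ p → ∀ u ∈ X, ¬ r ∣ cgs u := by
    intro r hr hrp u hu hdiv
    by_cases hY : ∃ y' ∈ CGOther X, r ∣ cgs y'
    · obtain ⟨y', hy', hd'⟩ := hY
      exact Nat.Prime.not_coprime_iff_dvd.mpr ⟨r, hr, hdiv, hd'⟩ (h.cop' hu hy')
    · push Not at hY
      have : Fact r.Prime := ⟨hr⟩
      obtain ⟨R, hR⟩ := Cfsg.Agent.Lib.Helper69.exists_sylow_le_of_not_dvd_index
        (centralizer ({y} : Set G)) (hY y hy)
      have hRZ : (R : Subgroup G) ≤ center G := by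
        intro g hg
        obtain ⟨a, ha⟩ := orderOf_eq_prime_pow_of_mem_sylow R hg
        have hgy : Commute g y := by
          have := hR hg
          rw [mem_cent_iff] at this
          exact this.symm
        by_contra hgZ
        by_cases hgX : g ∈ X
        · exact h.not_commute_of_coprime hgX hy hgy (by
            rw [hyo, ha]
            exact Nat.Coprime.pow _ _ ((Nat.coprime_primes hr hp).mpr hrp))
        · have hgY : g ∈ CGOther X := ⟨hgZ, hgX⟩
          obtain ⟨k', hk'⟩ := exists_conj_commute_of_not_dvd x g ⟨k, hxo⟩ (hpY g hgY)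
          exact h.not_commute_of_coprime (h.conj_mem hx k') hgY hk' (by
            rw [orderOf_conj', hxo, ha]
            exact Nat.Coprime.pow _ _ ((Nat.coprime_primes hp hr).mpr (Ne.symm hrp)))
      have hRu : (R : Subgroup G) ≤ centralizer ({u} : Set G) := by
        intro g hg
        rw [mem_cent_iff]
        exact Subgroup.mem_center_iff.mp (hRZ hg) u
      have h1 : cgs u ∣ (R : Subgroup G).index := Subgroup.index_dvd_of_le hRu
      exact R.not_dvd_index (hdiv.trans h1)
  -- a Sylow `p`-subgroup containing `x` and a conjugate of `y`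
  obtain ⟨P, hxP⟩ : ∃ P : Sylow p G, x ∈ (P : Subgroup G) := by
    have hpg : IsPGroup p (zpowers x) := IsPGroup.of_card (n := k) (by rw [Nat.card_zpowers, hxo])
    obtain ⟨P, hP⟩ := hpg.exists_le_sylow
    exact ⟨P, hP (Subgroup.mem_zpowers x)⟩
  obtain ⟨k₂, hy₂P⟩ := exists_conj_mem_sylow P y ⟨l, hyo⟩
  have hy₂Y : k₂ * y * k₂⁻¹ ∈ CGOther X := h.other_conj_mem hy k₂
  have hcy₂ : cgs (k₂ * y * k₂⁻¹) = cgs y := cgs_conj y k₂
  -- a prime dividing the class size of `y`
  have hcy1 : cgs y ≠ 1 := fun h1 => hy.1 (cgs_eq_one_iff.mp h1)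
  obtain ⟨r, hr, hry⟩ : ∃ r : ℕ, r.Prime ∧ r ∣ cgs y :=
    ⟨(cgs y).minFac, Nat.minFac_prime hcy1, Nat.minFac_dvd _⟩
  have hrp : r ≠ p := by
    rintro rfl
    exact hpY y hy hry
  have : Fact r.Prime := ⟨hr⟩
  obtain ⟨R⟩ : Nonempty (Sylow r G) := inferInstance
  have hPR : (P : Subgroup G) ≤ centralizer ((R : Subgroup G) : Set G) := by
    by_contra hPR
    apply pgroup_not_union (P := ↥(P : Subgroup G)) P.isPGroup'
      ((centralizer ((R : Subgroup G) : Set G)).subgroupOf P) ((h.K hlt).subgroupOf P)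
    · intro h1
      rw [Subgroup.subgroupOf_eq_top] at h1
      exact hPR h1
    · intro h1
      rw [Subgroup.subgroupOf_eq_top] at h1
      exact (h1 hxP) hx
    · intro u
      by_cases huK : (u : G) ∈ h.K hlt
      · left
        exact Subgroup.mem_subgroupOf.mpr huK
      · right
        have huX : (u : G) ∈ X := by
          by_contra h1
          exact huK h1
        have hru : ¬ r ∣ cgs (u : G) := fun hd =>
          Nat.Prime.not_coprime_iff_dvd.mpr ⟨r, hr, hd, hry⟩ (h.cop' huX hy)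
        obtain ⟨R', hR'⟩ := Cfsg.Agent.Lib.Helper69.exists_sylow_le_of_not_dvd_index
          (centralizer ({(u : G)} : Set G)) hru
        obtain ⟨g, hg⟩ := MulAction.exists_smul_eq G R R'
        have hcop : (centralizer ({(u : G)} : Set G)).index.Coprime (P : Subgroup G).index := by
          apply Nat.coprime_of_dvd
          intro s hs hs1 hs2
          by_cases hsp : s = p
          · subst hsp
            exact P.not_dvd_index hs2
          · exact hrX s hs hsp _ huX hs1
        obtain ⟨c, hc, v, hv, rfl⟩ :=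
          Cfsg.Agent.Lib.Helper9.exists_mul_of_coprime_index _ _ hcop g
        refine ⟨⟨v, hv⟩, ?_⟩
        rw [Subgroup.mem_subgroupOf]
        have e : (((⟨v, hv⟩ : ↥(P : Subgroup G))⁻¹ * u * ⟨v, hv⟩ : ↥(P : Subgroup G)) : G)
            = v⁻¹ * (u : G) * v := rfl
        rw [e, Subgroup.mem_centralizer_iff]
        intro ρ hρ
        have h1 : (c * v) * ρ * (c * v)⁻¹ ∈ (R' : Subgroup G) := by
          rw [← hg, Sylow.coe_subgroup_smul]
          exact ⟨ρ, hρ, rfl⟩
        have h2 := hR' h1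
        rw [mem_cent_iff] at h2 hc
        have hc' : c⁻¹ * (u : G) = (u : G) * c⁻¹ := by
          calc c⁻¹ * (u : G) = c⁻¹ * ((u : G) * c) * c⁻¹ := by group
            _ = c⁻¹ * (c * (u : G)) * c⁻¹ := by rw [hc]
            _ = (u : G) * c⁻¹ := by group
        have e1 : (u : G) * (c * v * ρ * (c * v)⁻¹) = c * ((u : G) * (v * ρ * v⁻¹)) * c⁻¹ := by
          calc (u : G) * (c * v * ρ * (c * v)⁻¹) = ((u : G) * c) * (v * ρ * v⁻¹) * c⁻¹ := by group
            _ = (c * (u : G)) * (v * ρ * v⁻¹) * c⁻¹ := by rw [hc]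
            _ = c * ((u : G) * (v * ρ * v⁻¹)) * c⁻¹ := by group
        have e2 : (c * v * ρ * (c * v)⁻¹) * (u : G) = c * ((v * ρ * v⁻¹) * (u : G)) * c⁻¹ := by
          calc (c * v * ρ * (c * v)⁻¹) * (u : G) = c * (v * ρ * v⁻¹) * (c⁻¹ * (u : G)) := by group
            _ = c * (v * ρ * v⁻¹) * ((u : G) * c⁻¹) := by rw [hc']
            _ = c * ((v * ρ * v⁻¹) * (u : G)) * c⁻¹ := by group
        rw [e1, e2] at h2
        have h3 : (u : G) * (v * ρ * v⁻¹) = (v * ρ * v⁻¹) * (u : G) :=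
          mul_left_cancel (mul_right_cancel h2)
        calc ρ * (v⁻¹ * (u : G) * v) = v⁻¹ * ((v * ρ * v⁻¹) * (u : G)) * v := by group
          _ = v⁻¹ * ((u : G) * (v * ρ * v⁻¹)) * v := by rw [h3]
          _ = v⁻¹ * (u : G) * v * ρ := by group
  have hRy₂ : (R : Subgroup G) ≤ centralizer ({k₂ * y * k₂⁻¹} : Set G) := by
    intro ρ hρ
    rw [mem_cent_iff]
    have := hPR hy₂P
    rw [Subgroup.mem_centralizer_iff] at this
    exact (this ρ hρ).symm
  have h1 : cgs (k₂ * y * k₂⁻¹) ∣ (R : Subgroup G).index := Subgroup.index_dvd_of_le hRy₂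
  rw [hcy₂] at h1
  exact R.not_dvd_index (hry.trans h1)

include h hlt hb in
/-- no element of `X` commutes with an element of the other side -/
theorem CGSplit.not_commute {x y : G} (hx : x ∈ X) (hy : y ∈ CGOther X) : ¬ Commute x y := by
  intro hc
  have hxK : x ∉ h.K hlt := fun h1 => h1 hx
  obtain ⟨p, i, k, hp, hxo, hxi⟩ :
      ∃ p i k : ℕ, p.Prime ∧ orderOf (x ^ i) = p ^ k ∧ x ^ i ∉ h.K hlt := by
    by_contra hcon
    push Not at hcon
    exact hxK (Cfsg.Agent.Lib.Helper63.mem_of_prime_power_parts _ x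
      (fun s k j hs ho => hcon s k j hs ho))
  obtain ⟨q, i', l, hq, hyo, hyi⟩ :
      ∃ q i' l : ℕ, q.Prime ∧ orderOf (y ^ i') = q ^ l ∧ y ^ i' ∉ center G := by
    by_contra hcon
    push Not at hcon
    exact hy.1 (Cfsg.Agent.Lib.Helper63.mem_of_prime_power_parts _ y
      (fun s k j hs ho => hcon s k j hs ho))
  have hx₁X : x ^ i ∈ X := by
    by_contra h1
    exact hxi h1
  have hy₁Y : y ^ i' ∈ CGOther X := ⟨hyi, (h.K hlt).pow_mem hy.2 i'⟩
  have hc₁ : Commute (x ^ i) (y ^ i') := (hc.pow_left i).pow_right i'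
  have hpq : p = q := by
    by_contra hne
    exact h.not_commute_of_coprime hx₁X hy₁Y hc₁ (by
      rw [hxo, hyo]
      exact Nat.Coprime.pow _ _ ((Nat.coprime_primes hp hq).mpr hne))
  subst hpq
  have : Fact p.Prime := ⟨hp⟩
  exact h.not_commute_aux hlt hb hx₁X hy₁Y hxo hyo

end NoCommute

end Cfsg.Agent.Lib.Helper70
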