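import Mathlib
import Cfsg.Prelude.Def_Solvable
import Cfsg.Agent.Lib.Helper70.ClassGraph3

set_option autoImplicit false
set_option linter.unusedSectionVars false

/-!
A dominated coprime splitting of the class sizes makes `G / Z(G)` a Frobenius group with abelian
kernel and complement (Bertram--Herzog--Mann, Kazarin).
-/

namespace Cfsg.Agent.Lib.Helper70

open Subgroup
open scoped Pointwise

section Frob

variable {G : Type*} [Group G] [Finite G] {X : Set G}
variable (h : CGSplit X) (hlt : ∀ x ∈ X, ∀ y ∈ CGOther X, cgs y < cgs x) {b : G} (hb : b ∈ X)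

include h hlt hb

theorem CGSplit.cent_other_eq {y : G} (hy : y ∈ CGOther X) :
    centralizer ({y} : Set G) = h.K hlt := by
  apply le_antisymm
  · intro g hg
    rw [CGSplit.mem_K]
    intro hgX
    rw [mem_cent_iff] at hg
    exact h.not_commute hlt hb hgX hy (show Commute g y from hg.symm)
  · exact h.K_le_cent hlt hb hy

theorem CGSplit.central_of_commute {x k : G} (hx : x ∈ X) (hk : k ∈ h.K hlt) (hc : Commute x k) :
    k ∈ center G := by
  by_contra hz
  exact h.not_commute hlt hb hx ⟨hz, hk⟩ hc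

theorem CGSplit.exists_mul_K {y₀ : G} (hy₀ : y₀ ∈ CGOther X) {x : G} (hx : x ∈ X) (g : G) :
    ∃ a ∈ centralizer ({x} : Set G), ∃ k ∈ h.K hlt, g = a * k := by
  obtain ⟨a, ha, k, hk, rfl⟩ := h.exists_mul hx hy₀ g
  rw [h.cent_other_eq hlt hb hy₀] at hk
  exact ⟨a, ha, k, hk, rfl⟩

/-- the action on `K / Z` is fixed point free -/
theorem CGSplit.fixed_point_free {a k : G} (ha : a ∈ X) (hk : k ∈ h.K hlt)
    (hc : a⁻¹ * k * a * k⁻¹ ∈ center G) : k ∈ center G := by
  by_contra hkz
  have hkY : k ∈ CGOther X := ⟨hkz, hk⟩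
  have hn : (h.K hlt).Normal := h.K_normal hlt
  set c := a⁻¹ * k * a * k⁻¹ with hc_def
  have hcN : c ∈ h.N1 hlt b := by
    have h1 := h.mem_N1 hlt hb hkY a⁻¹
    have h2 : a⁻¹ * k * a ∈ h.K hlt := by
      have := hn.conj_mem k hk a⁻¹
      simpa using this
    have e : c = k⁻¹ * (a⁻¹ * k * a⁻¹⁻¹) := by
      rw [hc_def, inv_inv]
      exact h.K_comm hlt hb h2 ((h.K hlt).inv_mem hk)
    rw [e]
    exact h1
  have hconj : ∀ j : ℕ, (a ^ j)⁻¹ * k * a ^ j = c ^ j * k := by
    intro j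
    induction j with
    | zero => simp
    | succ j ih =>
      have hcz : ∀ g : G, g * c ^ j = c ^ j * g :=
        fun g => Subgroup.mem_center_iff.mp ((center G).pow_mem hc j) g
      have e1 : a⁻¹ * k * a = c * k := by rw [hc_def]; group
      calc (a ^ (j + 1))⁻¹ * k * a ^ (j + 1) = a⁻¹ * ((a ^ j)⁻¹ * k * a ^ j) * a := by
            rw [pow_succ]; group
        _ = a⁻¹ * (c ^ j * k) * a := by rw [ih]
        _ = (a⁻¹ * c ^ j) * k * a := by group
        _ = (c ^ j * a⁻¹) * k * a := by rw [hcz a⁻¹]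
        _ = c ^ j * (a⁻¹ * k * a) := by group
        _ = c ^ j * (c * k) := by rw [e1]
        _ = c ^ (j + 1) * k := by rw [pow_succ]; group
  have hd : c ^ (h.K hlt).index = 1 := by
    have h1 : a ^ (h.K hlt).index ∈ h.K hlt := Subgroup.pow_index_mem _ a
    have h2 := hconj (h.K hlt).index
    have h3 : (a ^ (h.K hlt).index)⁻¹ * k * a ^ (h.K hlt).index = k := by
      have := h.K_comm hlt hb hk h1
      rw [mul_assoc, this]; group
    rw [h3] at h2
    have h4 : c ^ (h.K hlt).index * k = 1 * k := by rw [one_mul]; exact h2.symm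
    exact mul_right_cancel h4
  have hcop : (Nat.card (h.N1 hlt b)).Coprime (h.K hlt).index := by
    have := h.N1_coprime hlt hb hkY
    unfold cgs at this
    rwa [h.cent_other_eq hlt hb hkY] at this
  have hc1 : c = 1 := by
    have h1 : orderOf c ∣ Nat.card (h.N1 hlt b) := Subgroup.orderOf_dvd_natCard _ hcN
    have h2 : orderOf c ∣ (h.K hlt).index := orderOf_dvd_of_pow_eq_one hd
    exact orderOf_eq_one_iff.mp (Nat.eq_one_of_dvd_coprimes hcop h1 h2)
  apply hkz
  apply h.central_of_commute hlt hb ha hk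
  show a * k = k * a
  calc a * k = a * 1 * k := by group
    _ = a * (a⁻¹ * k * a * k⁻¹) * k := by rw [← hc_def, hc1]
    _ = k * a := by group

/-- `G / K` is abelian -/
theorem CGSplit.comm_mem_K {y₀ : G} (hy₀ : y₀ ∈ CGOther X) (g g' : G) :
    g * g' * g⁻¹ * g'⁻¹ ∈ h.K hlt := by
  have hn : (h.K hlt).Normal := h.K_normal hlt
  by_cases hg' : g' ∈ h.K hlt
  · exact (h.K hlt).mul_mem (hn.conj_mem g' hg' g) ((h.K hlt).inv_mem hg')
  · have hX : g' ∈ X := by
      by_contra h1
      exact hg' h1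
    obtain ⟨a, ha, k, hk, rfl⟩ := h.exists_mul_K hlt hb hy₀ hX g
    rw [mem_cent_iff] at ha
    have ha' : a⁻¹ * g'⁻¹ = g'⁻¹ * a⁻¹ := by
      rw [← mul_inv_rev, ← mul_inv_rev, ha]
    have e : a * k * g' * (a * k)⁻¹ * g'⁻¹ = a * (k * (g' * k⁻¹ * g'⁻¹)) * a⁻¹ := by
      calc a * k * g' * (a * k)⁻¹ * g'⁻¹ = a * k * g' * k⁻¹ * (a⁻¹ * g'⁻¹) := by group
        _ = a * k * g' * k⁻¹ * (g'⁻¹ * a⁻¹) := by rw [ha']
        _ = a * (k * (g' * k⁻¹ * g'⁻¹)) * a⁻¹ := by group
    rw [e]
    apply hn.conj_mem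
    exact (h.K hlt).mul_mem hk (hn.conj_mem k⁻¹ ((h.K hlt).inv_mem hk) g')

/-- the Frobenius structure of `G / Z(G)` -/
theorem CGSplit.frobenius {y₀ : G} (hy₀ : y₀ ∈ CGOther X) :
    ∃ H : Subgroup (G ⧸ center G), Cfsg.IsFrobeniusComplement H ∧ IsMulCommutative H ∧
      ∀ x ∈ Cfsg.frobeniusKernel H, ∀ y ∈ Cfsg.frobeniusKernel H, x * y = y * x := by
  have hn : (h.K hlt).Normal := h.K_normal hlt
  set π : G →* G ⧸ center G := QuotientGroup.mk' (center G) with hπ
  have hπs : Function.Surjective π := QuotientGroup.mk'_surjective _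
  have hπeq : ∀ u v : G, π u = π v ↔ u⁻¹ * v ∈ center G := fun u v => QuotientGroup.eq
  have hπ1 : ∀ u : G, π u = 1 ↔ u ∈ center G := fun u => QuotientGroup.eq_one_iff u
  have hZH : center G ≤ centralizer ({b} : Set G) := Subgroup.center_le_centralizer _
  have hZK : center G ≤ h.K hlt := h.center_le_K hlt
  set Hb : Subgroup (G ⧸ center G) := (centralizer ({b} : Set G)).map π with hHb
  set Kb : Subgroup (G ⧸ center G) := (h.K hlt).map π with hKb
  have memHb : ∀ u : G, π u ∈ Hb ↔ u ∈ centralizer ({b} : Set G) := by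
    intro u
    constructor
    · rintro ⟨a, ha, hau⟩
      have h1 := (hπeq a u).mp hau
      have : u = a * (a⁻¹ * u) := by group
      rw [this]
      exact (centralizer ({b} : Set G)).mul_mem ha (hZH h1)
    · intro hu
      exact Subgroup.mem_map_of_mem _ hu
  have memKb : ∀ u : G, π u ∈ Kb ↔ u ∈ h.K hlt := by
    intro u
    constructor
    · rintro ⟨a, ha, hau⟩
      have h1 := (hπeq a u).mp hau
      have : u = a * (a⁻¹ * u) := by group
      rw [this]
      exact (h.K hlt).mul_mem ha (hZK h1)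
    · intro hu
      exact Subgroup.mem_map_of_mem _ hu
  -- elements of `H ∩ K` are central
  have hHK : ∀ u : G, u ∈ centralizer ({b} : Set G) → u ∈ h.K hlt → u ∈ center G := by
    intro u hu huK
    rw [mem_cent_iff] at hu
    exact h.central_of_commute hlt hb hb huK hu
  -- non-central elements of `H` lie in `X`
  have hHX : ∀ u : G, u ∈ centralizer ({b} : Set G) → u ∉ center G → u ∈ X := by
    intro u hu huz
    by_contra h1
    exact huz (hHK u hu h1)
  refine ⟨Hb, ⟨?_, ?_, ?_⟩, ?_, ?_⟩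
  · -- nontrivial
    intro hbot
    have h1 : π b ∈ Hb := (memHb b).mpr (by rw [mem_cent_iff])
    rw [hbot, Subgroup.mem_bot, hπ1] at h1
    exact h.notCentral b hb h1
  · -- proper
    intro htop
    have h1 : π y₀ ∈ Hb := by rw [htop]; exact Subgroup.mem_top _
    rw [memHb, mem_cent_iff] at h1
    exact h.not_commute hlt hb hb hy₀ h1
  · -- malnormal
    intro q hq
    obtain ⟨g, rfl⟩ := hπs q
    rw [memHb] at hq
    rw [eq_bot_iff]
    intro w hw
    obtain ⟨hw1, hw2⟩ := Subgroup.mem_inf.mp hw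
    obtain ⟨u, rfl⟩ := hπs w
    rw [memHb] at hw1
    rw [Subgroup.mem_pointwise_smul_iff_inv_smul_mem] at hw2
    have e0 : (MulAut.conj (π g))⁻¹ • π u = π (g⁻¹ * u * g) := by
      rw [← map_inv MulAut.conj, MulAut.smul_def, MulAut.conj_apply, inv_inv, map_mul, map_mul,
        map_inv]
    rw [e0, memHb] at hw2
    rw [Subgroup.mem_bot, hπ1]
    by_contra huz
    apply hq
    obtain ⟨a, ha, k, hk, rfl⟩ := h.exists_mul_K hlt hb hy₀ hb g
    set h' := a⁻¹ * u * a with hh'
    have hh'H : h' ∈ centralizer ({b} : Set G) :=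
      (centralizer ({b} : Set G)).mul_mem
        ((centralizer ({b} : Set G)).mul_mem ((centralizer ({b} : Set G)).inv_mem ha) hw1) ha
    have hh'z : h' ∉ center G := by
      intro h1
      apply huz
      have := (inferInstance : (center G).Normal).conj_mem h' h1 a
      have e : a * h' * a⁻¹ = u := by rw [hh']; group
      rwa [e] at this
    have hh'X : h' ∈ X := hHX h' hh'H hh'z
    have h2 : k⁻¹ * h' * k ∈ centralizer ({b} : Set G) := by
      have e : k⁻¹ * h' * k = (a * k)⁻¹ * u * (a * k) := by rw [hh']; group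
      rw [e]
      exact hw2
    have h3 : h'⁻¹ * k⁻¹ * h' * k⁻¹⁻¹ ∈ center G := by
      apply hHK
      · have e : h'⁻¹ * k⁻¹ * h' * k⁻¹⁻¹ = h'⁻¹ * (k⁻¹ * h' * k) := by group
        rw [e]
        exact (centralizer ({b} : Set G)).mul_mem ((centralizer ({b} : Set G)).inv_mem hh'H) h2
      · have e : h'⁻¹ * k⁻¹ * h' * k⁻¹⁻¹ = (h'⁻¹ * k⁻¹ * h'⁻¹⁻¹) * k := by group
        rw [e]
        exact (h.K hlt).mul_mem (hn.conj_mem k⁻¹ ((h.K hlt).inv_mem hk) h'⁻¹) hk
    have h4 : k⁻¹ ∈ center G :=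
      h.fixed_point_free hlt hb hh'X ((h.K hlt).inv_mem hk) h3
    have h5 : k ∈ center G := by simpa using (center G).inv_mem h4
    exact (centralizer ({b} : Set G)).mul_mem ha (hZH h5)
  · -- the complement is abelian
    refine ⟨⟨fun w w' => ?_⟩⟩
    obtain ⟨w, hw⟩ := w
    obtain ⟨w', hw'⟩ := w'
    apply Subtype.ext
    show w * w' = w' * w
    obtain ⟨u, hu, rfl⟩ := hw
    obtain ⟨u', hu', rfl⟩ := hw'
    rw [← map_mul, ← map_mul, hπeq]
    apply hHK
    · exact (centralizer ({b} : Set G)).mul_mem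
        ((centralizer ({b} : Set G)).inv_mem ((centralizer ({b} : Set G)).mul_mem hu hu'))
        ((centralizer ({b} : Set G)).mul_mem hu' hu)
    · have := h.comm_mem_K hlt hb hy₀ u'⁻¹ u⁻¹
      have e : u'⁻¹ * u⁻¹ * u'⁻¹⁻¹ * u⁻¹⁻¹ = (u * u')⁻¹ * (u' * u) := by group
      rwa [e] at this
  · -- the kernel is abelian
    have hker : ∀ w ∈ Cfsg.frobeniusKernel Hb, w ∈ Kb := by
      intro w hw
      obtain ⟨u, rfl⟩ := hπs w
      rw [memKb]
      by_contra huK
      have huX : u ∈ X := by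
        by_contra h1
        exact huK h1
      obtain ⟨a, ha, k, hk, rfl⟩ := h.exists_mul_K hlt hb hy₀ hb u
      have haz : a ∉ center G := by
        intro h1
        exact huK ((h.K hlt).mul_mem (hZK h1) hk)
      have haX : a ∈ X := hHX a ha haz
      have hKbn : Kb.Normal := hn.map π hπs
      -- the map `x ↦ (π a)⁻¹ x (π a) x⁻¹` on `Kb`
      let F : Kb → Kb := fun x => ⟨(π a)⁻¹ * (x : G ⧸ center G) * π a * (x : G ⧸ center G)⁻¹, by
        have h1 := hKbn.conj_mem _ x.2 (π a)⁻¹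
        rw [inv_inv] at h1
        exact Kb.mul_mem h1 (Kb.inv_mem x.2)⟩
      have hF : Function.Injective F := by
        intro x x' hxx'
        have h1 : (π a)⁻¹ * (x : G ⧸ center G) * π a * (x : G ⧸ center G)⁻¹
            = (π a)⁻¹ * (x' : G ⧸ center G) * π a * (x' : G ⧸ center G)⁻¹ :=
          congrArg Subtype.val hxx'
        obtain ⟨x, hx⟩ := x
        obtain ⟨x', hx'⟩ := x'
        obtain ⟨κ, rfl⟩ := hπs x
        obtain ⟨κ', rfl⟩ := hπs x'
        rw [memKb] at hx hx'
        apply Subtype.ext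
        show π κ = π κ'
        simp only [← map_inv, ← map_mul] at h1
        rw [hπeq] at h1
        -- `m = κ'⁻¹ κ`
        have hm : κ⁻¹ * κ' ∈ h.K hlt := (h.K hlt).mul_mem ((h.K hlt).inv_mem hx) hx'
        have h2 : a⁻¹ * (κ⁻¹ * κ') * a * (κ⁻¹ * κ')⁻¹ ∈ center G := by
          have h3 := (inferInstance : (center G).Normal).conj_mem _ h1 κ⁻¹
          have e : κ⁻¹ * ((a⁻¹ * κ * a * κ⁻¹)⁻¹ * (a⁻¹ * κ' * a * κ'⁻¹)) * κ⁻¹⁻¹
              = a⁻¹ * (κ⁻¹ * κ') * a * (κ⁻¹ * κ')⁻¹ := by group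
          rwa [e] at h3
        rw [hπeq]
        exact h.fixed_point_free hlt hb haX hm h2
      have hFs : Function.Surjective F := Finite.injective_iff_surjective.mp hF
      obtain ⟨x₁, hx₁⟩ := hFs ⟨π k, (memKb k).mpr hk⟩
      have h1 : (π a)⁻¹ * (x₁ : G ⧸ center G) * π a * (x₁ : G ⧸ center G)⁻¹ = π k :=
        congrArg Subtype.val hx₁
      have h2 : π (a * k) = (x₁ : G ⧸ center G) * π a * (x₁ : G ⧸ center G)⁻¹ := by
        rw [map_mul, ← h1]; group
      rcases hw with hw1 | hw2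
      · rw [hπ1] at hw1
        exact h.notCentral _ huX hw1
      · apply hw2 (x₁ : G ⧸ center G)
        rw [h2]
        have e : (x₁ : G ⧸ center G) * π a * (x₁ : G ⧸ center G)⁻¹
            = MulAut.conj (x₁ : G ⧸ center G) • π a := by
          rw [MulAut.smul_def, MulAut.conj_apply]
        rw [e]
        exact Subgroup.smul_mem_pointwise_smul _ _ _ ((memHb a).mpr ha)
    intro w hw w' hw'
    obtain ⟨u, hu, rfl⟩ := hker w hw
    obtain ⟨u', hu', rfl⟩ := hker w' hw'
    rw [← map_mul, ← map_mul, h.K_comm hlt hb hu hu']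

end Frob

end Cfsg.Agent.Lib.Helper70
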