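import Mathlib

set_option autoImplicit false

/-!
Finite Dedekind groups: a finite non-abelian group all of whose subgroups are normal contains
a quaternion pair.  (Part of the Dedekind--Baer theorem.)
-/

namespace Cfsg.Agent.Lib.Helper70

open scoped commutatorElement
open Subgroup

section LocalClassTwo

variable {G : Type*} [Group G]

/-- If `⁅a, b⁆` commutes with `a` then `⁅a ^ n, b⁆ = ⁅a, b⁆ ^ n`. -/
theorem dk_commutator_pow_left (a b : G) (h : Commute ⁅a, b⁆ a) (n : ℕ) :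
    ⁅a ^ n, b⁆ = ⁅a, b⁆ ^ n := by
  induction n with
  | zero => simp
  | succ n ih =>
    have h1 : ⁅a ^ (n + 1), b⁆ = a * ⁅a ^ n, b⁆ * a⁻¹ * ⁅a, b⁆ := by
      simp only [commutatorElement_def, pow_succ']
      group
    rw [h1, ih]
    have h2 : Commute (⁅a, b⁆ ^ n) a := h.pow_left n
    have h3 : a * ⁅a, b⁆ ^ n * a⁻¹ = ⁅a, b⁆ ^ n := by
      rw [← h2.eq, mul_assoc, mul_inv_cancel, mul_one]
    rw [h3, pow_succ]

/-- `y ^ n * u = ⁅y, u⁆ ^ n * u * y ^ n` when `⁅y, u⁆` commutes with `y`. -/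
theorem dk_pow_mul_comm (u y : G) (hy : Commute ⁅y, u⁆ y) (n : ℕ) :
    y ^ n * u = ⁅y, u⁆ ^ n * u * y ^ n := by
  rw [← dk_commutator_pow_left y u hy n]
  simp only [commutatorElement_def]
  group

/-- Local class-two power formula. -/
theorem dk_mul_pow (u y : G) (hu : Commute ⁅y, u⁆ u) (hy : Commute ⁅y, u⁆ y) (n : ℕ) :
    (u * y) ^ n = u ^ n * y ^ n * ⁅y, u⁆ ^ (n.choose 2) := by
  induction n with
  | zero => simp
  | succ n ih =>
    have hck : ∀ (k : ℕ), u * ⁅y, u⁆ ^ k = ⁅y, u⁆ ^ k * u := fun k => ((hu.pow_left k).eq).symm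
    have hcy : ∀ (k m : ℕ), y ^ m * ⁅y, u⁆ ^ k = ⁅y, u⁆ ^ k * y ^ m := fun k m =>
      (((hy.pow_left k).pow_right m).eq).symm
    have h1 : Nat.choose (n + 1) 2 = Nat.choose n 2 + n := by
      rw [Nat.choose_succ_succ' n 1, Nat.choose_one_right, add_comm]
    rw [h1]
    calc (u * y) ^ (n + 1) = u ^ n * y ^ n * ⁅y, u⁆ ^ n.choose 2 * (u * y) := by
          rw [pow_succ, ih]
      _ = u ^ n * (y ^ n * (⁅y, u⁆ ^ n.choose 2 * u)) * y := by group
      _ = u ^ n * (y ^ n * (u * ⁅y, u⁆ ^ n.choose 2)) * y := by rw [hck (n.choose 2)]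
      _ = u ^ n * (y ^ n * u) * ⁅y, u⁆ ^ n.choose 2 * y := by group
      _ = u ^ n * (⁅y, u⁆ ^ n * u * y ^ n) * ⁅y, u⁆ ^ n.choose 2 * y := by
          rw [dk_pow_mul_comm u y hy n]
      _ = u ^ n * (⁅y, u⁆ ^ n * u) * (y ^ n * ⁅y, u⁆ ^ n.choose 2) * y := by group
      _ = u ^ n * (u * ⁅y, u⁆ ^ n) * (⁅y, u⁆ ^ n.choose 2 * y ^ n) * y := by
          rw [hck n, hcy (n.choose 2) n]
      _ = u ^ (n + 1) * ((⁅y, u⁆ ^ n * ⁅y, u⁆ ^ n.choose 2) * y ^ (n + 1)) := by
          rw [pow_succ, pow_succ]; group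
      _ = u ^ (n + 1) * (y ^ (n + 1) * (⁅y, u⁆ ^ n * ⁅y, u⁆ ^ n.choose 2)) := by
          rw [← pow_add, hcy _ (n + 1)]
      _ = u ^ (n + 1) * y ^ (n + 1) * ⁅y, u⁆ ^ (n.choose 2 + n) := by
          rw [← pow_add, Nat.add_comm n (n.choose 2), mul_assoc]

/-- Elements of `zpowers w` as small natural powers. -/
theorem dk_exists_lt_pow {w c : G} {n : ℕ} (hn : 0 < n) (hw : w ^ n = 1)
    (hc : c ∈ zpowers w) : ∃ t : ℕ, t < n ∧ w ^ t = c := by
  obtain ⟨s, rfl⟩ := mem_zpowers_iff.mp hc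
  have hw' : w ^ (n : ℤ) = 1 := by rw [zpow_natCast]; exact hw
  have hn' : (0 : ℤ) < n := by exact_mod_cast hn
  refine ⟨(s % n).toNat, ?_, ?_⟩
  · have h1 : s % (n : ℤ) < n := Int.emod_lt_of_pos _ hn'
    have h0 : 0 ≤ s % (n : ℤ) := Int.emod_nonneg _ hn'.ne'
    omega
  · rw [zpow_eq_zpow_emod s hw', ← zpow_natCast, Int.toNat_of_nonneg (Int.emod_nonneg _ hn'.ne')]

end LocalClassTwo

section Dedekind

variable {G : Type*} [Group G]

theorem dk_comm_mem_left (hn : ∀ H : Subgroup G, H.Normal) (x y : G) : ⁅x, y⁆ ∈ zpowers x := by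
  have h1 : y * x⁻¹ * y⁻¹ ∈ zpowers x :=
    (hn (zpowers x)).conj_mem _ (inv_mem (mem_zpowers x)) y
  have h2 : x * (y * x⁻¹ * y⁻¹) ∈ zpowers x := mul_mem (mem_zpowers x) h1
  have : ⁅x, y⁆ = x * (y * x⁻¹ * y⁻¹) := by rw [commutatorElement_def]; group
  rw [this]; exact h2

theorem dk_comm_mem_right (hn : ∀ H : Subgroup G, H.Normal) (x y : G) : ⁅x, y⁆ ∈ zpowers y := by
  have h1 : x * y * x⁻¹ ∈ zpowers y := (hn (zpowers y)).conj_mem _ (mem_zpowers y) x
  have h2 : x * y * x⁻¹ * y⁻¹ ∈ zpowers y := mul_mem h1 (inv_mem (mem_zpowers y))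
  rw [commutatorElement_def]; exact h2

theorem dk_commute_of_mem_zpowers {c x : G} (h : c ∈ zpowers x) : Commute c x := by
  obtain ⟨k, rfl⟩ := mem_zpowers_iff.mp h
  exact (Commute.refl x).zpow_left k

variable [Finite G]

/-- For a minimal non-commuting pair, every prime dividing the order of `x` is the order of the
commutator. -/
theorem dk_order_comm (hn : ∀ H : Subgroup G, H.Normal) (x y : G) (hxy : x * y ≠ y * x)
    (hmin : ∀ x' y' : G, x' * y' ≠ y' * x' → orderOf x + orderOf y ≤ orderOf x' + orderOf y')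
    (p : ℕ) (hp : p.Prime) (hpx : p ∣ orderOf x) : orderOf ⁅x, y⁆ = p := by
  have hcx : Commute ⁅x, y⁆ x := dk_commute_of_mem_zpowers (dk_comm_mem_left hn x y)
  have hc1 : ⁅x, y⁆ ≠ 1 := fun h => hxy (commutatorElement_eq_one_iff_mul_comm.mp h)
  have hcomm : x ^ p * y = y * x ^ p := by
    by_contra hne
    have h1 := hmin (x ^ p) y hne
    rw [orderOf_pow_of_dvd hp.ne_zero hpx] at h1
    have h2 : orderOf x / p < orderOf x := Nat.div_lt_self (orderOf_pos x) hp.one_lt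
    omega
  have h3 : ⁅x, y⁆ ^ p = 1 := by
    rw [← dk_commutator_pow_left x y hcx p]
    exact commutatorElement_eq_one_iff_mul_comm.mpr hcomm
  have h4 : orderOf ⁅x, y⁆ ∣ p := orderOf_dvd_of_pow_eq_one h3
  rcases (Nat.dvd_prime hp).mp h4 with h | h
  · exact absurd (orderOf_eq_one_iff.mp h) hc1
  · exact h

theorem dk_mem_zpowers_pow {x c : G} {p a : ℕ} (hp : p.Prime) (ha : 1 ≤ a) (hx : orderOf x = p ^ a)
    (hc : c ∈ zpowers x) (hcp : c ^ p = 1) : c ∈ zpowers (x ^ (p ^ (a - 1))) := by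
  obtain ⟨s, hs⟩ := mem_powers_iff_mem_zpowers.mpr hc
  have hs : x ^ s = c := hs
  have h1 : x ^ (s * p) = 1 := by rw [pow_mul, hs, hcp]
  have h2 : p ^ a ∣ s * p := by rw [← hx]; exact orderOf_dvd_of_pow_eq_one h1
  have h3 : p ^ a = p ^ (a - 1) * p := by
    rw [← pow_succ]; congr 1; omega
  rw [h3] at h2
  have h4 : p ^ (a - 1) ∣ s := (Nat.mul_dvd_mul_iff_right hp.pos).mp h2
  obtain ⟨t, rfl⟩ := h4
  rw [← hs, pow_mul]
  exact pow_mem (mem_zpowers _) t

omit [Finite G] in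
theorem dk_orderOf_pow_pred {x : G} {p a : ℕ} (hp : p.Prime) (ha : 1 ≤ a) (hx : orderOf x = p ^ a) :
    orderOf (x ^ (p ^ (a - 1))) = p := by
  have h3 : p ^ a = p ^ (a - 1) * p := by
    rw [← pow_succ]; congr 1; omega
  rw [orderOf_pow_of_dvd (pow_pos hp.pos _).ne' (by rw [hx]; exact pow_dvd_pow p (by omega)), hx, h3]
  exact Nat.mul_div_cancel_left p (pow_pos hp.pos _)

/-- Key step: in a minimal non-commuting pair with `orderOf y ≤ orderOf x`, both have order 4. -/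
theorem dk_main (hn : ∀ H : Subgroup G, H.Normal) (x y : G) (hxy : x * y ≠ y * x)
    (hmin : ∀ x' y' : G, x' * y' ≠ y' * x' → orderOf x + orderOf y ≤ orderOf x' + orderOf y')
    (hle : orderOf y ≤ orderOf x) : orderOf x = 4 ∧ orderOf y = 4 := by
  have hyx : y * x ≠ x * y := fun h => hxy h.symm
  have hmin' : ∀ x' y' : G, x' * y' ≠ y' * x' → orderOf y + orderOf x ≤ orderOf x' + orderOf y' := by
    intro x' y' h; rw [add_comm]; exact hmin x' y' h
  have hcx : ⁅x, y⁆ ∈ zpowers x := dk_comm_mem_left hn x y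
  have hcy : ⁅x, y⁆ ∈ zpowers y := dk_comm_mem_right hn x y
  have hc1 : ⁅x, y⁆ ≠ 1 := fun h => hxy (commutatorElement_eq_one_iff_mul_comm.mp h)
  have hCx : Commute ⁅x, y⁆ x := dk_commute_of_mem_zpowers hcx
  have hCy : Commute ⁅x, y⁆ y := dk_commute_of_mem_zpowers hcy
  have hx1 : orderOf x ≠ 1 := by
    intro h; rw [orderOf_eq_one_iff] at h; apply hxy; rw [h]; simp
  have hy1 : orderOf y ≠ 1 := by
    intro h; rw [orderOf_eq_one_iff] at h; apply hxy; rw [h]; simp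
  obtain ⟨p, hp, hpx⟩ := Nat.exists_prime_and_dvd hx1
  have hoc : orderOf ⁅x, y⁆ = p := dk_order_comm hn x y hxy hmin p hp hpx
  have hxp : ∀ {q : ℕ}, q.Prime → q ∣ orderOf x → q = p := fun {q} hq hqx =>
    (dk_order_comm hn x y hxy hmin q hq hqx).symm.trans hoc
  have hyp : ∀ {q : ℕ}, q.Prime → q ∣ orderOf y → q = p := fun {q} hq hqy => by
    have := dk_order_comm hn y x hyx hmin' q hq hqy
    rw [← commutatorElement_inv, orderOf_inv] at this
    exact this.symm.trans hoc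
  have ha := Nat.eq_prime_pow_of_unique_prime_dvd (orderOf_pos x).ne' hxp
  have hb := Nat.eq_prime_pow_of_unique_prime_dvd (orderOf_pos y).ne' hyp
  set a := (orderOf x).primeFactorsList.length with ha_def
  set b := (orderOf y).primeFactorsList.length with hb_def
  have ha1 : 1 ≤ a := by
    rcases Nat.eq_zero_or_pos a with h | h
    · rw [h, pow_zero] at ha; exact absurd ha hx1
    · exact h
  have hb1 : 1 ≤ b := by
    rcases Nat.eq_zero_or_pos b with h | h
    · rw [h, pow_zero] at hb; exact absurd hb hy1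
    · exact h
  have hba : b ≤ a := (Nat.pow_le_pow_iff_right hp.one_lt).mp (by rw [← ha, ← hb]; exact hle)
  have hcp : ⁅x, y⁆ ^ p = 1 := by rw [← hoc]; exact pow_orderOf_eq_one _
  -- the elements of order p
  have hX : orderOf (x ^ (p ^ (a - 1))) = p := dk_orderOf_pow_pred hp ha1 ha
  have hY : orderOf (y ^ (p ^ (b - 1))) = p := dk_orderOf_pow_pred hp hb1 hb
  have hcX : ⁅x, y⁆ ∈ zpowers (x ^ (p ^ (a - 1))) := dk_mem_zpowers_pow hp ha1 ha hcx hcp
  have hcY : ⁅x, y⁆ ∈ zpowers (y ^ (p ^ (b - 1))) := dk_mem_zpowers_pow hp hb1 hb hcy hcp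
  have hzX : zpowers ⁅x, y⁆ = zpowers (x ^ (p ^ (a - 1))) :=
    eq_of_le_of_card_ge (zpowers_le.mpr hcX) (by rw [Nat.card_zpowers, Nat.card_zpowers, hX, hoc])
  have hzY : zpowers ⁅x, y⁆ = zpowers (y ^ (p ^ (b - 1))) :=
    eq_of_le_of_card_ge (zpowers_le.mpr hcY) (by rw [Nat.card_zpowers, Nat.card_zpowers, hY, hoc])
  have hYX : (y ^ (p ^ (b - 1)))⁻¹ ∈ zpowers (x ^ (p ^ (a - 1))) := by
    rw [← hzX, hzY]; exact inv_mem (mem_zpowers _)
  obtain ⟨k, hk⟩ := mem_powers_iff_mem_zpowers.mpr hYX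
  have hk : (x ^ (p ^ (a - 1))) ^ k = (y ^ (p ^ (b - 1)))⁻¹ := hk
  -- the modified element
  set m := k * p ^ (a - b) with hm
  set n := p ^ (b - 1) with hn_def
  have hun : (x ^ m) ^ n = (y ^ n)⁻¹ := by
    rw [← hk, ← pow_mul, ← pow_mul]
    congr 1
    rw [hm, hn_def, mul_assoc, ← pow_add, mul_comm]
    congr 2
    omega
  have hz : ⁅y, x ^ m⁆ = (⁅x, y⁆ ^ m)⁻¹ := by
    rw [← dk_commutator_pow_left x y hCx m, commutatorElement_inv]
  have hzu : Commute ⁅y, x ^ m⁆ (x ^ m) := by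
    rw [hz]; exact ((hCx.pow_left m).inv_left).pow_right m
  have hzy : Commute ⁅y, x ^ m⁆ y := by
    rw [hz]; exact (hCy.pow_left m).inv_left
  have hform := dk_mul_pow (x ^ m) y hzu hzy n
  rw [hun, inv_mul_cancel, one_mul, hz, inv_pow, ← pow_mul] at hform
  have hnd : ¬ p ∣ m * n.choose 2 := by
    intro hd
    have h1 : ⁅x, y⁆ ^ (m * n.choose 2) = 1 := by
      rw [← hoc] at hd
      exact orderOf_dvd_iff_pow_eq_one.mp hd
    rw [h1, inv_one] at hform
    have h2 : orderOf (x ^ m * y) ≤ n :=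
      Nat.le_of_dvd (pow_pos hp.pos _) (orderOf_dvd_of_pow_eq_one hform)
    have h3 : n < orderOf y := by
      rw [hb, hn_def]; exact Nat.pow_lt_pow_right hp.one_lt (by omega)
    have h4 : x * (x ^ m * y) ≠ (x ^ m * y) * x := by
      intro h
      apply hxy
      have h5 : x * x ^ m = x ^ m * x := ((Commute.refl x).pow_right m).eq
      have h6 : x ^ m * (x * y) = x ^ m * (y * x) := by
        rw [← mul_assoc, ← h5, mul_assoc, h, mul_assoc]
      exact mul_left_cancel h6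
    have h5 := hmin x (x ^ m * y) h4
    omega
  have hnd1 : ¬ p ∣ p ^ (a - b) := fun h => hnd (Dvd.dvd.mul_right (Dvd.dvd.mul_left h k) _)
  have hnd2 : ¬ p ∣ n.choose 2 := fun h => hnd (Dvd.dvd.mul_left h m)
  have hab : a = b := by
    by_contra hne
    apply hnd1
    exact dvd_pow_self p (by omega)
  have h2p : 2 = p ^ (b - 1) := by
    by_contra hne
    exact hnd2 (hp.dvd_choose_pow (by norm_num) hne)
  have hb2 : b - 1 ≠ 0 := by
    intro h; rw [h, pow_zero] at h2p; omega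
  have hp2 : p = 2 := by
    have : p ∣ 2 := by rw [h2p]; exact dvd_pow_self p hb2
    exact (Nat.prime_dvd_prime_iff_eq hp Nat.prime_two).mp this
  have hb3 : b - 1 = 1 := by
    rw [hp2] at h2p
    have : 2 ^ 1 = 2 ^ (b - 1) := by rw [pow_one]; exact h2p
    exact (Nat.pow_right_injective (le_refl 2) this).symm
  have hb4 : b = 2 := by omega
  rw [ha, hb, hab, hb4, hp2]
  norm_num

omit [Finite G] in
/-- If `x` has order 4, an involution of `zpowers x` is `x ^ 2`. -/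
theorem dk_invol_eq_sq {x c : G} (hx : orderOf x = 4) (hc : c ∈ zpowers x) (hc2 : c ^ 2 = 1)
    (hc1 : c ≠ 1) : c = x ^ 2 := by
  have hx4 : x ^ 4 = 1 := by rw [← hx]; exact pow_orderOf_eq_one x
  obtain ⟨t, ht, rfl⟩ := dk_exists_lt_pow (by norm_num : 0 < 4) hx4 hc
  have h1 : x ^ (t * 2) = 1 := by rw [pow_mul]; exact hc2
  have h2 : 4 ∣ t * 2 := by rw [← hx]; exact orderOf_dvd_of_pow_eq_one h1
  interval_cases t
  · exact absurd (pow_zero x) hc1
  · omega
  · rfl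
  · omega

/-- A finite non-abelian group all of whose subgroups are normal contains a quaternion pair. -/
theorem dk_exists_quat (hn : ∀ H : Subgroup G, H.Normal) (hna : ∃ x y : G, x * y ≠ y * x) :
    ∃ x y : G, orderOf x = 4 ∧ orderOf y = 4 ∧ x * x = y ^ 2 ∧ x * y * x⁻¹ = y⁻¹ ∧
      x * y ≠ y * x := by
  classical
  -- choose a minimal pair
  have hex : ∃ N : ℕ, ∃ x y : G, x * y ≠ y * x ∧ orderOf x + orderOf y = N := by
    obtain ⟨x, y, h⟩ := hna
    exact ⟨_, x, y, h, rfl⟩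
  obtain ⟨x, y, hxy, hN⟩ := Nat.find_spec hex
  have hmin : ∀ x' y' : G, x' * y' ≠ y' * x' → orderOf x + orderOf y ≤ orderOf x' + orderOf y' := by
    intro x' y' h
    rw [hN]
    exact Nat.find_min' hex ⟨x', y', h, rfl⟩
  have hyx : y * x ≠ x * y := fun h => hxy h.symm
  have hmin' : ∀ x' y' : G, x' * y' ≠ y' * x' → orderOf y + orderOf x ≤ orderOf x' + orderOf y' := by
    intro x' y' h; rw [add_comm]; exact hmin x' y' h
  have h44 : orderOf x = 4 ∧ orderOf y = 4 := by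
    rcases le_total (orderOf y) (orderOf x) with h | h
    · exact dk_main hn x y hxy hmin h
    · exact (dk_main hn y x hyx hmin' h).symm
  obtain ⟨hx, hy⟩ := h44
  have hoc : orderOf ⁅x, y⁆ = 2 :=
    dk_order_comm hn x y hxy hmin 2 Nat.prime_two (by rw [hx]; norm_num)
  have hc2 : ⁅x, y⁆ ^ 2 = 1 := by rw [← hoc]; exact pow_orderOf_eq_one _
  have hc1 : ⁅x, y⁆ ≠ 1 := fun h => hxy (commutatorElement_eq_one_iff_mul_comm.mp h)
  have hcx : ⁅x, y⁆ = x ^ 2 := dk_invol_eq_sq hx (dk_comm_mem_left hn x y) hc2 hc1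
  have hcy : ⁅x, y⁆ = y ^ 2 := dk_invol_eq_sq hy (dk_comm_mem_right hn x y) hc2 hc1
  have hy4 : y ^ 4 = 1 := by rw [← hy]; exact pow_orderOf_eq_one y
  refine ⟨x, y, hx, hy, ?_, ?_, hxy⟩
  · rw [← pow_two, ← hcx, hcy]
  · have h1 : x * y * x⁻¹ = ⁅x, y⁆ * y := by rw [commutatorElement_def]; group
    rw [h1, hcy]
    have h2 : y ^ 2 * y * y = 1 := by
      rw [← hy4]; group
    exact eq_inv_of_mul_eq_one_left h2

end Dedekind

end Cfsg.Agent.Lib.Helper70
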