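import Cfsg.Agent.Lib.Helper37.D4O8Defs
import Cfsg.Agent.Lib.Helper53.Do_HDIAGa

/-! # Do hive (S1082, owner helper37), leaf DO-HDIAG-c: the image of `h_r(t)` is diagonal (roots 16..23). -/

set_option autoImplicit false
set_option linter.unusedSectionVars false
set_option linter.unusedVariables false

namespace Cfsg.Agent.Lib.Helper37.D4O8

open Matrix Module QuadraticMap
open Cfsg.Agent.Lib.Helper8 Cfsg.Agent.Lib.Helper13 Cfsg.Agent.Lib.Helper37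

variable {F : Type*} [Field F]

/-- DO-HDIAG-c. -/
theorem act_H_c (r : Fin 24) (hr : 16 ≤ r.val) (t : F) (ht : t ≠ 0) (x : I8 → F) :
    act (Q8 F) (wprod (Cfsg.Lie.chevD4.hWord (r : ℕ) t)) x =
      mk8 (ha1 r t * ca1 x) (ha2 r t * ca2 x) (ha3 r t * ca3 x) (ha4 r t * ca4 x)
        ((ha1 r t)⁻¹ * cb1 x) ((ha2 r t)⁻¹ * cb2 x) ((ha3 r t)⁻¹ * cb3 x) ((ha4 r t)⁻¹ * cb4 x) := by
  rw [hdiaga_wprod]
  simp only [act_mul]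
  obtain ⟨r, hr24⟩ := r
  simp only at hr
  interval_cases r
  · show act (Q8 F) (X 16 t) (act (Q8 F) (X 7 (-t⁻¹)) (act (Q8 F) (X 16 t) (act (Q8 F) (X 16 (-1))
      (act (Q8 F) (X 7 (-(-1 : F)⁻¹)) (act (Q8 F) (X 16 (-1)) x))))) =
      mk8 (ha1 16 t * ca1 x) (ha2 16 t * ca2 x) (ha3 16 t * ca3 x) (ha4 16 t * ca4 x)
        ((ha1 16 t)⁻¹ * cb1 x) ((ha2 16 t)⁻¹ * cb2 x) ((ha3 16 t)⁻¹ * cb3 x) ((ha4 16 t)⁻¹ * cb4 x)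
    simp only [act_X16, act_X7]
    apply ext8 <;> simp [ha1, ha2, ha3, ha4] <;> (try field_simp) <;> (try ring)
  · show act (Q8 F) (X 17 t) (act (Q8 F) (X 6 (-t⁻¹)) (act (Q8 F) (X 17 t) (act (Q8 F) (X 17 (-1))
      (act (Q8 F) (X 6 (-(-1 : F)⁻¹)) (act (Q8 F) (X 17 (-1)) x))))) =
      mk8 (ha1 17 t * ca1 x) (ha2 17 t * ca2 x) (ha3 17 t * ca3 x) (ha4 17 t * ca4 x)
        ((ha1 17 t)⁻¹ * cb1 x) ((ha2 17 t)⁻¹ * cb2 x) ((ha3 17 t)⁻¹ * cb3 x) ((ha4 17 t)⁻¹ * cb4 x)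
    simp only [act_X17, act_X6]
    apply ext8 <;> simp [ha1, ha2, ha3, ha4] <;> (try field_simp) <;> (try ring)
  · show act (Q8 F) (X 18 t) (act (Q8 F) (X 5 (-t⁻¹)) (act (Q8 F) (X 18 t) (act (Q8 F) (X 18 (-1))
      (act (Q8 F) (X 5 (-(-1 : F)⁻¹)) (act (Q8 F) (X 18 (-1)) x))))) =
      mk8 (ha1 18 t * ca1 x) (ha2 18 t * ca2 x) (ha3 18 t * ca3 x) (ha4 18 t * ca4 x)
        ((ha1 18 t)⁻¹ * cb1 x) ((ha2 18 t)⁻¹ * cb2 x) ((ha3 18 t)⁻¹ * cb3 x) ((ha4 18 t)⁻¹ * cb4 x)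
    simp only [act_X18, act_X5]
    apply ext8 <;> simp [ha1, ha2, ha3, ha4] <;> (try field_simp) <;> (try ring)
  · show act (Q8 F) (X 19 t) (act (Q8 F) (X 4 (-t⁻¹)) (act (Q8 F) (X 19 t) (act (Q8 F) (X 19 (-1))
      (act (Q8 F) (X 4 (-(-1 : F)⁻¹)) (act (Q8 F) (X 19 (-1)) x))))) =
      mk8 (ha1 19 t * ca1 x) (ha2 19 t * ca2 x) (ha3 19 t * ca3 x) (ha4 19 t * ca4 x)
        ((ha1 19 t)⁻¹ * cb1 x) ((ha2 19 t)⁻¹ * cb2 x) ((ha3 19 t)⁻¹ * cb3 x) ((ha4 19 t)⁻¹ * cb4 x)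
    simp only [act_X19, act_X4]
    apply ext8 <;> simp [ha1, ha2, ha3, ha4] <;> (try field_simp) <;> (try ring)
  · show act (Q8 F) (X 20 t) (act (Q8 F) (X 3 (-t⁻¹)) (act (Q8 F) (X 20 t) (act (Q8 F) (X 20 (-1))
      (act (Q8 F) (X 3 (-(-1 : F)⁻¹)) (act (Q8 F) (X 20 (-1)) x))))) =
      mk8 (ha1 20 t * ca1 x) (ha2 20 t * ca2 x) (ha3 20 t * ca3 x) (ha4 20 t * ca4 x)
        ((ha1 20 t)⁻¹ * cb1 x) ((ha2 20 t)⁻¹ * cb2 x) ((ha3 20 t)⁻¹ * cb3 x) ((ha4 20 t)⁻¹ * cb4 x)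
    simp only [act_X20, act_X3]
    apply ext8 <;> simp [ha1, ha2, ha3, ha4] <;> (try field_simp) <;> (try ring)
  · show act (Q8 F) (X 21 t) (act (Q8 F) (X 2 (-t⁻¹)) (act (Q8 F) (X 21 t) (act (Q8 F) (X 21 (-1))
      (act (Q8 F) (X 2 (-(-1 : F)⁻¹)) (act (Q8 F) (X 21 (-1)) x))))) =
      mk8 (ha1 21 t * ca1 x) (ha2 21 t * ca2 x) (ha3 21 t * ca3 x) (ha4 21 t * ca4 x)
        ((ha1 21 t)⁻¹ * cb1 x) ((ha2 21 t)⁻¹ * cb2 x) ((ha3 21 t)⁻¹ * cb3 x) ((ha4 21 t)⁻¹ * cb4 x)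
    simp only [act_X21, act_X2]
    apply ext8 <;> simp [ha1, ha2, ha3, ha4] <;> (try field_simp) <;> (try ring)
  · show act (Q8 F) (X 22 t) (act (Q8 F) (X 1 (-t⁻¹)) (act (Q8 F) (X 22 t) (act (Q8 F) (X 22 (-1))
      (act (Q8 F) (X 1 (-(-1 : F)⁻¹)) (act (Q8 F) (X 22 (-1)) x))))) =
      mk8 (ha1 22 t * ca1 x) (ha2 22 t * ca2 x) (ha3 22 t * ca3 x) (ha4 22 t * ca4 x)
        ((ha1 22 t)⁻¹ * cb1 x) ((ha2 22 t)⁻¹ * cb2 x) ((ha3 22 t)⁻¹ * cb3 x) ((ha4 22 t)⁻¹ * cb4 x)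
    simp only [act_X22, act_X1]
    apply ext8 <;> simp [ha1, ha2, ha3, ha4] <;> (try field_simp) <;> (try ring)
  · show act (Q8 F) (X 23 t) (act (Q8 F) (X 0 (-t⁻¹)) (act (Q8 F) (X 23 t) (act (Q8 F) (X 23 (-1))
      (act (Q8 F) (X 0 (-(-1 : F)⁻¹)) (act (Q8 F) (X 23 (-1)) x))))) =
      mk8 (ha1 23 t * ca1 x) (ha2 23 t * ca2 x) (ha3 23 t * ca3 x) (ha4 23 t * ca4 x)
        ((ha1 23 t)⁻¹ * cb1 x) ((ha2 23 t)⁻¹ * cb2 x) ((ha3 23 t)⁻¹ * cb3 x) ((ha4 23 t)⁻¹ * cb4 x)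
    simp only [act_X23, act_X0]
    apply ext8 <;> simp [ha1, ha2, ha3, ha4] <;> (try field_simp) <;> (try ring)

end Cfsg.Agent.Lib.Helper37.D4O8
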