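import Mathlib

set_option autoImplicit false

/-!
Gaschuetz' splitting theorem through derivations (crossed homs) `G → A` and their averages.
-/

namespace Cfsg.Agent.Lib.Helper70

open Subgroup
open scoped IsMulCommutative

section Gaschutz

variable {G : Type*} [Group G] (A : Subgroup G) [A.Normal] [IsMulCommutative A]

/-- `m`-derivations: crossed homs `G → A` restricting to the `m`-th power map on `A`. -/
def GsDer (m : ℤ) (δ : G → A) : Prop :=
  (∀ g h : G, δ (g * h) = δ g * MulAut.conjNormal g (δ h)) ∧ ∀ a : A, δ (a : G) = a ^ m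

/-- There is an `m`-derivation. -/
def GsHasDer (m : ℤ) : Prop := ∃ δ : G → A, GsDer A m δ

theorem gs_hasDer_comb {m₁ m₂ : ℤ} (h₁ : GsHasDer A m₁) (h₂ : GsHasDer A m₂) (u v : ℤ) :
    GsHasDer A (m₁ * u + m₂ * v) := by
  obtain ⟨δ₁, h₁m, h₁a⟩ := h₁
  obtain ⟨δ₂, h₂m, h₂a⟩ := h₂
  refine ⟨fun g => (δ₁ g) ^ u * (δ₂ g) ^ v, ?_, ?_⟩
  · intro g h
    simp only
    rw [h₁m, h₂m, mul_zpow, mul_zpow, map_mul, map_zpow, map_zpow]
    exact mul_mul_mul_comm _ _ _ _
  · intro a
    simp only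
    rw [h₁a, h₂a, ← zpow_mul, ← zpow_mul, ← zpow_add]

theorem gs_conj_self (a b : A) : MulAut.conjNormal (a : G) b = b := by
  apply Subtype.ext
  rw [MulAut.conjNormal_apply]
  have h : (a : G) * (b : G) = (b : G) * (a : G) := congrArg Subtype.val (mul_comm a b)
  rw [h, mul_assoc, mul_inv_cancel, mul_one]

/-- A `1`-derivation yields a complement. -/
theorem gs_complement_of_der (δ : G → A) (h : GsDer A 1 δ) : ∃ K : Subgroup G, K.IsComplement' A := by
  obtain ⟨hm, ha⟩ := h
  have h1 : δ 1 = 1 := by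
    have := ha 1
    simpa using this
  let K : Subgroup G :=
    { carrier := {g | δ g = 1}
      mul_mem' := by
        intro g h hg hh
        show δ (g * h) = 1
        rw [hm, show δ g = 1 from hg, show δ h = 1 from hh, map_one, mul_one]
      one_mem' := h1
      inv_mem' := by
        intro g hg
        show δ g⁻¹ = 1
        have h2 := hm g g⁻¹
        rw [mul_inv_cancel, h1, show δ g = 1 from hg, one_mul] at h2
        exact (map_eq_one_iff (MulAut.conjNormal g) (MulEquiv.injective _)).mp h2.symm }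
  refine ⟨K, isComplement'_of_disjoint_and_mul_eq_univ ?_ ?_⟩
  · rw [Subgroup.disjoint_def]
    intro x hxK hxA
    have h2 : δ x = 1 := hxK
    have h3 := ha ⟨x, hxA⟩
    rw [zpow_one] at h3
    have : (⟨x, hxA⟩ : A) = 1 := by rw [← h3]; exact h2
    exact congrArg Subtype.val this
  · rw [Set.eq_univ_iff_forall]
    intro g
    have hk : ((δ g : A) : G)⁻¹ * g ∈ K := by
      show δ (((δ g : A) : G)⁻¹ * g) = 1
      have h2 := ha (δ g)⁻¹
      rw [zpow_one] at h2
      rw [hm, ← Subgroup.coe_inv, h2, gs_conj_self, inv_mul_cancel]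
    refine Set.mem_mul.mpr ⟨((δ g : A) : G)⁻¹ * g, hk, (((δ g : A) : G)⁻¹ * g)⁻¹ * (δ g : G) *
      (((δ g : A) : G)⁻¹ * g), ?_, by group⟩
    have := (inferInstance : A.Normal).conj_mem (δ g : G) (δ g).2 (((δ g : A) : G)⁻¹ * g)⁻¹
    simpa using this

/-- Averaging: a complement `K` of `A` in an overgroup `L` gives an `[G:L]`-derivation. -/
theorem gs_hasDer_of_partial [Finite G] (K L : Subgroup G) (hKA : K ⊓ A = ⊥) (hKL : K ⊔ A = L) :
    GsHasDer A (L.index : ℤ) := by
  classical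
  have hAL : A ≤ L := hKL ▸ le_sup_right
  have hKLle : K ≤ L := hKL ▸ le_sup_left
  have hdecomp : ∀ l ∈ L, ∃ a : A, (a : G)⁻¹ * l ∈ K := by
    intro l hl
    rw [← hKL, sup_comm] at hl
    obtain ⟨a, ha, k, hk, rfl⟩ := mem_sup_of_normal_left.mp hl
    exact ⟨⟨a, ha⟩, by simpa using hk⟩
  have huniq : ∀ (l : G) (a a' : A), (a : G)⁻¹ * l ∈ K → (a' : G)⁻¹ * l ∈ K → a = a' := by
    intro l a a' h h'
    have h1 : (a' : G)⁻¹ * a ∈ K := by
      have := K.mul_mem h' (K.inv_mem h)
      convert this using 1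
      group
    have h2 : (a' : G)⁻¹ * a ∈ A := A.mul_mem (A.inv_mem a'.2) a.2
    have h3 : (a' : G)⁻¹ * a = 1 := by
      have : (a' : G)⁻¹ * a ∈ K ⊓ A := ⟨h1, h2⟩
      rw [hKA] at this
      exact mem_bot.mp this
    apply Subtype.ext
    rw [inv_mul_eq_one] at h3
    exact h3.symm
  let lam : G → A := fun l => if h : ∃ a : A, (a : G)⁻¹ * l ∈ K then h.choose else 1
  have hlam : ∀ l ∈ L, ((lam l : A) : G)⁻¹ * l ∈ K := by
    intro l hl
    simp only [lam]
    rw [dif_pos (hdecomp l hl)]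
    exact (hdecomp l hl).choose_spec
  have hlam_eq : ∀ (l : G) (a : A), (a : G)⁻¹ * l ∈ K → lam l = a := by
    intro l a h
    have hl : l ∈ L := by
      have : l = (a : G) * ((a : G)⁻¹ * l) := by group
      rw [this]
      exact L.mul_mem (hAL a.2) (hKLle h)
    exact huniq l _ a (hlam l hl) h
  have hlam_mul : ∀ l₁ ∈ L, ∀ l₂ ∈ L,
      lam (l₁ * l₂) = lam l₁ * MulAut.conjNormal l₁ (lam l₂) := by
    intro l₁ h₁ l₂ h₂
    apply hlam_eq
    have hk₁ := hlam l₁ h₁
    have hk₂ := hlam l₂ h₂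
    have hcomm : (MulAut.conjNormal l₁ (lam l₂)⁻¹ : A) * (lam l₁)⁻¹
        = (lam l₁)⁻¹ * (MulAut.conjNormal l₁ (lam l₂)⁻¹ : A) := mul_comm _ _
    have hcomm' := congrArg Subtype.val hcomm
    simp only [Subgroup.coe_mul, MulAut.conjNormal_apply, Subgroup.coe_inv] at hcomm'
    have key : ((lam l₁ * MulAut.conjNormal l₁ (lam l₂) : A) : G)⁻¹ * (l₁ * l₂)
        = (((lam l₁ : A) : G)⁻¹ * l₁) * (((lam l₂ : A) : G)⁻¹ * l₂) := by
      simp only [Subgroup.coe_mul, MulAut.conjNormal_apply, mul_inv_rev, inv_inv]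
      calc l₁ * (((lam l₂ : A) : G)⁻¹ * l₁⁻¹) * ((lam l₁ : A) : G)⁻¹ * (l₁ * l₂)
          = (l₁ * ((lam l₂ : A) : G)⁻¹ * l₁⁻¹ * ((lam l₁ : A) : G)⁻¹) * (l₁ * l₂) := by group
        _ = (((lam l₁ : A) : G)⁻¹ * (l₁ * ((lam l₂ : A) : G)⁻¹ * l₁⁻¹)) * (l₁ * l₂) := by rw [hcomm']
        _ = _ := by group
    rw [key]
    exact K.mul_mem hk₁ hk₂
  -- the section
  have _ : Fintype (G ⧸ L) := Fintype.ofFinite _
  let s : G ⧸ L → G := Quotient.out
  have hs : ∀ x, ((s x : G) : G ⧸ L) = x := fun x => QuotientGroup.out_eq' x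
  have hmem : ∀ (g : G) (x : G ⧸ L), (s (g • x))⁻¹ * g * s x ∈ L := by
    intro g x
    rw [mul_assoc, ← QuotientGroup.eq, hs]
    have : (((g * s x : G)) : G ⧸ L) = g • ((s x : G) : G ⧸ L) := rfl
    rw [this, hs]
  refine ⟨fun g => ∏ x : G ⧸ L, MulAut.conjNormal (s (g • x)) (lam ((s (g • x))⁻¹ * g * s x)),
    ?_, ?_⟩
  · intro g h
    have hterm : ∀ x : G ⧸ L, MulAut.conjNormal (s ((g * h) • x))
        (lam ((s ((g * h) • x))⁻¹ * (g * h) * s x))
        = MulAut.conjNormal (s (g • (h • x))) (lam ((s (g • (h • x)))⁻¹ * g * s (h • x)))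
          * MulAut.conjNormal g
            (MulAut.conjNormal (s (h • x)) (lam ((s (h • x))⁻¹ * h * s x))) := by
      intro x
      rw [mul_smul]
      have e : (s (g • h • x))⁻¹ * (g * h) * s x
          = ((s (g • h • x))⁻¹ * g * s (h • x)) * ((s (h • x))⁻¹ * h * s x) := by group
      rw [e, hlam_mul _ (hmem g (h • x)) _ (hmem h x), map_mul]
      congr 1
      rw [← MulAut.mul_apply, ← map_mul, ← MulAut.mul_apply, ← map_mul]
      congr 2
      group
    simp only
    rw [map_prod, Finset.prod_congr rfl (fun x _ => hterm x), Finset.prod_mul_distrib]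
    congr 1
    · exact Equiv.prod_comp (MulAction.toPerm h)
        (fun y => MulAut.conjNormal (s (g • y)) (lam ((s (g • y))⁻¹ * g * s y)))
  · intro a
    have hterm : ∀ x : G ⧸ L, MulAut.conjNormal (s ((a : G) • x))
        (lam ((s ((a : G) • x))⁻¹ * (a : G) * s x)) = a := by
      intro x
      have hax : (a : G) • x = x := by
        conv_lhs => rw [← hs x]
        conv_rhs => rw [← hs x]
        have : (a : G) • ((s x : G) : G ⧸ L) = (((a : G) * s x : G) : G ⧸ L) := rfl
        rw [this, eq_comm, QuotientGroup.eq, ← mul_assoc]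
        exact hAL ((inferInstance : A.Normal).conj_mem' a a.2 (s x))
      rw [hax]
      have h1 : lam ((s x)⁻¹ * (a : G) * s x) = MulAut.conjNormal (s x)⁻¹ a := by
        apply hlam_eq
        rw [MulAut.conjNormal_apply, inv_inv, inv_mul_cancel]
        exact K.one_mem
      rw [h1, ← MulAut.mul_apply, ← map_mul, mul_inv_cancel, map_one]
      rfl
    simp only
    rw [Finset.prod_congr rfl (fun x _ => hterm x), Finset.prod_const, Finset.card_univ,
      zpow_natCast, index_eq_card, Nat.card_eq_fintype_card]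

/-- Gaschuetz: if for each prime `p` dividing `[G:A]` the abelian normal subgroup `A` has a
complement in some overgroup of index dividing `[G:A]` and prime to `p`, then `A` has a complement
in `G`. -/
theorem gs_gaschutz [Finite G]
    (h : ∀ p : ℕ, p.Prime → p ∣ A.index → ∃ (K L : Subgroup G), K ⊓ A = ⊥ ∧ K ⊔ A = L ∧
      L.index ∣ A.index ∧ ¬ p ∣ L.index) : ∃ K : Subgroup G, K.IsComplement' A := by
  classical
  have hn0 : A.index ≠ 0 := Subgroup.index_ne_zero_of_finite
  have h0 : GsHasDer A (A.index : ℤ) := gs_hasDer_of_partial A ⊥ A (bot_inf_eq A) (bot_sup_eq A)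
  have key : ∀ T : Finset ℕ, T ⊆ A.index.primeFactors →
      ∃ m : ℕ, m ∣ A.index ∧ (∀ p ∈ T, ¬ p ∣ m) ∧ GsHasDer A (m : ℤ) := by
    intro T
    induction T using Finset.induction_on with
    | empty => intro _; exact ⟨A.index, dvd_rfl, by simp, h0⟩
    | insert p T hpT ih =>
      intro hsub
      obtain ⟨m, hmn, hmT, hm⟩ := ih ((Finset.subset_insert p T).trans hsub)
      have hp : p ∈ A.index.primeFactors := hsub (Finset.mem_insert_self p T)
      obtain ⟨K, L, h1, h2, h3, h4⟩ :=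
        h p (Nat.prime_of_mem_primeFactors hp) (Nat.dvd_of_mem_primeFactors hp)
      have hL := gs_hasDer_of_partial A K L h1 h2
      refine ⟨Nat.gcd m L.index, (Nat.gcd_dvd_left _ _).trans hmn, ?_, ?_⟩
      · intro q hq
        rcases Finset.mem_insert.mp hq with rfl | hq
        · exact fun hd => h4 (hd.trans (Nat.gcd_dvd_right _ _))
        · exact fun hd => hmT q hq (hd.trans (Nat.gcd_dvd_left _ _))
      · rw [Nat.gcd_eq_gcd_ab]
        exact gs_hasDer_comb A hm hL _ _
  obtain ⟨m, hmn, hmT, hm⟩ := key A.index.primeFactors subset_rfl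
  have hm1 : m = 1 := by
    by_contra hne
    obtain ⟨q, hq, hqm⟩ := Nat.exists_prime_and_dvd hne
    exact hmT q (Nat.mem_primeFactors.mpr ⟨hq, hqm.trans hmn, hn0⟩) hqm
  subst hm1
  obtain ⟨δ, hδ⟩ := hm
  exact gs_complement_of_der A δ (by simpa using hδ)

end Gaschutz

end Cfsg.Agent.Lib.Helper70
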