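import Mathlib

set_option autoImplicit false

/-!
Gruen's first theorem: transfer evaluation organised by double cosets.
-/

namespace Cfsg.Agent.Lib.Helper70

open scoped commutatorElement
open Subgroup

/-- Abelianisation lemma: a product of "twisted" elements `(y i)⁻¹ * u * y (σ i)` of a subgroup `Q`
has the same image as `u ^ card` under a hom out of `Q` that kills `Q ∩ P'`. -/
theorem gr_prod_twist {P : Type*} [Group P] {A : Type*} [CommGroup A] (Q : Subgroup P) (ψ : Q →* A)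
    (hψ : ∀ q : Q, (q : P) ∈ commutator P → ψ q = 1)
    {ι : Type*} [Fintype ι] (σ : Equiv.Perm ι) (y : ι → P) (u : P)
    (hb : ∀ i, (y i)⁻¹ * u * y (σ i) ∈ Q) (hu : u ^ Fintype.card ι ∈ Q) :
    ∏ i, ψ ⟨(y i)⁻¹ * u * y (σ i), hb i⟩ = ψ ⟨u ^ Fintype.card ι, hu⟩ := by
  classical
  let α : P →* Abelianization P := Abelianization.of
  let αQ : Q →* (Q.map α) := α.subgroupMap Q
  have hsurj : Function.Surjective αQ := α.subgroupMap_surjective Q
  have hker : αQ.ker ≤ ψ.ker := by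
    intro q hq
    rw [MonoidHom.mem_ker] at hq ⊢
    apply hψ
    have h1 : α (q : P) = 1 := by
      have := congrArg Subtype.val hq
      simpa [αQ] using this
    rw [← Abelianization.ker_of P]
    exact h1
  let ψb : (Q.map α) →* A := αQ.liftOfSurjective hsurj ⟨ψ, hker⟩
  have hψb : ∀ q : Q, ψb (αQ q) = ψ q := fun q =>
    MonoidHom.liftOfRightInverse_comp_apply αQ _ _ ⟨ψ, hker⟩ q
  simp_rw [← hψb]
  rw [← map_prod]
  congr 1
  apply Subtype.ext
  rw [Subgroup.val_finsetProd]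
  have h2 : ∀ i, ((αQ ⟨(y i)⁻¹ * u * y (σ i), hb i⟩ : Q.map α) : Abelianization P)
      = (α (y i))⁻¹ * α u * α (y (σ i)) := by
    intro i
    simp [αQ]
  simp_rw [h2]
  rw [Finset.prod_mul_distrib, Finset.prod_mul_distrib, Finset.prod_inv_distrib,
    Equiv.prod_comp σ (fun i => α (y i)), Finset.prod_const, Finset.card_univ]
  simp [αQ, mul_comm]

section Ext

variable {G : Type*} [Group G] {H : Subgroup G} {A : Type*} [CommGroup A] (ϕ : H →* A)

open Classical in
/-- Extension of a hom on a subgroup by the value `1` outside. -/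
noncomputable def gr_ext (g : G) : A := if h : g ∈ H then ϕ ⟨g, h⟩ else 1

theorem gr_ext_mk (g : G) (h : g ∈ H) : gr_ext ϕ g = ϕ ⟨g, h⟩ := by
  unfold gr_ext; rw [dif_pos h]

theorem gr_ext_coe (g : H) : gr_ext ϕ (g : G) = ϕ g := gr_ext_mk ϕ g g.2

theorem gr_ext_mul (a b : G) (ha : a ∈ H) (hb : b ∈ H) :
    gr_ext ϕ (a * b) = gr_ext ϕ a * gr_ext ϕ b := by
  rw [gr_ext_mk ϕ a ha, gr_ext_mk ϕ b hb, gr_ext_mk ϕ (a * b) (mul_mem ha hb), ← map_mul]
  rfl

theorem gr_ext_pow (a : G) (ha : a ∈ H) (n : ℕ) :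
    gr_ext ϕ (a ^ n) = gr_ext ϕ a ^ n := by
  rw [gr_ext_mk ϕ a ha, gr_ext_mk ϕ (a ^ n) (pow_mem ha n), ← map_pow]
  rfl

/-- The transfer computed from an arbitrary section. -/
theorem gr_transfer_section [H.FiniteIndex] [Fintype (G ⧸ H)] (s : G ⧸ H → G)
    (hs : ∀ q, ((s q : G) : G ⧸ H) = q) (g : G) :
    MonoidHom.transfer ϕ g = ∏ q : G ⧸ H, gr_ext ϕ ((s q)⁻¹ * (g * s (g⁻¹ • q))) := by
  rw [MonoidHom.transfer_def ϕ ⟨Set.range s, isComplement_range_left hs⟩ g]
  unfold leftTransversals.diff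
  simp only
  refine Finset.prod_congr (Finset.ext fun _ => by simp) (fun q _ => ?_)
  rw [← gr_ext_coe]
  congr 1
  show (_ : G)⁻¹ * (_ : G) = _
  rw [smul_apply_eq_smul_apply_inv_smul]
  simp only [IsComplement.leftQuotientEquiv_apply hs, smul_eq_mul]

end Ext

section Grun

variable {G : Type*} [Group G] [Finite G] {p : ℕ} [Fact p.Prime] (P : Sylow p G)
  {A : Type*} [CommGroup A] (ϕ : (P : Subgroup G) →* A)

/-- Transfer evaluation, organised by double cosets. -/
theorem gr_key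
    (H1 : ∀ a : (P : Subgroup G), (a : G) ∈ ⁅normalizer ((P : Subgroup G) : Set G),
      normalizer ((P : Subgroup G) : Set G)⁆ → ϕ a = 1)
    (H2 : ∀ (z : G) (a : (P : Subgroup G)), (a : G) ∈
      (⁅(P : Subgroup G), (P : Subgroup G)⁆).map (MulAut.conj z).toMonoidHom → ϕ a = 1)
    (u : (P : Subgroup G))
    (hC : ∀ t : ℕ, p ∣ t → ∀ g : G, g⁻¹ * (u : G) ^ t * g ∈ (P : Subgroup G) →
      gr_ext ϕ (g⁻¹ * (u : G) ^ t * g) = gr_ext ϕ ((u : G) ^ t)) :
    MonoidHom.transfer ϕ (u : G) = ϕ u ^ (P : Subgroup G).index := by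
  classical
  have hp : p.Prime := Fact.out
  let X := G ⧸ (P : Subgroup G)
  let Ω := MulAction.orbitRel.Quotient (P : Subgroup G) X
  have _ : Fintype X := Fintype.ofFinite _
  have _ : Fintype Ω := Fintype.ofFinite _
  let cls : X → Ω := Quotient.mk''
  let base : Ω → X := Quotient.out
  have hbase : ∀ d, cls (base d) = d := fun d => Quotient.out_eq' d
  have hcls : ∀ c c' : X, cls c = cls c' ↔ c ∈ MulAction.orbit (P : Subgroup G) c' := by
    intro c c'
    show (Quotient.mk'' c : Ω) = Quotient.mk'' c' ↔ _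
    rw [Quotient.eq'']
    exact MulAction.orbitRel_apply
  have hyy : ∀ c : X, ∃ y : (P : Subgroup G), y • base (cls c) = c := by
    intro c
    have : c ∈ MulAction.orbit (P : Subgroup G) (base (cls c)) := by
      rw [← hcls, hbase]
    exact this
  choose yy hyy using hyy
  let s : X → G := fun c => (yy c : G) * (base (cls c)).out
  have hs : ∀ c, ((s c : G) : X) = c := by
    intro c
    show ((((yy c : G) * (base (cls c)).out : G)) : X) = c
    have h1 : (((yy c : G) * (base (cls c)).out : G) : X) = (yy c : G) • (((base (cls c)).out : G) : X) := rfl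
    rw [h1, QuotientGroup.out_eq']
    exact hyy c
  have hsmul : ∀ (w : (P : Subgroup G)) (c : X), cls (w • c) = cls c := by
    intro w c
    rw [hcls]
    exact MulAction.mem_orbit c w
  rw [gr_transfer_section ϕ s hs (u : G)]
  rw [← Fintype.prod_fiberwise cls]
  have hidx : (P : Subgroup G).index = ∑ d : Ω, Fintype.card {c : X // cls c = d} := by
    rw [Subgroup.index_eq_card, Nat.card_eq_fintype_card, ← Fintype.card_sigma]
    exact Fintype.card_congr (Equiv.sigmaFiberEquiv cls).symm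
  rw [hidx, ← Finset.prod_pow_eq_pow_sum]
  refine Finset.prod_congr rfl (fun d _ => ?_)
  -- the double coset `d`
  set x : G := (base d).out with hx
  have hxc : ((x : G) : X) = base d := QuotientGroup.out_eq' _
  set t := Fintype.card {c : X // cls c = d} with ht
  -- (i) t is a power of p
  have htpow : ∃ j, t = p ^ j := by
    have e : {c : X // cls c = d} ≃ MulAction.orbit (P : Subgroup G) (base d) :=
      Equiv.subtypeEquivRight (fun c => by rw [← hcls, hbase])
    obtain ⟨j, hj⟩ := IsPGroup.card_orbit P.isPGroup' (base d)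
    exact ⟨j, by rw [ht, Fintype.card_eq_nat_card, Nat.card_congr e, hj]⟩
  obtain ⟨j, hj⟩ := htpow
  -- (ii) u ^ t fixes the base point
  have hfix : (u ^ t) • base d = base d := by
    rw [MulAction.pow_smul_eq_iff_minimalPeriod_dvd]
    set r := Function.minimalPeriod (fun c : X => u • c) (base d) with hr
    have h1 : r ∣ orderOf u := by
      rw [hr, ← MulAction.pow_smul_eq_iff_minimalPeriod_dvd, pow_orderOf_eq_one, one_smul]
    obtain ⟨m, hm⟩ := (IsPGroup.iff_orderOf.mp P.isPGroup') u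
    rw [hm, Nat.dvd_prime_pow hp] at h1
    obtain ⟨a, -, ha⟩ := h1
    have h2 : r ≤ t := by
      have _ : Fintype (MulAction.orbit (zpowers u) (base d)) := Fintype.ofFinite _
      rw [hr, MulAction.minimalPeriod_eq_card, ht, Fintype.card_eq_nat_card, Fintype.card_eq_nat_card]
      have hsub : MulAction.orbit (zpowers u) (base d) ⊆ {c : X | cls c = d} := by
        rintro _ ⟨w, rfl⟩
        show cls ((w : (P : Subgroup G)) • base d) = d
        rw [hsmul, hbase]
      exact Nat.card_mono (Set.toFinite _) hsub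
    rw [ha, hj] at h2 ⊢
    exact pow_dvd_pow p ((Nat.pow_le_pow_iff_right hp.one_lt).mp h2)
  -- the subgroup P ∩ x P x⁻¹ and the conjugation hom
  let f : (P : Subgroup G) →* G := (MulAut.conj x⁻¹).toMonoidHom.comp (P : Subgroup G).subtype
  have hf : ∀ b : (P : Subgroup G), f b = x⁻¹ * (b : G) * x := by
    intro b; simp [f]
  let Qx : Subgroup (P : Subgroup G) := (P : Subgroup G).comap f
  have hQx : ∀ b, b ∈ Qx ↔ x⁻¹ * (b : G) * x ∈ (P : Subgroup G) := by
    intro b; rw [← hf]; exact Subgroup.mem_comap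
  let ψ : Qx →* A := ϕ.comp (f.subgroupComap (P : Subgroup G))
  have hψ : ∀ (b : (P : Subgroup G)) (hb : b ∈ Qx), ψ ⟨b, hb⟩ = gr_ext ϕ (x⁻¹ * (b : G) * x) := by
    intro b hb
    rw [gr_ext_mk ϕ _ ((hQx b).mp hb)]
    show ϕ _ = _
    congr 1
    apply Subtype.ext
    exact hf b
  have hψker : ∀ b : Qx, (b : (P : Subgroup G)) ∈ commutator (P : Subgroup G) → ψ b = 1 := by
    intro b hb
    show ϕ (f.subgroupComap _ b) = 1
    apply H2 x⁻¹
    refine ⟨((b : (P : Subgroup G)) : G), ?_, rfl⟩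
    rw [← Subgroup.map_subtype_commutator]
    exact ⟨b, hb, rfl⟩
  let σ : Equiv.Perm {c : X // cls c = d} :=
    { toFun := fun c => ⟨u⁻¹ • c.1, by rw [hsmul]; exact c.2⟩
      invFun := fun c => ⟨u • c.1, by rw [hsmul]; exact c.2⟩
      left_inv := fun c => Subtype.ext (smul_inv_smul u c.1)
      right_inv := fun c => Subtype.ext (inv_smul_smul u c.1) }
  have hterm : ∀ c : {c : X // cls c = d},
      (s c.1)⁻¹ * ((u : G) * s ((u : G)⁻¹ • c.1)) =
        x⁻¹ * (((yy c.1)⁻¹ * u * yy (σ c).1 : (P : Subgroup G)) : G) * x := by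
    intro c
    have h1 : s c.1 = (yy c.1 : G) * x := by
      show _ * _ = _; rw [c.2]
    have h2 : s ((u : G)⁻¹ • c.1) = (yy (σ c).1 : G) * x := by
      show (yy (u⁻¹ • c.1) : G) * (base (cls (u⁻¹ • c.1))).out = _
      rw [hsmul, c.2]
      rfl
    rw [h1, h2]
    simp only [Subgroup.coe_mul, Subgroup.coe_inv]
    group
  have hb : ∀ c : {c : X // cls c = d}, (yy c.1)⁻¹ * u * yy (σ c).1 ∈ Qx := by
    intro c
    rw [hQx, ← hterm c, ← QuotientGroup.eq, hs]
    have h1 : ((((u : G) * s ((u : G)⁻¹ • c.1) : G)) : X) = (u : G) • (((s ((u : G)⁻¹ • c.1) : G)) : X) := rfl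
    rw [h1, hs, smul_inv_smul]
  have hu : u ^ Fintype.card {c : X // cls c = d} ∈ Qx := by
    rw [hQx, ← ht]
    have h1 : (((x : G)) : X) = ((((u ^ t : (P : Subgroup G)) : G) * x : G) : X) := by
      have : ((((u ^ t : (P : Subgroup G)) : G) * x : G) : X) = (u ^ t) • ((x : G) : X) := rfl
      rw [this, hxc, hfix]
    have h2 := QuotientGroup.eq.mp h1
    rw [← mul_assoc] at h2
    exact h2
  have hAL := gr_prod_twist Qx ψ hψker σ (fun c => yy c.1) u hb hu
  have hLHS : ∏ c : {c : X // cls c = d}, gr_ext ϕ ((s c.1)⁻¹ * ((u : G) * s ((u : G)⁻¹ • c.1)))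
      = ∏ c : {c : X // cls c = d}, ψ ⟨(yy c.1)⁻¹ * u * yy (σ c).1, hb c⟩ :=
    Finset.prod_congr rfl (fun c _ => by rw [hterm c, hψ])
  rw [hLHS, hAL, hψ, ← ht]
  have hmem : x⁻¹ * ((u ^ t : (P : Subgroup G)) : G) * x ∈ (P : Subgroup G) := by
    have := (hQx _).mp hu
    rwa [← ht] at this
  rw [Subgroup.coe_pow] at hmem ⊢
  rcases Nat.eq_zero_or_pos j with hj0 | hj0
  · -- t = 1 : the base point is fixed by P, so x normalizes P
    rw [hj0, pow_zero] at hj
    rw [hj, pow_one] at hmem ⊢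
    have hxN : x ∈ normalizer ((P : Subgroup G) : Set G) := by
      rw [← Sylow.mem_fixedPoints_mul_left_cosets_iff_mem_normalizer, hxc]
      intro w
      have h1 : (⟨w • base d, by rw [hsmul, hbase]⟩ : {c : X // cls c = d}) = ⟨base d, hbase d⟩ := by
        have : Fintype.card {c : X // cls c = d} ≤ 1 := by rw [← ht, hj]
        exact (Fintype.card_le_one_iff_subsingleton.mp this).elim _ _
      exact congrArg Subtype.val h1
    have hcomm : ⁅(u : G)⁻¹, x⁻¹⁆ ∈ ⁅normalizer ((P : Subgroup G) : Set G),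
        normalizer ((P : Subgroup G) : Set G)⁆ :=
      commutator_mem_commutator (le_normalizer (inv_mem u.2)) (inv_mem hxN)
    have heq : x⁻¹ * (u : G) * x = (u : G) * ⁅(u : G)⁻¹, x⁻¹⁆ := by
      rw [commutatorElement_def]; group
    have hcP : ⁅(u : G)⁻¹, x⁻¹⁆ ∈ (P : Subgroup G) := by
      have : ⁅(u : G)⁻¹, x⁻¹⁆ = (u : G)⁻¹ * (x⁻¹ * (u : G) * x) := by
        rw [commutatorElement_def]; group
      rw [this]
      exact mul_mem (inv_mem u.2) hmem
    rw [heq, gr_ext_mul ϕ _ _ u.2 hcP, gr_ext_coe, gr_ext_mk ϕ _ hcP, H1 ⟨_, hcP⟩ hcomm, mul_one,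
      pow_one]
  · -- p ∣ t
    have hpt : p ∣ t := by rw [hj]; exact dvd_pow_self p hj0.ne'
    rw [hC t hpt x hmem, gr_ext_pow ϕ _ u.2, gr_ext_coe]

omit [Finite G] [Fact p.Prime] in
theorem gr_inv_conj_pow (g a : G) (m : ℕ) : (g⁻¹ * a * g) ^ m = g⁻¹ * a ^ m * g := by
  have := conj_pow (a := g⁻¹) (b := a) (i := m)
  rwa [inv_inv] at this

/-- Conjugate elements of `P` have the same image once both transfers are index powers. -/
theorem gr_conj_eq (u v : (P : Subgroup G)) (g : G) (hv : (v : G) = g⁻¹ * (u : G) * g)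
    (hTu : MonoidHom.transfer ϕ (u : G) = ϕ u ^ (P : Subgroup G).index)
    (hTv : MonoidHom.transfer ϕ (v : G) = ϕ v ^ (P : Subgroup G).index) : ϕ v = ϕ u := by
  have hp : p.Prime := Fact.out
  have h1 : MonoidHom.transfer ϕ (v : G) = MonoidHom.transfer ϕ (u : G) := by
    rw [hv, map_mul, map_mul, map_inv, mul_comm, ← mul_assoc, mul_inv_cancel, one_mul]
  rw [hTu, hTv] at h1
  have h2 : ϕ (v * u⁻¹) ^ (P : Subgroup G).index = 1 := by
    rw [map_mul, map_inv, mul_pow, inv_pow, h1, mul_inv_cancel]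
  obtain ⟨k, hk⟩ := P.isPGroup' (v * u⁻¹)
  have h3 : ϕ (v * u⁻¹) ^ (p ^ k) = 1 := by rw [← map_pow, hk, map_one]
  have hcop : Nat.Coprime (p ^ k) (P : Subgroup G).index :=
    Nat.Coprime.pow_left k ((Nat.Prime.coprime_iff_not_dvd hp).mpr P.not_dvd_index)
  have h4 := pow_gcd_eq_one.mpr ⟨h3, h2⟩
  rw [Nat.Coprime.gcd_eq_one hcop, pow_one, map_mul, map_inv] at h4
  exact mul_inv_eq_one.mp h4

theorem gr_all_C
    (H1 : ∀ a : (P : Subgroup G), (a : G) ∈ ⁅normalizer ((P : Subgroup G) : Set G),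
      normalizer ((P : Subgroup G) : Set G)⁆ → ϕ a = 1)
    (H2 : ∀ (z : G) (a : (P : Subgroup G)), (a : G) ∈
      (⁅(P : Subgroup G), (P : Subgroup G)⁆).map (MulAut.conj z).toMonoidHom → ϕ a = 1) :
    ∀ (k : ℕ) (u : (P : Subgroup G)), u ^ (p ^ k) = 1 → ∀ g : G,
      g⁻¹ * (u : G) * g ∈ (P : Subgroup G) → gr_ext ϕ (g⁻¹ * (u : G) * g) = ϕ u := by
  intro k
  induction k with
  | zero =>
    intro u hu g hg
    rw [pow_zero, pow_one] at hu
    subst hu
    have : g⁻¹ * ((1 : (P : Subgroup G)) : G) * g = ((1 : (P : Subgroup G)) : G) := by simp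
    rw [this, gr_ext_coe]
  | succ k ih =>
    intro u hu g hg
    have hT : ∀ w : (P : Subgroup G), w ^ (p ^ (k + 1)) = 1 →
        MonoidHom.transfer ϕ (w : G) = ϕ w ^ (P : Subgroup G).index := by
      intro w hw
      apply gr_key P ϕ H1 H2 w
      intro t hpt g' hg'
      obtain ⟨t', rfl⟩ := hpt
      have h1 : (w ^ (p * t')) ^ (p ^ k) = 1 := by
        rw [← pow_mul, mul_comm p t', mul_assoc, ← pow_succ', mul_comm, pow_mul, hw, one_pow]
      have h2 := ih (w ^ (p * t')) h1 g' (by rw [Subgroup.coe_pow]; exact hg')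
      rw [Subgroup.coe_pow] at h2
      rw [h2, ← Subgroup.coe_pow, gr_ext_coe]
    have hv : (⟨g⁻¹ * (u : G) * g, hg⟩ : (P : Subgroup G)) ^ (p ^ (k + 1)) = 1 := by
      apply Subtype.ext
      rw [Subgroup.coe_pow]
      show (g⁻¹ * (u : G) * g) ^ (p ^ (k + 1)) = 1
      rw [gr_inv_conj_pow, ← Subgroup.coe_pow, hu]
      simp
    rw [gr_ext_mk ϕ _ hg]
    exact gr_conj_eq P ϕ u ⟨g⁻¹ * (u : G) * g, hg⟩ g rfl (hT u hu) (hT _ hv)

/-- Gruen: a hom from `P` to an abelian group killing `P ∩ N'` and all `P ∩ (P')^z`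
kills `P ∩ G'`. -/
theorem gr_final
    (H1 : ∀ a : (P : Subgroup G), (a : G) ∈ ⁅normalizer ((P : Subgroup G) : Set G),
      normalizer ((P : Subgroup G) : Set G)⁆ → ϕ a = 1)
    (H2 : ∀ (z : G) (a : (P : Subgroup G)), (a : G) ∈
      (⁅(P : Subgroup G), (P : Subgroup G)⁆).map (MulAut.conj z).toMonoidHom → ϕ a = 1)
    (u : (P : Subgroup G)) (hu : (u : G) ∈ commutator G) : ϕ u = 1 := by
  have hp : p.Prime := Fact.out
  have hT : MonoidHom.transfer ϕ (u : G) = ϕ u ^ (P : Subgroup G).index := by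
    apply gr_key P ϕ H1 H2 u
    intro t _ g hg
    obtain ⟨k', hk'⟩ := P.isPGroup' (u ^ t)
    have h2 := gr_all_C P ϕ H1 H2 k' (u ^ t) hk' g (by rw [Subgroup.coe_pow]; exact hg)
    rw [Subgroup.coe_pow] at h2
    rw [h2, ← Subgroup.coe_pow, gr_ext_coe]
  have h1 : MonoidHom.transfer ϕ (u : G) = 1 :=
    MonoidHom.mem_ker.mp (Abelianization.commutator_subset_ker _ hu)
  rw [h1] at hT
  obtain ⟨k, hk⟩ := P.isPGroup' u
  have h3 : ϕ u ^ (p ^ k) = 1 := by rw [← map_pow, hk, map_one]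
  have hcop : Nat.Coprime (p ^ k) (P : Subgroup G).index :=
    Nat.Coprime.pow_left k ((Nat.Prime.coprime_iff_not_dvd hp).mpr P.not_dvd_index)
  have h4 := pow_gcd_eq_one.mpr ⟨h3, hT.symm⟩
  rwa [Nat.Coprime.gcd_eq_one hcop, pow_one] at h4

end Grun

end Cfsg.Agent.Lib.Helper70
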