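import Mathlib
-- copy of Lib/Helper1/Basic.lean (by helper1), renamespaced

set_option autoImplicit false

namespace Cfsg.Agent.Lib.Helper70.H1

universe u

open scoped Pointwise commutatorElement

/-- strong induction on the order of a finite group -/
theorem finite_group_induction (P : ∀ (G : Type u) [Group G], Prop)
    (h : ∀ (G : Type u) [Group G] [Finite G],
      (∀ (G' : Type u) [Group G'] [Finite G'], Nat.card G' < Nat.card G → P G') → P G)
    (G : Type u) [Group G] [Finite G] : P G := by
  suffices H : ∀ n, ∀ (G : Type u) [Group G] [Finite G], Nat.card G = n → P G from H _ G rfl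
  intro n
  induction n using Nat.strong_induction_on with
  | _ n ih =>
    intro G _ _ hn
    apply h G
    intro G' _ _ hlt
    exact ih (Nat.card G') (hn ▸ hlt) G' rfl

variable {G : Type u} [Group G]

theorem commutator_lt_of_solvable (N : Subgroup G) (hs : Group.IsSolvable N) (hN : N ≠ ⊥) :
    ⁅N, N⁆ < N := by
  rw [← Subgroup.nontrivial_iff_ne_bot] at hN
  have h := Group.IsSolvable.commutator_lt_top_of_nontrivial N
  rw [← Subgroup.map_subtype_lt_map_subtype, Subgroup.map_subtype_commutator,
    ← MonoidHom.range_eq_map, Subgroup.range_subtype] at h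
  exact h

theorem isSolvable_of_le {H K : Subgroup G} (h : H ≤ K) (hK : Group.IsSolvable K) :
    Group.IsSolvable H :=
  Group.isSolvable_of_isSolvable_injective (Subgroup.inclusion_injective h)

theorem isMulCommutative_of_commutator_eq_bot (N : Subgroup G) (h : ⁅N, N⁆ = ⊥) :
    IsMulCommutative N := by
  refine ⟨⟨fun a b => ?_⟩⟩
  have : ⁅(a : G), (b : G)⁆ ∈ (⁅N, N⁆ : Subgroup G) := Subgroup.commutator_mem_commutator a.2 b.2
  rw [h, Subgroup.mem_bot, commutatorElement_eq_one_iff_mul_comm] at this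
  exact Subtype.ext this

/-- A nontrivial solvable normal subgroup of a finite group contains a nontrivial abelian
subgroup which is normal in the whole group. -/
theorem exists_normal_abelian_le [Finite G] (N : Subgroup G) [hn : N.Normal]
    (hs : Group.IsSolvable N) (hN : N ≠ ⊥) :
    ∃ D : Subgroup G, D ≤ N ∧ D.Normal ∧ D ≠ ⊥ ∧ IsMulCommutative D := by
  revert hn hs hN
  induction N using WellFoundedLT.induction with
  | ind N ih =>
    intro hn hs hN
    by_cases hc : ⁅N, N⁆ = ⊥
    · exact ⟨N, le_rfl, hn, hN, isMulCommutative_of_commutator_eq_bot N hc⟩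
    · have hlt := commutator_lt_of_solvable N hs hN
      have : (⁅N, N⁆).Normal := Subgroup.commutator_normal N N
      obtain ⟨D, hD, h1, h2, h3⟩ := ih ⁅N, N⁆ hlt (isSolvable_of_le hlt.le hs) hc
      exact ⟨D, hD.trans hlt.le, h1, h2, h3⟩

/-- the elements of exponent `p` in an abelian subgroup -/
def torsionBy (D : Subgroup G) [IsMulCommutative D] (p : ℕ) : Subgroup G where
  carrier := {x | x ∈ D ∧ x ^ p = 1}
  one_mem' := ⟨D.one_mem, one_pow p⟩
  mul_mem' := by
    rintro a b ⟨ha, ha'⟩ ⟨hb, hb'⟩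
    refine ⟨D.mul_mem ha hb, ?_⟩
    have hc : Commute a b := setLike_mul_comm ha hb
    rw [hc.mul_pow, ha', hb', one_mul]
  inv_mem' := by
    rintro a ⟨ha, ha'⟩
    exact ⟨D.inv_mem ha, by rw [inv_pow, ha', inv_one]⟩

theorem mem_torsionBy (D : Subgroup G) [IsMulCommutative D] (p : ℕ) (x : G) :
    x ∈ torsionBy D p ↔ x ∈ D ∧ x ^ p = 1 := Iff.rfl

theorem torsionBy_le (D : Subgroup G) [IsMulCommutative D] (p : ℕ) : torsionBy D p ≤ D :=
  fun _ hx => hx.1

instance torsionBy_normal (D : Subgroup G) [IsMulCommutative D] [hD : D.Normal] (p : ℕ) :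
    (torsionBy D p).Normal := by
  refine ⟨fun x hx g => ⟨hD.conj_mem x hx.1 g, ?_⟩⟩
  rw [conj_pow, hx.2, mul_one, mul_inv_cancel]

instance torsionBy_comm (D : Subgroup G) [IsMulCommutative D] (p : ℕ) :
    IsMulCommutative (torsionBy D p) := by
  refine ⟨⟨fun a b => ?_⟩⟩
  exact Subtype.ext (setLike_mul_comm a.2.1 b.2.1)

/-- A nontrivial solvable normal subgroup of a finite group contains a nontrivial elementary
abelian subgroup which is normal in the whole group. -/
theorem exists_normal_elementary_le [Finite G] (N : Subgroup G) [hn : N.Normal]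
    (hs : Group.IsSolvable N) (hN : N ≠ ⊥) :
    ∃ (p : ℕ) (R : Subgroup G), p.Prime ∧ R ≤ N ∧ R.Normal ∧ R ≠ ⊥ ∧ IsMulCommutative R ∧
      ∀ x ∈ R, x ^ p = 1 := by
  obtain ⟨D, hDN, hDn, hD, hDc⟩ := exists_normal_abelian_le N hs hN
  have hcard : Nat.card D ≠ 1 := by
    rwa [Ne, Subgroup.card_eq_one]
  set p := (Nat.card D).minFac with hp
  have hpp : p.Prime := Nat.minFac_prime hcard
  have : Fact p.Prime := ⟨hpp⟩
  obtain ⟨x, hx⟩ := exists_prime_orderOf_dvd_card' (G := D) p (Nat.minFac_dvd _)
  refine ⟨p, torsionBy D p, hpp, (torsionBy_le D p).trans hDN, inferInstance, ?_, inferInstance,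
    fun x hx => hx.2⟩
  intro hbot
  have hxm : (x : G) ∈ torsionBy D p := by
    refine ⟨x.2, ?_⟩
    have := pow_orderOf_eq_one x
    rw [hx] at this
    exact_mod_cast congrArg Subtype.val this
  rw [hbot, Subgroup.mem_bot] at hxm
  have : x = 1 := Subtype.ext hxm
  rw [this, orderOf_one] at hx
  exact hpp.one_lt.ne hx

end Cfsg.Agent.Lib.Helper70.H1
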