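import Mathlib
import Cfsg.Agent.Lib.Helper66.Frobenius

set_option autoImplicit false

/-!
P. Hall's generalisation of Frobenius' theorem: the number of solutions of `x ^ n = c` is a multiple
of `gcd (n, |C_G(c)|)`.  Builds on helper66's proof of Frobenius' theorem (the case `c = 1`).
-/

namespace Cfsg.Agent.Lib.Helper70

open Cfsg.Agent.Lib.Helper66 Subgroup

universe u

/-- number of solutions of `x ^ n = c` -/
noncomputable def hfSol (G : Type*) [Group G] (n : ℕ) (c : G) : ℕ := Nat.card {x : G // x ^ n = c}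

theorem hfSol_one (G : Type*) [Group G] (n : ℕ) : hfSol G n 1 = cnt G n := rfl

theorem hfSol_conj {G : Type*} [Group G] (n : ℕ) (c g : G) :
    hfSol G n (g * c * g⁻¹) = hfSol G n c := by
  unfold hfSol
  apply Nat.card_congr
  refine ⟨fun x => ⟨g⁻¹ * x.1 * g, ?_⟩, fun x => ⟨g * x.1 * g⁻¹, ?_⟩, ?_, ?_⟩
  · have := conj_pow (a := g⁻¹) (b := x.1) (i := n)
    rw [inv_inv] at this
    rw [this, x.2]; group
  · rw [conj_pow, x.2]
  · intro x; apply Subtype.ext; simp only; group
  · intro x; apply Subtype.ext; simp only; group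

theorem hfSol_centralizer {G : Type*} [Group G] (n : ℕ) (c : G)
    (hc : c ∈ centralizer ({c} : Set G)) :
    hfSol (centralizer ({c} : Set G)) n ⟨c, hc⟩ = hfSol G n c := by
  unfold hfSol
  apply Nat.card_congr
  refine ⟨fun x => ⟨x.1.1, ?_⟩, fun x => ⟨⟨x.1, ?_⟩, ?_⟩, ?_, ?_⟩
  · have := congrArg Subtype.val x.2
    simpa using this
  · rw [mem_centralizer_singleton_iff]
    have h := x.2
    calc x.1 * c = x.1 * x.1 ^ n := by rw [h]
      _ = x.1 ^ n * x.1 := by rw [← pow_succ, ← pow_succ']
      _ = c * x.1 := by rw [h]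
  · apply Subtype.ext
    simp only [Subgroup.coe_pow]
    exact x.2
  · intro x; rfl
  · intro x; rfl

/-- translating by a central `n`-th root -/
theorem hfSol_mul_central {G : Type*} [Group G] (n : ℕ) (c d : G)
    (hd : ∀ g : G, g * d = d * g) : hfSol G n (c * d ^ n) = hfSol G n c := by
  unfold hfSol
  apply Nat.card_congr
  refine ⟨fun x => ⟨x.1 * d⁻¹, ?_⟩, fun x => ⟨x.1 * d, ?_⟩, ?_, ?_⟩
  · have hcomm : Commute x.1 d⁻¹ := (Commute.inv_right (hd x.1))
    rw [hcomm.mul_pow, x.2, inv_pow, mul_assoc, mul_inv_cancel, mul_one]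
  · have hcomm : Commute x.1 d := hd x.1
    rw [hcomm.mul_pow, x.2]
  · intro x; apply Subtype.ext; simp
  · intro x; apply Subtype.ext; simp

theorem hfSol_eq_card_filter {G : Type*} [Group G] [Fintype G] [DecidableEq G] (n : ℕ) (c : G) :
    hfSol G n c = (Finset.univ.filter (fun x : G => x ^ n = c)).card := by
  unfold hfSol
  rw [Nat.card_eq_fintype_card, Fintype.card_subtype]

/-- splitting `n = n₁ * n₂` -/
theorem hfSol_mul {G : Type*} [Group G] [Fintype G] [DecidableEq G] (n₁ n₂ : ℕ) (c : G) :
    hfSol G (n₁ * n₂) c = ∑ y ∈ Finset.univ.filter (fun y : G => y ^ n₂ = c), hfSol G n₁ y := by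
  rw [hfSol_eq_card_filter]
  rw [Finset.card_eq_sum_card_fiberwise (f := fun x : G => x ^ n₁)
    (t := Finset.univ.filter (fun y : G => y ^ n₂ = c))]
  · apply Finset.sum_congr rfl
    intro y hy
    rw [hfSol_eq_card_filter]
    congr 1
    ext x
    simp only [Finset.mem_filter, Finset.mem_univ, true_and]
    constructor
    · exact fun h => h.2
    · intro h
      refine ⟨?_, h⟩
      rw [pow_mul, h]
      exact (Finset.mem_filter.mp hy).2
  · intro x hx
    simp only [Finset.coe_filter, Finset.mem_univ, true_and, Set.mem_ofPred_eq] at hx ⊢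
    rw [← pow_mul]; exact hx

theorem hf_totient_pow_mul {p : ℕ} (hp : p.Prime) (a k : ℕ) (hpk : p ∣ k) :
    Nat.totient (p ^ a * k) = p ^ a * Nat.totient k := by
  induction a with
  | zero => simp
  | succ a ih =>
    rw [pow_succ', mul_assoc, Nat.totient_mul_of_prime_of_dvd hp (Dvd.dvd.mul_left hpk _), ih,
      mul_assoc]

/-- If `x ^ (p ^ a) = c` and `p ∣ orderOf c` then `orderOf x = p ^ a * orderOf c`. -/
theorem hf_orderOf_of_pow_eq {G : Type*} [Group G] [Finite G] {p : ℕ} (hp : p.Prime) (a : ℕ)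
    {x c : G} (hx : x ^ (p ^ a) = c) (hpc : p ∣ orderOf c) : orderOf x = p ^ a * orderOf c := by
  have h1 : orderOf c = orderOf x / (orderOf x).gcd (p ^ a) := by
    rw [← hx]; exact orderOf_pow' x (pow_pos hp.pos a).ne'
  have hg : (orderOf x).gcd (p ^ a) ∣ p ^ a := Nat.gcd_dvd_right _ _
  obtain ⟨e, hea, he⟩ := (Nat.dvd_prime_pow hp).mp hg
  have h2 : orderOf x = p ^ e * orderOf c := by
    rw [h1, he]
    exact (Nat.mul_div_cancel' (he ▸ Nat.gcd_dvd_left _ _)).symm
  rcases Nat.lt_or_ge e a with hlt | hge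
  · exfalso
    obtain ⟨k', hk'⟩ := hpc
    have h3 : p ^ (e + 1) ∣ orderOf x := by
      rw [h2, hk', pow_succ, ← mul_assoc]
      exact Dvd.intro _ rfl
    have h4 : p ^ (e + 1) ∣ p ^ a := pow_dvd_pow p hlt
    have h5 : p ^ (e + 1) ∣ p ^ e := by
      rw [← he]; exact Nat.dvd_gcd h3 h4
    have := Nat.pow_dvd_pow_iff_le_right hp.one_lt |>.mp h5
    omega
  · have : e = a := le_antisymm hea hge
    rw [h2, this]

/-- Free power action: if `p` divides the order of `c`, the solutions of `x ^ (p ^ a) = c` come in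
blocks of size `p ^ a`. -/
theorem hf_pow_dvd_sol {G : Type*} [Group G] [Finite G] {p : ℕ} (hp : p.Prime) (a : ℕ) (c : G)
    (hpc : p ∣ orderOf c) : p ^ a ∣ hfSol G (p ^ a) c := by
  classical
  have _ : Fintype G := Fintype.ofFinite G
  set k := orderOf c with hk
  have hkpos : 0 < k := orderOf_pos c
  set M := p ^ a * k with hM
  have hMpos : 0 < M := Nat.mul_pos (pow_pos hp.pos a) hkpos
  have _ : NeZero M := ⟨hMpos.ne'⟩
  have _ : NeZero k := ⟨hkpos.ne'⟩
  have hkM : k ∣ M := Dvd.intro_left _ rfl
  let _ := powAction G M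
  let U : Subgroup (ZMod M)ˣ := (ZMod.unitsMap hkM).ker
  -- cardinality of U
  have hUcard : Nat.card U = p ^ a := by
    have hsurj := ZMod.unitsMap_surjective hkM
    have h1 := Subgroup.card_eq_card_quotient_mul_card_subgroup U
    have h2 : Nat.card ((ZMod M)ˣ ⧸ U) = Nat.card (ZMod k)ˣ :=
      Nat.card_congr (QuotientGroup.quotientKerEquivOfSurjective _ hsurj).toEquiv
    rw [h2, Nat.card_eq_fintype_card, Nat.card_eq_fintype_card, ZMod.card_units_eq_totient,
      ZMod.card_units_eq_totient] at h1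
    have h3 : Nat.totient M = p ^ a * Nat.totient k := hf_totient_pow_mul hp a k hpc
    rw [h3, mul_comm] at h1
    exact (Nat.eq_of_mul_eq_mul_left (Nat.totient_pos.mpr hkpos) h1).symm
  -- elements of U fix c under powers
  have hUc : ∀ u : U, c ^ ((u : (ZMod M)ˣ) : ZMod M).val = c := by
    intro u
    have h1 : ZMod.unitsMap hkM (u : (ZMod M)ˣ) = 1 := u.2
    have h2 : ((ZMod.unitsMap hkM (u : (ZMod M)ˣ) : (ZMod k)ˣ) : ZMod k) = 1 := by rw [h1]; rfl
    rw [ZMod.unitsMap_def, Units.coe_map] at h2
    have h3 : ((((u : (ZMod M)ˣ) : ZMod M).val : ℕ) : ZMod k) = ((1 : ℕ) : ZMod k) := by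
      rw [Nat.cast_one, ← h2]
      simp [ZMod.natCast_val]
    rw [ZMod.natCast_eq_natCast_iff] at h3
    have h4 : c ^ ((u : (ZMod M)ˣ) : ZMod M).val = c ^ 1 := by
      rw [pow_eq_pow_iff_modEq]; exact h3
    rw [h4, pow_one]
  rw [hfSol_eq_card_filter, Finset.card_eq_sum_ones]
  apply dvd_sum_of_invariant (G := U) (p ^ a) (fun _ : G => 1) (fun _ _ => rfl)
  · intro u x hx
    rw [Finset.mem_filter] at hx ⊢
    refine ⟨Finset.mem_univ _, ?_⟩
    have hxM : x ^ M = 1 := by
      rw [hM, pow_mul, hx.2, hk]; exact pow_orderOf_eq_one c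
    have : u • x = x ^ ((u : (ZMod M)ˣ) : ZMod M).val :=
      powAction_smul_of_pow_eq_one M (u : (ZMod M)ˣ) x hxM
    rw [this, ← pow_mul, mul_comm, pow_mul, hx.2]
    exact hUc u
  · intro x hx
    rw [Finset.mem_filter] at hx
    have hox : orderOf x = M := hf_orderOf_of_pow_eq hp a hx.2 hpc
    have hstab : MulAction.stabilizer U x = ⊥ := by
      rw [eq_bot_iff]
      intro u hu
      rw [MulAction.mem_stabilizer_iff] at hu
      have h1 : (u : (ZMod M)ˣ) ∈ MulAction.stabilizer (ZMod M)ˣ x := by
        rw [MulAction.mem_stabilizer_iff]; exact hu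
      rw [powAction_stabilizer M x hox, Subgroup.mem_bot] at h1
      rw [Subgroup.mem_bot]
      exact Subtype.ext h1
    rw [mul_one, ← MulAction.index_stabilizer, hstab, Subgroup.index_bot, hUcard]

/-- prime power exponent, central right-hand side -/
theorem hf_prime_pow {G : Type u} [Group G] [Finite G] {p : ℕ} (hp : p.Prime) (a : ℕ) (c : G)
    (hc : ∀ g : G, g * c = c * g) : Nat.gcd (p ^ a) (Nat.card G) ∣ hfSol G (p ^ a) c := by
  by_cases hpc : p ∣ orderOf c
  · exact (Nat.gcd_dvd_left _ _).trans (hf_pow_dvd_sol hp a c hpc)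
  · have hfrob : Nat.gcd (p ^ a) (Nat.card G) ∣ hfSol G (p ^ a) 1 := by
      rw [hfSol_one, ← cnt_gcd]
      exact frobenius_main (Nat.card G) G rfl _ (Nat.gcd_dvd_right _ _)
    by_cases hc1 : orderOf c = 1
    · rw [orderOf_eq_one_iff] at hc1
      rw [hc1]; exact hfrob
    · have hcop : Nat.Coprime (p ^ a) (orderOf c) :=
        Nat.Coprime.pow_left a ((Nat.Prime.coprime_iff_not_dvd hp).mpr hpc)
      have hk1 : 1 < orderOf c := by
        have := orderOf_pos c
        omega
      obtain ⟨w, -, hw⟩ := Nat.exists_mul_mod_eq_one_of_coprime hcop hk1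
      have hd : (c ^ w) ^ (p ^ a) = c := by
        rw [← pow_mul, mul_comm]
        have : c ^ (p ^ a * w) = c ^ 1 := by
          rw [pow_eq_pow_iff_modEq]
          show p ^ a * w % orderOf c = 1 % orderOf c
          rw [hw, Nat.mod_eq_of_lt hk1]
        rw [this, pow_one]
      have hdc : ∀ g : G, g * c ^ w = c ^ w * g := fun g => (Commute.pow_right (hc g) w).eq
      have := hfSol_mul_central (p ^ a) (1 : G) (c ^ w) hdc
      rw [hd, one_mul] at this
      rw [this]; exact hfrob

theorem hf_orbit_mul_card {G : Type*} [Group G] [Finite G] (y : G) :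
    (MulAction.orbit (ConjAct G) y).ncard * Nat.card (centralizer ({y} : Set G)) = Nat.card G := by
  rw [← MulAction.index_stabilizer, Subgroup.nat_card_centralizer_nat_card_stabilizer, mul_comm]
  exact Subgroup.card_mul_index _

/-- one half of the coprime splitting step -/
theorem hf_split_dvd {G : Type u} [Group G] [Finite G] (n₁ n₂ : ℕ) (c : G)
    (hc : ∀ g : G, g * c = c * g)
    (IH : ∀ y : G, Nat.gcd n₁ (Nat.card (centralizer ({y} : Set G))) ∣ hfSol G n₁ y) :
    Nat.gcd n₁ (Nat.card G) ∣ hfSol G (n₁ * n₂) c := by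
  classical
  have _ : Fintype G := Fintype.ofFinite G
  rw [hfSol_mul]
  apply dvd_sum_of_invariant (G := ConjAct G) (Nat.gcd n₁ (Nat.card G)) (fun y : G => hfSol G n₁ y)
  · intro g y
    rw [ConjAct.smul_def]
    exact hfSol_conj n₁ y _
  · intro g y hy
    rw [Finset.mem_filter] at hy ⊢
    refine ⟨Finset.mem_univ _, ?_⟩
    rw [ConjAct.smul_def, conj_pow, hy.2, hc, mul_inv_cancel_right]
  · intro y _
    have h1 : Nat.gcd n₁ (Nat.card G) ∣ (MulAction.orbit (ConjAct G) y).ncard *
        Nat.card (centralizer ({y} : Set G)) := by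
      rw [hf_orbit_mul_card]; exact Nat.gcd_dvd_right _ _
    have h2 := dvd_mul_gcd_of_dvd_mul _ _ _ h1
    refine h2.trans (Nat.mul_dvd_mul_left _ ?_)
    refine dvd_trans ?_ (IH y)
    exact Nat.dvd_gcd ((Nat.gcd_dvd_left _ _).trans (Nat.gcd_dvd_left _ _)) (Nat.gcd_dvd_right _ _)

/-- **P. Hall / Frobenius**: the number of solutions of `x ^ n = c` is a multiple of
`gcd (n, |C_G(c)|)`. -/
theorem hf_main : ∀ N : ℕ, ∀ (G : Type u) [Group G] [Finite G], Nat.card G = N → ∀ n : ℕ,
    ∀ c : G, Nat.gcd n (Nat.card (centralizer ({c} : Set G))) ∣ hfSol G n c := by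
  intro N
  induction N using Nat.strong_induction_on with
  | _ N IHN =>
  intro G _ _ hG n
  induction n using Nat.strong_induction_on with
  | _ n IHn =>
  intro c
  by_cases hcent : ∀ g : G, g * c = c * g
  · -- central case
    have hCtop : centralizer ({c} : Set G) = ⊤ := by
      rw [eq_top_iff]
      intro g _
      rw [mem_centralizer_singleton_iff]; exact hcent g
    rw [hCtop, Subgroup.card_top]
    rcases Nat.lt_or_ge n 2 with hn2 | hn2
    · interval_cases n
      · -- n = 0
        rw [Nat.gcd_zero_left]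
        unfold hfSol
        by_cases hc1 : c = 1
        · have : Nat.card {x : G // x ^ 0 = c} = Nat.card G := by
            apply Nat.card_congr
            exact Equiv.subtypeUnivEquiv (fun x => by rw [pow_zero, hc1])
          rw [this]
        · have : IsEmpty {x : G // x ^ 0 = c} := by
            constructor
            rintro ⟨x, hx⟩
            rw [pow_zero] at hx
            exact hc1 hx.symm
          have h0 : Nat.card {x : G // x ^ 0 = c} = 0 := Nat.card_of_isEmpty
          rw [h0]
          exact dvd_zero _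
      · rw [Nat.gcd_one_left]; exact one_dvd _
    · have hn0 : n ≠ 0 := by omega
      have hn1 : n ≠ 1 := by omega
      have hp : (n.minFac).Prime := Nat.minFac_prime hn1
      set p := n.minFac with hpdef
      obtain ⟨a, s, hps, hns⟩ := Nat.exists_eq_pow_mul_and_not_dvd hn0 p hp.ne_one
      have ha : a ≠ 0 := by
        intro h
        rw [h, pow_zero, one_mul] at hns
        exact hps (hns ▸ Nat.minFac_dvd n)
      have hs0 : s ≠ 0 := by
        intro h; rw [h, mul_zero] at hns; exact hn0 hns
      by_cases hs1 : s = 1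
      · rw [hns, hs1, mul_one]
        exact hf_prime_pow hp a c hcent
      · have hpa1 : 1 < p ^ a := Nat.one_lt_pow ha hp.one_lt
        have hs2 : 1 < s := by omega
        have hlt1 : p ^ a < n := by rw [hns]; exact (Nat.lt_mul_iff_one_lt_right (by omega)).mpr hs2
        have hlt2 : s < n := by rw [hns]; exact (Nat.lt_mul_iff_one_lt_left (by omega)).mpr hpa1
        have hcop : Nat.Coprime (p ^ a) s :=
          Nat.Coprime.pow_left a ((Nat.Prime.coprime_iff_not_dvd hp).mpr hps)
        have h1 : Nat.gcd (p ^ a) (Nat.card G) ∣ hfSol G (p ^ a * s) c :=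
          hf_split_dvd (p ^ a) s c hcent (fun y => IHn (p ^ a) hlt1 y)
        have h2 : Nat.gcd s (Nat.card G) ∣ hfSol G (s * p ^ a) c :=
          hf_split_dvd s (p ^ a) c hcent (fun y => IHn s hlt2 y)
        rw [mul_comm s] at h2
        have hcop' : Nat.Coprime (Nat.gcd (p ^ a) (Nat.card G)) (Nat.gcd s (Nat.card G)) :=
          Nat.Coprime.coprime_dvd_left (Nat.gcd_dvd_left _ _)
            (Nat.Coprime.coprime_dvd_right (Nat.gcd_dvd_left _ _) hcop)
        have h3 := Nat.Coprime.mul_dvd_of_dvd_of_dvd hcop' h1 h2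
        rw [hns, Nat.gcd_comm, Nat.Coprime.gcd_mul _ hcop, Nat.gcd_comm (Nat.card G),
          Nat.gcd_comm (Nat.card G)]
        exact h3
  · -- non-central case: pass to the centralizer
    have hcC : c ∈ centralizer ({c} : Set G) := by
      rw [mem_centralizer_singleton_iff]
    have hlt : Nat.card (centralizer ({c} : Set G)) < N := by
      rw [← hG]
      have hne : centralizer ({c} : Set G) ≠ ⊤ := by
        intro h
        apply hcent
        intro g
        have : g ∈ centralizer ({c} : Set G) := by rw [h]; exact mem_top g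
        rwa [mem_centralizer_singleton_iff] at this
      have hle := Subgroup.card_le_card_group (centralizer ({c} : Set G))
      rcases hle.lt_or_eq with h | h
      · exact h
      · exact absurd ((Subgroup.card_eq_iff_eq_top _).mp h) hne
    have key := IHN _ hlt (centralizer ({c} : Set G)) rfl n ⟨c, hcC⟩
    have hCC : centralizer ({(⟨c, hcC⟩ : centralizer ({c} : Set G))} : Set (centralizer ({c} : Set G))) = ⊤ := by
      rw [eq_top_iff]
      intro z _
      rw [mem_centralizer_singleton_iff]
      apply Subtype.ext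
      have := z.2
      rw [mem_centralizer_singleton_iff] at this
      exact this
    rw [hCC, Subgroup.card_top, hfSol_centralizer] at key
    exact key

end Cfsg.Agent.Lib.Helper70
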