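import Mathlib
import Cfsg.Agent.Lib.Helper2.PGroup
import Cfsg.Agent.Lib.Helper10.Frattini
import Cfsg.Agent.Lib.Helper47.Frattini
import Cfsg.Agent.Lib.Helper35.TwoGroupAut

/-!
# Frattini index calculus for finite `2`-groups

Sub-multiplicativity of the index of the Frattini subgroup along a homomorphism, and some
auxiliary counting lemmas used for the Kovacs--Robinson style bound.
-/

set_option autoImplicit false

namespace Cfsg.Agent.Lib.Helper70

open Subgroup
open scoped commutatorElement

/-- The Frattini index is invariant under isomorphism. -/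
theorem kr_fi_congr {G H : Type*} [Group G] [Group H] (e : G ≃* H) :
    (frattini G).index = (frattini H).index := by
  have h1 : frattini G ≤ (frattini H).comap e.toMonoidHom :=
    frattini_le_comap_frattini_of_surjective e.surjective
  have h2 : frattini H ≤ (frattini G).comap e.symm.toMonoidHom :=
    frattini_le_comap_frattini_of_surjective e.symm.surjective
  have h3 : (frattini H).comap e.toMonoidHom = frattini G := by
    apply le_antisymm
    · intro x hx
      have := h2 hx
      simpa using this
    · exact h1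
  rw [← h3]
  exact Subgroup.index_comap_of_surjective (f := e.toMonoidHom) (frattini H) e.surjective

/-- For an endomorphism of a finite group, the index of the range is the order of the kernel. -/
theorem kr_index_range_eq_card_ker {K : Type*} [Group K] [Finite K] (φ : K →* K) :
    φ.range.index = Nat.card φ.ker := by
  have h1 : Nat.card φ.ker * φ.ker.index = Nat.card K := (φ.ker).card_mul_index
  have h2 : Nat.card φ.range * φ.range.index = Nat.card K := (φ.range).card_mul_index
  rw [Subgroup.index_ker] at h1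
  have hpos : 0 < Nat.card φ.range := Nat.card_pos
  have : Nat.card φ.range * φ.range.index = Nat.card φ.range * Nat.card φ.ker := by
    rw [h2, ← h1, mul_comm]
  exact Nat.eq_of_mul_eq_mul_left hpos this

/-- Refined sub-multiplicativity: `|H : Φ(H)| ≤ |R : Φ(R)| * |L : L ∩ Φ(H)|` for `R` the range and `L`
the kernel of a homomorphism out of a finite `2`-group `H`. -/
theorem kr_fi_le_range_mul {H X : Type*} [Group H] [Finite H] [Group X] (hH : IsPGroup 2 H)
    (φ : H →* X) :
    (frattini H).index ≤ (frattini φ.range).index * ((frattini H).subgroupOf φ.ker).index := by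
  haveI : Fact (Nat.Prime 2) := ⟨Nat.prime_two⟩
  have hsurj : Function.Surjective φ.rangeRestrict := φ.rangeRestrict_surjective
  haveI : Finite φ.range := Finite.of_surjective _ hsurj
  have h1 : (frattini H).relIndex (frattini H ⊔ φ.ker) * (frattini H ⊔ φ.ker).index =
      (frattini H).index := Subgroup.relIndex_mul_index le_sup_left
  have h2 : (frattini H).relIndex (frattini H ⊔ φ.ker) = (frattini H).relIndex φ.ker :=
    Subgroup.relIndex_sup_left _ _
  have hle : frattini φ.range ≤ (frattini H).map φ.rangeRestrict := by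
    apply Cfsg.Agent.Lib.Helper47.frattini_le_of_elementary_abelian_quotient 2
    · intro x y
      obtain ⟨x', rfl⟩ := hsurj x
      obtain ⟨y', rfl⟩ := hsurj y
      rw [← map_commutatorElement]
      apply Subgroup.mem_map_of_mem
      apply Cfsg.Agent.Lib.Helper2.commutator_le_frattini hH
      exact Subgroup.commutator_mem_commutator (Subgroup.mem_top _) (Subgroup.mem_top _)
    · intro x
      obtain ⟨x', rfl⟩ := hsurj x
      rw [← map_pow]
      exact Subgroup.mem_map_of_mem _ (Cfsg.Agent.Lib.Helper2.pow_mem_frattini hH x')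
  have h3 : (frattini H ⊔ φ.ker).index ≤ (frattini φ.range).index := by
    rw [← Subgroup.index_comap_of_surjective (frattini φ.range) hsurj]
    apply Subgroup.index_antitone
    intro x hx
    rw [Subgroup.mem_comap] at hx
    obtain ⟨a, ha, hax⟩ := hle hx
    have hk : a⁻¹ * x ∈ φ.ker := by
      rw [MonoidHom.mem_ker]
      have h := congrArg (fun z : φ.range => (z : X)) hax
      simp only [MonoidHom.coe_rangeRestrict] at h
      rw [map_mul, map_inv, h, inv_mul_cancel]
    have : x = a * (a⁻¹ * x) := by group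
    rw [this]
    exact Subgroup.mul_mem_sup ha hk
  calc (frattini H).index = (frattini H).relIndex φ.ker * (frattini H ⊔ φ.ker).index := by
        rw [← h2, h1]
    _ ≤ (frattini H).relIndex φ.ker * (frattini φ.range).index := Nat.mul_le_mul_left _ h3
    _ = (frattini φ.range).index * ((frattini H).subgroupOf φ.ker).index := by
        rw [mul_comm]; rfl

/-- The Frattini subgroup of a normal subgroup lies in the Frattini subgroup. -/
theorem kr_frattini_normal_le {H : Type*} [Group H] [Finite H] (L : Subgroup H) [hL : L.Normal] :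
    (frattini L).map L.subtype ≤ frattini H := by
  haveI : ((frattini L).map L.subtype).Normal := by
    refine ⟨fun n hn g => ?_⟩
    obtain ⟨m, hm, rfl⟩ := hn
    have hchar : (frattini L).Characteristic := frattini_characteristic
    have hmem : (MulAut.conjNormal g : MulAut L) m ∈ frattini L := by
      rw [← hchar.fixed ((MulAut.conjNormal g : MulAut L)⁻¹), Subgroup.mem_comap]
      simpa using hm
    refine ⟨(MulAut.conjNormal g : MulAut L) m, hmem, ?_⟩
    simp [MulAut.conjNormal_apply]
  exact Cfsg.Agent.Lib.Helper10.le_frattini_of_normal_le_frattini_sub L _ le_rfl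

/-- Sub-multiplicativity of the Frattini index along a homomorphism. -/
theorem kr_fi_le_range_mul_ker {H X : Type*} [Group H] [Finite H] [Group X] (hH : IsPGroup 2 H)
    (φ : H →* X) :
    (frattini H).index ≤ (frattini φ.range).index * (frattini φ.ker).index := by
  refine le_trans (kr_fi_le_range_mul hH φ) (Nat.mul_le_mul_left _ ?_)
  apply Subgroup.index_antitone
  intro x hx
  rw [Subgroup.mem_subgroupOf]
  exact kr_frattini_normal_le φ.ker (Subgroup.mem_map_of_mem _ hx)

/-- Frattini index along an injective homomorphism. -/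
theorem kr_fi_eq_of_injective {H X : Type*} [Group H] [Group X] (φ : H →* X)
    (hφ : Function.Injective φ) : (frattini H).index = (frattini φ.range).index :=
  kr_fi_congr (MonoidHom.ofInjective hφ)

/-- A cyclic `2`-group has Frattini index at most `2`. -/
theorem kr_fi_le_two_of_isCyclic {Q : Type*} [Group Q] [Finite Q] (hQ : IsPGroup 2 Q)
    [hc : IsCyclic Q] : (frattini Q).index ≤ 2 := by
  obtain ⟨c, hc⟩ := hc.exists_generator
  have h := Cfsg.Agent.Lib.Helper35.frattini_index_le_two_mul hQ c
  have h1 : zpowers c = ⊤ := (Subgroup.eq_top_iff' _).mpr hc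
  rw [h1, Subgroup.index_top] at h
  omega

/-- The Frattini index is at most the order. -/
theorem kr_fi_le_card {Q : Type*} [Group Q] [Finite Q] : (frattini Q).index ≤ Nat.card Q :=
  Nat.le_of_dvd Nat.card_pos (Subgroup.index_dvd_card _)

/-- An abelian `2`-group has Frattini index at most the number of solutions of `x ^ 2 = 1`. -/
theorem kr_fi_le_card_sq_eq_one {A : Type*} [CommGroup A] [Finite A] (hA : IsPGroup 2 A) :
    (frattini A).index ≤ Nat.card {x : A // x ^ 2 = 1} := by
  haveI : Fact (Nat.Prime 2) := ⟨Nat.prime_two⟩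
  let sq : A →* A := powMonoidHom 2
  have h1 : sq.range ≤ frattini A := by
    rintro _ ⟨x, rfl⟩
    exact Cfsg.Agent.Lib.Helper2.pow_mem_frattini hA x
  have h2 : (frattini A).index ≤ sq.range.index := Subgroup.index_antitone h1
  rw [kr_index_range_eq_card_ker] at h2
  refine le_trans h2 (le_of_eq ?_)
  apply Nat.card_congr
  exact Equiv.subtypeEquivRight (fun x => by simp [sq, MonoidHom.mem_ker])

/-- For an abelian normal subgroup `K` of a finite `2`-group `P` and `t : P`, the index of `K ∩ Φ(P)` in
`K` is at most the number of elements of `K` commuting with `t`. -/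
theorem kr_index_subgroupOf_le_card_comm {P : Type*} [Group P] [Finite P] (hP : IsPGroup 2 P)
    (K : Subgroup P) [hK : K.Normal] (hab : ∀ x ∈ K, ∀ y ∈ K, x * y = y * x) (t : P) :
    ((frattini P).subgroupOf K).index ≤ Nat.card {k : K // t * (k : P) = (k : P) * t} := by
  haveI : Fact (Nat.Prime 2) := ⟨Nat.prime_two⟩
  have hmem : ∀ k : K, (k : P)⁻¹ * (t * (k : P) * t⁻¹) ∈ K := fun k =>
    K.mul_mem (K.inv_mem k.2) (hK.conj_mem _ k.2 t)
  let φ : K →* K := MonoidHom.mk' (fun k => ⟨(k : P)⁻¹ * (t * (k : P) * t⁻¹), hmem k⟩) (by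
    intro a b
    apply Subtype.ext
    simp only [Subgroup.coe_mul]
    have hb' : t * (b : P) * t⁻¹ ∈ K := hK.conj_mem _ b.2 t
    have ha' : t * (a : P) * t⁻¹ ∈ K := hK.conj_mem _ a.2 t
    have e1 : (b : P)⁻¹ * (t * (a : P) * t⁻¹) = (t * (a : P) * t⁻¹) * (b : P)⁻¹ :=
      hab _ (K.inv_mem b.2) _ ha'
    have e2 : ((a : P) * (b : P))⁻¹ = (a : P)⁻¹ * (b : P)⁻¹ := by
      rw [mul_inv_rev]; exact hab _ (K.inv_mem b.2) _ (K.inv_mem a.2)
    calc ((a : P) * (b : P))⁻¹ * (t * ((a : P) * (b : P)) * t⁻¹)
        = (a : P)⁻¹ * ((b : P)⁻¹ * (t * (a : P) * t⁻¹)) * (t * (b : P) * t⁻¹) := by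
          rw [e2]; group
      _ = (a : P)⁻¹ * ((t * (a : P) * t⁻¹) * (b : P)⁻¹) * (t * (b : P) * t⁻¹) := by rw [e1]
      _ = (a : P)⁻¹ * (t * (a : P) * t⁻¹) * ((b : P)⁻¹ * (t * (b : P) * t⁻¹)) := by group)
  have hφ : ∀ k : K, ((φ k : K) : P) = (k : P)⁻¹ * (t * (k : P) * t⁻¹) := fun k => rfl
  have h1 : φ.range ≤ (frattini P).subgroupOf K := by
    rintro _ ⟨k, rfl⟩
    rw [Subgroup.mem_subgroupOf, hφ]
    apply Cfsg.Agent.Lib.Helper2.commutator_le_frattini hP
    have : (k : P)⁻¹ * (t * (k : P) * t⁻¹) = ⁅(k : P)⁻¹, t⁆ := by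
      rw [commutatorElement_def]; group
    rw [this]
    exact Subgroup.commutator_mem_commutator (Subgroup.mem_top _) (Subgroup.mem_top _)
  have h2 : ((frattini P).subgroupOf K).index ≤ φ.range.index := Subgroup.index_antitone h1
  rw [kr_index_range_eq_card_ker] at h2
  refine le_trans h2 (le_of_eq ?_)
  apply Nat.card_congr
  refine Equiv.subtypeEquivRight (fun k => ?_)
  rw [MonoidHom.mem_ker]
  constructor
  · intro h
    have h' : (k : P)⁻¹ * (t * (k : P) * t⁻¹) = 1 := by
      have := congrArg (fun z : K => (z : P)) h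
      simpa [hφ] using this
    have : t * (k : P) * t⁻¹ = (k : P) := by
      have := congrArg (fun z => (k : P) * z) h'
      simpa [mul_assoc] using this
    calc t * (k : P) = t * (k : P) * t⁻¹ * t := by group
      _ = (k : P) * t := by rw [this]
  · intro h
    apply Subtype.ext
    rw [hφ]
    rw [h]
    simp

/-- A nontrivial finite `2`-group has a central involution. -/
theorem kr_exists_central_involution {T : Type*} [Group T] [Finite T] (hT : IsPGroup 2 T)
    [Nontrivial T] : ∃ c ∈ center T, c ≠ 1 ∧ c ^ 2 = 1 := by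
  haveI : Fact (Nat.Prime 2) := ⟨Nat.prime_two⟩
  haveI := hT.center_nontrivial
  obtain ⟨⟨z, hz⟩, hz1⟩ := exists_ne (1 : center T)
  have hz1' : z ≠ 1 := fun h => hz1 (Subtype.ext h)
  obtain ⟨k, hk⟩ := hT z
  obtain ⟨j, hj, hjo⟩ := (Nat.dvd_prime_pow Nat.prime_two).mp (orderOf_dvd_of_pow_eq_one hk)
  have hj1 : 1 ≤ j := by
    by_contra h
    have : j = 0 := by omega
    rw [this, pow_zero, orderOf_eq_one_iff] at hjo
    exact hz1' hjo
  refine ⟨z ^ (2 ^ (j - 1)), Subgroup.pow_mem _ hz _, ?_, ?_⟩
  · apply pow_ne_one_of_lt_orderOf (by positivity)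
    rw [hjo]
    apply Nat.pow_lt_pow_right (by norm_num) (by omega)
  · rw [← pow_mul, ← pow_succ, Nat.sub_add_cancel hj1, ← hjo, pow_orderOf_eq_one]

/-- The number of functions invariant under a fixed-point-free involution. -/
theorem kr_card_invariant_sq_le {X : Type*} [Finite X] (σ : X → X) (hσ : ∀ x, σ (σ x) = x)
    (hfix : ∀ x, σ x ≠ x) :
    (Nat.card {f : X → Bool // ∀ x, f (σ x) = f x}) ^ 2 ≤ 2 ^ Nat.card X := by
  classical
  haveI := Fintype.ofFinite X
  let e : X ≃ Fin (Fintype.card X) := Fintype.equivFin X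
  let Inv := {f : X → Bool // ∀ x, f (σ x) = f x}
  let Ψ : Inv × Inv → (X → Bool) := fun p x => if e x < e (σ x) then p.1.1 x else p.2.1 x
  have hΨ : Function.Injective Ψ := by
    rintro ⟨⟨f1, hf1⟩, ⟨f2, hf2⟩⟩ ⟨⟨g1, hg1⟩, ⟨g2, hg2⟩⟩ h
    have key : ∀ x, f1 x = g1 x ∧ f2 x = g2 x := by
      intro x
      have hx := congrFun h x
      have hsx := congrFun h (σ x)
      simp only [Ψ, hσ] at hx hsx
      have hne : e x ≠ e (σ x) := fun hh => hfix x (e.injective hh).symm
      rcases lt_or_gt_of_ne hne with hlt | hgt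
      · have hnot : ¬ e (σ x) < e x := not_lt.mpr hlt.le
        simp only [if_pos hlt] at hx
        simp only [if_neg hnot, hf2, hg2] at hsx
        exact ⟨hx, hsx⟩
      · have hnot : ¬ e x < e (σ x) := not_lt.mpr hgt.le
        simp only [if_neg hnot] at hx
        simp only [if_pos hgt, hf1, hg1] at hsx
        exact ⟨hsx, hx⟩
    have e1 : f1 = g1 := funext fun x => (key x).1
    have e2 : f2 = g2 := funext fun x => (key x).2
    subst e1; subst e2; rfl
  have hcard := Nat.card_le_card_of_injective Ψ hΨ
  rw [Nat.card_prod, Nat.card_fun, Nat.card_eq_fintype_card (α := Bool), Fintype.card_bool] at hcard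
  rw [sq]; exact hcard

end Cfsg.Agent.Lib.Helper70
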