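import Mathlib
import Cfsg.Agent.Lib.Helper70.KRFrat

/-!
# Systems of imprimitivity for a group acting on a finite abelian group

A *system* for a group `P` acting by automorphisms on a commutative group `M` is a finite set of
nontrivial subgroups of `M`, permuted by `P`, which is independent (the product map is injective).
-/

set_option autoImplicit false

namespace Cfsg.Agent.Lib.Helper70

open Pointwise
open scoped Classical

variable {P M : Type*} [Group P] [CommGroup M] [MulDistribMulAction P M]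

/-- A system of imprimitivity. -/
def KRSys (P : Type*) {M : Type*} [Group P] [CommGroup M] [MulDistribMulAction P M]
    (𝒟 : Finset (Subgroup M)) : Prop :=
  (∀ g : P, ∀ D ∈ 𝒟, g • D ∈ 𝒟) ∧ (∀ D ∈ 𝒟, D ≠ ⊥) ∧
  (∀ x : Subgroup M → M, (∀ D ∈ 𝒟, x D ∈ D) → ∏ D ∈ 𝒟, x D = 1 → ∀ D ∈ 𝒟, x D = 1)

/-- Irreducible action. -/
def KRIrr (P M : Type*) [Group P] [CommGroup M] [MulDistribMulAction P M] : Prop :=
  ∀ H : Subgroup M, (∀ g : P, ∀ x ∈ H, g • x ∈ H) → H = ⊥ ∨ H = ⊤

/-- Faithful action. -/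
def KRFaith (P M : Type*) [Group P] [CommGroup M] [MulDistribMulAction P M] : Prop :=
  ∀ g : P, (∀ x : M, g • x = x) → g = 1

theorem kr_smul_top (g : P) : g • (⊤ : Subgroup M) = ⊤ := by
  ext x
  rw [Subgroup.mem_pointwise_smul_iff_inv_smul_mem]
  simp

theorem kr_card_smul [Finite M] (g : P) (D : Subgroup M) : Nat.card (g • D : Subgroup M) = Nat.card D := by
  rw [Subgroup.pointwise_smul_def]
  apply Subgroup.card_map_of_injective
  intro a b hab
  have : g • a = g • b := hab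
  exact smul_left_cancel g this

theorem krsys_top [Nontrivial M] : KRSys P ({⊤} : Finset (Subgroup M)) := by
  refine ⟨?_, ?_, ?_⟩
  · intro g D hD
    rw [Finset.mem_singleton] at hD ⊢
    rw [hD, kr_smul_top]
  · intro D hD
    rw [Finset.mem_singleton] at hD
    rw [hD]
    exact top_ne_bot
  · intro x _ hprod D hD
    rw [Finset.mem_singleton] at hD
    rw [Finset.prod_singleton] at hprod
    rw [hD, hprod]

/-- Distinct blocks of a system meet trivially. -/
theorem krsys_disjoint {𝒟 : Finset (Subgroup M)} (h : KRSys P 𝒟) {D D' : Subgroup M} (hD : D ∈ 𝒟)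
    (hD' : D' ∈ 𝒟) (hne : D ≠ D') {x : M} (hx : x ∈ D) (hx' : x ∈ D') : x = 1 := by
  let f : Subgroup M → M := fun E => if E = D then x else if E = D' then x⁻¹ else 1
  have hfD : f D = x := by simp [f]
  have hfD' : f D' = x⁻¹ := by simp [f, hne.symm]
  have hmem : ∀ E ∈ 𝒟, f E ∈ E := by
    intro E _
    by_cases h1 : E = D
    · simp only [f, if_pos h1]; rw [h1]; exact hx
    · by_cases h2 : E = D'
      · simp only [f, if_neg h1, if_pos h2]; rw [h2]; exact D'.inv_mem hx'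
      · simp only [f, if_neg h1, if_neg h2]; exact E.one_mem
  have hprod : ∏ E ∈ 𝒟, f E = 1 := by
    rw [Finset.prod_eq_mul_of_mem D D' hD hD' hne, hfD, hfD', mul_inv_cancel]
    intro c _ hc
    simp [f, hc.1, hc.2]
  have := h.2.2 f hmem hprod D hD
  rwa [hfD] at this

/-- The product of the block orders is at most the order of the group. -/
theorem krsys_card_le [Finite M] {𝒟 : Finset (Subgroup M)} (h : KRSys P 𝒟) :
    ∏ D ∈ 𝒟, Nat.card D ≤ Nat.card M := by
  let F : (∀ D : {D // D ∈ 𝒟}, (D.1 : Subgroup M)) → M := fun f => ∏ D ∈ 𝒟.attach, (f D : M)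
  have hF : Function.Injective F := by
    intro f f' hff
    let x : Subgroup M → M := fun D => if hD : D ∈ 𝒟 then (f ⟨D, hD⟩ : M) * (f' ⟨D, hD⟩ : M)⁻¹ else 1
    have hmem : ∀ D ∈ 𝒟, x D ∈ D := by
      intro D hD
      simp only [x, dif_pos hD]
      exact D.mul_mem (f ⟨D, hD⟩).2 (D.inv_mem (f' ⟨D, hD⟩).2)
    have hprod : ∏ D ∈ 𝒟, x D = 1 := by
      rw [← Finset.prod_attach]
      have : ∀ D ∈ 𝒟.attach, x D.1 = (f D : M) * (f' D : M)⁻¹ := by
        intro D _
        simp only [x, dif_pos D.2]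
      rw [Finset.prod_congr rfl this, Finset.prod_mul_distrib, Finset.prod_inv_distrib]
      have : F f = F f' := hff
      simp only [F] at this
      rw [this, mul_inv_cancel]
    have hall := h.2.2 x hmem hprod
    funext D
    have := hall D.1 D.2
    simp only [x, dif_pos D.2] at this
    apply Subtype.ext
    exact mul_inv_eq_one.mp this
  have hcard := Nat.card_le_card_of_injective F hF
  rw [Nat.card_pi] at hcard
  refine le_trans (le_of_eq ?_) hcard
  rw [← Finset.prod_attach (s := 𝒟) (f := fun D => Nat.card D)]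
  rfl

/-- The subgroup of all products of elements of the blocks. -/
def krspan (𝒮 : Finset (Subgroup M)) : Subgroup M where
  carrier := {m | ∃ x : Subgroup M → M, (∀ D ∈ 𝒮, x D ∈ D) ∧ ∏ D ∈ 𝒮, x D = m}
  one_mem' := ⟨fun _ => 1, fun D _ => D.one_mem, by simp⟩
  mul_mem' := by
    rintro a b ⟨x, hx, rfl⟩ ⟨y, hy, rfl⟩
    exact ⟨fun D => x D * y D, fun D hD => D.mul_mem (hx D hD) (hy D hD), Finset.prod_mul_distrib⟩
  inv_mem' := by
    rintro a ⟨x, hx, rfl⟩
    exact ⟨fun D => (x D)⁻¹, fun D hD => D.inv_mem (hx D hD), Finset.prod_inv_distrib _⟩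

theorem mem_krspan {𝒮 : Finset (Subgroup M)} {m : M} :
    m ∈ krspan 𝒮 ↔ ∃ x : Subgroup M → M, (∀ D ∈ 𝒮, x D ∈ D) ∧ ∏ D ∈ 𝒮, x D = m := Iff.rfl

theorem le_krspan {𝒮 : Finset (Subgroup M)} {D : Subgroup M} (hD : D ∈ 𝒮) : D ≤ krspan 𝒮 := by
  intro d hd
  refine ⟨fun E => if E = D then d else 1, ?_, ?_⟩
  · intro E _
    by_cases h : E = D
    · simp only [if_pos h]; rw [h]; exact hd
    · simp only [if_neg h]; exact E.one_mem
  · rw [Finset.prod_eq_single D]
    · simp
    · intro b _ hb; simp [hb]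
    · intro h; exact absurd hD h

theorem krspan_smul_mem {𝒮 : Finset (Subgroup M)} (hinv : ∀ g : P, ∀ D ∈ 𝒮, g • D ∈ 𝒮) (g : P) {m : M}
    (hm : m ∈ krspan 𝒮) : g • m ∈ krspan 𝒮 := by
  obtain ⟨x, hx, rfl⟩ := hm
  refine ⟨fun D => g • x (g⁻¹ • D), ?_, ?_⟩
  · intro D hD
    have h1 : g⁻¹ • D ∈ 𝒮 := hinv g⁻¹ D hD
    have h2 := hx _ h1
    rw [Subgroup.mem_inv_pointwise_smul_iff] at h2
    exact h2
  · rw [Finset.smul_prod']
    apply Finset.prod_bij (fun D _ => g⁻¹ • D)
    · intro D hD; exact hinv g⁻¹ D hD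
    · intro D₁ _ D₂ _ h12
      have := congrArg (fun E => g • E) h12
      simpa using this
    · intro E hE
      exact ⟨g • E, hinv g E hE, by simp⟩
    · intro D _; rfl

/-- For an irreducible action, the blocks of a nonempty system generate. -/
theorem krspan_eq_top (hirr : KRIrr P M) {𝒮 : Finset (Subgroup M)}
    (hinv : ∀ g : P, ∀ D ∈ 𝒮, g • D ∈ 𝒮) {D : Subgroup M} (hD : D ∈ 𝒮) (hDne : D ≠ ⊥) :
    krspan 𝒮 = ⊤ := by
  rcases hirr (krspan 𝒮) (fun g x hx => krspan_smul_mem hinv g hx) with h | h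
  · exfalso
    apply hDne
    rw [eq_bot_iff, ← h]
    exact le_krspan hD
  · exact h

/-- For an irreducible action, the group permutes the blocks of a system transitively. -/
theorem krsys_transitive (hirr : KRIrr P M) {𝒟 : Finset (Subgroup M)} (h : KRSys P 𝒟)
    {D D' : Subgroup M} (hD : D ∈ 𝒟) (hD' : D' ∈ 𝒟) : ∃ g : P, g • D = D' := by
  by_contra hcon
  let 𝒪 : Finset (Subgroup M) := 𝒟.filter (fun E => ∃ g : P, g • D = E)
  have h𝒪inv : ∀ g : P, ∀ E ∈ 𝒪, g • E ∈ 𝒪 := by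
    intro g E hE
    rw [Finset.mem_filter] at hE ⊢
    obtain ⟨hE1, k, hk⟩ := hE
    exact ⟨h.1 g E hE1, g * k, by rw [mul_smul, hk]⟩
  have hD𝒪 : D ∈ 𝒪 := Finset.mem_filter.mpr ⟨hD, 1, one_smul _ _⟩
  have htop := krspan_eq_top hirr h𝒪inv hD𝒪 (h.2.1 D hD)
  have hD'𝒪 : D' ∉ 𝒪 := by
    intro hmem
    rw [Finset.mem_filter] at hmem
    exact hcon hmem.2
  obtain ⟨d, hd1⟩ := (Subgroup.ne_bot_iff_exists_ne_one.mp (h.2.1 D' hD'))
  have hd' : (d : M) ∈ D' := d.2
  have hdtop : (d : M) ∈ krspan 𝒪 := by rw [htop]; exact Subgroup.mem_top _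
  obtain ⟨x, hx, hxd⟩ := hdtop
  let y : Subgroup M → M := fun E => if E = D' then (d : M)⁻¹ else if E ∈ 𝒪 then x E else 1
  have hymem : ∀ E ∈ 𝒟, y E ∈ E := by
    intro E _
    by_cases h1 : E = D'
    · simp only [y, if_pos h1]; rw [h1]; exact D'.inv_mem hd'
    · by_cases h2 : E ∈ 𝒪
      · simp only [y, if_neg h1, if_pos h2]; exact hx E h2
      · simp only [y, if_neg h1, if_neg h2]; exact E.one_mem
  have hyprod : ∏ E ∈ 𝒟, y E = 1 := by
    rw [← Finset.mul_prod_erase 𝒟 y hD']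
    have h1 : y D' = (d : M)⁻¹ := by simp [y]
    have h2 : ∏ E ∈ 𝒟.erase D', y E = ∏ E ∈ 𝒪, x E := by
      symm
      have hsub : 𝒪 ⊆ 𝒟.erase D' := by
        intro E hE
        rw [Finset.mem_erase]
        refine ⟨fun hh => hD'𝒪 (hh ▸ hE), (Finset.mem_filter.mp hE).1⟩
      rw [← Finset.prod_subset hsub (f := y)]
      · apply Finset.prod_congr rfl
        intro E hE
        have hne : E ≠ D' := fun hh => hD'𝒪 (hh ▸ hE)
        simp [y, hne, hE]
      · intro E hE hE𝒪
        have hne : E ≠ D' := (Finset.mem_erase.mp hE).1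
        simp [y, hne, hE𝒪]
    rw [h1, h2, hxd, inv_mul_cancel]
  have := h.2.2 y hymem hyprod D' hD'
  have h1 : y D' = (d : M)⁻¹ := by simp [y]
  rw [h1, inv_eq_one] at this
  exact hd1 (Subtype.ext this)

end Cfsg.Agent.Lib.Helper70
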