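import Mathlib
import Cfsg.Agent.Lib.Helper70.KRSys

/-!
# The kernel of the action on the blocks of a system
-/

set_option autoImplicit false

namespace Cfsg.Agent.Lib.Helper70

open Pointwise
open scoped Classical

variable {P M : Type*} [Group P] [CommGroup M] [MulDistribMulAction P M]

/-- The action of `P` on the blocks of a system. -/
@[reducible] def krAct {𝒟 : Finset (Subgroup M)} (h : KRSys P 𝒟) : MulAction P {D // D ∈ 𝒟} where
  smul g D := ⟨g • D.1, h.1 g D.1 D.2⟩
  one_smul D := Subtype.ext (one_smul P D.1)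
  mul_smul g k D := Subtype.ext (mul_smul g k D.1)

/-- The permutation representation on the blocks. -/
def krPerm {𝒟 : Finset (Subgroup M)} (h : KRSys P 𝒟) : P →* Equiv.Perm {D // D ∈ 𝒟} :=
  @MulAction.toPermHom P {D // D ∈ 𝒟} _ (krAct h)

theorem krPerm_apply {𝒟 : Finset (Subgroup M)} (h : KRSys P 𝒟) (g : P) (D : {D // D ∈ 𝒟}) :
    ((krPerm h g) D).1 = g • D.1 := rfl

theorem mem_krPerm_ker {𝒟 : Finset (Subgroup M)} (h : KRSys P 𝒟) (g : P) :
    g ∈ (krPerm h).ker ↔ ∀ D ∈ 𝒟, g • D = D := by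
  rw [MonoidHom.mem_ker, Equiv.Perm.ext_iff]
  constructor
  · intro hg D hD
    have := congrArg Subtype.val (hg ⟨D, hD⟩)
    rwa [krPerm_apply] at this
  · intro hg D
    apply Subtype.ext
    rw [krPerm_apply]
    exact hg D.1 D.2

/-- The action of the stabilizer of a subgroup on that subgroup. -/
@[reducible] def krResAct (D : Subgroup M) : MulDistribMulAction (MulAction.stabilizer P D) D where
  smul g x := ⟨(g : P) • (x : M), by
    have h1 := Subgroup.smul_mem_pointwise_smul (x : M) (g : P) D x.2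
    rwa [MulAction.mem_stabilizer_iff.mp g.2] at h1⟩
  one_smul x := Subtype.ext (one_smul P (x : M))
  mul_smul g k x := Subtype.ext (mul_smul (g : P) (k : P) (x : M))
  smul_mul g x y := Subtype.ext (smul_mul' (g : P) (x : M) (y : M))
  smul_one g := Subtype.ext (smul_one (g : P))

/-- The restriction homomorphism from the stabilizer of `D` to the automorphism group of `D`. -/
def krRes (D : Subgroup M) : MulAction.stabilizer P D →* MulAut D :=
  @MulDistribMulAction.toMulAut _ _ _ _ (krResAct D)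

theorem krRes_apply (D : Subgroup M) (g : MulAction.stabilizer P D) (x : D) :
    ((krRes D g) x : M) = (g : P) • (x : M) := rfl

/-- The elements of the kernel fixing pointwise the blocks of `𝒮`. -/
def krKS {𝒟 : Finset (Subgroup M)} (h : KRSys P 𝒟) (𝒮 : Finset (Subgroup M)) : Subgroup P where
  carrier := {g | g ∈ (krPerm h).ker ∧ ∀ D ∈ 𝒮, ∀ x ∈ D, g • x = x}
  one_mem' := ⟨one_mem _, fun _ _ x _ => one_smul P x⟩
  mul_mem' := by
    rintro a b ⟨ha, ha'⟩ ⟨hb, hb'⟩
    refine ⟨mul_mem ha hb, fun D hD x hx => ?_⟩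
    rw [mul_smul, hb' D hD x hx, ha' D hD x hx]
  inv_mem' := by
    rintro a ⟨ha, ha'⟩
    refine ⟨inv_mem ha, fun D hD x hx => ?_⟩
    rw [inv_smul_eq_iff, ha' D hD x hx]

theorem mem_krKS {𝒟 : Finset (Subgroup M)} (h : KRSys P 𝒟) (𝒮 : Finset (Subgroup M)) (g : P) :
    g ∈ krKS h 𝒮 ↔ g ∈ (krPerm h).ker ∧ ∀ D ∈ 𝒮, ∀ x ∈ D, g • x = x := Iff.rfl

theorem kr_fi_ker_le_aux [Finite P] (hP : IsPGroup 2 P) {𝒟 : Finset (Subgroup M)} (h : KRSys P 𝒟)
    (a : Subgroup M → ℕ)
    (ha : ∀ D ∈ 𝒟, ∀ R : Subgroup (MulAut D), R ≤ (krRes (P := P) D).range →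
      (frattini R).index ≤ a D) :
    ∀ 𝒮 : Finset (Subgroup M), 𝒮 ⊆ 𝒟 →
      (frattini (krPerm h).ker).index ≤ (∏ D ∈ 𝒮, a D) * (frattini (krKS h 𝒮)).index := by
  intro 𝒮
  induction 𝒮 using Finset.induction_on with
  | empty =>
    intro _
    rw [Finset.prod_empty, one_mul]
    have heq : krKS h ∅ = (krPerm h).ker := by
      ext g
      rw [mem_krKS]
      simp
    rw [kr_fi_congr (MulEquiv.subgroupCongr heq)]
  | insert D₀ 𝒮 hD₀ ih =>
    intro hsub
    have hD₀𝒟 : D₀ ∈ 𝒟 := hsub (Finset.mem_insert_self _ _)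
    have h𝒮 : 𝒮 ⊆ 𝒟 := fun E hE => hsub (Finset.mem_insert_of_mem hE)
    have ih' := ih h𝒮
    rw [Finset.prod_insert hD₀]
    have hle : krKS h 𝒮 ≤ MulAction.stabilizer P D₀ := by
      intro g hg
      rw [MulAction.mem_stabilizer_iff]
      exact (mem_krPerm_ker h g).mp hg.1 D₀ hD₀𝒟
    let ψ : krKS h 𝒮 →* MulAut D₀ := (krRes D₀).comp (Subgroup.inclusion hle)
    have hHp : IsPGroup 2 (krKS h 𝒮) := hP.to_subgroup _
    have h1 := kr_fi_le_range_mul_ker hHp ψ
    have h2 : (frattini ψ.range).index ≤ a D₀ := by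
      apply ha D₀ hD₀𝒟
      rintro _ ⟨g, rfl⟩
      exact ⟨Subgroup.inclusion hle g, rfl⟩
    have hle2 : krKS h (insert D₀ 𝒮) ≤ krKS h 𝒮 := by
      intro g hg
      exact ⟨hg.1, fun D hD => hg.2 D (Finset.mem_insert_of_mem hD)⟩
    have hker : ψ.ker = (krKS h (insert D₀ 𝒮)).subgroupOf (krKS h 𝒮) := by
      ext g
      rw [MonoidHom.mem_ker, Subgroup.mem_subgroupOf, mem_krKS]
      constructor
      · intro hg
        refine ⟨g.2.1, fun D hD x hx => ?_⟩
        rw [Finset.mem_insert] at hD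
        rcases hD with rfl | hD
        · have := congrArg (fun (α : MulAut D) => ((α ⟨x, hx⟩ : D) : M)) hg
          simpa [ψ, krRes_apply] using this
        · exact g.2.2 D hD x hx
      · intro hg
        ext x
        have := hg.2 D₀ (Finset.mem_insert_self _ _) (x : M) x.2
        simpa [ψ, krRes_apply] using this
    have h3 : (frattini ψ.ker).index = (frattini (krKS h (insert D₀ 𝒮))).index := by
      rw [kr_fi_congr (MulEquiv.subgroupCongr hker)]
      exact kr_fi_congr (Subgroup.subgroupOfEquivOfLe hle2)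
    calc (frattini (krPerm h).ker).index ≤ (∏ D ∈ 𝒮, a D) * (frattini (krKS h 𝒮)).index := ih'
      _ ≤ (∏ D ∈ 𝒮, a D) * (a D₀ * (frattini (krKS h (insert D₀ 𝒮))).index) := by
          apply Nat.mul_le_mul_left
          rw [← h3]
          exact le_trans h1 (Nat.mul_le_mul_right _ h2)
      _ = a D₀ * (∏ D ∈ 𝒮, a D) * (frattini (krKS h (insert D₀ 𝒮))).index := by ring

/-- If `g` fixes every block pointwise, it fixes the span pointwise. -/
theorem kr_smul_eq_of_mem_krspan {𝒮 : Finset (Subgroup M)} (g : P)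
    (hg : ∀ D ∈ 𝒮, ∀ x ∈ D, g • x = x) {m : M} (hm : m ∈ krspan 𝒮) : g • m = m := by
  obtain ⟨x, hx, rfl⟩ := hm
  rw [Finset.smul_prod']
  exact Finset.prod_congr rfl (fun D hD => hg D hD _ (hx D hD))

/-- The bound for the Frattini index of the kernel of the action on the blocks. -/
theorem kr_fi_ker_le_prod [Finite P] (hP : IsPGroup 2 P) (hirr : KRIrr P M) (hf : KRFaith P M)
    {𝒟 : Finset (Subgroup M)} (h : KRSys P 𝒟) (hne : 𝒟.Nonempty) (a : Subgroup M → ℕ)
    (ha : ∀ D ∈ 𝒟, ∀ R : Subgroup (MulAut D), R ≤ (krRes (P := P) D).range →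
      (frattini R).index ≤ a D) :
    (frattini (krPerm h).ker).index ≤ ∏ D ∈ 𝒟, a D := by
  have h1 := kr_fi_ker_le_aux hP h a ha 𝒟 (Finset.Subset.refl _)
  obtain ⟨D, hD⟩ := hne
  have htop : krspan 𝒟 = ⊤ := krspan_eq_top hirr h.1 hD (h.2.1 D hD)
  have hbot : krKS h 𝒟 = ⊥ := by
    rw [eq_bot_iff]
    intro g hg
    rw [Subgroup.mem_bot]
    apply hf
    intro x
    apply kr_smul_eq_of_mem_krspan g hg.2
    rw [htop]; exact Subgroup.mem_top _
  have h2 : (frattini (krKS h 𝒟)).index = 1 := by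
    rw [Subgroup.index_eq_one]
    haveI : Subsingleton (krKS h 𝒟) := by
      rw [hbot]; infer_instance
    exact Subsingleton.elim _ _
  rw [h2, mul_one] at h1
  exact h1

end Cfsg.Agent.Lib.Helper70
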