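import Mathlib
import Cfsg.Agent.Lib.Helper70.KRKer

/-!
# Refining a system of imprimitivity
-/

set_option autoImplicit false

namespace Cfsg.Agent.Lib.Helper70

open Pointwise
open scoped Classical

variable {P M : Type*} [Group P] [CommGroup M] [MulDistribMulAction P M]

/-- The refinement of a system along a system for the stabilizer of a block. -/
noncomputable def krRefine (P : Type*) {M : Type*} [Group P] [CommGroup M] [MulDistribMulAction P M]
    [Finite M] (D₀ : Subgroup M) (ℰ : Finset (Subgroup D₀)) : Finset (Subgroup M) :=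
  (Set.toFinite {E' : Subgroup M | ∃ g : P, ∃ E ∈ ℰ, E' = g • E.map D₀.subtype}).toFinset

theorem mem_krRefine [Finite M] {D₀ : Subgroup M} {ℰ : Finset (Subgroup D₀)} {E' : Subgroup M} :
    E' ∈ krRefine P D₀ ℰ ↔ ∃ g : P, ∃ E ∈ ℰ, E' = g • E.map D₀.subtype := by
  unfold krRefine
  rw [Set.Finite.mem_toFinset]
  rfl

theorem kr_stab_smul_map (D₀ : Subgroup M) (s : MulAction.stabilizer P D₀) (E : Subgroup D₀) :
    (s : P) • E.map D₀.subtype =
      ((⟨krRes D₀ s, ⟨s, rfl⟩⟩ : (krRes (P := P) D₀).range) • E).map D₀.subtype := by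
  ext x
  constructor
  · intro hx
    obtain ⟨y, hy, rfl⟩ := (Subgroup.mem_smul_pointwise_iff_exists _ _ _).mp hx
    obtain ⟨e, he, rfl⟩ := hy
    refine ⟨(krRes D₀ s) e, ?_, ?_⟩
    · exact (Subgroup.mem_smul_pointwise_iff_exists _ _ _).mpr ⟨e, he, rfl⟩
    · rfl
  · rintro ⟨y, hy, rfl⟩
    obtain ⟨e, he, rfl⟩ := (Subgroup.mem_smul_pointwise_iff_exists _ _ _).mp hy
    exact (Subgroup.mem_smul_pointwise_iff_exists _ _ _).mpr ⟨(e : M), ⟨e, he, rfl⟩, rfl⟩

theorem krRefine_sys [Finite M] {𝒟 : Finset (Subgroup M)} (h : KRSys P 𝒟) {D₀ : Subgroup M}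
    (hD₀ : D₀ ∈ 𝒟) (ℰ : Finset (Subgroup D₀)) (hℰ : KRSys (krRes (P := P) D₀).range ℰ) :
    KRSys P (krRefine P D₀ ℰ) := by
  have hιle : ∀ E : Subgroup D₀, E.map D₀.subtype ≤ D₀ := fun E => Subgroup.map_subtype_le E
  have hne : ∀ E' ∈ krRefine P D₀ ℰ, E' ≠ ⊥ := by
    intro E' hE' hbot
    obtain ⟨g, E, hE, rfl⟩ := mem_krRefine.mp hE'
    have h1 : E.map D₀.subtype = ⊥ := by
      have := congrArg (fun X : Subgroup M => g⁻¹ • X) hbot
      simpa using this
    rw [Subgroup.map_eq_bot_iff_of_injective _ (Subgroup.subtype_injective D₀)] at h1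
    exact hℰ.2.1 E hE h1
  refine ⟨?_, hne, ?_⟩
  · intro k E' hE'
    obtain ⟨g, E, hE, rfl⟩ := mem_krRefine.mp hE'
    exact mem_krRefine.mpr ⟨k * g, E, hE, by rw [mul_smul]⟩
  · intro x' hx' hprod
    -- parents
    have hpar_ex : ∀ E' ∈ krRefine P D₀ ℰ, ∃ D ∈ 𝒟, E' ≤ D := by
      intro E' hE'
      obtain ⟨g, E, hE, rfl⟩ := mem_krRefine.mp hE'
      exact ⟨g • D₀, h.1 g D₀ hD₀, Subgroup.pointwise_smul_le_pointwise_smul_iff.mpr (hιle E)⟩
    let par : Subgroup M → Subgroup M := fun E' =>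
      if hh : ∃ D ∈ 𝒟, E' ≤ D then hh.choose else ⊥
    have hpar : ∀ E' ∈ krRefine P D₀ ℰ, par E' ∈ 𝒟 ∧ E' ≤ par E' := by
      intro E' hE'
      have hh := hpar_ex E' hE'
      simp only [par, dif_pos hh]
      exact hh.choose_spec
    have hpar_uniq : ∀ E' ∈ krRefine P D₀ ℰ, ∀ D ∈ 𝒟, E' ≤ D → par E' = D := by
      intro E' hE' D hD hle
      by_contra hne'
      obtain ⟨e, he1⟩ := Subgroup.ne_bot_iff_exists_ne_one.mp (hne E' hE')
      have := krsys_disjoint h (hpar E' hE').1 hD hne' ((hpar E' hE').2 e.2) (hle e.2)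
      exact he1 (Subtype.ext this)
    let X : Subgroup M → M := fun D => ∏ E' ∈ (krRefine P D₀ ℰ).filter (fun E' => par E' = D), x' E'
    have hXmem : ∀ D ∈ 𝒟, X D ∈ D := by
      intro D _
      apply Subgroup.prod_mem
      intro E' hE'
      rw [Finset.mem_filter] at hE'
      rw [← hE'.2]
      exact (hpar E' hE'.1).2 (hx' E' hE'.1)
    have hXprod : ∏ D ∈ 𝒟, X D = 1 := by
      rw [← hprod]
      exact Finset.prod_fiberwise_of_maps_to (fun E' hE' => (hpar E' hE').1) x'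
    have hX1 := h.2.2 X hXmem hXprod
    intro E'₀ hE'₀
    obtain ⟨g, E₀, hE₀, rfl⟩ := mem_krRefine.mp hE'₀
    have hDg : g • D₀ ∈ 𝒟 := h.1 g D₀ hD₀
    have hXg := hX1 _ hDg
    -- the fiber over `g • D₀`
    have hfiber : (krRefine P D₀ ℰ).filter (fun E' => par E' = g • D₀) =
        ℰ.image (fun E => g • E.map D₀.subtype) := by
      ext E'
      rw [Finset.mem_filter, Finset.mem_image]
      constructor
      · rintro ⟨hE', hparE'⟩
        obtain ⟨k, E, hE, rfl⟩ := mem_krRefine.mp hE'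
        have hk : par (k • E.map D₀.subtype) = k • D₀ :=
          hpar_uniq _ hE' _ (h.1 k D₀ hD₀)
            (Subgroup.pointwise_smul_le_pointwise_smul_iff.mpr (hιle E))
        have hkg : k • D₀ = g • D₀ := by rw [← hk, hparE']
        have hs : g⁻¹ * k ∈ MulAction.stabilizer P D₀ := by
          rw [MulAction.mem_stabilizer_iff, mul_smul, hkg, inv_smul_smul]
        refine ⟨(⟨krRes D₀ ⟨g⁻¹ * k, hs⟩, ⟨⟨g⁻¹ * k, hs⟩, rfl⟩⟩ : (krRes (P := P) D₀).range) • E,
          hℰ.1 _ E hE, ?_⟩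
        rw [← kr_stab_smul_map D₀ ⟨g⁻¹ * k, hs⟩ E]
        show g • ((g⁻¹ * k) • E.map D₀.subtype) = k • E.map D₀.subtype
        rw [← mul_smul, mul_inv_cancel_left]
      · rintro ⟨E, hE, rfl⟩
        have hmem : g • E.map D₀.subtype ∈ krRefine P D₀ ℰ := mem_krRefine.mpr ⟨g, E, hE, rfl⟩
        exact ⟨hmem, hpar_uniq _ hmem _ hDg
          (Subgroup.pointwise_smul_le_pointwise_smul_iff.mpr (hιle E))⟩
    have hinj : Set.InjOn (fun E : Subgroup D₀ => g • E.map D₀.subtype) (ℰ : Set (Subgroup D₀)) := by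
      intro E₁ _ E₂ _ h12
      have h12' : E₁.map D₀.subtype = E₂.map D₀.subtype := by
        have := congrArg (fun X : Subgroup M => g⁻¹ • X) h12
        simpa using this
      exact Subgroup.map_injective (Subgroup.subtype_injective D₀) h12'
    have hprod2 : ∏ E ∈ ℰ, x' (g • E.map D₀.subtype) = 1 := by
      rw [← Finset.prod_image hinj, ← hfiber]
      exact hXg
    -- pull back to `D₀`
    have hmemι : ∀ E ∈ ℰ, g⁻¹ • x' (g • E.map D₀.subtype) ∈ E.map D₀.subtype := by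
      intro E hE
      have := hx' _ (mem_krRefine.mpr ⟨g, E, hE, rfl⟩)
      rwa [Subgroup.mem_pointwise_smul_iff_inv_smul_mem] at this
    let y : Subgroup D₀ → D₀ := fun E =>
      if hE : E ∈ ℰ then ⟨g⁻¹ • x' (g • E.map D₀.subtype), hιle E (hmemι E hE)⟩ else 1
    have hy : ∀ E ∈ ℰ, y E ∈ E := by
      intro E hE
      obtain ⟨e, he, hee⟩ := hmemι E hE
      have : y E = e := by
        apply Subtype.ext
        simp only [y, dif_pos hE]
        exact hee.symm
      rw [this]; exact he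
    have hyprod : ∏ E ∈ ℰ, y E = 1 := by
      apply Subtype.ext
      rw [Subgroup.coe_one, ← Subgroup.coe_subtype, map_prod]
      have : ∀ E ∈ ℰ, D₀.subtype (y E) = g⁻¹ • x' (g • E.map D₀.subtype) := by
        intro E hE
        simp only [y, dif_pos hE, Subgroup.coe_subtype]
      rw [Finset.prod_congr rfl this, ← Finset.smul_prod', hprod2, smul_one]
    have hy1 := hℰ.2.2 y hy hyprod E₀ hE₀
    have h2 : g⁻¹ • x' (g • E₀.map D₀.subtype) = 1 := by
      have := congrArg (fun z : D₀ => (z : M)) hy1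
      simpa [y, dif_pos hE₀] using this
    have := congrArg (fun z : M => g • z) h2
    simpa using this

theorem krRefine_nonempty [Finite M] {D₀ : Subgroup M} {ℰ : Finset (Subgroup D₀)} (hne : ℰ.Nonempty) :
    (krRefine P D₀ ℰ).Nonempty := by
  obtain ⟨E, hE⟩ := hne
  exact ⟨(1 : P) • E.map D₀.subtype, mem_krRefine.mpr ⟨1, E, hE, rfl⟩⟩

theorem krRefine_card [Finite M] {D₀ : Subgroup M} {ℰ : Finset (Subgroup D₀)} {E' : Subgroup M}
    (hE' : E' ∈ krRefine P D₀ ℰ) : ∃ E ∈ ℰ, Nat.card E' = Nat.card E := by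
  obtain ⟨g, E, hE, rfl⟩ := mem_krRefine.mp hE'
  refine ⟨E, hE, ?_⟩
  rw [kr_card_smul]
  exact Subgroup.card_map_of_injective (Subgroup.subtype_injective D₀)

end Cfsg.Agent.Lib.Helper70
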