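import Mathlib
import Cfsg.Agent.Lib.Helper70.KRRefine
import Cfsg.Agent.Lib.Helper53.CenterMeet
import Cfsg.Agent.Lib.Helper53.NormalAbelian
import Cfsg.Agent.Lib.Helper53.UniqInv
import Cfsg.Agent.Lib.Helper55.NormalFour

/-!
# Strongly primitive actions of `2`-groups on abelian groups of odd order, part 1
-/

set_option autoImplicit false

namespace Cfsg.Agent.Lib.Helper70

open Pointwise
open scoped Classical

variable {Q M : Type*} [Group Q] [CommGroup M] [MulDistribMulAction Q M]

/-- Strongly primitive action: the only nonempty system is the trivial one. -/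
def KRPrim (Q M : Type*) [Group Q] [CommGroup M] [MulDistribMulAction Q M] : Prop :=
  ∀ ℰ : Finset (Subgroup M), KRSys Q ℰ → ℰ.Nonempty → ℰ = {⊤}

theorem kr_smul_eq_self_of_invariant (H : Subgroup M) (hH : ∀ g : Q, ∀ x ∈ H, g • x ∈ H) (g : Q) :
    g • H = H := by
  apply le_antisymm
  · intro x hx
    obtain ⟨y, hy, rfl⟩ := (Subgroup.mem_smul_pointwise_iff_exists _ _ _).mp hx
    exact hH g y hy
  · intro x hx
    rw [Subgroup.mem_pointwise_smul_iff_inv_smul_mem]
    exact hH g⁻¹ x hx

theorem krprim_irr (h : KRPrim Q M) : KRIrr Q M := by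
  intro H hH
  by_cases hb : H = ⊥
  · left; exact hb
  · right
    have hsys : KRSys Q ({H} : Finset (Subgroup M)) := by
      refine ⟨?_, ?_, ?_⟩
      · intro g D hD
        rw [Finset.mem_singleton] at hD ⊢
        rw [hD]
        exact kr_smul_eq_self_of_invariant H hH g
      · intro D hD
        rw [Finset.mem_singleton] at hD
        rw [hD]; exact hb
      · intro x _ hprod D hD
        rw [Finset.mem_singleton] at hD
        rw [Finset.prod_singleton] at hprod
        rw [hD, hprod]
    have := h {H} hsys (Finset.singleton_nonempty _)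
    exact Finset.singleton_injective this

/-- The fixed points of an element, as a subgroup. -/
def krFix (e : Q) : Subgroup M where
  carrier := {y | e • y = y}
  one_mem' := smul_one e
  mul_mem' := by
    intro a b ha hb
    show e • (a * b) = a * b
    rw [smul_mul', ha, hb]
  inv_mem' := by
    intro a ha
    show e • a⁻¹ = a⁻¹
    rw [smul_inv', ha]

theorem mem_krFix (e : Q) (y : M) : y ∈ krFix e ↔ e • y = y := Iff.rfl

/-- The elements inverted by a group element, as a subgroup. -/
def krNeg (e : Q) : Subgroup M where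
  carrier := {y | e • y = y⁻¹}
  one_mem' := by
    show e • (1 : M) = 1⁻¹
    rw [smul_one, inv_one]
  mul_mem' := by
    intro a b ha hb
    show e • (a * b) = (a * b)⁻¹
    rw [smul_mul', ha, hb, mul_inv]
  inv_mem' := by
    intro a ha
    show e • a⁻¹ = a⁻¹⁻¹
    rw [smul_inv', ha]

theorem mem_krNeg (e : Q) (y : M) : y ∈ krNeg e ↔ e • y = y⁻¹ := Iff.rfl

/-- A central involution of an irreducible faithful action inverts everything. -/
theorem kr_central_inv_smul (hirr : KRIrr Q M) (hf : KRFaith Q M) {z : Q}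
    (hzc : z ∈ Subgroup.center Q) (hz1 : z ≠ 1) (hz2 : z ^ 2 = 1) (x : M) : z • x = x⁻¹ := by
  have hFinv : ∀ g : Q, ∀ y ∈ (krFix z : Subgroup M), g • y ∈ (krFix z : Subgroup M) := by
    intro g y hy
    rw [mem_krFix] at hy ⊢
    rw [← mul_smul, ← Subgroup.mem_center_iff.mp hzc g, mul_smul, hy]
  rcases hirr (krFix z) hFinv with hF | hF
  · have : x * z • x ∈ (krFix z : Subgroup M) := by
      rw [mem_krFix, smul_mul', ← mul_smul, ← sq, hz2, one_smul, mul_comm]
    rw [hF, Subgroup.mem_bot] at this
    exact eq_inv_of_mul_eq_one_right this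
  · exfalso; apply hz1; apply hf; intro y
    have : y ∈ (krFix z : Subgroup M) := by rw [hF]; exact Subgroup.mem_top _
    exact this

theorem kr_eq_one_of_sq_eq_one [Finite M] (hodd : Odd (Nat.card M)) {x : M} (h : x ^ 2 = 1) :
    x = 1 := by
  have h1 : orderOf x ∣ 2 := orderOf_dvd_of_pow_eq_one h
  have h2 : orderOf x ∣ Nat.card M := orderOf_dvd_natCard x
  have h3 : orderOf x ∣ Nat.gcd 2 (Nat.card M) := Nat.dvd_gcd h1 h2
  have h4 : Nat.gcd 2 (Nat.card M) = 1 := Nat.coprime_two_left.mpr hodd
  rw [h4, Nat.dvd_one, orderOf_eq_one_iff] at h3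
  exact h3

/-- An irreducible action on a nontrivial finite abelian group: the group has prime power order. -/
theorem kr_irr_exists_prime_pow [Finite M] [Nontrivial M] (hirr : KRIrr Q M) :
    ∃ r n : ℕ, r.Prime ∧ 1 ≤ n ∧ Nat.card M = r ^ n := by
  have hcard : 1 < Nat.card M := Finite.one_lt_card
  have hne1 : Nat.card M ≠ 1 := by omega
  set r := (Nat.card M).minFac with hr
  have hrp : r.Prime := Nat.minFac_prime hne1
  haveI : Fact r.Prime := ⟨hrp⟩
  have hdvd : r ∣ Nat.card M := Nat.minFac_dvd _
  obtain ⟨x, hx⟩ := exists_prime_orderOf_dvd_card' r hdvd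
  let H : Subgroup M := (powMonoidHom r : M →* M).ker
  have hHinv : ∀ g : Q, ∀ y ∈ H, g • y ∈ H := by
    intro g y hy
    rw [MonoidHom.mem_ker, powMonoidHom_apply] at hy ⊢
    rw [← smul_pow', hy, smul_one]
  have hxH : x ∈ H := by
    rw [MonoidHom.mem_ker, powMonoidHom_apply, ← hx, pow_orderOf_eq_one]
  have hx1 : x ≠ 1 := by
    intro h
    rw [h, orderOf_one] at hx
    exact hrp.one_lt.ne hx
  rcases hirr H hHinv with hH | hH
  · exfalso; rw [hH, Subgroup.mem_bot] at hxH; exact hx1 hxH
  · have hpg : IsPGroup r M := by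
      intro y
      refine ⟨1, ?_⟩
      have : y ∈ H := by rw [hH]; exact Subgroup.mem_top _
      rw [MonoidHom.mem_ker, powMonoidHom_apply] at this
      rw [pow_one]; exact this
    obtain ⟨n, hn⟩ := IsPGroup.iff_card.mp hpg
    refine ⟨r, n, hrp, ?_, hn⟩
    by_contra h0
    have : n = 0 := by omega
    rw [this, pow_zero] at hn
    omega

/-- Faithful action on a group of prime order: all subgroups have Frattini index at most `2`. -/
theorem kr_fi_le_two_of_card_prime [Finite Q] [Finite M] (hQ : IsPGroup 2 Q) (hf : KRFaith Q M)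
    (hp : (Nat.card M).Prime) (R : Subgroup Q) : (frattini R).index ≤ 2 := by
  haveI : Fact (Nat.card M).Prime := ⟨hp⟩
  haveI : IsCyclic M := isCyclic_of_prime_card rfl
  haveI : IsCyclic (ZMod (Nat.card M))ˣ := inferInstance
  haveI : IsCyclic (MulAut M) :=
    isCyclic_of_surjective (IsCyclic.mulAutMulEquiv M).symm.toMonoidHom
      (IsCyclic.mulAutMulEquiv M).symm.surjective
  let φ : R →* MulAut M := (MulDistribMulAction.toMulAut Q M).comp R.subtype
  have hφ : Function.Injective φ := by
    rw [injective_iff_map_eq_one]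
    intro g hg
    apply Subtype.ext
    apply hf
    intro x
    have := congrArg (fun α : MulAut M => α x) hg
    simpa [φ] using this
  haveI : IsCyclic R := isCyclic_of_injective φ hφ
  exact kr_fi_le_two_of_isCyclic (hQ.to_subgroup R)

end Cfsg.Agent.Lib.Helper70
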