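import Mathlib
import Cfsg.Agent.Lib.Helper70.KRPrim1

/-!
# Strongly primitive actions of `2`-groups, part 2: no normal four-subgroups
-/

set_option autoImplicit false

namespace Cfsg.Agent.Lib.Helper70

open Pointwise
open scoped Classical

variable {Q M : Type*} [Group Q] [CommGroup M] [MulDistribMulAction Q M]

theorem kr_mem_smul_krFix (g e : Q) (x : M) :
    x ∈ g • (krFix e : Subgroup M) ↔ (g * e * g⁻¹) • x = x := by
  rw [Subgroup.mem_pointwise_smul_iff_inv_smul_mem, mem_krFix, mul_smul, mul_smul]
  constructor
  · intro h; rw [h, smul_inv_smul]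
  · intro h
    have := congrArg (fun y => g⁻¹ • y) h
    simpa using this

theorem kr_mem_smul_krNeg (g e : Q) (x : M) :
    x ∈ g • (krNeg e : Subgroup M) ↔ (g * e * g⁻¹) • x = x⁻¹ := by
  rw [Subgroup.mem_pointwise_smul_iff_inv_smul_mem, mem_krNeg, mul_smul, mul_smul]
  constructor
  · intro h; rw [h, smul_inv', smul_inv_smul]
  · intro h
    have := congrArg (fun y => g⁻¹ • y) h
    simpa using this

/-- A strongly primitive faithful `2`-group has no normal four-subgroup of exponent two. -/
theorem kr_no_normal_four [Finite Q] [Finite M] (hQ : IsPGroup 2 Q) (hf : KRFaith Q M)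
    (hprim : KRPrim Q M) (hodd : Odd (Nat.card M)) [Nontrivial M] (E : Subgroup Q) [hE : E.Normal]
    (hE4 : Nat.card E = 4) (hexp : ∀ e ∈ E, e ^ 2 = 1) : False := by
  haveI : Fact (Nat.Prime 2) := ⟨Nat.prime_two⟩
  have hirr : KRIrr Q M := krprim_irr hprim
  have hEne : E ≠ ⊥ := by
    intro h
    rw [h, Subgroup.card_bot] at hE4
    omega
  obtain ⟨z, hzE, hz1, hzc⟩ := Cfsg.Agent.Lib.Helper53.normal_meets_center hQ E hEne
  have hz2 : z ^ 2 = 1 := hexp z hzE
  have hzinv : ∀ x : M, z • x = x⁻¹ := kr_central_inv_smul hirr hf hzc hz1 hz2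
  have hzcomm : ∀ g : Q, g * z = z * g := Subgroup.mem_center_iff.mp hzc
  -- an element outside `{1, z}`
  have hex : ∃ e ∈ E, e ≠ 1 ∧ e ≠ z := by
    by_contra hcon
    push Not at hcon
    have hsub : ∀ e ∈ E, e ∈ ({1, z} : Finset Q) := by
      intro e he
      by_cases h1 : e = 1
      · simp [h1]
      · simp [hcon e he h1]
    have := Cfsg.Agent.Lib.Helper55.card_le_of_subset_finset E _ hsub
    have h2 : ({1, z} : Finset Q).card ≤ 2 := Finset.card_le_two
    omega
  obtain ⟨e, heE, he1, hez⟩ := hex
  have he2 : e ^ 2 = 1 := hexp e heE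
  have hee : ∀ x : M, e • e • x = x := by
    intro x
    rw [← mul_smul, ← sq, he2, one_smul]
  -- the elements of `E`
  have hEelts : ∀ q ∈ E, q = 1 ∨ q = z ∨ q = e ∨ q = e * z := by
    let S : Finset Q := {1, z, e, e * z}
    have hSE : (↑S : Set Q) ⊆ (E : Set Q) := by
      intro q hq
      simp only [S, Finset.coe_insert, Finset.coe_singleton, Set.mem_insert_iff,
        Set.mem_singleton_iff] at hq
      rcases hq with rfl | rfl | rfl | rfl
      · exact E.one_mem
      · exact hzE
      · exact heE
      · exact E.mul_mem heE hzE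
    have hcardS : S.card = 4 := by
      have h1 : e ≠ e * z := by
        intro h
        apply hz1
        have := congrArg (fun y => e⁻¹ * y) h
        simpa using this.symm
      have h2 : z ≠ e * z := by
        intro h
        apply he1
        have := congrArg (fun y => y * z⁻¹) h
        simpa using this.symm
      have h3 : (1 : Q) ≠ e * z := by
        intro h
        apply hez
        have hzz : z⁻¹ = z := by
          rw [inv_eq_iff_mul_eq_one, ← sq]; exact hz2
        have := congrArg (fun y => y * z⁻¹) h
        simp only [one_mul, mul_inv_cancel_right] at this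
        rw [← this, hzz]
      simp only [S]
      rw [Finset.card_insert_of_notMem, Finset.card_insert_of_notMem, Finset.card_insert_of_notMem,
        Finset.card_singleton]
      · simpa using h1
      · simp only [Finset.mem_insert, Finset.mem_singleton, not_or]
        exact ⟨fun h => hez h.symm, h2⟩
      · simp only [Finset.mem_insert, Finset.mem_singleton, not_or]
        exact ⟨fun h => hz1 h.symm, fun h => he1 h.symm, h3⟩
    have heq : (↑S : Set Q) = (E : Set Q) := by
      apply Set.eq_of_subset_of_ncard_le hSE _ (Set.toFinite _)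
      rw [Set.ncard_coe_finset, hcardS, ← hE4]
      exact le_of_eq (Nat.card_coe_set_eq (E : Set Q))
    intro q hq
    have : q ∈ (↑S : Set Q) := by rw [heq]; exact hq
    simpa [S] using this
  have hconj : ∀ g : Q, g * e * g⁻¹ = e ∨ g * e * g⁻¹ = e * z := by
    intro g
    rcases hEelts _ (hE.conj_mem e heE g) with h | h | h | h
    · exfalso; apply he1
      have := congrArg (fun y => g⁻¹ * y * g) h
      simpa [mul_assoc] using this
    · exfalso; apply hez
      have := congrArg (fun y => g⁻¹ * y * g) h
      simp only [mul_assoc, inv_mul_cancel_left, inv_mul_cancel, mul_one] at this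
      rw [this, ← mul_assoc, hzcomm g⁻¹, mul_assoc, inv_mul_cancel, mul_one]
    · left; exact h
    · right; exact h
  have hez_smul : ∀ x : M, (e * z) • x = (e • x)⁻¹ := by
    intro x
    rw [mul_smul, hzinv, smul_inv']
  -- the two blocks
  have hdisj : ∀ x : M, x ∈ (krFix e : Subgroup M) → x ∈ (krNeg e : Subgroup M) → x = 1 := by
    intro x h1 h2
    rw [mem_krFix] at h1
    rw [mem_krNeg, h1] at h2
    apply kr_eq_one_of_sq_eq_one hodd
    rw [sq]
    nth_rewrite 1 [h2]
    exact inv_mul_cancel x
  have hFixne : (krFix e : Subgroup M) ≠ ⊥ := by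
    intro hbot
    apply hez
    have key : ∀ x : M, e • x = z • x := by
      intro x
      have : x * e • x ∈ (krFix e : Subgroup M) := by
        rw [mem_krFix, smul_mul', hee, mul_comm]
      rw [hbot, Subgroup.mem_bot] at this
      rw [hzinv]
      exact eq_inv_of_mul_eq_one_right this
    have h1 : z⁻¹ * e = 1 := by
      apply hf
      intro x
      rw [mul_smul, key, inv_smul_smul]
    exact (inv_mul_eq_one.mp h1).symm
  have hNegne : (krNeg e : Subgroup M) ≠ ⊥ := by
    intro hbot
    apply he1
    apply hf
    intro x
    have : x * (e • x)⁻¹ ∈ (krNeg e : Subgroup M) := by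
      rw [mem_krNeg, smul_mul', smul_inv', hee, mul_inv, inv_inv, mul_comm]
    rw [hbot, Subgroup.mem_bot] at this
    exact (mul_inv_eq_one.mp this).symm
  have hne12 : (krFix e : Subgroup M) ≠ krNeg e := by
    intro h
    apply hFixne
    rw [eq_bot_iff]
    intro x hx
    rw [Subgroup.mem_bot]
    exact hdisj x hx (h ▸ hx)
  have hsys : KRSys Q ({krFix e, krNeg e} : Finset (Subgroup M)) := by
    refine ⟨?_, ?_, ?_⟩
    · intro g D hD
      rw [Finset.mem_insert, Finset.mem_singleton] at hD ⊢
      rcases hD with rfl | rfl
      · rcases hconj g with h | h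
        · left
          ext x
          rw [kr_mem_smul_krFix, h, mem_krFix]
        · right
          ext x
          rw [kr_mem_smul_krFix, h, hez_smul, mem_krNeg, inv_eq_iff_eq_inv]
      · rcases hconj g with h | h
        · right
          ext x
          rw [kr_mem_smul_krNeg, h, mem_krNeg]
        · left
          ext x
          rw [kr_mem_smul_krNeg, h, hez_smul, mem_krFix, inv_inj]
    · intro D hD
      rw [Finset.mem_insert, Finset.mem_singleton] at hD
      rcases hD with rfl | rfl
      · exact hFixne
      · exact hNegne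
    · intro x hx hprod
      rw [Finset.prod_pair hne12] at hprod
      have h1 := hx (krFix e) (by simp)
      have h2 := hx (krNeg e) (by simp)
      have h3 : x (krFix e) = (x (krNeg e))⁻¹ := eq_inv_of_mul_eq_one_left hprod
      have h4 : x (krFix e) ∈ (krNeg e : Subgroup M) := by
        rw [h3]; exact Subgroup.inv_mem _ h2
      have h5 : x (krFix e) = 1 := hdisj _ h1 h4
      have h6 : x (krNeg e) = 1 := by
        rw [h5, one_mul] at hprod; exact hprod
      intro D hD
      rw [Finset.mem_insert, Finset.mem_singleton] at hD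
      rcases hD with rfl | rfl
      · exact h5
      · exact h6
  have htop := hprim _ hsys ⟨krFix e, by simp⟩
  have h1 : (krFix e : Subgroup M) = ⊤ := by
    have : (krFix e : Subgroup M) ∈ ({⊤} : Finset (Subgroup M)) := by rw [← htop]; simp
    simpa using this
  have h2 : (krNeg e : Subgroup M) = ⊤ := by
    have : (krNeg e : Subgroup M) ∈ ({⊤} : Finset (Subgroup M)) := by rw [← htop]; simp
    simpa using this
  exact hne12 (h1.trans h2.symm)

end Cfsg.Agent.Lib.Helper70
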