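import Mathlib
import Cfsg.Agent.Lib.Helper70.KRPrim2

/-!
# Strongly primitive actions of `2`-groups, part 3: the general bound
-/

set_option autoImplicit false

namespace Cfsg.Agent.Lib.Helper70

open Pointwise
open scoped Classical

variable {Q M : Type*} [Group Q] [CommGroup M] [MulDistribMulAction Q M]

/-- Every normal abelian subgroup of a strongly primitive faithful `2`-group is cyclic. -/
theorem kr_normal_abelian_isCyclic [Finite Q] [Finite M] (hQ : IsPGroup 2 Q) (hf : KRFaith Q M)
    (hprim : KRPrim Q M) (hodd : Odd (Nat.card M)) [Nontrivial M] (C : Subgroup Q) [hC : C.Normal]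
    (hCab : ∀ x ∈ C, ∀ y ∈ C, x * y = y * x) : IsCyclic C := by
  haveI : Fact (Nat.Prime 2) := ⟨Nat.prime_two⟩
  let W : Subgroup Q :=
    { carrier := {x | x ∈ C ∧ x ^ 2 = 1}
      one_mem' := ⟨C.one_mem, one_pow 2⟩
      mul_mem' := by
        rintro a b ⟨ha, ha2⟩ ⟨hb, hb2⟩
        refine ⟨C.mul_mem ha hb, ?_⟩
        have hc : Commute a b := hCab a ha b hb
        rw [hc.mul_pow, ha2, hb2, one_mul]
      inv_mem' := by
        rintro a ⟨ha, ha2⟩
        exact ⟨C.inv_mem ha, by rw [inv_pow, ha2, inv_one]⟩ }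
  have hWmem : ∀ x : Q, x ∈ W ↔ x ∈ C ∧ x ^ 2 = 1 := fun x => Iff.rfl
  have hWn : W.Normal := by
    refine ⟨fun x hx g => ?_⟩
    rw [hWmem] at hx ⊢
    exact ⟨hC.conj_mem x hx.1 g, by rw [conj_pow, hx.2, mul_one, mul_inv_cancel]⟩
  have hWcard : Nat.card W < 4 := by
    by_contra hcon
    rw [not_lt] at hcon
    obtain ⟨U, hUW, hUn, hU4⟩ :=
      Cfsg.Agent.Lib.Helper55.exists_normal_card_four_le hQ (Nat.card W) W hWn rfl hcon
    haveI := hUn
    exact kr_no_normal_four hQ hf hprim hodd U hU4 (fun e he => ((hWmem e).mp (hUW he)).2)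
  have hW2 : Nat.card W ≤ 2 := by
    obtain ⟨n, hn⟩ := IsPGroup.iff_card.mp (hQ.to_subgroup W)
    rw [hn] at hWcard ⊢
    have hn2 : n < 2 := by
      by_contra h
      rw [not_lt] at h
      have : 2 ^ 2 ≤ 2 ^ n := Nat.pow_le_pow_right (by norm_num) h
      omega
    calc 2 ^ n ≤ 2 ^ 1 := Nat.pow_le_pow_right (by norm_num) (by omega)
      _ = 2 := by norm_num
  have huniq : ∀ a b : Q, a ∈ W → b ∈ W → a ≠ 1 → b ≠ 1 → a = b := by
    intro a b ha hb ha1 hb1
    by_contra hab
    let S : Finset Q := {1, a, b}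
    have hS3 : S.card = 3 := by
      simp only [S]
      rw [Finset.card_insert_of_notMem, Finset.card_insert_of_notMem, Finset.card_singleton]
      · simpa using hab
      · simp only [Finset.mem_insert, Finset.mem_singleton, not_or]
        exact ⟨fun h => ha1 h.symm, fun h => hb1 h.symm⟩
    have hSW : (↑S : Set Q) ⊆ (W : Set Q) := by
      intro q hq
      simp only [S, Finset.coe_insert, Finset.coe_singleton, Set.mem_insert_iff,
        Set.mem_singleton_iff] at hq
      rcases hq with rfl | rfl | rfl
      · exact W.one_mem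
      · exact ha
      · exact hb
    have h1 := Set.ncard_le_ncard hSW (Set.toFinite _)
    rw [Set.ncard_coe_finset, hS3] at h1
    have h2 : (W : Set Q).ncard = Nat.card W := (Nat.card_coe_set_eq (W : Set Q)).symm
    omega
  have hcomm : ∀ x y : C, x * y = y * x := fun x y => Subtype.ext (hCab x x.2 y y.2)
  have hsq : ∀ t : C, orderOf t = 2 → (t : Q) ∈ W ∧ (t : Q) ≠ 1 := by
    intro t ht
    have h1 : t ^ 2 = 1 := by rw [← ht]; exact pow_orderOf_eq_one t
    have h2 : (t : Q) ^ 2 = 1 := by
      have := congrArg (fun c : C => (c : Q)) h1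
      simpa using this
    refine ⟨(hWmem _).mpr ⟨t.2, h2⟩, ?_⟩
    intro h
    have : t = 1 := Subtype.ext h
    rw [this, orderOf_one] at ht
    omega
  by_cases hinv : ∃ t : C, orderOf t = 2
  · obtain ⟨z, hz⟩ := hinv
    apply Cfsg.Agent.Lib.Helper53.ui_isCyclic_of_comm (hQ.to_subgroup C) (z := z) _ hcomm
    intro t ht
    exact Subtype.ext (huniq t z (hsq t ht).1 (hsq z hz).1 (hsq t ht).2 (hsq z hz).2)
  · push Not at hinv
    apply Cfsg.Agent.Lib.Helper53.ui_isCyclic_of_comm (hQ.to_subgroup C) (z := 1) _ hcomm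
    intro t ht
    exact absurd ht (hinv t)

/-- The number of square roots of one modulo a power of two is at most four. -/
theorem kr_card_units_sq_eq_one_le (n k : ℕ) (hn : n = 2 ^ k) :
    Nat.card {u : (ZMod n)ˣ // u ^ 2 = 1} ≤ 4 := by
  subst hn
  rcases Nat.eq_zero_or_pos k with hk0 | hkpos
  · subst hk0
    haveI : Subsingleton (ZMod (2 ^ 0)) := by
      rw [pow_zero]; infer_instance
    haveI : Subsingleton {u : (ZMod (2 ^ 0))ˣ // u ^ 2 = 1} := inferInstance
    have := Finite.card_le_one_iff_subsingleton.mpr this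
    omega
  set n := 2 ^ k with hn
  have hn2 : 2 ≤ n := by
    calc 2 = 2 ^ 1 := by norm_num
      _ ≤ 2 ^ k := Nat.pow_le_pow_right (by norm_num) hkpos
  haveI : NeZero n := ⟨by omega⟩
  let val : {u : (ZMod n)ˣ // u ^ 2 = 1} → ℕ := fun u => ((u.1 : (ZMod n)ˣ) : ZMod n).val
  have hval_lt : ∀ u, val u < n := fun u => ZMod.val_lt _
  have hval_odd : ∀ u, Odd (val u) := by
    intro u
    have h1 : Nat.Coprime (val u) n := ZMod.val_coe_unit_coprime u.1
    have h2 : Nat.Coprime (val u) 2 := by
      apply Nat.Coprime.coprime_dvd_right _ h1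
      exact dvd_pow_self 2 (by omega)
    exact Nat.coprime_two_right.mp h2
  have hval_dvd : ∀ u, n ∣ 2 * (val u - 1) ∨ n ∣ 2 * (val u + 1) := by
    intro u
    obtain ⟨a, ha⟩ := hval_odd u
    have h1 : ((u.1 : (ZMod n)ˣ) : ZMod n) ^ 2 = 1 := by
      have := congrArg (fun w : (ZMod n)ˣ => (w : ZMod n)) u.2
      simpa using this
    have h2 : (((val u) ^ 2 : ℕ) : ZMod n) = ((1 : ℕ) : ZMod n) := by
      rw [Nat.cast_pow, ZMod.natCast_zmod_val, h1, Nat.cast_one]
    rw [ZMod.natCast_eq_natCast_iff] at h2
    have h3 : n ∣ (val u) ^ 2 - 1 := (Nat.modEq_iff_dvd' (Nat.one_le_pow _ _ (by omega))).mp h2.symm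
    have h4 : (val u) ^ 2 - 1 = 4 * a * (a + 1) := by
      rw [ha]
      apply Nat.sub_eq_of_eq_add
      ring
    rw [h4] at h3
    rcases Nat.even_or_odd a with hev | hod
    · left
      have hco : Nat.Coprime n (a + 1) := by
        apply Nat.Coprime.pow_left
        exact Nat.coprime_two_left.mpr hev.add_one
      have := hco.dvd_of_dvd_mul_right h3
      have e : 2 * (val u - 1) = 4 * a := by rw [ha]; omega
      rw [e]; exact this
    · right
      have hco : Nat.Coprime n a := by
        apply Nat.Coprime.pow_left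
        exact Nat.coprime_two_left.mpr hod
      have h3' : n ∣ 4 * (a + 1) * a := by
        have : 4 * (a + 1) * a = 4 * a * (a + 1) := by ring
        rw [this]; exact h3
      have := hco.dvd_of_dvd_mul_right h3'
      have e : 2 * (val u + 1) = 4 * (a + 1) := by rw [ha]; omega
      rw [e]; exact this
  let f : {u : (ZMod n)ˣ // u ^ 2 = 1} → Bool × Bool :=
    fun u => (decide (n ∣ 2 * (val u - 1)), decide (2 * val u < n))
  have hf : Function.Injective f := by
    intro u u' huu'
    have hv : val u = val u' := by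
      have h1 : (n ∣ 2 * (val u - 1)) ↔ (n ∣ 2 * (val u' - 1)) := by
        have := congrArg Prod.fst huu'
        simpa [f] using this
      have h2 : (2 * val u < n) ↔ (2 * val u' < n) := by
        have := congrArg Prod.snd huu'
        simpa [f] using this
      have hlt := hval_lt u
      have hlt' := hval_lt u'
      obtain ⟨a, ha⟩ := hval_odd u
      obtain ⟨a', ha'⟩ := hval_odd u'
      by_cases hd : n ∣ 2 * (val u - 1)
      · have hd' := h1.mp hd
        obtain ⟨q, hq⟩ := hd
        obtain ⟨q', hq'⟩ := hd'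
        have hq2 : q < 2 := by
          have : n * q < n * 2 := by rw [← hq]; omega
          exact Nat.lt_of_mul_lt_mul_left this
        have hq2' : q' < 2 := by
          have : n * q' < n * 2 := by rw [← hq']; omega
          exact Nat.lt_of_mul_lt_mul_left this
        interval_cases q <;> interval_cases q' <;> omega
      · have hd' : ¬ n ∣ 2 * (val u' - 1) := fun h => hd (h1.mpr h)
        have he := (hval_dvd u).resolve_left hd
        have he' := (hval_dvd u').resolve_left hd'
        obtain ⟨q, hq⟩ := he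
        obtain ⟨q', hq'⟩ := he'
        have hq2 : q < 3 := by
          have : n * q < n * 3 := by rw [← hq]; omega
          exact Nat.lt_of_mul_lt_mul_left this
        have hq2' : q' < 3 := by
          have : n * q' < n * 3 := by rw [← hq']; omega
          exact Nat.lt_of_mul_lt_mul_left this
        interval_cases q <;> interval_cases q' <;> omega
    apply Subtype.ext
    apply Units.ext
    exact ZMod.val_injective n hv
  have hcard := Nat.card_le_card_of_injective f hf
  have h4 : Nat.card (Bool × Bool) = 4 := by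
    rw [Nat.card_eq_fintype_card]; rfl
  omega

end Cfsg.Agent.Lib.Helper70
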