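import Mathlib
import Cfsg.Agent.Lib.Helper70.KRPrim3

/-!
# Strongly primitive actions of `2`-groups, part 4: a self-centralizing cyclic normal subgroup
-/

set_option autoImplicit false

namespace Cfsg.Agent.Lib.Helper70

open Pointwise
open scoped Classical

variable {Q M : Type*} [Group Q] [CommGroup M] [MulDistribMulAction Q M]

theorem kr_prim_structure [Finite Q] [Finite M] (hQ : IsPGroup 2 Q) (hf : KRFaith Q M)
    (hprim : KRPrim Q M) (hodd : Odd (Nat.card M)) [Nontrivial M] :
    ∃ C : Subgroup Q, (C.index = 1 ∨ 2 * C.index ≤ Nat.card C) ∧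
      ∀ R : Subgroup Q, (frattini R).index ≤ 8 ∧ (frattini R).index ≤ 2 * C.index := by
  haveI : Fact (Nat.Prime 2) := ⟨Nat.prime_two⟩
  obtain ⟨C, -, hCn, hCab, hCmax⟩ :=
    Cfsg.Agent.Lib.Helper53.exists_max_normal_abelian (⊥ : Subgroup Q) inferInstance (by
      intro x hx y hy
      rw [Subgroup.mem_bot] at hx hy
      rw [hx, hy])
  haveI := hCn
  have hCC := Cfsg.Agent.Lib.Helper53.centralizer_eq_of_max_normal_abelian hQ C hCab hCmax
  haveI : IsCyclic C := kr_normal_abelian_isCyclic hQ hf hprim hodd C hCab
  haveI : NeZero (Nat.card C) := ⟨Nat.card_pos.ne'⟩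
  let e := IsCyclic.mulAutMulEquiv C
  let φQ : Q →* (ZMod (Nat.card C))ˣ := e.toMonoidHom.comp (MulAut.conjNormal (H := C))
  have hφQ_one : ∀ x : Q, φQ x = 1 ↔ x ∈ C := by
    intro x
    have h1 : φQ x = 1 ↔ (MulAut.conjNormal (H := C)) x = 1 := by
      constructor
      · intro h
        apply e.injective
        rw [map_one]; exact h
      · intro h
        show e ((MulAut.conjNormal (H := C)) x) = 1
        rw [h, map_one]
    rw [h1]
    constructor
    · intro h
      rw [← hCC, Subgroup.mem_centralizer_iff]
      intro c hc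
      have := congrArg (fun α : MulAut C => ((α ⟨c, hc⟩ : C) : Q)) h
      simp only [MulAut.conjNormal_apply, MulAut.one_apply] at this
      calc c * x = (x * c * x⁻¹) * x := by rw [this]
        _ = x * c := by group
    · intro h
      ext c
      rw [MulAut.conjNormal_apply, MulAut.one_apply]
      have := hCab x h c c.2
      rw [this, mul_assoc, mul_inv_cancel, mul_one]
  have hkerQ : φQ.ker = C := by
    ext x
    rw [MonoidHom.mem_ker, hφQ_one]
  have hidx : C.index = Nat.card φQ.range := by
    have := Subgroup.index_ker φQ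
    rw [hkerQ] at this
    exact this
  refine ⟨C, ?_, ?_⟩
  · -- the index bound
    obtain ⟨k, hk⟩ := IsPGroup.iff_card.mp (hQ.to_subgroup C)
    rcases Nat.eq_zero_or_pos k with hk0 | hkpos
    · left
      rw [hk0, pow_zero] at hk
      have hCbot : C = ⊥ := Subgroup.card_eq_one.mp hk
      have : Subgroup.centralizer ((⊥ : Subgroup Q) : Set Q) = ⊤ := by
        rw [Subgroup.coe_bot]
        exact Subgroup.centralizer_eq_top_iff_subset.mpr (by simp)
      rw [hCbot] at hCC
      rw [hCbot, ← hCC, this, Subgroup.index_top]
    · right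
      have h1 : Nat.card φQ.range ≤ Nat.card (ZMod (Nat.card C))ˣ :=
        Nat.card_le_card_of_injective _ (Subgroup.subtype_injective _)
      have h2 : Nat.card (ZMod (Nat.card C))ˣ = Nat.totient (Nat.card C) := by
        rw [Nat.card_eq_fintype_card, ZMod.card_units_eq_totient]
      rw [hidx]
      have h3 : 2 * Nat.totient (Nat.card C) = Nat.card C := by
        rw [hk, Nat.totient_prime_pow Nat.prime_two hkpos]
        have : 2 ^ k = 2 ^ (k - 1 + 1) := by rw [Nat.sub_add_cancel hkpos]
        rw [this, pow_succ]
        simp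
        ring
      omega
  · intro R
    let φ : R →* (ZMod (Nat.card C))ˣ := φQ.comp R.subtype
    have h1 := kr_fi_le_range_mul_ker (hQ.to_subgroup R) φ
    have hker : (frattini φ.ker).index ≤ 2 := by
      have hmem : ∀ k : φ.ker, ((k : R) : Q) ∈ C := by
        intro k
        rw [← hφQ_one]
        exact k.2
      let ψ : φ.ker →* C :=
        { toFun := fun k => ⟨((k : R) : Q), hmem k⟩
          map_one' := rfl
          map_mul' := fun _ _ => rfl }
      have hψ : Function.Injective ψ := by
        intro a b hab
        apply Subtype.ext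
        apply Subtype.ext
        exact congrArg (fun c : C => (c : Q)) hab
      haveI : IsCyclic φ.ker := isCyclic_of_injective ψ hψ
      exact kr_fi_le_two_of_isCyclic ((hQ.to_subgroup R).to_subgroup φ.ker)
    haveI : Finite φ.range := Finite.of_surjective _ φ.rangeRestrict_surjective
    have hA : IsPGroup 2 φ.range :=
      (hQ.to_subgroup R).of_surjective φ.rangeRestrict φ.rangeRestrict_surjective
    have hrange4 : (frattini φ.range).index ≤ 4 := by
      have h2 := kr_fi_le_card_sq_eq_one hA
      have h3 : Nat.card {x : φ.range // x ^ 2 = 1} ≤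
          Nat.card {u : (ZMod (Nat.card C))ˣ // u ^ 2 = 1} := by
        apply Nat.card_le_card_of_injective
          (fun x : {x : φ.range // x ^ 2 = 1} =>
            (⟨((x.1 : φ.range) : (ZMod (Nat.card C))ˣ), by
              have := congrArg (fun y : φ.range => (y : (ZMod (Nat.card C))ˣ)) x.2
              simpa using this⟩ : {u : (ZMod (Nat.card C))ˣ // u ^ 2 = 1}))
        intro x y hxy
        apply Subtype.ext
        apply Subtype.ext
        exact congrArg (fun u : {u : (ZMod (Nat.card C))ˣ // u ^ 2 = 1} => (u : (ZMod (Nat.card C))ˣ)) hxy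
      obtain ⟨k, hk⟩ := IsPGroup.iff_card.mp (hQ.to_subgroup C)
      have h4 := kr_card_units_sq_eq_one_le (Nat.card C) k hk
      omega
    have hrangeC : (frattini φ.range).index ≤ C.index := by
      refine le_trans kr_fi_le_card ?_
      rw [hidx]
      apply Subgroup.card_le_of_le
      rintro _ ⟨r, rfl⟩
      exact ⟨(r : Q), rfl⟩
    constructor
    · calc (frattini R).index ≤ (frattini φ.range).index * (frattini φ.ker).index := h1
        _ ≤ 4 * 2 := Nat.mul_le_mul hrange4 hker
    · calc (frattini R).index ≤ (frattini φ.range).index * (frattini φ.ker).index := h1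
        _ ≤ C.index * 2 := Nat.mul_le_mul hrangeC hker
        _ = 2 * C.index := by ring

end Cfsg.Agent.Lib.Helper70
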