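import Mathlib
import Cfsg.Agent.Lib.Helper70.KRPrim4

/-!
# Strongly primitive actions of `2`-groups, part 5: groups of order nine and the final bound
-/

set_option autoImplicit false

namespace Cfsg.Agent.Lib.Helper70

open Pointwise
open scoped Classical

variable {Q M : Type*} [Group Q] [CommGroup M] [MulDistribMulAction Q M]

/-- A `2`-group acting faithfully on an abelian group of order nine has order at most sixteen. -/
theorem kr_card_le_sixteen [Finite Q] [Finite M] (hQ : IsPGroup 2 Q) (hf : KRFaith Q M)
    (h9 : Nat.card M = 9) : Nat.card Q ≤ 16 := by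
  haveI : Fact (Nat.Prime 2) := ⟨Nat.prime_two⟩
  haveI : Nontrivial M := (Finite.one_lt_card_iff_nontrivial).mp (by omega)
  obtain ⟨x, hx⟩ := exists_ne (1 : M)
  let S : Subgroup Q := MulAction.stabilizer Q x
  have h1 : Nat.card S * S.index = Nat.card Q := S.card_mul_index
  have h2 : S.index = (MulAction.orbit Q x).ncard := MulAction.index_stabilizer Q x
  have h3 : (MulAction.orbit Q x).ncard ≤ 8 := by
    have hsub : MulAction.orbit Q x ⊆ ({1}ᶜ : Set M) := by
      rintro _ ⟨g, rfl⟩
      simp only [Set.mem_compl_iff, Set.mem_singleton_iff]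
      intro h
      apply hx
      have := congrArg (fun y => g⁻¹ • y) h
      simpa using this
    have := Set.ncard_le_ncard hsub (Set.toFinite _)
    have h4 : ({1}ᶜ : Set M).ncard = 8 := by
      rw [Set.ncard_compl, Set.ncard_singleton, h9]
    omega
  have h4 : Nat.card S ≤ 2 := by
    haveI := Fintype.ofFinite S
    haveI := Fintype.ofFinite M
    have hB := MulAction.sum_card_fixedBy_eq_card_orbits_mul_card_group S M
    have hfix : ∀ s : S, Fintype.card (MulAction.fixedBy M s) = 3 + if s = 1 then 6 else 0 := by
      intro s
      rw [Fintype.card_eq_nat_card]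
      have e : Nat.card (MulAction.fixedBy M s) = Nat.card (krFix (s : Q) : Subgroup M) :=
        Nat.card_congr (Equiv.subtypeEquivRight (fun y => Iff.rfl))
      rw [e]
      split_ifs with hs
      · have : (krFix ((s : S) : Q) : Subgroup M) = ⊤ := by
          rw [hs]
          ext y
          simp [mem_krFix]
        rw [this, Subgroup.card_top, h9]
      · have hdvd : Nat.card (krFix (s : Q) : Subgroup M) ∣ 3 ^ 2 := by
          have := Subgroup.card_subgroup_dvd_card (krFix (s : Q) : Subgroup M)
          rw [h9] at this
          exact this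
        have hne1 : Nat.card (krFix (s : Q) : Subgroup M) ≠ 1 := by
          intro h
          rw [Subgroup.card_eq_one] at h
          have hmem : x ∈ (krFix (s : Q) : Subgroup M) := MulAction.mem_stabilizer_iff.mp s.2
          rw [h, Subgroup.mem_bot] at hmem
          exact hx hmem
        have hne9 : Nat.card (krFix (s : Q) : Subgroup M) ≠ 9 := by
          intro h
          have htop : (krFix (s : Q) : Subgroup M) = ⊤ :=
            Subgroup.eq_top_of_card_eq _ (h.trans h9.symm)
          apply hs
          apply Subtype.ext
          apply hf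
          intro y
          have : y ∈ (krFix (s : Q) : Subgroup M) := by rw [htop]; exact Subgroup.mem_top _
          exact this
        obtain ⟨m, hm, hm'⟩ := (Nat.dvd_prime_pow Nat.prime_three).mp hdvd
        interval_cases m
        · exact absurd hm' (by simpa using hne1)
        · rw [hm']; norm_num
        · exact absurd hm' (by simpa using hne9)
    have hsum : ∑ s : S, Fintype.card (MulAction.fixedBy M s) = 3 * Fintype.card S + 6 := by
      rw [Finset.sum_congr rfl (fun s _ => hfix s), Finset.sum_add_distrib, Finset.sum_const,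
        Finset.sum_ite_eq']
      simp [mul_comm]
    rw [hsum] at hB
    have hdvd6 : Fintype.card S ∣ 6 := by
      have h5 : Fintype.card S ∣ 3 * Fintype.card S + 6 := by
        rw [hB]; exact dvd_mul_left _ _
      exact (Nat.dvd_add_right (dvd_mul_left _ _)).mp h5
    rw [← Nat.card_eq_fintype_card] at hdvd6
    obtain ⟨j, hj⟩ := IsPGroup.iff_card.mp (hQ.to_subgroup S)
    rw [hj] at hdvd6 ⊢
    have hj1 : j ≤ 1 := by
      by_contra hcon
      rw [not_le] at hcon
      have : 2 ^ 2 ∣ 6 := Nat.dvd_trans (pow_dvd_pow 2 hcon) hdvd6
      norm_num at this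
    calc 2 ^ j ≤ 2 ^ 1 := Nat.pow_le_pow_right (by norm_num) hj1
      _ = 2 := by norm_num
  calc Nat.card Q = Nat.card S * S.index := h1.symm
    _ ≤ 2 * 8 := Nat.mul_le_mul h4 (by omega)

/-- The bound for strongly primitive faithful actions. -/
theorem kr_prim_bound [Finite Q] [Finite M] (hQ : IsPGroup 2 Q) (hf : KRFaith Q M)
    (hprim : KRPrim Q M) (hodd : Odd (Nat.card M)) [Nontrivial M] (R : Subgroup Q) :
    (Nat.card M = 3 ∧ (frattini R).index ≤ 2) ∨ 2 * (frattini R).index ≤ Nat.card M := by
  have hirr := krprim_irr hprim
  obtain ⟨r, n, hr, hn, hcard⟩ := kr_irr_exists_prime_pow hirr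
  have hr2 : r ≠ 2 := by
    rintro rfl
    rw [hcard] at hodd
    exact (Nat.not_even_iff_odd.mpr hodd) (Nat.even_pow.mpr ⟨even_two, by omega⟩)
  have hr3 : 3 ≤ r := by have := hr.two_le; omega
  have hr5 : r ≠ 3 → 5 ≤ r := by
    intro h3
    by_contra hlt
    have : r = 4 := by omega
    rw [this] at hr
    exact absurd hr (by norm_num)
  obtain ⟨C, hC, hR⟩ := kr_prim_structure hQ hf hprim hodd
  obtain ⟨h8, hCi⟩ := hR R
  by_cases hn1 : n = 1
  · have hp : (Nat.card M).Prime := by rw [hcard, hn1, pow_one]; exact hr
    have h2 := kr_fi_le_two_of_card_prime hQ hf hp R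
    by_cases h3 : r = 3
    · left; exact ⟨by rw [hcard, hn1, h3, pow_one], h2⟩
    · right
      have h5 := hr5 h3
      rw [hcard, hn1, pow_one]; omega
  · right
    have hn2 : 2 ≤ n := by omega
    by_cases h9 : Nat.card M = 9
    · have h16 := kr_card_le_sixteen hQ hf h9
      have hmul : Nat.card C * C.index = Nat.card Q := C.card_mul_index
      have hC2 : C.index ≤ 2 := by
        rcases hC with h | h
        · omega
        · by_contra hcon
          have h3 : 3 ≤ C.index := by omega
          nlinarith
      omega
    · have h25 : 25 ≤ Nat.card M := by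
        rw [hcard] at h9 ⊢
        by_cases h3 : r = 3
        · subst h3
          have hn3 : 3 ≤ n := by
            by_contra hlt
            have : n = 2 := by omega
            rw [this] at h9; norm_num at h9
          calc 25 ≤ 3 ^ 3 := by norm_num
            _ ≤ 3 ^ n := Nat.pow_le_pow_right (by norm_num) hn3
        · have h5 := hr5 h3
          calc 25 = 5 ^ 2 := by norm_num
            _ ≤ r ^ 2 := Nat.pow_le_pow_left h5 2
            _ ≤ r ^ n := Nat.pow_le_pow_right (by omega) hn2
      omega

end Cfsg.Agent.Lib.Helper70
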