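import Mathlib
import Cfsg.Agent.Lib.Helper70.KRPrim5

/-!
# The main bound, part 1: blocks of a minimal system
-/

set_option autoImplicit false

namespace Cfsg.Agent.Lib.Helper70

open Pointwise
open scoped Classical
open scoped Nat

variable {P M : Type*} [Group P] [CommGroup M] [MulDistribMulAction P M]

/-- The blocks of a system with minimal block size are strongly primitive. -/
theorem kr_block_prim [Finite M] {𝒟 : Finset (Subgroup M)} (h : KRSys P 𝒟) {s : ℕ}
    (hs : ∀ D ∈ 𝒟, Nat.card D = s)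
    (hmin : ∀ 𝒟' : Finset (Subgroup M), KRSys P 𝒟' → 𝒟'.Nonempty → ∃ D' ∈ 𝒟', s ≤ Nat.card D')
    {D : Subgroup M} (hD : D ∈ 𝒟) : KRPrim (krRes (P := P) D).range D := by
  intro ℰ hℰ hne
  by_contra hcon
  have htop : (⊤ : Subgroup D) ∉ ℰ := by
    intro htop
    have : ∃ E ∈ ℰ, E ≠ ⊤ := by
      by_contra hall
      push Not at hall
      apply hcon
      ext E
      rw [Finset.mem_singleton]
      exact ⟨hall E, fun hE => hE ▸ htop⟩
    obtain ⟨E, hE, hEtop⟩ := this
    apply hℰ.2.1 E hE
    rw [eq_bot_iff]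
    intro x hx
    rw [Subgroup.mem_bot]
    exact krsys_disjoint hℰ hE htop hEtop hx (Subgroup.mem_top x)
  obtain ⟨E', hE', hcard⟩ := hmin (krRefine P D ℰ) (krRefine_sys h hD ℰ hℰ) (krRefine_nonempty hne)
  obtain ⟨E, hE, hEcard⟩ := krRefine_card hE'
  have hEtop : E ≠ ⊤ := fun h => htop (h ▸ hE)
  have : Nat.card E < Nat.card D := by
    by_contra hle
    rw [not_lt] at hle
    exact hEtop (Subgroup.eq_top_of_le_card E hle)
  rw [hs D hD] at this
  omega

/-- A `2`-group of permutations of `m ≥ 1` points has order at most `2 ^ (m - 1)`. -/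
theorem kr_card_perm_two_group_le {X : Type*} [Finite X] [Nonempty X]
    (T : Subgroup (Equiv.Perm X)) (hT : IsPGroup 2 T) : Nat.card T ≤ 2 ^ (Nat.card X - 1) := by
  haveI : Fact (Nat.Prime 2) := ⟨Nat.prime_two⟩
  haveI := Fintype.ofFinite X
  obtain ⟨t, ht⟩ := IsPGroup.iff_card.mp hT
  have hdvd : Nat.card T ∣ (Nat.card X)! := by
    have := Subgroup.card_subgroup_dvd_card T
    rwa [Nat.card_perm] at this
  rw [ht] at hdvd ⊢
  have hm : Nat.card X ≠ 0 := Nat.card_pos.ne'
  have h1 := Nat.emultiplicity_two_factorial_lt hm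
  have h2 : (t : ℕ∞) ≤ emultiplicity 2 (Nat.card X)! := pow_dvd_iff_le_emultiplicity.mp hdvd
  have h3 : t < Nat.card X := by exact_mod_cast lt_of_le_of_lt h2 h1
  exact Nat.pow_le_pow_right (by norm_num) (by omega)

/-- The bound for the subgroups of the group induced on a strongly primitive block. -/
theorem kr_block_bound [Finite P] [Finite M] (hP : IsPGroup 2 P) (hodd : Odd (Nat.card M))
    (D : Subgroup M) (hDne : D ≠ ⊥) (hprim : KRPrim (krRes (P := P) D).range D)
    (R : Subgroup (MulAut D)) (hR : R ≤ (krRes (P := P) D).range) :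
    (Nat.card D = 3 ∧ (frattini R).index ≤ 2) ∨ 2 * (frattini R).index ≤ Nat.card D := by
  haveI : Nontrivial D := (Subgroup.nontrivial_iff_ne_bot D).mpr hDne
  have hQ : IsPGroup 2 (krRes (P := P) D).range :=
    (hP.to_subgroup _).of_surjective (krRes D).rangeRestrict (krRes D).rangeRestrict_surjective
  have hfaith : KRFaith (krRes (P := P) D).range D := by
    intro α hα
    apply Subtype.ext
    ext x
    exact congrArg Subtype.val (hα x)
  have hoddD : Odd (Nat.card D) := hodd.of_dvd_nat (Subgroup.card_subgroup_dvd_card D)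
  have := kr_prim_bound hQ hfaith hprim hoddD (R.subgroupOf (krRes (P := P) D).range)
  rw [kr_fi_congr (Subgroup.subgroupOfEquivOfLe hR)] at this
  exact this

end Cfsg.Agent.Lib.Helper70
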