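import Mathlib
import Cfsg.Agent.Lib.Helper70.KRMain1

/-!
# The main bound, part 2: blocks of order three
-/

set_option autoImplicit false

namespace Cfsg.Agent.Lib.Helper70

open Pointwise
open scoped Classical

variable {P M : Type*} [Group P] [CommGroup M] [MulDistribMulAction P M]

/-- An element fixing every block of a nonempty system pointwise is trivial. -/
theorem kr_eq_one_of_fix_blocks (hirr : KRIrr P M) (hf : KRFaith P M)
    {𝒟 : Finset (Subgroup M)} (h : KRSys P 𝒟) (hne : 𝒟.Nonempty) (g : P)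
    (hg : ∀ D ∈ 𝒟, ∀ x ∈ D, g • x = x) : g = 1 := by
  obtain ⟨D, hD⟩ := hne
  have htop : krspan 𝒟 = ⊤ := krspan_eq_top hirr h.1 hD (h.2.1 D hD)
  apply hf
  intro x
  apply kr_smul_eq_of_mem_krspan g hg
  rw [htop]; exact Subgroup.mem_top _

/-- In a group of order two, two nontrivial elements are equal. -/
theorem kr_eq_of_card_two {G : Type*} [Group G] [Finite G] (h2 : Nat.card G = 2) {a b : G}
    (ha : a ≠ 1) (hb : b ≠ 1) : a = b := by
  by_contra hab
  haveI := Fintype.ofFinite G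
  have h3 : ({1, a, b} : Finset G).card = 3 := by
    rw [Finset.card_insert_of_notMem, Finset.card_insert_of_notMem, Finset.card_singleton]
    · simpa using hab
    · simp only [Finset.mem_insert, Finset.mem_singleton, not_or]
      exact ⟨fun h => ha h.symm, fun h => hb h.symm⟩
  have := Finset.card_le_univ ({1, a, b} : Finset G)
  rw [h3, ← Nat.card_eq_fintype_card, h2] at this
  omega

theorem kr_card_mulAut_of_card_three {D : Type*} [Group D] [Finite D] (h3 : Nat.card D = 3) :
    Nat.card (MulAut D) = 2 := by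
  haveI : Fact (Nat.Prime 3) := ⟨Nat.prime_three⟩
  haveI : IsCyclic D := isCyclic_of_prime_card h3
  rw [IsCyclic.card_mulAut, h3, Nat.totient_prime Nat.prime_three]

/-- The case of blocks of order three. -/
theorem kr_main_three [Finite P] [Finite M] (hP : IsPGroup 2 P) (hf : KRFaith P M)
    (hirr : KRIrr P M) {𝒟 : Finset (Subgroup M)} (h : KRSys P 𝒟) (hm : 2 ≤ 𝒟.card)
    (hs : ∀ D ∈ 𝒟, Nat.card D = 3) : (frattini P).index < Nat.card M := by
  haveI : Fact (Nat.Prime 2) := ⟨Nat.prime_two⟩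
  have hne : 𝒟.Nonempty := Finset.card_pos.mp (by omega)
  let π := krPerm h
  have hstab : ∀ k ∈ π.ker, ∀ D ∈ 𝒟, k ∈ MulAction.stabilizer P D := by
    intro k hk D hD
    rw [MulAction.mem_stabilizer_iff]
    exact (mem_krPerm_ker h k).mp hk D hD
  have hcardAut : ∀ D ∈ 𝒟, Nat.card (MulAut D) = 2 := fun D hD =>
    kr_card_mulAut_of_card_three (hs D hD)
  -- (a) the kernel has exponent two
  have hK2 : ∀ k ∈ π.ker, k * k = 1 := by
    intro k hk
    apply kr_eq_one_of_fix_blocks hirr hf h hne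
    intro D hD x hx
    have hα : (krRes D ⟨k, hstab k hk D hD⟩) ^ 2 = 1 := by
      rw [← hcardAut D hD]; exact pow_card_eq_one'
    have := congrArg (fun α : MulAut D => ((α ⟨x, hx⟩ : D) : M)) hα
    simp only [sq, MulAut.mul_apply, MulAut.one_apply, krRes_apply] at this
    rw [mul_smul]; exact this
  have hKab : ∀ x ∈ π.ker, ∀ y ∈ π.ker, x * y = y * x := by
    intro x hx y hy
    have h1 := hK2 x hx
    have h2 := hK2 y hy
    have h3 := hK2 (x * y) (mul_mem hx hy)
    have hx' : x⁻¹ = x := inv_eq_of_mul_eq_one_left h1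
    have hy' : y⁻¹ = y := inv_eq_of_mul_eq_one_left h2
    have h4 : (x * y)⁻¹ = x * y := inv_eq_of_mul_eq_one_left h3
    rw [mul_inv_rev, hx', hy'] at h4
    exact h4.symm
  -- (c) a central involution of the image
  have hT : IsPGroup 2 π.range := hP.of_surjective π.rangeRestrict π.rangeRestrict_surjective
  haveI : Nontrivial π.range := by
    obtain ⟨D₁, hD₁, D₂, hD₂, h12⟩ := Finset.one_lt_card.mp (by omega : 1 < 𝒟.card)
    obtain ⟨g, hg⟩ := krsys_transitive hirr h hD₁ hD₂
    refine ⟨⟨⟨π g, ⟨g, rfl⟩⟩, 1, ?_⟩⟩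
    intro heq
    have h1 : π g = 1 := congrArg Subtype.val heq
    have h2 := congrArg (fun τ : Equiv.Perm {D // D ∈ 𝒟} => ((τ ⟨D₁, hD₁⟩ : {D // D ∈ 𝒟}) : Subgroup M)) h1
    simp only [Equiv.Perm.one_apply] at h2
    have h3 : ((π g ⟨D₁, hD₁⟩ : {D // D ∈ 𝒟}) : Subgroup M) = g • D₁ := krPerm_apply h g ⟨D₁, hD₁⟩
    rw [h3, hg] at h2
    exact h12 h2.symm
  obtain ⟨c, hcc, hc1, hc2⟩ := kr_exists_central_involution hT
  obtain ⟨ct, hct⟩ := c.2
  let σ : Equiv.Perm {D // D ∈ 𝒟} := π ct
  have hσc : σ = (c : Equiv.Perm {D // D ∈ 𝒟}) := hct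
  have hσ1 : σ ≠ 1 := by
    intro h1
    apply hc1
    apply Subtype.ext
    rw [← hσc, h1]; rfl
  have hσ2 : ∀ D, σ (σ D) = D := by
    intro D
    have h1 : (c : Equiv.Perm {D // D ∈ 𝒟}) ^ 2 = 1 := by
      have := congrArg (fun t : π.range => (t : Equiv.Perm {D // D ∈ 𝒟})) hc2
      simpa using this
    rw [← hσc, sq] at h1
    have := congrArg (fun τ : Equiv.Perm {D // D ∈ 𝒟} => τ D) h1
    simpa using this
  have hσcomm : ∀ (g : P) D, σ (π g D) = π g (σ D) := by
    intro g D
    have h1 := Subgroup.mem_center_iff.mp hcc ⟨π g, ⟨g, rfl⟩⟩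
    have h2 : π g * σ = σ * π g := by
      have := congrArg (fun t : π.range => (t : Equiv.Perm {D // D ∈ 𝒟})) h1
      simp only [Subgroup.coe_mul] at this
      rw [hσc]; exact this
    have := congrArg (fun τ : Equiv.Perm {D // D ∈ 𝒟} => τ D) h2
    simp only [Equiv.Perm.mul_apply] at this
    exact this.symm
  have hσfix : ∀ D, σ D ≠ D := by
    intro D hD
    apply hσ1
    ext D'
    obtain ⟨g, hg⟩ := krsys_transitive hirr h D.2 D'.2
    have h1 : π g D = D' := Subtype.ext ((krPerm_apply h g D).trans hg)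
    rw [← h1, hσcomm, hD]
    rfl
  -- (e) the basic inequality
  have hTcard : Nat.card π.range ≤ 2 ^ (𝒟.card - 1) := by
    haveI : Nonempty {D // D ∈ 𝒟} := ⟨⟨hne.choose, hne.choose_spec⟩⟩
    have := kr_card_perm_two_group_le π.range hT
    rwa [Nat.card_eq_fintype_card (α := {D // D ∈ 𝒟}), Fintype.card_coe] at this
  have h1 := kr_fi_le_range_mul hP π
  haveI : π.ker.Normal := MonoidHom.normal_ker π
  have h2 := kr_index_subgroupOf_le_card_comm hP π.ker hKab ct
  haveI : Finite π.range := Finite.of_surjective _ π.rangeRestrict_surjective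
  have h3 : (frattini π.range).index ≤ Nat.card π.range := kr_fi_le_card
  -- (f) the injection into invariant sign patterns
  let Inv := {f : {D // D ∈ 𝒟} → Bool // ∀ D, f (σ D) = f D}
  have hΦinv : ∀ k : {k : π.ker // ct * (k : P) = (k : P) * ct}, ∀ D : {D // D ∈ 𝒟},
      (decide (∀ x ∈ (σ D).1, ((k : π.ker) : P) • x = x)) = decide (∀ x ∈ D.1, ((k : π.ker) : P) • x = x) := by
    intro k D
    rw [decide_eq_decide]
    have hσD : (σ D).1 = ct • D.1 := krPerm_apply h ct D
    rw [hσD]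
    have hcomm : ∀ y : M, ((k : π.ker) : P) • ct • y = ct • ((k : π.ker) : P) • y := by
      intro y
      rw [← mul_smul, ← mul_smul, k.2]
    constructor
    · intro hall x hx
      have := hall (ct • x) (Subgroup.smul_mem_pointwise_smul x ct D.1 hx)
      rw [hcomm] at this
      exact smul_left_cancel ct this
    · intro hall x hx
      obtain ⟨y, hy, rfl⟩ := (Subgroup.mem_smul_pointwise_iff_exists _ _ _).mp hx
      rw [hcomm, hall y hy]
  let Φ : {k : π.ker // ct * (k : P) = (k : P) * ct} → Inv :=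
    fun k => ⟨fun D => decide (∀ x ∈ D.1, ((k : π.ker) : P) • x = x), hΦinv k⟩
  have hΦ : Function.Injective Φ := by
    intro k k' hkk'
    have hiff : ∀ D : {D // D ∈ 𝒟}, (∀ x ∈ D.1, ((k : π.ker) : P) • x = x) ↔
        (∀ x ∈ D.1, ((k' : π.ker) : P) • x = x) := by
      intro D
      have := congrFun (congrArg Subtype.val hkk') D
      exact decide_eq_decide.mp this
    have hagree : ∀ D ∈ 𝒟, ∀ x ∈ D, ((k : π.ker) : P) • x = ((k' : π.ker) : P) • x := by
      intro D hD x hx
      by_cases htriv : ∀ x ∈ D, ((k : π.ker) : P) • x = x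
      · rw [htriv x hx, ((hiff ⟨D, hD⟩).mp htriv) x hx]
      · have htriv' : ¬ ∀ x ∈ D, ((k' : π.ker) : P) • x = x := fun hh => htriv ((hiff ⟨D, hD⟩).mpr hh)
        let α := krRes D ⟨((k : π.ker) : P), hstab _ (k : π.ker).2 D hD⟩
        let α' := krRes D ⟨((k' : π.ker) : P), hstab _ (k' : π.ker).2 D hD⟩
        have hα1 : α ≠ 1 := by
          intro h1
          apply htriv
          intro y hy
          have := congrArg (fun β : MulAut D => ((β ⟨y, hy⟩ : D) : M)) h1
          simpa [α, krRes_apply] using this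
        have hα'1 : α' ≠ 1 := by
          intro h1
          apply htriv'
          intro y hy
          have := congrArg (fun β : MulAut D => ((β ⟨y, hy⟩ : D) : M)) h1
          simpa [α', krRes_apply] using this
        have hαα' : α = α' := kr_eq_of_card_two (hcardAut D hD) hα1 hα'1
        have := congrArg (fun β : MulAut D => ((β ⟨x, hx⟩ : D) : M)) hαα'
        simpa [α, α', krRes_apply] using this
    have h1 : ((k : π.ker) : P)⁻¹ * ((k' : π.ker) : P) = 1 := by
      apply kr_eq_one_of_fix_blocks hirr hf h hne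
      intro D hD x hx
      rw [mul_smul, ← hagree D hD x hx, inv_smul_smul]
    apply Subtype.ext
    apply Subtype.ext
    exact (inv_mul_eq_one.mp h1)
  have h4 : Nat.card {k : π.ker // ct * (k : P) = (k : P) * ct} ≤ Nat.card Inv :=
    Nat.card_le_card_of_injective Φ hΦ
  have h5 : (Nat.card Inv) ^ 2 ≤ 2 ^ 𝒟.card := by
    have := kr_card_invariant_sq_le σ hσ2 hσfix
    rwa [Nat.card_eq_fintype_card (α := {D // D ∈ 𝒟}), Fintype.card_coe] at this
  -- (h) numerics
  have h6 : ∏ D ∈ 𝒟, Nat.card D ≤ Nat.card M := krsys_card_le h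
  rw [Finset.prod_congr rfl hs, Finset.prod_const] at h6
  have h7 : (frattini P).index ≤ 2 ^ (𝒟.card - 1) * Nat.card Inv := by
    calc (frattini P).index ≤ (frattini π.range).index * ((frattini P).subgroupOf π.ker).index := h1
      _ ≤ 2 ^ (𝒟.card - 1) * Nat.card Inv :=
        Nat.mul_le_mul (le_trans h3 hTcard) (le_trans h2 h4)
  obtain ⟨j, hj⟩ : ∃ j, 𝒟.card = j + 1 := ⟨𝒟.card - 1, by omega⟩
  rw [hj] at h5 h6 h7
  simp only [Nat.add_sub_cancel] at h7
  by_contra hcon
  rw [not_lt] at hcon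
  have h8 : (3 ^ (j + 1)) ^ 2 ≤ (2 ^ j * Nat.card Inv) ^ 2 :=
    Nat.pow_le_pow_left (le_trans h6 (le_trans hcon h7)) 2
  have h9 : (2 ^ j * Nat.card Inv) ^ 2 ≤ (2 ^ j) ^ 2 * 2 ^ (j + 1) := by
    rw [mul_pow]; exact Nat.mul_le_mul_left _ h5
  have h10 : (2 ^ j) ^ 2 * 2 ^ (j + 1) = 2 * 8 ^ j := by
    rw [← pow_mul, pow_succ, ← mul_assoc, ← pow_add]
    have : j * 2 + j = 3 * j := by ring
    rw [this, pow_mul]
    norm_num
    ring
  have h11 : (3 ^ (j + 1)) ^ 2 = 9 * 9 ^ j := by
    rw [← pow_mul]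
    have : (j + 1) * 2 = 2 * j + 2 := by ring
    rw [this, pow_add, pow_mul]
    norm_num
    ring
  have h12 : 8 ^ j ≤ 9 ^ j := Nat.pow_le_pow_left (by norm_num) j
  have h13 : 0 < 9 ^ j := by positivity
  omega

end Cfsg.Agent.Lib.Helper70
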