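import Mathlib
import Cfsg.Agent.Lib.Helper70.KRMain2

/-!
# The main bound, part 3: the theorem
-/

set_option autoImplicit false

namespace Cfsg.Agent.Lib.Helper70

open Pointwise
open scoped Classical

variable {P M : Type*} [Group P] [CommGroup M] [MulDistribMulAction P M]

/-- The product bound: the general step. -/
theorem kr_main_general [Finite P] [Finite M] (hP : IsPGroup 2 P) (hf : KRFaith P M)
    (hirr : KRIrr P M) {𝒟 : Finset (Subgroup M)} (h : KRSys P 𝒟) (hne : 𝒟.Nonempty) {s a : ℕ}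
    (hs : ∀ D ∈ 𝒟, Nat.card D = s)
    (hb : ∀ D ∈ 𝒟, ∀ R : Subgroup (MulAut D), R ≤ (krRes (P := P) D).range →
      (frattini R).index ≤ a) :
    (frattini P).index ≤ 2 ^ (𝒟.card - 1) * a ^ 𝒟.card ∧ s ^ 𝒟.card ≤ Nat.card M := by
  haveI : Fact (Nat.Prime 2) := ⟨Nat.prime_two⟩
  let π := krPerm h
  have hT : IsPGroup 2 π.range := hP.of_surjective π.rangeRestrict π.rangeRestrict_surjective
  have hTcard : Nat.card π.range ≤ 2 ^ (𝒟.card - 1) := by
    haveI : Nonempty {D // D ∈ 𝒟} := ⟨⟨hne.choose, hne.choose_spec⟩⟩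
    have := kr_card_perm_two_group_le π.range hT
    rwa [Nat.card_eq_fintype_card (α := {D // D ∈ 𝒟}), Fintype.card_coe] at this
  haveI : Finite π.range := Finite.of_surjective _ π.rangeRestrict_surjective
  have h3 : (frattini π.range).index ≤ Nat.card π.range := kr_fi_le_card
  have h1 := kr_fi_le_range_mul_ker hP π
  have h2 := kr_fi_ker_le_prod hP hirr hf h hne (fun _ => a) hb
  rw [Finset.prod_const] at h2
  have h6 : ∏ D ∈ 𝒟, Nat.card D ≤ Nat.card M := krsys_card_le h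
  rw [Finset.prod_congr rfl hs, Finset.prod_const] at h6
  refine ⟨?_, h6⟩
  calc (frattini P).index ≤ (frattini π.range).index * (frattini π.ker).index := h1
    _ ≤ 2 ^ (𝒟.card - 1) * a ^ 𝒟.card := Nat.mul_le_mul (le_trans h3 hTcard) h2

/-- **Main bound.** A finite `2`-group acting faithfully and irreducibly on a nontrivial abelian group of
odd order has Frattini index less than the order of the group acted on. -/
theorem kr_main [Finite P] [Finite M] [Nontrivial M] (hP : IsPGroup 2 P) (hf : KRFaith P M)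
    (hirr : KRIrr P M) (hodd : Odd (Nat.card M)) : (frattini P).index < Nat.card M := by
  have hex : ∃ n, ∃ 𝒟 : Finset (Subgroup M), KRSys P 𝒟 ∧ 𝒟.Nonempty ∧
      𝒟.sup (fun D => Nat.card D) = n :=
    ⟨_, {⊤}, krsys_top, Finset.singleton_nonempty _, rfl⟩
  obtain ⟨𝒟, h𝒟, hne, hsup⟩ := Nat.find_spec hex
  have hmin0 : ∀ 𝒟' : Finset (Subgroup M), KRSys P 𝒟' → 𝒟'.Nonempty →
      Nat.find hex ≤ 𝒟'.sup (fun D => Nat.card D) :=
    fun 𝒟' h h' => Nat.find_min' hex ⟨𝒟', h, h', rfl⟩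
  obtain ⟨D₀, hD₀⟩ := hne
  have hne : 𝒟.Nonempty := ⟨D₀, hD₀⟩
  set s := Nat.card D₀ with hs_def
  have hs : ∀ D ∈ 𝒟, Nat.card D = s := by
    intro D hD
    obtain ⟨g, hg⟩ := krsys_transitive hirr h𝒟 hD₀ hD
    rw [← hg, kr_card_smul]
  have hsup' : 𝒟.sup (fun D => Nat.card D) = s := by
    apply le_antisymm
    · apply Finset.sup_le
      intro D hD
      exact (hs D hD).le
    · exact Finset.le_sup (f := fun D : Subgroup M => Nat.card D) hD₀
  have hmin : ∀ 𝒟' : Finset (Subgroup M), KRSys P 𝒟' → 𝒟'.Nonempty →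
      ∃ D' ∈ 𝒟', s ≤ Nat.card D' := by
    intro 𝒟' h' hne'
    obtain ⟨D', hD', hD'sup⟩ := Finset.exists_mem_eq_sup 𝒟' hne' (fun D => Nat.card D)
    refine ⟨D', hD', ?_⟩
    rw [← hD'sup, ← hsup', hsup]
    exact hmin0 𝒟' h' hne'
  have hblock : ∀ D ∈ 𝒟, ∀ R : Subgroup (MulAut D), R ≤ (krRes (P := P) D).range →
      (s = 3 ∧ (frattini R).index ≤ 2) ∨ 2 * (frattini R).index ≤ s := by
    intro D hD R hR
    have := kr_block_bound hP hodd D (h𝒟.2.1 D hD) (kr_block_prim h𝒟 hs hmin hD) R hR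
    rw [hs D hD] at this
    exact this
  have hmpos : 0 < 𝒟.card := Finset.card_pos.mpr hne
  have hfipos : 0 < (frattini P).index := Nat.pos_of_ne_zero Subgroup.index_ne_zero_of_finite
  by_cases hs3 : s = 3
  · by_cases hm : 2 ≤ 𝒟.card
    · exact kr_main_three hP hf hirr h𝒟 hm (fun D hD => (hs D hD).trans hs3)
    · have hm1 : 𝒟.card = 1 := by omega
      have hb : ∀ D ∈ 𝒟, ∀ R : Subgroup (MulAut D), R ≤ (krRes (P := P) D).range →
          (frattini R).index ≤ 2 := by
        intro D hD R hR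
        rcases hblock D hD R hR with h | h
        · exact h.2
        · omega
      obtain ⟨h1, h2⟩ := kr_main_general hP hf hirr h𝒟 hne hs hb
      rw [hm1] at h1 h2
      rw [hs3] at h2
      norm_num at h1 h2
      omega
  · have hb : ∀ D ∈ 𝒟, ∀ R : Subgroup (MulAut D), R ≤ (krRes (P := P) D).range →
        (frattini R).index ≤ s / 2 := by
      intro D hD R hR
      rcases hblock D hD R hR with h | h
      · exact absurd h.1 hs3
      · rw [Nat.le_div_iff_mul_le (by norm_num : 0 < 2)]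
        omega
    obtain ⟨h1, h2⟩ := kr_main_general hP hf hirr h𝒟 hne hs hb
    obtain ⟨j, hj⟩ : ∃ j, 𝒟.card = j + 1 := ⟨𝒟.card - 1, by omega⟩
    rw [hj] at h1 h2
    simp only [Nat.add_sub_cancel] at h1
    have h3 : 2 * (2 ^ j * (s / 2) ^ (j + 1)) = (2 * (s / 2)) ^ (j + 1) := by
      rw [mul_pow, pow_succ 2 j]
      ring
    have h4 : (2 * (s / 2)) ^ (j + 1) ≤ s ^ (j + 1) :=
      Nat.pow_le_pow_left (Nat.mul_div_le s 2) _
    omega

end Cfsg.Agent.Lib.Helper70
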