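import Mathlib
import Cfsg.Agent.Lib.Helper70.KRMain3

/-!
# Application: semidirect products with a unique minimal normal subgroup
-/

set_option autoImplicit false

namespace Cfsg.Agent.Lib.Helper70

open Pointwise
open scoped Classical

theorem kr_semidirect_bound {G : Type*} [Group G] [Finite G] (N P : Subgroup G) [hN : N.Normal]
    (hNab : ∀ x ∈ N, ∀ y ∈ N, x * y = y * x) (hNodd : Odd (Nat.card N)) (hP : IsPGroup 2 P)
    (hdisj : N ⊓ P = ⊥) (hprod : N ⊔ P = ⊤)
    (hmin : N ≠ ⊥ ∧ ∀ M : Subgroup G, M.Normal → M ≠ ⊥ → N ≤ M) :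
    (frattini P).index < Nat.card N := by
  letI : CommGroup N :=
    { (inferInstance : Group N) with mul_comm := fun a b => Subtype.ext (hNab a a.2 b b.2) }
  letI act : MulDistribMulAction P N :=
    MulDistribMulAction.compHom N ((MulAut.conjNormal (H := N)).comp P.subtype)
  have hsmul : ∀ (g : P) (x : N), ((g • x : N) : G) = (g : G) * (x : G) * (g : G)⁻¹ :=
    fun g x => rfl
  haveI : Nontrivial N := (Subgroup.nontrivial_iff_ne_bot N).mpr hmin.1
  have hdecomp : ∀ g : G, ∃ n ∈ N, ∃ p ∈ P, n * p = g := by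
    intro g
    have : g ∈ N ⊔ P := by rw [hprod]; exact Subgroup.mem_top g
    exact Subgroup.mem_sup_of_normal_left.mp this
  have hNPbot : ∀ x : G, x ∈ N → x ∈ P → x = 1 := by
    intro x hxN hxP
    have : x ∈ N ⊓ P := ⟨hxN, hxP⟩
    rw [hdisj, Subgroup.mem_bot] at this
    exact this
  have hfaith : KRFaith P N := by
    intro g hg
    let Z : Subgroup G := P ⊓ Subgroup.centralizer (N : Set G)
    have hZn : Z.Normal := by
      refine ⟨fun z hz g => ?_⟩
      obtain ⟨n, hn, p, hp, rfl⟩ := hdecomp g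
      have hw : p * z * p⁻¹ ∈ Z := by
        refine ⟨P.mul_mem (P.mul_mem hp hz.1) (P.inv_mem hp), ?_⟩
        exact (Subgroup.normal_centralizer (H := N)).conj_mem z hz.2 p
      have hwn : n * (p * z * p⁻¹) = (p * z * p⁻¹) * n :=
        (Subgroup.mem_centralizer_iff.mp hw.2 n hn)
      have : n * p * z * (n * p)⁻¹ = p * z * p⁻¹ := by
        calc n * p * z * (n * p)⁻¹ = n * (p * z * p⁻¹) * n⁻¹ := by group
          _ = (p * z * p⁻¹) * n * n⁻¹ := by rw [hwn]
          _ = p * z * p⁻¹ := by group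
      rw [this]; exact hw
    have hgZ : (g : G) ∈ Z := by
      refine ⟨g.2, ?_⟩
      show (g : G) ∈ Subgroup.centralizer (N : Set G)
      rw [Subgroup.mem_centralizer_iff]
      intro x hx
      have := congrArg (fun y : N => (y : G)) (hg ⟨x, hx⟩)
      simp only [hsmul] at this
      calc x * (g : G) = ((g : G) * x * (g : G)⁻¹) * (g : G) := by rw [this]
        _ = (g : G) * x := by group
    by_cases hZ : Z = ⊥
    · rw [hZ, Subgroup.mem_bot] at hgZ
      exact Subtype.ext hgZ
    · exfalso
      have hNZ := hmin.2 Z hZn hZ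
      apply hmin.1
      rw [eq_bot_iff]
      intro x hx
      rw [Subgroup.mem_bot]
      exact hNPbot x hx (hNZ hx).1
  have hirr : KRIrr P N := by
    intro H hH
    let H' : Subgroup G := H.map N.subtype
    have hH'N : H' ≤ N := Subgroup.map_subtype_le H
    have hH'n : H'.Normal := by
      refine ⟨fun h hh g => ?_⟩
      obtain ⟨n, hn, p, hp, rfl⟩ := hdecomp g
      obtain ⟨x, hx, rfl⟩ := hh
      have hw : p * (x : G) * p⁻¹ ∈ H' := by
        have := hH ⟨p, hp⟩ x hx
        exact ⟨_, this, rfl⟩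
      have hwn : n * (p * (x : G) * p⁻¹) = (p * (x : G) * p⁻¹) * n := hNab n hn _ (hH'N hw)
      have : n * p * (N.subtype x) * (n * p)⁻¹ = p * (x : G) * p⁻¹ := by
        calc n * p * (N.subtype x) * (n * p)⁻¹ = n * (p * (x : G) * p⁻¹) * n⁻¹ := by
              rw [Subgroup.coe_subtype]; group
          _ = (p * (x : G) * p⁻¹) * n * n⁻¹ := by rw [hwn]
          _ = p * (x : G) * p⁻¹ := by group
      rw [this]; exact hw
    by_cases hb : H' = ⊥
    · left
      exact (Subgroup.map_eq_bot_iff_of_injective H (Subgroup.subtype_injective N)).mp hb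
    · right
      have hNH := hmin.2 H' hH'n hb
      rw [eq_top_iff]
      intro x _
      obtain ⟨y, hy, hyx⟩ := hNH x.2
      have : y = x := Subtype.ext hyx
      rw [← this]; exact hy
  exact kr_main hP hfaith hirr hNodd

end Cfsg.Agent.Lib.Helper70
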