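import Mathlib

set_option autoImplicit false

/-!
Krull--Remak--Schmidt for finite groups (external direct products), via Fitting's lemma for normal
endomorphisms and a two-term exchange lemma.
-/

namespace Cfsg.Agent.Lib.Helper70

open Subgroup

/-- directly indecomposable and nontrivial -/
def KrsIndec (X : Type*) [Group X] : Prop :=
  Nontrivial X ∧ ∀ A B : Subgroup X, A.Normal → B.Normal → A ⊓ B = ⊥ → A ⊔ B = ⊤ → A = ⊥ ∨ B = ⊥

section Fitting

variable {H : Type*} [Group H]

theorem krs_idempotent_aux {M : Type*} [Monoid M] (x : M) (i j : ℕ) (hlt : i < j)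
    (h : x ^ i = x ^ j) : ∃ r : ℕ, 0 < r ∧ x ^ r * x ^ r = x ^ r := by
  obtain ⟨d, hd⟩ := Nat.exists_eq_add_of_lt hlt
  have hper : ∀ m : ℕ, i ≤ m → x ^ m = x ^ (m + (d + 1)) := by
    intro m hm
    obtain ⟨k, rfl⟩ := Nat.exists_eq_add_of_le hm
    rw [pow_add, h, hd, ← pow_add]
    congr 1
    omega
  have hper' : ∀ t m : ℕ, i ≤ m → x ^ m = x ^ (m + t * (d + 1)) := by
    intro t
    induction t with
    | zero => intro m _; simp
    | succ t ih =>
      intro m hm
      rw [ih m hm, hper (m + t * (d + 1)) (by omega)]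
      congr 1
      ring
  refine ⟨(i + 1) * (d + 1), Nat.mul_pos (by omega) (by omega), ?_⟩
  rw [← pow_add]
  have h1 : i ≤ (i + 1) * (d + 1) := by nlinarith
  exact (hper' (i + 1) _ h1).symm

/-- In a finite monoid some positive power of each element is idempotent. -/
theorem krs_exists_idempotent_pow {M : Type*} [Monoid M] [Finite M] (x : M) :
    ∃ r : ℕ, 0 < r ∧ x ^ r * x ^ r = x ^ r := by
  obtain ⟨i, j, hij, h⟩ := Finite.exists_ne_map_eq_of_infinite (fun n : ℕ => x ^ n)
  have h : x ^ i = x ^ j := h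
  rcases lt_or_gt_of_ne hij with hlt | hlt
  · exact krs_idempotent_aux x i j hlt h
  · exact krs_idempotent_aux x j i hlt h.symm

/-- Fitting's lemma for a normal endomorphism of a finite indecomposable group. -/
theorem krs_fitting [Finite H] (hH : KrsIndec H) (θ : H →* H)
    (hθ : ∀ x h : H, θ (x * h * x⁻¹) = x * θ h * x⁻¹) :
    Function.Bijective θ ∨ ∃ r : ℕ, ∀ h : H, θ^[r] h = 1 := by
  have _ : Finite (Function.End H) := inferInstanceAs (Finite (H → H))
  obtain ⟨r, hr, hidem⟩ := krs_exists_idempotent_pow (M := Function.End H) (θ : H → H)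
  let φ : H →* H :=
    { toFun := θ^[r]
      map_one' := iterate_map_one θ r
      map_mul' := iterate_map_mul θ r }
  have hφapp : ∀ h : H, φ h = θ^[r] h := fun h => rfl
  have hφφ : ∀ h : H, φ (φ h) = φ h := by
    intro h
    exact congrFun hidem h
  have hφn : ∀ x h : H, φ (x * h * x⁻¹) = x * φ h * x⁻¹ := by
    intro x h
    rw [hφapp, hφapp]
    clear hφφ hφapp hidem
    induction r with
    | zero => rfl
    | succ r ih =>
      rcases Nat.eq_zero_or_pos r with h0 | h0
      · subst h0; simp [hθ]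
      · rw [Function.iterate_succ_apply', Function.iterate_succ_apply', ih h0, hθ]
  have hrangeN : (MonoidHom.range φ).Normal := by
    constructor
    rintro _ ⟨y, rfl⟩ g
    exact ⟨g * y * g⁻¹, hφn g y⟩
  have hinf : MonoidHom.ker φ ⊓ MonoidHom.range φ = ⊥ := by
    rw [eq_bot_iff]
    rintro x ⟨hx1, ⟨y, rfl⟩⟩
    have hx1' : φ (φ y) = 1 := hx1
    rw [hφφ] at hx1'
    rw [hx1']; exact one_mem _
  have hsup : MonoidHom.ker φ ⊔ MonoidHom.range φ = ⊤ := by
    rw [eq_top_iff]
    intro g _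
    have h1 : g * (φ g)⁻¹ ∈ MonoidHom.ker φ := by
      rw [MonoidHom.mem_ker, map_mul, map_inv, hφφ, mul_inv_cancel]
    have h2 : φ g ∈ MonoidHom.range φ := ⟨g, rfl⟩
    have : g = g * (φ g)⁻¹ * φ g := by group
    rw [this]
    exact mul_mem (mem_sup_left h1) (mem_sup_right h2)
  rcases hH.2 _ _ (MonoidHom.normal_ker φ) hrangeN hinf hsup with h | h
  · left
    have hinj : Function.Injective θ := by
      rw [injective_iff_map_eq_one]
      intro a ha
      have : a ∈ MonoidHom.ker φ := by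
        rw [MonoidHom.mem_ker, hφapp]
        obtain ⟨r', rfl⟩ := Nat.exists_eq_succ_of_ne_zero hr.ne'
        rw [Function.iterate_succ_apply, ha]
        exact iterate_map_one θ r'
      rw [h] at this
      exact mem_bot.mp this
    exact ⟨hinj, Finite.injective_iff_surjective.mp hinj⟩
  · right
    refine ⟨r, fun a => ?_⟩
    have : φ a ∈ MonoidHom.range φ := ⟨a, rfl⟩
    rw [h, mem_bot, hφapp] at this
    exact this

end Fitting

section Exchange

universe u v w w'

variable {H : Type u} {H' : Type v} {K : Type w} {K' : Type w'} [Group H] [Group H'] [Group K]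
  [Group K'] [Finite H] [Finite H'] [Finite K] [Finite K']

/-- The endomorphism `h ↦ π_H (ρ_K h)` of `H` attached to `H × H' ≃* K × K'`. -/
def krsTheta (e : H × H' ≃* K × K') : H →* H :=
  (MonoidHom.fst H H').comp (e.symm.toMonoidHom.comp ((MonoidHom.inl K K').comp
    ((MonoidHom.fst K K').comp (e.toMonoidHom.comp (MonoidHom.inl H H')))))

omit [Finite H] [Finite H'] [Finite K] [Finite K'] in
theorem krsTheta_apply (e : H × H' ≃* K × K') (h : H) :
    krsTheta e h = (e.symm ((e (h, 1)).1, 1)).1 := rfl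

omit [Finite H] [Finite H'] [Finite K] [Finite K'] in
theorem krsTheta_normal (e : H × H' ≃* K × K') (x h : H) :
    krsTheta e (x * h * x⁻¹) = x * krsTheta e h * x⁻¹ := by
  simp only [krsTheta_apply]
  have h1 : ((x * h * x⁻¹, (1 : H')) : H × H') = (x, 1) * (h, 1) * (x, 1)⁻¹ := by
    ext <;> simp
  have h2 : (((e ((x, 1) * (h, 1) * (x, 1)⁻¹)).1, (1 : K')) : K × K')
      = e (x, 1) * ((e (h, 1)).1, 1) * (e (x, 1))⁻¹ := by
    rw [map_mul, map_mul, map_inv]
    ext <;> simp
  rw [h1, h2, map_mul, map_mul, map_inv, MulEquiv.symm_apply_apply]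
  simp

omit [Finite H] [Finite H'] [Finite K] [Finite K'] in
theorem krsTheta_mul_swap (e : H × H' ≃* K × K') (h : H) :
    krsTheta e h * krsTheta (e.trans MulEquiv.prodComm) h = h := by
  simp only [krsTheta_apply]
  have h1 : (e.trans MulEquiv.prodComm).symm (((e.trans MulEquiv.prodComm) (h, 1)).1, 1)
      = e.symm (1, (e (h, 1)).2) := rfl
  rw [h1, ← Prod.fst_mul, ← map_mul]
  have h2 : (((e (h, 1)).1, (1 : K')) : K × K') * (1, (e (h, 1)).2) = e (h, 1) := by
    ext <;> simp
  rw [h2, MulEquiv.symm_apply_apply]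

omit [Finite K] [Finite K'] in
/-- Exchange step when `krsTheta e` is injective. -/
theorem krs_exchange_aux (e : H × H' ≃* K × K') (hinj : Function.Injective (krsTheta e)) :
    ∃ Z : Subgroup H', Nonempty (K ≃* H × Z) ∧ Nonempty (H' ≃* K' × Z) := by
  have hsurj : Function.Surjective (krsTheta e) := Finite.injective_iff_surjective.mp hinj
  let τ : H' →* K' := (MonoidHom.snd K K').comp (e.toMonoidHom.comp (MonoidHom.inr H H'))
  let Z : Subgroup H' := τ.ker
  have hZ : ∀ z : Z, e (1, (z : H')) = ((e (1, (z : H'))).1, 1) := by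
    intro z
    have h1 : (e (1, (z : H'))).2 = 1 := z.2
    ext
    · rfl
    · exact h1
  -- the key consequence of injectivity
  have key : ∀ (h : H) (z : Z), (e (h, 1)).1 = (e (1, (z : H'))).1 → h = 1 ∧ z = 1 := by
    intro h z hhz
    have h1 : krsTheta e h = 1 := by
      rw [krsTheta_apply, hhz, ← hZ z, MulEquiv.symm_apply_apply]
    have h2 : h = 1 := hinj (by rw [h1, map_one])
    refine ⟨h2, ?_⟩
    have h3 : e (1, (z : H')) = 1 := by
      rw [hZ z, ← hhz, h2]
      have : e ((1 : H), (1 : H')) = 1 := map_one e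
      rw [this]; rfl
    have h4 : ((1 : H), (z : H')) = 1 := by
      have := congrArg e.symm h3
      rwa [MulEquiv.symm_apply_apply, map_one] at this
    apply Subtype.ext
    exact congrArg Prod.snd h4
  have hsplit : ∀ (h : H) (z : H'), e (h, z) = e (h, 1) * e (1, z) := by
    intro h z
    rw [← map_mul]; congr 1; ext <;> simp
  -- first isomorphism
  let Φ : H × Z →* K := (MonoidHom.fst K K').comp
    (e.toMonoidHom.comp (MonoidHom.prodMap (MonoidHom.id H) Z.subtype))
  have hΦapp : ∀ (h : H) (z : Z), Φ (h, z) = (e (h, (z : H'))).1 := fun h z => rfl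
  have hΦinj : Function.Injective Φ := by
    rw [injective_iff_map_eq_one]
    rintro ⟨h, z⟩ hhz
    rw [hΦapp, hsplit, Prod.fst_mul] at hhz
    have h1 : (e (h⁻¹, 1)).1 = (e (1, (z : H'))).1 := by
      have h2 : ((h⁻¹, (1 : H')) : H × H') = (h, 1)⁻¹ := by ext <;> simp
      rw [h2, map_inv, Prod.fst_inv]
      exact inv_eq_of_mul_eq_one_right hhz
    obtain ⟨h3, h4⟩ := key h⁻¹ z h1
    rw [inv_eq_one] at h3
    rw [h3, h4]; rfl
  have hΦsurj : Function.Surjective Φ := by
    intro k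
    obtain ⟨h, hh⟩ := hsurj (e.symm (k, 1)).1
    rw [krsTheta_apply] at hh
    set a := (e (h, 1)).1 with ha
    set w := e.symm (a⁻¹ * k, 1) with hw
    have hw1 : w.1 = 1 := by
      have h1 : ((a⁻¹ * k, (1 : K')) : K × K') = (a, 1)⁻¹ * (k, 1) := by ext <;> simp
      rw [hw, h1, map_mul, map_inv, Prod.fst_mul, Prod.fst_inv, hh, inv_mul_cancel]
    have hw2 : e (1, w.2) = (a⁻¹ * k, 1) := by
      have : ((1 : H), w.2) = w := by ext; exact hw1.symm; rfl
      rw [this, hw, MulEquiv.apply_symm_apply]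
    have hwZ : w.2 ∈ Z := by
      show (e (1, w.2)).2 = 1
      rw [hw2]
    refine ⟨(h, ⟨w.2, hwZ⟩), ?_⟩
    rw [hΦapp, hsplit, Prod.fst_mul, hw2, ← ha]
    simp
  have e1 : H × Z ≃* K := MulEquiv.ofBijective Φ ⟨hΦinj, hΦsurj⟩
  -- second isomorphism
  let g : Z →* K := (MonoidHom.fst K K').comp
    (e.toMonoidHom.comp ((MonoidHom.inr H H').comp Z.subtype))
  let Ψ : K' × Z →* H' := (MonoidHom.snd H H').comp (e.symm.toMonoidHom.comp
    (MonoidHom.prod (g.comp (MonoidHom.snd K' Z)) (MonoidHom.fst K' Z)))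
  have hΨapp : ∀ (k' : K') (z : Z), Ψ (k', z) = (e.symm ((e (1, (z : H'))).1, k')).2 :=
    fun k' z => rfl
  have hΨinj : Function.Injective Ψ := by
    rw [injective_iff_map_eq_one]
    rintro ⟨k', z⟩ hkz
    rw [hΨapp] at hkz
    set c := (e (1, (z : H'))).1 with hc
    set h := (e.symm (c, k')).1 with hh
    have h1 : e.symm (c, k') = (h, 1) := by ext; rfl; exact hkz
    have h2 : (c, k') = e (h, 1) := by rw [← h1, MulEquiv.apply_symm_apply]
    have h3 : (e (h, 1)).1 = c := by rw [← h2]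
    obtain ⟨h4, h5⟩ := key h z h3
    have h6 : k' = 1 := by
      have : k' = (e (h, 1)).2 := by rw [← h2]
      rw [this, h4]
      have : e ((1 : H), (1 : H')) = 1 := map_one e
      rw [this]; rfl
    rw [h5, h6]; rfl
  have hcard : Nat.card H' ≤ Nat.card (K' × Z) := by
    have h1 : Nat.card H * Nat.card H' = Nat.card K * Nat.card K' := by
      rw [← Nat.card_prod, ← Nat.card_prod]; exact Nat.card_congr e.toEquiv
    have h2 : Nat.card H * Nat.card Z = Nat.card K := by
      rw [← Nat.card_prod]; exact Nat.card_congr e1.toEquiv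
    rw [Nat.card_prod]
    rw [← h2, mul_assoc] at h1
    have h3 := Nat.eq_of_mul_eq_mul_left Nat.card_pos h1
    rw [h3, mul_comm]
  have hΨbij : Function.Bijective Ψ := hΨinj.bijective_of_nat_card_le hcard
  exact ⟨Z, ⟨e1.symm⟩, ⟨(MulEquiv.ofBijective Ψ hΨbij).symm⟩⟩

omit [Finite K] [Finite K'] in
/-- Two-term exchange lemma. -/
theorem krs_exchange (e : H × H' ≃* K × K') (hH : KrsIndec H) :
    (∃ Z : Subgroup H', Nonempty (K ≃* H × Z) ∧ Nonempty (H' ≃* K' × Z)) ∨
      (∃ Z : Subgroup H', Nonempty (K' ≃* H × Z) ∧ Nonempty (H' ≃* K × Z)) := by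
  rcases krs_fitting hH (krsTheta e) (krsTheta_normal e) with hb | ⟨r, hr⟩
  · exact Or.inl (krs_exchange_aux e hb.1)
  · right
    apply krs_exchange_aux (e.trans MulEquiv.prodComm)
    rw [injective_iff_map_eq_one]
    intro h hh
    have h1 : krsTheta e h = h := by
      have := krsTheta_mul_swap e h
      rwa [hh, mul_one] at this
    have h2 : ∀ n : ℕ, (krsTheta e)^[n] h = h := by
      intro n
      induction n with
      | zero => rfl
      | succ n ih => rw [Function.iterate_succ_apply, h1, ih]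
    rw [← h2 r, hr]

end Exchange

section Indec

theorem krsIndec_of_mulEquiv {X : Type*} {Y : Type*} [Group X] [Group Y] (hX : KrsIndec X)
    (e : X ≃* Y) : KrsIndec Y := by
  obtain ⟨hnt, hdec⟩ := hX
  refine ⟨e.symm.toEquiv.nontrivial, ?_⟩
  intro A B hA hB hinf hsup
  have hsurj : Function.Surjective e.toMonoidHom := e.surjective
  have hinj : Function.Injective e.toMonoidHom := e.injective
  have h1 : A.comap e.toMonoidHom ⊓ B.comap e.toMonoidHom = ⊥ := by
    rw [← Subgroup.comap_inf, hinf, MonoidHom.comap_bot]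
    exact (MonoidHom.ker_eq_bot_iff _).mpr hinj
  have h2 : A.comap e.toMonoidHom ⊔ B.comap e.toMonoidHom = ⊤ := by
    rw [Subgroup.comap_sup_eq _ _ _ hsurj, hsup, Subgroup.comap_top]
  have hbot : (⊥ : Subgroup Y).comap e.toMonoidHom = ⊥ := by
    rw [MonoidHom.comap_bot]
    exact (MonoidHom.ker_eq_bot_iff _).mpr hinj
  rcases hdec _ _ (hA.comap _) (hB.comap _) h1 h2 with h | h
  · left
    rw [← hbot] at h
    exact Subgroup.comap_injective hsurj h
  · right
    rw [← hbot] at h
    exact Subgroup.comap_injective hsurj h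

/-- An indecomposable group isomorphic to `H × Z` with `H` nontrivial forces `Z` trivial. -/
theorem krs_subsingleton_of_indec_prod {K : Type*} {H : Type*} {Z : Type*} [Group K] [Group H]
    [Group Z] (hK : KrsIndec K) (f : K ≃* H × Z) [Nontrivial H] : Subsingleton Z := by
  let A : Subgroup K := ((MonoidHom.fst H Z).comp f.toMonoidHom).ker
  let B : Subgroup K := ((MonoidHom.snd H Z).comp f.toMonoidHom).ker
  have hA : ∀ k, k ∈ A ↔ (f k).1 = 1 := fun k => Iff.rfl
  have hB : ∀ k, k ∈ B ↔ (f k).2 = 1 := fun k => Iff.rfl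
  have hinf : A ⊓ B = ⊥ := by
    rw [eq_bot_iff]
    rintro k ⟨h1, h2⟩
    rw [mem_bot]
    have : f k = 1 := Prod.ext ((hA k).mp h1) ((hB k).mp h2)
    exact (map_eq_one_iff f f.injective).mp this
  have hsup : A ⊔ B = ⊤ := by
    rw [eq_top_iff]
    intro k _
    have h1 : f.symm (1, (f k).2) ∈ A := by rw [hA, MulEquiv.apply_symm_apply]
    have h2 : f.symm ((f k).1, 1) ∈ B := by rw [hB, MulEquiv.apply_symm_apply]
    have h3 : k = f.symm (1, (f k).2) * f.symm ((f k).1, 1) := by
      rw [← map_mul]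
      have : ((1 : H), (f k).2) * ((f k).1, (1 : Z)) = f k := by ext <;> simp
      rw [this, MulEquiv.symm_apply_apply]
    rw [h3]
    exact mul_mem (mem_sup_left h1) (mem_sup_right h2)
  rcases hK.2 A B (MonoidHom.normal_ker _) (MonoidHom.normal_ker _) hinf hsup with h | h
  · constructor
    intro z1 z2
    have key : ∀ z : Z, z = 1 := by
      intro z
      have h1 : f.symm (1, z) ∈ A := by rw [hA, MulEquiv.apply_symm_apply]
      rw [h, mem_bot] at h1
      have h2 := congrArg f h1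
      rw [MulEquiv.apply_symm_apply, map_one] at h2
      exact congrArg Prod.snd h2
    rw [key z1, key z2]
  · exfalso
    obtain ⟨x, hx⟩ := exists_ne (1 : H)
    have h1 : f.symm (x, 1) ∈ B := by rw [hB, MulEquiv.apply_symm_apply]
    rw [h, mem_bot] at h1
    have h2 := congrArg f h1
    rw [MulEquiv.apply_symm_apply, map_one] at h2
    exact hx (congrArg Prod.fst h2)

end Indec

section PiErase

variable {ι : Type*} [DecidableEq ι] (K : ι → Type*) [∀ i, Group (K i)]

/-- Splitting off one factor of a product indexed by a finset. -/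
def krsPiErase (S : Finset ι) (j : ι) (hj : j ∈ S) :
    ((l : S) → K l) ≃* K j × ((l : (S.erase j : Finset ι)) → K l) where
  toFun f := (f ⟨j, hj⟩, fun l => f ⟨l.1, Finset.mem_of_mem_erase l.2⟩)
  invFun p := fun l => if h : (l : ι) = j then h ▸ p.1
    else p.2 ⟨l.1, Finset.mem_erase.mpr ⟨h, l.2⟩⟩
  left_inv f := by
    funext l
    obtain ⟨l, hl⟩ := l
    by_cases h : l = j
    · subst h
      simp
    · simp [h]
  right_inv p := by
    obtain ⟨a, g⟩ := p
    ext
    · simp
    · rename_i l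
      have h : (l : ι) ≠ j := (Finset.mem_erase.mp l.2).1
      simp [h]
  map_mul' f g := rfl

end PiErase

section Factor

universe u v w

variable {ι : Type*} [DecidableEq ι] {K : ι → Type w} [∀ j, Group (K j)] [∀ j, Finite (K j)]

omit [∀ j, Finite (K j)] in
/-- An indecomposable direct factor of a product of indecomposables is one of the factors, and the
complementary factors are isomorphic. -/
theorem krs_exists_factor (hK : ∀ j, KrsIndec (K j)) (H : Type u) [Group H] [Finite H]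
    (hH : KrsIndec H) :
    ∀ (N : ℕ) (S : Finset ι), S.card = N → ∀ (H' : Type v) [Group H'] [Finite H'],
      ((H × H') ≃* ((l : S) → K l)) →
      ∃ j, ∃ _ : j ∈ S, Nonempty (H ≃* K j) ∧
        Nonempty (H' ≃* ((l : (S.erase j : Finset ι)) → K l)) := by
  have hHnt : Nontrivial H := hH.1
  intro N
  induction N with
  | zero =>
    intro S hS H' _ _ e
    exfalso
    rw [Finset.card_eq_zero] at hS
    subst hS
    obtain ⟨x, hx⟩ := exists_ne (1 : H)
    have h1 : e (x, 1) = e 1 := Subsingleton.elim _ _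
    have h2 := e.injective h1
    exact hx (congrArg Prod.fst h2)
  | succ N ih =>
    intro S hS H' _ _ e
    have hne : S.Nonempty := by
      rw [← Finset.card_pos]; omega
    obtain ⟨j₀, hj₀⟩ := hne
    have hcard : (S.erase j₀).card = N := by
      rw [Finset.card_erase_of_mem hj₀]; omega
    rcases krs_exchange (e.trans (krsPiErase K S j₀ hj₀)) hH with ⟨Z, ⟨f1⟩, ⟨f2⟩⟩ | ⟨Z, ⟨f1⟩, ⟨f2⟩⟩
    · have hZ : Subsingleton Z := krs_subsingleton_of_indec_prod (hK j₀) f1
      have _ : Unique Z := uniqueOfSubsingleton 1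
      exact ⟨j₀, hj₀, ⟨(f1.trans MulEquiv.prodUnique).symm⟩, ⟨f2.trans MulEquiv.prodUnique⟩⟩
    · obtain ⟨j₁, hj₁, ⟨g1⟩, hg2⟩ := ih (S.erase j₀) hcard Z f1.symm
      have hj₁S : j₁ ∈ S := Finset.mem_of_mem_erase hj₁
      have hne : j₀ ≠ j₁ := fun h => (Finset.mem_erase.mp hj₁).1 h.symm
      have hj₀' : j₀ ∈ S.erase j₁ := Finset.mem_erase.mpr ⟨hne, hj₀⟩
      have hEq : (S.erase j₀).erase j₁ = (S.erase j₁).erase j₀ := Finset.erase_right_comm
      rw [hEq] at hg2
      obtain ⟨g2⟩ := hg2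
      refine ⟨j₁, hj₁S, ⟨g1⟩, ⟨?_⟩⟩
      exact (f2.trans (MulEquiv.prodCongr (MulEquiv.refl _) g2)).trans
        (krsPiErase K (S.erase j₁) j₀ hj₀').symm

end Factor

section Main

universe u w

variable {ι : Type*} {κ : Type*} [DecidableEq ι] [DecidableEq κ]

/-- Extending an equivalence of erased finsets by one more pair. -/
def krsExtend (S : Finset ι) (T : Finset κ) (i₀ : ι) (j₀ : κ) (hi₀ : i₀ ∈ S) (hj₀ : j₀ ∈ T)
    (σ' : (S.erase i₀ : Finset ι) ≃ (T.erase j₀ : Finset κ)) : S ≃ T where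
  toFun i := if h : (i : ι) = i₀ then ⟨j₀, hj₀⟩
    else ⟨(σ' ⟨i, Finset.mem_erase.mpr ⟨h, i.2⟩⟩ : κ), Finset.mem_of_mem_erase (σ' _).2⟩
  invFun j := if h : (j : κ) = j₀ then ⟨i₀, hi₀⟩
    else ⟨(σ'.symm ⟨j, Finset.mem_erase.mpr ⟨h, j.2⟩⟩ : ι), Finset.mem_of_mem_erase (σ'.symm _).2⟩
  left_inv i := by
    by_cases h : (i : ι) = i₀
    · simp only [dif_pos h]
      exact Subtype.ext h.symm
    · simp only [dif_neg h]
      have h2 : ((σ' ⟨i, Finset.mem_erase.mpr ⟨h, i.2⟩⟩ : (T.erase j₀ : Finset κ)) : κ) ≠ j₀ :=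
        (Finset.mem_erase.mp (σ' _).2).1
      simp only [dif_neg h2]
      apply Subtype.ext
      simp
  right_inv j := by
    by_cases h : (j : κ) = j₀
    · simp only [dif_pos h]
      exact Subtype.ext h.symm
    · simp only [dif_neg h]
      have h2 : ((σ'.symm ⟨j, Finset.mem_erase.mpr ⟨h, j.2⟩⟩ : (S.erase i₀ : Finset ι)) : ι) ≠ i₀ :=
        (Finset.mem_erase.mp (σ'.symm _).2).1
      simp only [dif_neg h2]
      apply Subtype.ext
      simp

theorem krsExtend_pos (S : Finset ι) (T : Finset κ) (i₀ : ι) (j₀ : κ) (hi₀ : i₀ ∈ S)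
    (hj₀ : j₀ ∈ T) (σ' : (S.erase i₀ : Finset ι) ≃ (T.erase j₀ : Finset κ)) (i : S)
    (h : (i : ι) = i₀) : (krsExtend S T i₀ j₀ hi₀ hj₀ σ' i : κ) = j₀ := by
  simp [krsExtend, h]

theorem krsExtend_neg (S : Finset ι) (T : Finset κ) (i₀ : ι) (j₀ : κ) (hi₀ : i₀ ∈ S)
    (hj₀ : j₀ ∈ T) (σ' : (S.erase i₀ : Finset ι) ≃ (T.erase j₀ : Finset κ)) (i : S)
    (h : (i : ι) ≠ i₀) : (krsExtend S T i₀ j₀ hi₀ hj₀ σ' i : κ)
      = (σ' ⟨i, Finset.mem_erase.mpr ⟨h, i.2⟩⟩ : κ) := by
  simp [krsExtend, h]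

variable {A : ι → Type u} {B : κ → Type w} [∀ i, Group (A i)] [∀ j, Group (B j)]
  [∀ i, Finite (A i)] [∀ j, Finite (B j)]

/-- Krull--Remak--Schmidt for products indexed by finsets. -/
theorem krs_finset (hA : ∀ i, KrsIndec (A i)) (hB : ∀ j, KrsIndec (B j)) :
    ∀ (N : ℕ) (S : Finset ι) (T : Finset κ), S.card = N →
      (((i : S) → A i) ≃* ((j : T) → B j)) →
      ∃ σ : S ≃ T, ∀ i : S, Nonempty (A i ≃* B (σ i)) := by
  intro N
  induction N with
  | zero =>
    intro S T hS e
    rw [Finset.card_eq_zero] at hS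
    subst hS
    have hT : T = ∅ := by
      by_contra hne
      obtain ⟨j, hj⟩ := Finset.nonempty_iff_ne_empty.mpr hne
      have hnt : Nontrivial (B j) := (hB j).1
      obtain ⟨x, hx⟩ := exists_ne (1 : B j)
      let f : (j : T) → B j := Pi.mulSingle (⟨j, hj⟩ : T) x
      have h1 : e.symm f = e.symm 1 := Subsingleton.elim _ _
      have h2 : f = 1 := e.symm.injective h1
      have h3 : f ⟨j, hj⟩ = x := Pi.mulSingle_eq_same _ _
      rw [h2] at h3
      exact hx h3.symm
    subst hT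
    exact ⟨Equiv.equivOfIsEmpty _ _, fun i => absurd i.2 (Finset.notMem_empty _)⟩
  | succ N ih =>
    intro S T hS e
    have hne : S.Nonempty := by
      rw [← Finset.card_pos]; omega
    obtain ⟨i₀, hi₀⟩ := hne
    have hcard : (S.erase i₀).card = N := by
      rw [Finset.card_erase_of_mem hi₀]; omega
    obtain ⟨j₀, hj₀, ⟨g1⟩, ⟨g2⟩⟩ := krs_exists_factor hB (A i₀) (hA i₀) T.card T rfl
      ((l : (S.erase i₀ : Finset ι)) → A l) ((krsPiErase A S i₀ hi₀).symm.trans e)
    obtain ⟨σ', hσ'⟩ := ih (S.erase i₀) (T.erase j₀) hcard g2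
    refine ⟨krsExtend S T i₀ j₀ hi₀ hj₀ σ', ?_⟩
    intro i
    by_cases h : (i : ι) = i₀
    · rw [krsExtend_pos S T i₀ j₀ hi₀ hj₀ σ' i h, h]
      exact ⟨g1⟩
    · rw [krsExtend_neg S T i₀ j₀ hi₀ hj₀ σ' i h]
      exact hσ' ⟨i, Finset.mem_erase.mpr ⟨h, i.2⟩⟩

end Main

end Cfsg.Agent.Lib.Helper70
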