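import Mathlib
import Cfsg.Agent.Lib.Helper70.Kulakoff3
import Cfsg.Agent.Lib.Helper66.Orbits2

set_option autoImplicit false
set_option linter.unusedSectionVars false
set_option linter.style.haveILetI false

/-!
Conjugation action of a subgroup on the set of all subgroups, and the basic facts needed for the
reduction of the Kulakoff--Hall congruence to Sylow subgroups.
-/

namespace Cfsg.Agent.Lib.Helper70

open Subgroup

section KK5

variable {G : Type*} [Group G]

/-- the conjugate subgroup `g H g⁻¹` -/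
def kkConj (g : G) (H : Subgroup G) : Subgroup G := H.map (MulAut.conj g).toMonoidHom

theorem mem_kkConj {g : G} {H : Subgroup G} {x : G} : x ∈ kkConj g H ↔ g⁻¹ * x * g ∈ H := by
  unfold kkConj
  rw [Subgroup.mem_map]
  constructor
  · rintro ⟨y, hy, rfl⟩
    have : g⁻¹ * ((MulAut.conj g).toMonoidHom y) * g = y := by
      change g⁻¹ * (g * y * g⁻¹) * g = y
      group
    rw [this]; exact hy
  · intro h
    refine ⟨g⁻¹ * x * g, h, ?_⟩
    change g * (g⁻¹ * x * g) * g⁻¹ = x
    group

theorem kkConj_one (H : Subgroup G) : kkConj 1 H = H := by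
  ext x
  rw [mem_kkConj]
  simp

theorem kkConj_mul (g h : G) (H : Subgroup G) : kkConj (g * h) H = kkConj g (kkConj h H) := by
  ext x
  rw [mem_kkConj, mem_kkConj, mem_kkConj]
  have : (g * h)⁻¹ * x * (g * h) = h⁻¹ * (g⁻¹ * x * g) * h := by group
  rw [this]

theorem kkConj_card (g : G) (H : Subgroup G) : Nat.card (kkConj g H) = Nat.card H :=
  Subgroup.card_map_of_injective (MulAut.conj g).injective

theorem kkConj_le_iff (g : G) (H K : Subgroup G) : kkConj g H ≤ kkConj g K ↔ H ≤ K := by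
  constructor
  · intro h x hx
    have h1 : g * x * g⁻¹ ∈ kkConj g H := by
      rw [mem_kkConj]
      have : g⁻¹ * (g * x * g⁻¹) * g = x := by group
      rw [this]; exact hx
    have h2 := h h1
    rw [mem_kkConj] at h2
    have : g⁻¹ * (g * x * g⁻¹) * g = x := by group
    rwa [this] at h2
  · intro h x hx
    rw [mem_kkConj] at hx ⊢
    exact h hx

theorem kkConj_eq_self_iff (g : G) (H : Subgroup G) :
    kkConj g H = H ↔ g ∈ normalizer (H : Set G) := by
  rw [Subgroup.mem_normalizer_iff_map_conj_eq]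
  rfl

theorem kkConj_eq_self_of_mem {g : G} {H : Subgroup G} (h : g ∈ H) : kkConj g H = H :=
  (kkConj_eq_self_iff g H).mpr (Subgroup.le_normalizer h)

theorem kkConj_inv_cancel (g : G) (H : Subgroup G) : kkConj g⁻¹ (kkConj g H) = H := by
  rw [← kkConj_mul, inv_mul_cancel, kkConj_one]

theorem kkConj_cancel_inv (g : G) (H : Subgroup G) : kkConj g (kkConj g⁻¹ H) = H := by
  rw [← kkConj_mul, mul_inv_cancel, kkConj_one]

/-- conjugating the normalizer -/
theorem kkConj_le_normalizer {g : G} {H Q : Subgroup G} (h : Q ≤ normalizer (H : Set G)) :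
    kkConj g Q ≤ normalizer (kkConj g H : Set G) := by
  intro x hx
  rw [mem_kkConj] at hx
  have h1 := h hx
  rw [← kkConj_eq_self_iff] at h1 ⊢
  have : x = g * (g⁻¹ * x * g) * g⁻¹ := by group
  rw [this, kkConj_mul, kkConj_mul, kkConj_inv_cancel, h1]

/-- the conjugation action of a subgroup on the subgroups -/
@[reducible] def kkAct (P : Subgroup G) : MulAction P (Subgroup G) where
  smul x H := kkConj (x : G) H
  one_smul H := kkConj_one H
  mul_smul x y H := kkConj_mul (x : G) (y : G) H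

theorem kkAct_smul (P : Subgroup G) (x : P) (H : Subgroup G) :
    (letI := kkAct P; x • H) = kkConj (x : G) H := rfl

/-- fixed points of the action -/
theorem kkAct_fixed_iff (P : Subgroup G) (H : Subgroup G) :
    (letI := kkAct P; ∀ x : P, x • H = H) ↔ P ≤ normalizer (H : Set G) := by
  constructor
  · intro h x hx
    have := h ⟨x, hx⟩
    rw [kkAct_smul] at this
    exact (kkConj_eq_self_iff x H).mp this
  · intro h x
    rw [kkAct_smul]
    exact (kkConj_eq_self_iff _ H).mpr (h x.2)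

variable [Finite G] {p : ℕ} [hp : Fact p.Prime]

/-- the order of a `p`-subgroup when `p ^ (n + 1)` does not divide `|G|` -/
theorem kk_card_pgroup_le {n : ℕ} (hmax : ¬ p ^ (n + 1) ∣ Nat.card G) (R : Subgroup G)
    (hR : IsPGroup p R) : ∃ k, k ≤ n ∧ Nat.card R = p ^ k := by
  obtain ⟨k, hk⟩ := IsPGroup.iff_card.mp hR
  refine ⟨k, ?_, hk⟩
  by_contra h
  push Not at h
  apply hmax
  have h1 : p ^ k ∣ Nat.card G := hk ▸ Subgroup.card_subgroup_dvd_card R
  exact dvd_trans (pow_dvd_pow p h) h1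

/-- a `p`-subgroup normalized by a subgroup of maximal `p`-power order lies in it -/
theorem kk_le_of_normalizes {n : ℕ} (hmax : ¬ p ^ (n + 1) ∣ Nat.card G) (Q R : Subgroup G)
    (hQ : Nat.card Q = p ^ n) (hR : IsPGroup p R) (h : Q ≤ normalizer (R : Set G)) : R ≤ Q := by
  have hQp : IsPGroup p Q := IsPGroup.of_card hQ
  have hsup : IsPGroup p (R ⊔ Q : Subgroup G) := IsPGroup.to_sup_of_normal_left' hR hQp h
  obtain ⟨k, hk, hkc⟩ := kk_card_pgroup_le hmax _ hsup
  have h1 : Q = R ⊔ Q := by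
    apply Subgroup.eq_of_le_of_card_ge le_sup_right
    rw [hkc, hQ]
    exact Nat.pow_le_pow_right hp.out.pos hk
  rw [h1]
  exact le_sup_left

/-- subgroups between `M` of order `p ^ k` and `Q` of order `p ^ (k + 1)` -/
theorem kk_between {k : ℕ} {M K Q : Subgroup G} (hM : Nat.card M = p ^ k)
    (hQ : Nat.card Q = p ^ (k + 1)) (hMK : M ≤ K) (hKQ : K ≤ Q) : K = M ∨ K = Q := by
  have h1 : Nat.card M ∣ Nat.card K := Subgroup.card_dvd_of_le hMK
  have h2 : Nat.card K ∣ Nat.card Q := Subgroup.card_dvd_of_le hKQ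
  rw [hM] at h1
  rw [hQ] at h2
  obtain ⟨j, hj, hjc⟩ := (Nat.dvd_prime_pow hp.out).mp h2
  rw [hjc] at h1
  have hkj : k ≤ j := (Nat.pow_dvd_pow_iff_le_right hp.out.one_lt).mp h1
  rcases Nat.lt_or_ge k j with hlt | hge
  · right
    have : j = k + 1 := by omega
    apply Subgroup.eq_of_le_of_card_ge hKQ
    rw [hQ, hjc, this]
  · left
    have : j = k := by omega
    symm
    apply Subgroup.eq_of_le_of_card_ge hMK
    rw [hM, hjc, this]

theorem kk_index_subgroupOf {k : ℕ} {M Q : Subgroup G} (hM : Nat.card M = p ^ k)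
    (hQ : Nat.card Q = p ^ (k + 1)) (hMQ : M ≤ Q) : (M.subgroupOf Q).index = p := by
  have h1 := (M.subgroupOf Q).card_mul_index
  rw [Nat.card_congr (Subgroup.subgroupOfEquivOfLe hMQ).toEquiv, hM, hQ, pow_succ] at h1
  exact Nat.eq_of_mul_eq_mul_left (pow_pos hp.out.pos k) h1

/-- a subgroup of order `p ^ k` inside one of order `p ^ (k + 1)` is normalized by it -/
theorem kk_le_normalizer_of_card {k : ℕ} {M Q : Subgroup G} (hM : Nat.card M = p ^ k)
    (hQ : Nat.card Q = p ^ (k + 1)) (hMQ : M ≤ Q) : Q ≤ normalizer (M : Set G) := by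
  have hQp : IsPGroup p Q := IsPGroup.of_card hQ
  have hidx : (M.subgroupOf Q).index = p := kk_index_subgroupOf hM hQ hMQ
  have := kk_normal_of_index hQp hidx
  exact (Subgroup.normal_subgroupOf_iff_le_normalizer hMQ).mp this

/-- orbit sizes are powers of `p` -/
theorem kk_orbit_ncard (P : Subgroup G) (hP : IsPGroup p P) (H : Subgroup G) :
    ∃ j, (letI := kkAct P; (MulAction.orbit P H).ncard) = p ^ j := by
  letI := kkAct P
  rw [← MulAction.index_stabilizer]
  exact hP.index _

/-- a non-fixed point has orbit size divisible by `p` -/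
theorem kk_dvd_orbit_ncard (P : Subgroup G) (hP : IsPGroup p P) (H : Subgroup G)
    (hH : ¬ P ≤ normalizer (H : Set G)) :
    p ∣ (letI := kkAct P; (MulAction.orbit P H).ncard) := by
  letI := kkAct P
  obtain ⟨j, hj⟩ := kk_orbit_ncard P hP H
  have hj' : (MulAction.orbit P H).ncard = p ^ j := hj
  rw [hj']
  have hj0 : j ≠ 0 := by
    rintro rfl
    rw [pow_zero, ← MulAction.index_stabilizer, Subgroup.index_eq_one] at hj'
    apply hH
    rw [← kkAct_fixed_iff]
    intro x
    have : x ∈ MulAction.stabilizer P H := by rw [hj']; trivial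
    exact this
  exact dvd_pow_self p hj0

section Classic

open Classical

variable [Fintype (Subgroup G)]

/-- the normal subgroups of `Q` of order `p ^ a` not contained in `M` -/
noncomputable def kkN (p a : ℕ) (M Q : Subgroup G) : Finset (Subgroup G) :=
  Finset.univ.filter (fun H => Nat.card H = p ^ a ∧ H ≤ Q ∧ Q ≤ normalizer (H : Set G) ∧ ¬ H ≤ M)

theorem mem_kkN {a : ℕ} {M Q H : Subgroup G} : H ∈ kkN p a M Q ↔
    Nat.card H = p ^ a ∧ H ≤ Q ∧ Q ≤ normalizer (H : Set G) ∧ ¬ H ≤ M := by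
  unfold kkN
  rw [Finset.mem_filter]
  exact ⟨fun h => h.2, fun h => ⟨Finset.mem_univ _, h⟩⟩

/-- counting the normal subgroups of order `p ^ a` of `Q` below an invariant subgroup `K` -/
theorem kk_fixed_count {a m : ℕ} (Q K : Subgroup G) (hQ : IsPGroup p Q) (_hKQ : K ≤ Q)
    (hKn : Q ≤ normalizer (K : Set G)) (hK : Nat.card K = p ^ m) (ha : a ≤ m) :
    (Finset.univ.filter (fun H : Subgroup G =>
      Nat.card H = p ^ a ∧ H ≤ K ∧ Q ≤ normalizer (H : Set G))).card ≡ 1 [MOD p] := by
  letI := kkAct Q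
  haveI : Finite Q := inferInstance
  set Y : Finset (Subgroup G) :=
    Finset.univ.filter (fun H : Subgroup G => Nat.card H = p ^ a ∧ H ≤ K) with hY
  set F : Finset (Subgroup G) := Finset.univ.filter (fun H : Subgroup G =>
      Nat.card H = p ^ a ∧ H ≤ K ∧ Q ≤ normalizer (H : Set G)) with hF
  have h1 : Y.card ≡ F.card [MOD p] := by
    apply Cfsg.Agent.Lib.Helper66.card_modEq_card_fixed_of_invariant p hQ Y
    · intro x H hH
      rw [hY, Finset.mem_filter] at hH ⊢
      refine ⟨Finset.mem_univ _, ?_, ?_⟩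
      · rw [kkAct_smul, kkConj_card]; exact hH.2.1
      · rw [kkAct_smul]
        have h2 : kkConj (x : G) K = K := (kkConj_eq_self_iff _ K).mpr (hKn x.2)
        rw [← h2, kkConj_le_iff]
        exact hH.2.2
    · intro H
      rw [hY, hF, Finset.mem_filter, Finset.mem_filter, kkAct_fixed_iff]
      tauto
  have h2 : Y.card ≡ 1 [MOD p] := by
    have : Y.card = Nat.card {H : Subgroup G // Nat.card H = p ^ a ∧ H ≤ K} := by
      rw [Nat.card_eq_fintype_card]
      symm
      apply Fintype.card_of_subtype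
      intro H
      rw [hY, Finset.mem_filter]
      exact ⟨fun h => h.2, fun h => ⟨Finset.mem_univ _, h⟩⟩
    rw [this, kk_card_le_eq]
    apply Cfsg.Agent.Lib.Helper66.card_subgroups_modEq_one
    rw [hK]
    exact pow_dvd_pow p ha
  exact h1.symm.trans h2

/-- **Lemma W** -/
theorem kk_dvd_card_kkN {a k : ℕ} (M Q : Subgroup G) (hM : Nat.card M = p ^ k)
    (hQ : Nat.card Q = p ^ (k + 1)) (hMQ : M ≤ Q) (ha : a ≤ k) : p ∣ (kkN p a M Q).card := by
  have hQp : IsPGroup p Q := IsPGroup.of_card hQ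
  have h1 := kk_fixed_count (a := a) Q Q hQp le_rfl Subgroup.le_normalizer hQ (by omega)
  have h2 := kk_fixed_count (a := a) Q M hQp hMQ (kk_le_normalizer_of_card hM hQ hMQ) hM ha
  set F₁ : Finset (Subgroup G) := Finset.univ.filter (fun H : Subgroup G =>
      Nat.card H = p ^ a ∧ H ≤ Q ∧ Q ≤ normalizer (H : Set G)) with hF₁
  set F₂ : Finset (Subgroup G) := Finset.univ.filter (fun H : Subgroup G =>
      Nat.card H = p ^ a ∧ H ≤ M ∧ Q ≤ normalizer (H : Set G)) with hF₂
  have hsplit := Finset.card_filter_add_card_filter_not (s := F₁) (fun H => H ≤ M)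
  have e1 : F₁.filter (fun H => H ≤ M) = F₂ := by
    ext H
    simp only [hF₁, hF₂, Finset.mem_filter, Finset.mem_univ, true_and]
    constructor
    · rintro ⟨⟨h1, h2, h3⟩, h4⟩
      exact ⟨h1, h4, h3⟩
    · rintro ⟨h1, h2, h3⟩
      exact ⟨⟨h1, h2.trans hMQ, h3⟩, h2⟩
  have e2 : F₁.filter (fun H => ¬ H ≤ M) = kkN p a M Q := by
    ext H
    simp only [hF₁, Finset.mem_filter, Finset.mem_univ, true_and, mem_kkN]
    tauto
  rw [e1, e2] at hsplit
  -- F₂.card + kkN.card = F₁.card, both ≡ 1
  have h3 : F₂.card + (kkN p a M Q).card ≡ F₂.card + 0 [MOD p] := by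
    rw [hsplit, add_zero]
    exact h1.trans h2.symm
  exact (Nat.modEq_zero_iff_dvd).mp (Nat.ModEq.add_left_cancel' _ h3)

theorem kkN_card_conj_le {a : ℕ} (M Q : Subgroup G) (g : G) (hg : kkConj g M = M) :
    (kkN p a M Q).card ≤ (kkN p a M (kkConj g Q)).card := by
  apply Finset.card_le_card_of_injOn (kkConj g)
  · intro H hH
    rw [Finset.mem_coe, mem_kkN] at hH ⊢
    obtain ⟨h1, h2, h3, h4⟩ := hH
    refine ⟨by rw [kkConj_card]; exact h1, (kkConj_le_iff g H Q).mpr h2,
      kkConj_le_normalizer h3, ?_⟩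
    intro h
    rw [← hg, kkConj_le_iff] at h
    exact h4 h
  · intro H _ K _ h
    have := congrArg (kkConj g⁻¹) h
    rwa [kkConj_inv_cancel, kkConj_inv_cancel] at this

theorem kkN_card_conj {a : ℕ} (M Q : Subgroup G) (g : G) (hg : kkConj g M = M) :
    (kkN p a M (kkConj g Q)).card = (kkN p a M Q).card := by
  apply le_antisymm
  · have hg' : kkConj g⁻¹ M = M := by
      calc kkConj g⁻¹ M = kkConj g⁻¹ (kkConj g M) := by rw [hg]
        _ = M := kkConj_inv_cancel g M
    have := kkN_card_conj_le (p := p) (a := a) M (kkConj g Q) g⁻¹ hg'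
    rwa [kkConj_inv_cancel] at this
  · exact kkN_card_conj_le M Q g hg

end Classic

end KK5

end Cfsg.Agent.Lib.Helper70
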