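import Mathlib
import Cfsg.Agent.Lib.Helper70.Kulakoff5

set_option autoImplicit false
set_option linter.unusedSectionVars false
set_option linter.style.haveILetI false

/-!
Reduction of the count of subgroups of order `p ^ a` modulo `p ^ 2` to a Sylow `p`-subgroup.
-/

namespace Cfsg.Agent.Lib.Helper70

open Subgroup

section KK6

open Classical

variable {G : Type*} [Group G] [Finite G] {p : ℕ} [hp : Fact p.Prime]

theorem kk_FM_dvd [Fintype (Subgroup G)] {a k : ℕ} (P M : Subgroup G)
    (hP : Nat.card P = p ^ (k + 1))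
    (hmax : ¬ p ^ (k + 1 + 1) ∣ Nat.card G) (hM : Nat.card M = p ^ k) (hMP : M ≤ P) (ha : a ≤ k) :
    p ^ 2 ∣ (Finset.univ.filter (fun H : Subgroup G =>
      Nat.card H = p ^ a ∧ ¬ H ≤ P ∧ M ≤ normalizer (H : Set G))).card := by
  letI := kkAct P
  set FM : Finset (Subgroup G) := Finset.univ.filter (fun H : Subgroup G =>
      Nat.card H = p ^ a ∧ ¬ H ≤ P ∧ M ≤ normalizer (H : Set G)) with hFM
  set 𝒬 : Finset (Subgroup G) := (Finset.univ.filter
    (fun Q : Subgroup G => Nat.card Q = p ^ (k + 1) ∧ M ≤ Q)).erase P with h𝒬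
  have hMp : IsPGroup p M := IsPGroup.of_card hM
  have hPp : IsPGroup p P := IsPGroup.of_card hP
  have hPM : P ≤ normalizer (M : Set G) := kk_le_normalizer_of_card hM hP hMP
  have hsup : ∀ H ∈ FM, Nat.card (M ⊔ H : Subgroup G) = p ^ (k + 1) ∧ M ⊔ H ≠ P := by
    intro H hH
    rw [hFM, Finset.mem_filter] at hH
    obtain ⟨-, hHc, hHP, hMN⟩ := hH
    have hHp : IsPGroup p H := IsPGroup.of_card hHc
    have hs : IsPGroup p (M ⊔ H : Subgroup G) := IsPGroup.to_sup_of_normal_right' hMp hHp hMN
    obtain ⟨j, hj, hjc⟩ := kk_card_pgroup_le hmax _ hs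
    have hne : M ⊔ H ≠ M := by
      intro h
      apply hHP
      exact (le_sup_right.trans h.le).trans hMP
    have hd : p ^ k ∣ p ^ j := by
      rw [← hM, ← hjc]
      exact Subgroup.card_dvd_of_le le_sup_left
    have hkj : k ≤ j := (Nat.pow_dvd_pow_iff_le_right hp.out.one_lt).mp hd
    have hjk : j ≠ k := by
      intro h
      apply hne
      symm
      apply Subgroup.eq_of_le_of_card_ge le_sup_left
      rw [hjc, hM, h]
    refine ⟨by rw [hjc]; congr 1; omega, ?_⟩
    intro h
    apply hHP
    rw [← h]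
    exact le_sup_right
  have hcard : FM.card = ∑ Q ∈ 𝒬, (FM.filter (fun H => M ⊔ H = Q)).card := by
    apply Finset.card_eq_sum_card_fiberwise
    intro H hH
    rw [Finset.mem_coe, h𝒬, Finset.mem_erase, Finset.mem_filter]
    obtain ⟨h1, h2⟩ := hsup H (Finset.mem_coe.mp hH)
    exact ⟨h2, Finset.mem_univ _, h1, le_sup_left⟩
  have hfib : ∀ Q ∈ 𝒬, FM.filter (fun H => M ⊔ H = Q) = kkN p a M Q := by
    intro Q hQ
    rw [h𝒬, Finset.mem_erase, Finset.mem_filter] at hQ
    obtain ⟨hQP, -, hQc, hMQ⟩ := hQ
    ext H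
    rw [Finset.mem_filter, mem_kkN, hFM, Finset.mem_filter]
    constructor
    · rintro ⟨⟨-, hHc, hHP, hMN⟩, hsupQ⟩
      refine ⟨hHc, hsupQ ▸ le_sup_right, ?_, fun h => hHP (h.trans hMP)⟩
      rw [← hsupQ]
      exact sup_le hMN Subgroup.le_normalizer
    · rintro ⟨hHc, hHQ, hQN, hHM⟩
      have hQP' : Q ⊓ P = M := by
        rcases kk_between hM hP (le_inf hMQ hMP) inf_le_right with h | h
        · exact h
        · exfalso
          apply hQP
          have hPQ : P ≤ Q := by rw [← h]; exact inf_le_left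
          symm
          exact Subgroup.eq_of_le_of_card_ge hPQ (by rw [hQc, hP])
      have hHP : ¬ H ≤ P := by
        intro h
        apply hHM
        rw [← hQP']
        exact le_inf hHQ h
      refine ⟨⟨Finset.mem_univ _, hHc, hHP, hMQ.trans hQN⟩, ?_⟩
      rcases kk_between hM hQc (le_sup_left : M ≤ M ⊔ H) (sup_le hMQ hHQ) with h | h
      · exfalso
        apply hHM
        rw [← h]
        exact le_sup_right
      · exact h
  rw [hcard, Finset.sum_congr rfl (fun Q hQ => by rw [hfib Q hQ])]
  apply Cfsg.Agent.Lib.Helper66.dvd_sum_of_invariant (G := P) (p ^ 2)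
    (fun Q => (kkN p a M Q).card)
  · intro x Q
    rw [kkAct_smul]
    exact kkN_card_conj M Q (x : G) ((kkConj_eq_self_iff _ M).mpr (hPM x.2))
  · intro x Q hQ
    rw [h𝒬, Finset.mem_erase, Finset.mem_filter] at hQ ⊢
    obtain ⟨hQP, -, hQc, hMQ⟩ := hQ
    refine ⟨?_, Finset.mem_univ _, ?_, ?_⟩
    · intro h
      apply hQP
      rw [kkAct_smul] at h
      have h2 := congrArg (kkConj (x : G)⁻¹) h
      rw [kkConj_inv_cancel, kkConj_eq_self_of_mem (P.inv_mem x.2)] at h2
      exact h2
    · rw [kkAct_smul, kkConj_card]; exact hQc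
    · rw [kkAct_smul]
      have h2 : kkConj (x : G) M = M := (kkConj_eq_self_iff _ M).mpr (hPM x.2)
      rw [← h2, kkConj_le_iff]
      exact hMQ
  · intro Q hQ
    rw [h𝒬, Finset.mem_erase, Finset.mem_filter] at hQ
    obtain ⟨hQP, -, hQc, hMQ⟩ := hQ
    rw [pow_two]
    apply mul_dvd_mul
    · apply kk_dvd_orbit_ncard P hPp Q
      intro h
      apply hQP
      have hQleP : Q ≤ P := kk_le_of_normalizes hmax P Q hP (IsPGroup.of_card hQc) h
      exact Subgroup.eq_of_le_of_card_ge hQleP (by rw [hQc, hP])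
    · exact kk_dvd_card_kkN M Q hM hQc hMQ ha

/-- **reduction to a Sylow subgroup** -/
theorem kk_sylow_reduction {a k : ℕ} (P : Subgroup G) (hP : Nat.card P = p ^ (k + 1))
    (hmax : ¬ p ^ (k + 1 + 1) ∣ Nat.card G) (ha : a ≤ k) :
    Nat.card {H : Subgroup G // Nat.card H = p ^ a} ≡
      Nat.card {H : Subgroup P // Nat.card H = p ^ a} [MOD p ^ 2] := by
  haveI : Fintype (Subgroup G) := Fintype.ofFinite _
  letI := kkAct P
  have hPp : IsPGroup p P := IsPGroup.of_card hP
  set S : Finset (Subgroup G) := Finset.univ.filter (fun H => Nat.card H = p ^ a) with hS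
  have hScard : S.card = Nat.card {H : Subgroup G // Nat.card H = p ^ a} := by
    rw [Nat.card_eq_fintype_card]
    symm
    apply Fintype.card_of_subtype
    intro H
    rw [hS, Finset.mem_filter]
    exact ⟨fun h => h.2, fun h => ⟨Finset.mem_univ _, h⟩⟩
  have hSP : (S.filter (fun H => H ≤ P)).card =
      Nat.card {H : Subgroup P // Nat.card H = p ^ a} := by
    rw [← kk_card_le_eq, Nat.card_eq_fintype_card]
    symm
    apply Fintype.card_of_subtype
    intro H
    rw [hS, Finset.mem_filter, Finset.mem_filter]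
    exact ⟨fun h => ⟨h.1.2, h.2⟩, fun h => ⟨⟨Finset.mem_univ _, h.1⟩, h.2⟩⟩
  have hsplit := Finset.card_filter_add_card_filter_not (s := S) (fun H => H ≤ P)
  set S' := S.filter (fun H => ¬ H ≤ P) with hS'
  suffices h : p ^ 2 ∣ S'.card by
    rw [← hScard, ← hSP, ← hsplit]
    have h1 : (S.filter (fun H => H ≤ P)).card + S'.card ≡
        (S.filter (fun H => H ≤ P)).card + 0 [MOD p ^ 2] :=
      Nat.ModEq.add_left _ ((Nat.modEq_zero_iff_dvd).mpr h)
    rwa [add_zero] at h1
  have hsplit' := Finset.card_filter_add_card_filter_not (s := S')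
    (fun H => (MulAction.orbit P H).ncard = p)
  rw [← hsplit']
  apply dvd_add
  · set S1 := S'.filter (fun H => (MulAction.orbit P H).ncard = p) with hS1
    set 𝓜 : Finset (Subgroup G) :=
      Finset.univ.filter (fun M => M ≤ P ∧ Nat.card M = p ^ k) with h𝓜
    have hcard : S1.card = ∑ M ∈ 𝓜,
        (S1.filter (fun H => (MulAction.stabilizer P H).map P.subtype = M)).card := by
      apply Finset.card_eq_sum_card_fiberwise
      intro H hH
      rw [Finset.mem_coe, hS1, Finset.mem_filter] at hH
      rw [Finset.mem_coe, h𝓜, Finset.mem_filter]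
      refine ⟨Finset.mem_univ _, Subgroup.map_subtype_le _, ?_⟩
      rw [Subgroup.card_map_of_injective P.subtype_injective]
      have h1 := (MulAction.stabilizer P H).card_mul_index
      rw [MulAction.index_stabilizer, hH.2, hP, pow_succ] at h1
      exact Nat.eq_of_mul_eq_mul_right hp.out.pos h1
    rw [hcard]
    apply Finset.dvd_sum
    intro M hM
    rw [h𝓜, Finset.mem_filter] at hM
    obtain ⟨-, hMP, hMc⟩ := hM
    have hfib : S1.filter (fun H => (MulAction.stabilizer P H).map P.subtype = M) =
        Finset.univ.filter (fun H : Subgroup G =>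
          Nat.card H = p ^ a ∧ ¬ H ≤ P ∧ M ≤ normalizer (H : Set G)) := by
      ext H
      simp only [hS1, hS', hS, Finset.mem_filter, Finset.mem_univ, true_and]
      constructor
      · rintro ⟨⟨⟨h1, h2⟩, h3⟩, h4⟩
        refine ⟨h1, h2, ?_⟩
        rw [← h4]
        intro x hx
        obtain ⟨y, hy, rfl⟩ := Subgroup.mem_map.mp hx
        have h5 : y • H = H := hy
        rw [kkAct_smul] at h5
        exact (kkConj_eq_self_iff _ H).mp h5
      · rintro ⟨h1, h2, h3⟩
        have hsub : M.subgroupOf P ≤ MulAction.stabilizer P H := by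
          intro x hx
          rw [MulAction.mem_stabilizer_iff, kkAct_smul]
          exact (kkConj_eq_self_iff _ H).mpr (h3 (Subgroup.mem_subgroupOf.mp hx))
        have hidx : (M.subgroupOf P).index = p := kk_index_subgroupOf hMc hP hMP
        have hne : MulAction.stabilizer P H ≠ ⊤ := by
          intro h
          apply h2
          apply kk_le_of_normalizes hmax P H hP (IsPGroup.of_card h1)
          rw [← kkAct_fixed_iff]
          intro x
          have : x ∈ MulAction.stabilizer P H := by rw [h]; trivial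
          exact this
        have hstab : MulAction.stabilizer P H = M.subgroupOf P :=
          (kk_eq_or_top_of_index_prime hidx hsub).resolve_right hne
        refine ⟨⟨⟨h1, h2⟩, ?_⟩, ?_⟩
        · rw [← MulAction.index_stabilizer, hstab, hidx]
        · rw [hstab]
          exact Subgroup.map_subgroupOf_eq_of_le hMP
    rw [hfib]
    exact kk_FM_dvd P M hP hmax hMc hMP ha
  · apply Cfsg.Agent.Lib.Helper66.dvd_card_of_invariant (G := P) (p ^ 2)
    · intro x H hH
      simp only [hS', hS, Finset.mem_filter, Finset.mem_univ, true_and] at hH ⊢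
      obtain ⟨⟨h1, h2⟩, h3⟩ := hH
      refine ⟨⟨by rw [kkAct_smul, kkConj_card]; exact h1, ?_⟩, ?_⟩
      · intro h
        apply h2
        rw [kkAct_smul] at h
        have h4 : kkConj (x : G) P = P := kkConj_eq_self_of_mem x.2
        have h5 : kkConj (x : G) H ≤ kkConj (x : G) P := h.trans h4.ge
        exact (kkConj_le_iff _ H P).mp h5
      · rw [MulAction.orbit_smul]
        exact h3
    · intro H hH
      simp only [hS', hS, Finset.mem_filter, Finset.mem_univ, true_and] at hH
      obtain ⟨⟨h1, h2⟩, h3⟩ := hH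
      obtain ⟨j, hj⟩ := kk_orbit_ncard P hPp H
      have hj' : (MulAction.orbit P H).ncard = p ^ j := hj
      have hdvd : p ∣ (MulAction.orbit P H).ncard := by
        apply kk_dvd_orbit_ncard P hPp H
        intro h
        exact h2 (kk_le_of_normalizes hmax P H hP (IsPGroup.of_card h1) h)
      rw [hj'] at hdvd h3 ⊢
      have hj0 : j ≠ 0 := by
        rintro rfl
        rw [pow_zero] at hdvd
        exact hp.out.one_lt.ne' (Nat.dvd_one.mp hdvd)
      have hj1 : j ≠ 1 := by
        rintro rfl
        exact h3 (pow_one p)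
      exact pow_dvd_pow p (by omega)

end KK6

end Cfsg.Agent.Lib.Helper70
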