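import Mathlib
import Cfsg.Prelude.Def_Balance
import Cfsg.Agent.S1301
import Cfsg.Agent.Lib.Helper22.FStar
import Cfsg.Agent.Lib.Helper91.Components
import Cfsg.Agent.Lib.Helper33.McMC3
import Cfsg.Agent.Lib.Helper54.Mc1
import Cfsg.Agent.Lib.Helper25.Mc9

/-! # Mc hive (S1305, helper22), leaf MC2. -/

set_option autoImplicit false
open Cfsg Subgroup

namespace Cfsg.Agent.Lib.Helper22.Mc

universe u

/-- MC2 with MC1 and MC9 as hypotheses. -/
theorem mc2_core
    (hmc1 : ∀ {Y : Type u} [Group Y] [Finite Y] (K : Subgroup Y), IsComponent K →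
      Even (Nat.card K) → K ≤ pLayer 2 Y)
    (hmc9 : ∀ {G : Type u} [Group G] (a b : G) (hamem : a ∈ centralizer ({b} : Set G))
      (K : Subgroup G), K ≤ centralizer ({a} : Set G) → K ≤ centralizer ({b} : Set G) →
      IsComponent (K.subgroupOf (centralizer ({a} : Set G))) →
      IsComponent ((K.subgroupOf (centralizer ({b} : Set G))).subgroupOf
        (centralizer ({(⟨a, hamem⟩ : ↥(centralizer ({b} : Set G)))} :
          Set ↥(centralizer ({b} : Set G))))))
    {G : Type u} [Group G] [Finite G] (hO : oddCore G = ⊥) (hB : HasBProperty G) (a b : G)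
    (ha : orderOf a = 2) (hb : orderOf b = 2) (hab : a * b = b * a) (K : Subgroup G)
    (hKa : K ≤ centralizer ({a} : Set G)) (hKb : K ≤ centralizer ({b} : Set G))
    (hK : IsComponent (K.subgroupOf (centralizer ({a} : Set G)))) (heven : Even (Nat.card K)) :
    K.subgroupOf (centralizer ({b} : Set G)) ≤ layer ↥(centralizer ({b} : Set G)) := by
  have hamem : a ∈ centralizer ({b} : Set G) := mem_centralizer_singleton_iff.mpr hab
  -- the element `a` inside `X = C(b)`
  obtain ⟨a', ha'⟩ : ∃ a' : ↥(centralizer ({b} : Set G)), a' = ⟨a, hamem⟩ := ⟨_, rfl⟩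
  have ha2 : a' ^ 2 = 1 := by
    rw [ha']
    apply Subtype.ext
    show a ^ 2 = 1
    rw [← ha]; exact pow_orderOf_eq_one a
  have hT : IsPGroup 2 ↥(zpowers a') := by
    intro g
    obtain ⟨g, hg⟩ := g
    obtain ⟨k, rfl⟩ := Subgroup.mem_zpowers_iff.mp hg
    refine ⟨1, ?_⟩
    apply Subtype.ext
    simp only [pow_one, Subgroup.coe_pow, Subgroup.coe_one]
    rw [← zpow_natCast, ← zpow_mul, mul_comm, zpow_mul, zpow_natCast, ha2, one_zpow]
  have hcz : centralizer ((zpowers a' : Subgroup ↥(centralizer ({b} : Set G))) :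
      Set ↥(centralizer ({b} : Set G))) = centralizer ({a'} : Set ↥(centralizer ({b} : Set G))) := by
    ext x
    rw [Subgroup.mem_centralizer_iff, Subgroup.mem_centralizer_iff]
    constructor
    · intro h z hz
      rw [Set.mem_singleton_iff] at hz
      subst hz
      exact h z (Subgroup.mem_zpowers z)
    · intro h z hz
      obtain ⟨k, rfl⟩ := Subgroup.mem_zpowers_iff.mp hz
      have hc : Commute a' x := h a' (Set.mem_singleton a')
      exact (hc.zpow_left k).eq
  have h1301 := Cfsg.Agent.S1301.result (zpowers a') hT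
  rw [hcz] at h1301
  -- MC9 and MC1
  have hK'' := hmc9 a b hamem K hKa hKb hK
  rw [← ha'] at hK''
  have hKle : K.subgroupOf (centralizer ({b} : Set G)) ≤
      centralizer ({a'} : Set ↥(centralizer ({b} : Set G))) := by
    intro k hk
    rw [mem_centralizer_singleton_iff, ha']
    apply Subtype.ext
    exact mem_centralizer_singleton_iff.mp (hKa (mem_subgroupOf.mp hk))
  have hcard : Nat.card ↥((K.subgroupOf (centralizer ({b} : Set G))).subgroupOf
      (centralizer ({a'} : Set ↥(centralizer ({b} : Set G))))) = Nat.card ↥K := by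
    rw [Nat.card_congr (Subgroup.subgroupOfEquivOfLe hKle).toEquiv,
      Nat.card_congr (Subgroup.subgroupOfEquivOfLe hKb).toEquiv]
  have hle1 := hmc1 _ hK'' (by rw [hcard]; exact heven)
  have hle2 : K.subgroupOf (centralizer ({b} : Set G)) ≤
      pLayer 2 ↥(centralizer ({b} : Set G)) := by
    refine le_trans ?_ h1301
    intro k hk
    exact ⟨⟨k, hKle hk⟩, hle1 (mem_subgroupOf.mpr hk), rfl⟩
  -- B-property
  have hBb := hB b hb
  rw [hO, le_bot_iff] at hBb
  have hcomm : ⁅pLayer 2 ↥(centralizer ({b} : Set G)), oddCore ↥(centralizer ({b} : Set G))⁆ = ⊥ :=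
    (Subgroup.map_eq_bot_iff_of_injective _ (centralizer ({b} : Set G)).subtype_injective).mp hBb
  exact hle2.trans (mc3 hcomm)

/-- MC2. `K ≤ E(C_G(b))` (L-balance S1301 + B-property). -/
theorem mc2 {G : Type u} [Group G] [Finite G] (hO : oddCore G = ⊥) (hB : HasBProperty G) (a b : G)
    (ha : orderOf a = 2) (hb : orderOf b = 2) (hab : a * b = b * a) (K : Subgroup G)
    (hKa : K ≤ centralizer ({a} : Set G)) (hKb : K ≤ centralizer ({b} : Set G))
    (hK : IsComponent (K.subgroupOf (centralizer ({a} : Set G)))) (heven : Even (Nat.card K)) :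
    K.subgroupOf (centralizer ({b} : Set G)) ≤ layer ↥(centralizer ({b} : Set G)) :=
  mc2_core (fun K hK he => mc1 K hK he) (fun a b hamem K hKa hKb hK => mc9 a b hamem K hKa hKb hK)
    hO hB a b ha hb hab K hKa hKb hK heven

end Cfsg.Agent.Lib.Helper22.Mc
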