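import Mathlib
import Cfsg.Agent.Lib.Helper22.FStar
import Cfsg.Agent.Lib.Helper91.Components

/-! # Mc hive (S1305, helper22), leaf MC5: the diagonal description when `J^a ≠ J`. -/

set_option autoImplicit false
open Cfsg Subgroup
open scoped commutatorElement

namespace Cfsg.Agent.Lib.Helper22.Mc

universe u

/-- commutators ignore factors that commute with everything in sight -/
theorem mc5_comm_elem {X : Type u} [Group X] (p p' d d' : X) (e1 : d * p' = p' * d)
    (e2 : d * d' = d' * d) (e3 : d' * p = p * d') :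
    ⁅p * d, p' * d'⁆ = ⁅p, p'⁆ := by
  have e3' : d' * p⁻¹ = p⁻¹ * d' := by
    calc d' * p⁻¹ = p⁻¹ * (p * d') * p⁻¹ := by group
      _ = p⁻¹ * (d' * p) * p⁻¹ := by rw [e3]
      _ = p⁻¹ * d' := by group
  rw [commutatorElement_def, commutatorElement_def]
  calc p * d * (p' * d') * (p * d)⁻¹ * (p' * d')⁻¹
      = p * ((d * p') * d') * d⁻¹ * p⁻¹ * d'⁻¹ * p'⁻¹ := by group
    _ = p * ((p' * d) * d') * d⁻¹ * p⁻¹ * d'⁻¹ * p'⁻¹ := by rw [e1]
    _ = p * p' * (d * d') * d⁻¹ * p⁻¹ * d'⁻¹ * p'⁻¹ := by group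
    _ = p * p' * (d' * d) * d⁻¹ * p⁻¹ * d'⁻¹ * p'⁻¹ := by rw [e2]
    _ = p * p' * (d' * p⁻¹) * d'⁻¹ * p'⁻¹ := by group
    _ = p * p' * (p⁻¹ * d') * d'⁻¹ * p'⁻¹ := by rw [e3']
    _ = p * p' * p⁻¹ * p'⁻¹ := by group

/-- MC5. Diagonal description when `J^a ≠ J`. -/
theorem mc5 {X : Type u} [Group X] [Finite X] (a : X) (ha : a ^ 2 = 1) (K J : Subgroup X)
    (hJ : IsComponent J) (hJa : J.map (MulAut.conj a).toMonoidHom ≠ J)
    (hKa : K ≤ centralizer ({a} : Set X))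
    (hK : IsComponent (K.subgroupOf (centralizer ({a} : Set X))))
    (hKN : K ≤ J ⊔ J.map (MulAut.conj a).toMonoidHom) :
    ∀ k, k ∈ K ↔ ∃ x ∈ J, k = x * (a * x * a⁻¹) := by
  have haa : a * a = 1 := by rw [← pow_two]; exact ha
  have hainv : a⁻¹ = a := inv_eq_iff_mul_eq_one.mpr haa
  have hJa_comp : IsComponent (J.map (MulAut.conj a).toMonoidHom) :=
    Cfsg.Agent.Lib.Helper22.isComponent_map_equiv (MulAut.conj a) hJ
  have hcomm : ∀ x ∈ J, ∀ y ∈ J.map (MulAut.conj a).toMonoidHom, x * y = y * x :=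
    Cfsg.Agent.Lib.Helper91.component_commute_of_ne hJ hJa_comp (Ne.symm hJa)
  have hmemJa : ∀ x ∈ J, a * x * a⁻¹ ∈ J.map (MulAut.conj a).toMonoidHom :=
    fun x hx => ⟨x, hx, rfl⟩
  have hcc : ∀ x : X, a * (a * x * a⁻¹) * a⁻¹ = x := by
    intro x
    calc a * (a * x * a⁻¹) * a⁻¹ = (a * a) * x * (a * a)⁻¹ := by group
      _ = x := by rw [haa]; group
  have hmemJ : ∀ y ∈ J.map (MulAut.conj a).toMonoidHom, a * y * a⁻¹ ∈ J := by
    rintro _ ⟨x, hx, rfl⟩
    show a * (a * x * a⁻¹) * a⁻¹ ∈ J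
    rw [hcc]; exact hx
  -- the diagonal homomorphism
  let φ : ↥J →* X :=
    { toFun := fun x => (x : X) * (a * x * a⁻¹)
      map_one' := by simp
      map_mul' := fun x x' => by
        have hc : (x' : X) * (a * x * a⁻¹) = (a * x * a⁻¹) * x' :=
          hcomm x' x'.2 _ (hmemJa x x.2)
        show ((x : X) * x') * (a * ((x : X) * x') * a⁻¹) =
          (x : X) * (a * x * a⁻¹) * ((x' : X) * (a * x' * a⁻¹))
        calc ((x : X) * x') * (a * ((x : X) * x') * a⁻¹)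
            = (x : X) * ((x' : X) * (a * x * a⁻¹)) * (a * x' * a⁻¹) := by group
          _ = (x : X) * ((a * x * a⁻¹) * x') * (a * x' * a⁻¹) := by rw [hc]
          _ = (x : X) * (a * x * a⁻¹) * ((x' : X) * (a * x' * a⁻¹)) := by group }
  have hφ : ∀ x : ↥J, φ x = (x : X) * (a * x * a⁻¹) := fun _ => rfl
  have hφa : ∀ x : ↥J, φ x * a = a * φ x := by
    intro x
    have hc : (x : X) * (a * x * a⁻¹) = (a * x * a⁻¹) * x := hcomm x x.2 _ (hmemJa x x.2)
    rw [hφ]
    calc (x : X) * (a * x * a⁻¹) * a = (a * x * a⁻¹) * x * a := by rw [hc]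
      _ = a * ((x : X) * (a⁻¹ * x * a)) := by group
      _ = a * ((x : X) * (a * x * a⁻¹)) := by rw [hainv]
  -- decomposition of the elements of `C_N(a)`
  have hdec : ∀ g ∈ J ⊔ J.map (MulAut.conj a).toMonoidHom, g * a = a * g →
      ∃ x : ↥J, ∃ d : X, (∀ w ∈ J ⊔ J.map (MulAut.conj a).toMonoidHom, d * w = w * d) ∧
        d ∈ J ⊔ J.map (MulAut.conj a).toMonoidHom ∧ g = φ x * d := by
    intro g hg hga
    obtain ⟨x, hx, y, hy, rfl⟩ :=
      Cfsg.Agent.Lib.Helper91.exists_mul_of_mem_sup_of_commute hcomm hg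
    -- `d = y * (a x a⁻¹)⁻¹ = x⁻¹ * (a y a⁻¹)`
    have hx' := hmemJa x hx
    have hy' := hmemJ y hy
    have hconj : (a * x * a⁻¹) * (a * y * a⁻¹) = x * y := by
      calc (a * x * a⁻¹) * (a * y * a⁻¹) = a * (x * y) * a⁻¹ := by group
        _ = (x * y * a) * a⁻¹ := by rw [hga]
        _ = x * y := by group
    have hc1 : (a * y * a⁻¹) * (a * x * a⁻¹) = (a * x * a⁻¹) * (a * y * a⁻¹) :=
      hcomm _ hy' _ hx'
    have hd_eq : y * (a * x * a⁻¹)⁻¹ = x⁻¹ * (a * y * a⁻¹) := by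
      have h1 : x * y = (a * y * a⁻¹) * (a * x * a⁻¹) := by rw [hc1, hconj]
      calc y * (a * x * a⁻¹)⁻¹ = x⁻¹ * (x * y) * (a * x * a⁻¹)⁻¹ := by group
        _ = x⁻¹ * ((a * y * a⁻¹) * (a * x * a⁻¹)) * (a * x * a⁻¹)⁻¹ := by rw [h1]
        _ = x⁻¹ * (a * y * a⁻¹) := by group
    have hdJa : y * (a * x * a⁻¹)⁻¹ ∈ J.map (MulAut.conj a).toMonoidHom :=
      Subgroup.mul_mem _ hy (Subgroup.inv_mem _ hx')
    have hdJ : y * (a * x * a⁻¹)⁻¹ ∈ J := by
      rw [hd_eq]; exact J.mul_mem (J.inv_mem hx) hy'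
    have hdcent : ∀ w ∈ J ⊔ J.map (MulAut.conj a).toMonoidHom,
        (y * (a * x * a⁻¹)⁻¹) * w = w * (y * (a * x * a⁻¹)⁻¹) := by
      intro w hw
      have hle : J ⊔ J.map (MulAut.conj a).toMonoidHom ≤
          centralizer ({y * (a * x * a⁻¹)⁻¹} : Set X) := by
        apply sup_le
        · intro w hw
          rw [mem_centralizer_singleton_iff]
          exact hcomm w hw _ hdJa
        · intro w hw
          rw [mem_centralizer_singleton_iff]
          exact (hcomm _ hdJ w hw).symm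
      exact (mem_centralizer_singleton_iff.mp (hle hw)).symm
    refine ⟨⟨x, hx⟩, y * (a * x * a⁻¹)⁻¹, hdcent, (le_sup_left : J ≤ _) hdJ, ?_⟩
    rw [hφ]
    have hc2 : (y * (a * x * a⁻¹)⁻¹) * (a * x * a⁻¹) = (a * x * a⁻¹) * (y * (a * x * a⁻¹)⁻¹) :=
      hcomm _ hdJ _ hx'
    show x * y = x * (a * x * a⁻¹) * (y * (a * x * a⁻¹)⁻¹)
    calc x * y = x * ((y * (a * x * a⁻¹)⁻¹) * (a * x * a⁻¹)) := by group
      _ = x * ((a * x * a⁻¹) * (y * (a * x * a⁻¹)⁻¹)) := by rw [hc2]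
      _ = x * (a * x * a⁻¹) * (y * (a * x * a⁻¹)⁻¹) := by group
  have hφN : ∀ x : ↥J, φ x ∈ J ⊔ J.map (MulAut.conj a).toMonoidHom := by
    intro x
    rw [hφ]
    exact Subgroup.mul_mem _ ((le_sup_left : J ≤ _) x.2) ((le_sup_right : _ ≤ J ⊔ _) (hmemJa x x.2))
  -- `K` is quasisimple, in particular perfect
  have hKq : IsQuasisimple ↥K :=
    Cfsg.Agent.Lib.Helper91.isQuasisimple_of_mulEquiv (Subgroup.subgroupOfEquivOfLe hKa) hK.2
  have hKperf : ⁅K, K⁆ = K := by
    have := hKq.1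
    exact Subgroup.commutator_eq_self
  -- `K ≤ range φ`
  have hKle : K ≤ φ.range := by
    rw [← hKperf, Subgroup.commutator_le]
    intro g hg g' hg'
    have hga : g * a = a * g := mem_centralizer_singleton_iff.mp (hKa hg)
    have hga' : g' * a = a * g' := mem_centralizer_singleton_iff.mp (hKa hg')
    obtain ⟨x, d, hd, hdN, rfl⟩ := hdec g (hKN hg) hga
    obtain ⟨x', d', hd', hdN', rfl⟩ := hdec g' (hKN hg') hga'
    rw [mc5_comm_elem (φ x) (φ x') d d' (hd _ (hφN x')) (hd _ hdN') (hd' _ (hφN x))]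
    rw [← map_commutatorElement]
    exact ⟨_, rfl⟩
  intro k
  constructor
  · intro hk
    obtain ⟨x, hx⟩ := hKle hk
    exact ⟨x, x.2, hx.symm⟩
  · rintro ⟨x, hx, rfl⟩
    -- the preimage of `K` under `φ` is subnormal in `J`
    let φ' : ↥J →* ↥(centralizer ({a} : Set X)) :=
      φ.codRestrict (centralizer ({a} : Set X)) (fun x => mem_centralizer_singleton_iff.mpr (hφa x))
    have hsub : ((K.subgroupOf (centralizer ({a} : Set X))).comap φ').IsSubnormal :=
      hK.1.comap φ'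
    rcases Cfsg.Agent.Lib.Helper91.isSubnormal_eq_top_or_le_center_of_isQuasisimple hJ.2 hsub
      with htop | hcen
    · have hmem : (⟨x, hx⟩ : ↥J) ∈ (K.subgroupOf (centralizer ({a} : Set X))).comap φ' := by
        rw [htop]; exact Subgroup.mem_top _
      rw [Subgroup.mem_comap, Subgroup.mem_subgroupOf] at hmem
      exact hmem
    · exfalso
      -- `K` is abelian
      have hab : ∀ k ∈ K, ∀ k' ∈ K, k * k' = k' * k := by
        intro k hk k' hk'
        obtain ⟨x, rfl⟩ := hKle hk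
        obtain ⟨x', rfl⟩ := hKle hk'
        have hxP : x ∈ (K.subgroupOf (centralizer ({a} : Set X))).comap φ' := by
          rw [Subgroup.mem_comap, Subgroup.mem_subgroupOf]; exact hk
        have hxc := hcen hxP
        rw [Subgroup.mem_center_iff] at hxc
        rw [← map_mul, ← map_mul, hxc x']
      have hbot : ⁅K, K⁆ = ⊥ := by
        rw [Subgroup.commutator_eq_bot_iff_le_centralizer]
        intro k hk
        rw [Subgroup.mem_centralizer_iff]
        intro k' hk'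
        exact hab k' hk' k hk
      rw [hKperf] at hbot
      have hnt := Cfsg.Agent.Lib.Helper91.nontrivial_of_isQuasisimple hKq
      rw [hbot] at hnt
      exact not_nontrivial _ hnt

end Cfsg.Agent.Lib.Helper22.Mc
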