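import Mathlib
import Cfsg.Agent.Lib.Helper17.SylowTools

set_option autoImplicit false

namespace Cfsg.Agent.Lib.Helper70

open Subgroup

section general

variable {G : Type*} [Group G]

/-- a subgroup of order `p ^ k` in a group of order `p ^ k * m`, `p ∤ m`, is a Sylow subgroup -/
theorem oa_exists_sylow [Finite G] {p k m : ℕ} [hp : Fact p.Prime] (h : Nat.card G = p ^ k * m)
    (hm : ¬ p ∣ m) (P : Subgroup G) (hP : Nat.card P = p ^ k) :
    ∃ Q : Sylow p G, (Q : Subgroup G) = P := by
  have hPp : IsPGroup p P := IsPGroup.of_card hP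
  obtain ⟨Q, hQ⟩ := hPp.exists_le_sylow
  refine ⟨Q, ?_⟩
  have hc := Cfsg.Agent.Lib.Helper17.card_sylow_of_card_eq Q h hm
  exact (Subgroup.eq_of_le_of_card_ge hQ (by rw [hc, hP])).symm

/-- in a subgroup of order three every nonidentity element is `x` or `x⁻¹` -/
theorem oa_three_cases (Q : Subgroup G) (hQ : Nat.card Q = 3) {x y : G} (hx : x ∈ Q) (hy : y ∈ Q)
    (hx1 : x ≠ 1) : y = 1 ∨ y = x ∨ y = x⁻¹ := by
  have : Finite Q := Nat.finite_of_card_ne_zero (by rw [hQ]; norm_num)
  have ho : orderOf x = 3 := by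
    have h1 : orderOf (⟨x, hx⟩ : Q) ∣ 3 := hQ ▸ orderOf_dvd_natCard _
    have h2 : orderOf (⟨x, hx⟩ : Q) = orderOf x := Subgroup.orderOf_mk x hx
    rw [h2] at h1
    rcases (Nat.dvd_prime Nat.prime_three).mp h1 with h | h
    · exact absurd (orderOf_eq_one_iff.mp h) hx1
    · exact h
  have hz : Subgroup.zpowers x = Q := by
    apply Subgroup.eq_of_le_of_card_ge
    · exact (Subgroup.zpowers_le).mpr hx
    · rw [Nat.card_zpowers, ho, hQ]
  rw [← hz] at hy
  obtain ⟨k, rfl⟩ := Subgroup.mem_zpowers_iff.mp hy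
  have hk : x ^ k = x ^ (k % 3) := by
    have := zpow_mod_orderOf x k
    rw [ho] at this
    exact this.symm
  have h3 : x ^ (3 : ℤ) = 1 := by
    have := pow_orderOf_eq_one x
    rw [ho] at this
    exact_mod_cast this
  have hcases : k % 3 = 0 ∨ k % 3 = 1 ∨ k % 3 = 2 := by omega
  rcases hcases with h | h | h
  · left; rw [hk, h, zpow_zero]
  · right; left; rw [hk, h, zpow_one]
  · right; right
    rw [hk, h]
    have : x ^ (2 : ℤ) * x = 1 := by
      rw [← zpow_add_one]; exact h3
    exact eq_inv_of_mul_eq_one_left this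

/-- an element of odd order normalizing a subgroup of order three centralizes it -/
theorem oa_odd_centralizes [Finite G] (Q : Subgroup G) (hQ : Nat.card Q = 3) (n : G)
    (hn : n ∈ normalizer (Q : Set G)) (hodd : Odd (orderOf n)) :
    n ∈ centralizer (Q : Set G) := by
  rw [Subgroup.mem_centralizer_iff]
  intro x hx
  by_cases hx1 : x = 1
  · subst hx1; simp
  have hnx : n * x * n⁻¹ ∈ Q := (Subgroup.mem_normalizer_iff.mp hn x).mp hx
  have hne : n * x * n⁻¹ ≠ 1 := by
    intro h
    apply hx1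
    have : x = n⁻¹ * (n * x * n⁻¹) * n := by group
    rw [this, h]; group
  rcases oa_three_cases Q hQ hx hnx hx1 with h | h | h
  · exact absurd h hne
  · -- n x n⁻¹ = x
    have : n * x = x * n := by
      calc n * x = n * x * n⁻¹ * n := by group
        _ = x * n := by rw [h]
    exact this.symm
  · -- n x n⁻¹ = x⁻¹ : contradiction with odd order
    exfalso
    have hsq : n ^ 2 * x = x * n ^ 2 := by
      have h' : n * x = x⁻¹ * n := by
        calc n * x = n * x * n⁻¹ * n := by group
          _ = x⁻¹ * n := by rw [h]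
      have h'' : n * x⁻¹ = x * n := by
        have : n * x⁻¹ * n⁻¹ = (n * x * n⁻¹)⁻¹ := by group
        calc n * x⁻¹ = n * x⁻¹ * n⁻¹ * n := by group
          _ = x * n := by rw [this, h, inv_inv]
      calc n ^ 2 * x = n * (n * x) := by rw [pow_two, mul_assoc]
        _ = n * (x⁻¹ * n) := by rw [h']
        _ = (n * x⁻¹) * n := by rw [mul_assoc]
        _ = x * n * n := by rw [h'']
        _ = x * n ^ 2 := by rw [pow_two, mul_assoc]
    obtain ⟨k, hk⟩ := hodd
    have hn1 : n = (n ^ 2) ^ (k + 1) := by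
      have h1 : n ^ (2 * k + 1) = 1 := by rw [← hk]; exact pow_orderOf_eq_one n
      calc n = n ^ (2 * k + 1) * n := by rw [h1, one_mul]
        _ = (n ^ 2) ^ (k + 1) := by rw [← pow_succ, ← pow_mul]; congr 1
    have hcomm : Commute (n ^ 2) x := hsq
    have hcomm2 : Commute n x := by
      rw [hn1]; exact hcomm.pow_left _
    have hxx : n * x * n⁻¹ = x := by
      rw [hcomm2.eq]; group
    rw [hxx] at h
    -- x = x⁻¹ so x ^ 2 = 1
    have hx2 : x ^ 2 = 1 := by
      rw [pow_two]
      nth_rewrite 1 [h]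
      exact inv_mul_cancel x
    have ho : orderOf x ∣ 2 := orderOf_dvd_of_pow_eq_one hx2
    have ho3 : orderOf x ∣ 3 := by
      have h1 : orderOf (⟨x, hx⟩ : Q) ∣ 3 := hQ ▸ orderOf_dvd_natCard _
      rwa [Subgroup.orderOf_mk x hx] at h1
    have : orderOf x ∣ 1 := by
      have := Nat.dvd_gcd ho ho3
      simpa using this
    exact hx1 (orderOf_eq_one_iff.mp (Nat.dvd_one.mp this))

/-- the normalizer of a cyclic subgroup normalizes every intermediate subgroup containing the
centralizer of the generator -/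
theorem oa_normalizer_le_of_cyclic (x : G) (H : Subgroup G)
    (hC : centralizer ({x} : Set G) ≤ H) (hH : H ≤ normalizer (Subgroup.zpowers x : Set G)) :
    normalizer (Subgroup.zpowers x : Set G) ≤ normalizer (H : Set G) := by
  -- commutators of elements of the normalizer centralize x
  have key : ∀ a b : G, a ∈ normalizer (Subgroup.zpowers x : Set G) →
      b ∈ normalizer (Subgroup.zpowers x : Set G) → a * b * a⁻¹ * b⁻¹ ∈ centralizer ({x} : Set G) := by
    intro a b ha hb
    have ha' : a⁻¹ ∈ normalizer (Subgroup.zpowers x : Set G) := inv_mem ha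
    have hb' : b⁻¹ ∈ normalizer (Subgroup.zpowers x : Set G) := inv_mem hb
    obtain ⟨i, hi⟩ := Subgroup.mem_zpowers_iff.mp
      ((Subgroup.mem_normalizer_iff.mp ha' x).mp (Subgroup.mem_zpowers x))
    obtain ⟨j, hj⟩ := Subgroup.mem_zpowers_iff.mp
      ((Subgroup.mem_normalizer_iff.mp hb' x).mp (Subgroup.mem_zpowers x))
    simp only [inv_inv] at hi hj
    -- a⁻¹ x a = x^i, b⁻¹ x b = x^j
    have h1 : b⁻¹ * (a⁻¹ * x * a) * b = x ^ (j * i) := by
      rw [← hi]
      have : b⁻¹ * x ^ i * b = (b⁻¹ * x * b) ^ i := by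
        have := map_zpow (MulAut.conj b⁻¹) x i
        simp only [MulAut.conj_apply, inv_inv] at this
        exact this
      rw [this, ← hj, ← zpow_mul]
    have h2 : a⁻¹ * (b⁻¹ * x * b) * a = x ^ (i * j) := by
      rw [← hj]
      have : a⁻¹ * x ^ j * a = (a⁻¹ * x * a) ^ j := by
        have := map_zpow (MulAut.conj a⁻¹) x j
        simp only [MulAut.conj_apply, inv_inv] at this
        exact this
      rw [this, ← hi, ← zpow_mul]
    rw [Subgroup.mem_centralizer_iff]
    intro y hy
    rw [Set.mem_singleton_iff] at hy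
    subst hy
    have h3 : b⁻¹ * (a⁻¹ * y * a) * b = a⁻¹ * (b⁻¹ * y * b) * a := by
      rw [h1, h2, mul_comm]
    -- from h3: (a b a⁻¹ b⁻¹) commutes with y
    have h4 : y * (a * b * a⁻¹ * b⁻¹) = a * b * (b⁻¹ * (a⁻¹ * y * a) * b) * a⁻¹ * b⁻¹ := by group
    have h5 : a * b * a⁻¹ * b⁻¹ * y = a * b * (a⁻¹ * (b⁻¹ * y * b) * a) * a⁻¹ * b⁻¹ := by group
    rw [h4, h5, h3]
  intro n hn
  have hmem : ∀ g : G, g ∈ normalizer (Subgroup.zpowers x : Set G) → ∀ h ∈ H, g * h * g⁻¹ ∈ H := by
    intro g hg h hh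
    have h1 : g * h * g⁻¹ * h⁻¹ ∈ H := hC (key g h hg (hH hh))
    have : g * h * g⁻¹ = g * h * g⁻¹ * h⁻¹ * h := by group
    rw [this]
    exact H.mul_mem h1 hh
  rw [Subgroup.mem_normalizer_iff]
  intro h
  constructor
  · exact hmem n hn h
  · intro hh
    have := hmem n⁻¹ (inv_mem hn) _ hh
    have e : n⁻¹ * (n * h * n⁻¹) * n⁻¹⁻¹ = h := by group
    rwa [e] at this

/-- the preimage of a coatom under a surjective homomorphism is a coatom -/
theorem oa_isCoatom_comap {K : Type*} [Group K] (f : G →* K) (hf : Function.Surjective f)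
    (N : Subgroup K) (hN : IsCoatom N) : IsCoatom (N.comap f) := by
  constructor
  · intro h
    apply hN.1
    rw [eq_top_iff]
    intro k _
    obtain ⟨g, rfl⟩ := hf k
    have : g ∈ N.comap f := by rw [h]; trivial
    exact this
  · intro Y hY
    have hker : f.ker ≤ Y := le_trans (Subgroup.ker_le_comap f N) hY.le
    have h1 : N ≤ Y.map f := by
      intro k hk
      obtain ⟨g, rfl⟩ := hf k
      exact Subgroup.mem_map_of_mem f (hY.le hk)
    have h2 : N ≠ Y.map f := by
      intro h
      have : Y ≤ N.comap f := by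
        rw [h]; exact Subgroup.le_comap_map f Y
      exact absurd hY (not_lt_of_ge this)
    have h3 : Y.map f = ⊤ := hN.2 _ (lt_of_le_of_ne h1 h2)
    have h4 : (Y.map f).comap f = Y := by
      rw [Subgroup.comap_map_eq, sup_eq_left.mpr hker]
    rw [← h4, h3, Subgroup.comap_top]

end general

end Cfsg.Agent.Lib.Helper70
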