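import Mathlib
import Cfsg.Agent.Lib.Helper70.OrdA

set_option autoImplicit false

namespace Cfsg.Agent.Lib.Helper70

open Subgroup

set_option linter.unusedSectionVars false
set_option linter.style.haveILetI false

variable {G : Type*} [Group G] [Finite G] [IsSimpleGroup G]

/-- a proper subgroup of a simple group of order 1092 has order at most 84 -/
theorem ob_card_le (hG : Nat.card G = 1092) (X : Subgroup G) (hX : X ≠ ⊤) : Nat.card X ≤ 84 := by
  have h1 := Cfsg.Agent.Lib.Helper17.card_dvd_factorial_of_simple X hX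
  rw [hG] at h1
  have h13 : 13 ∣ (X.index).factorial := dvd_trans (by norm_num) h1
  have h2 : 13 ≤ X.index := (Nat.Prime.dvd_factorial (by norm_num)).mp h13
  have h3 := X.card_mul_index
  rw [hG] at h3
  nlinarith

theorem ob_card_dvd (hG : Nat.card G = 1092) (X : Subgroup G) : Nat.card X ∣ 1092 :=
  hG ▸ X.card_subgroup_dvd_card

/-- a proper subgroup of order divisible by `p ∈ {7, 13}` has a normal subgroup of order `p` -/
theorem ob_exists_normal (hG : Nat.card G = 1092) (X : Subgroup G) (hX : X ≠ ⊤) (p : ℕ)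
    (hp : p = 7 ∨ p = 13) (hpX : p ∣ Nat.card X) :
    ∃ P : Subgroup G, Nat.card P = p ∧ P ≤ X ∧ X ≤ normalizer (P : Set G) := by
  haveI : Fact p.Prime := ⟨by rcases hp with rfl | rfl <;> norm_num⟩
  have hle := ob_card_le hG X hX
  have hdvd := ob_card_dvd hG X
  obtain ⟨m, hm⟩ := hpX
  have hpm : ¬ p ∣ m := by
    rintro ⟨m', rfl⟩
    rw [hm] at hdvd
    rcases hp with rfl | rfl
    · have : (49 : ℕ) ∣ 1092 := dvd_trans ⟨m', by ring⟩ hdvd
      omega
    · have : (169 : ℕ) ∣ 1092 := dvd_trans ⟨m', by ring⟩ hdvd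
      omega
  obtain ⟨P'⟩ : Nonempty (Sylow p X) := inferInstance
  have hXc : Nat.card X = p ^ 1 * m := by rw [pow_one, hm]
  have hcP := Cfsg.Agent.Lib.Helper17.card_sylow_of_card_eq P' hXc hpm
  have hn_dvd := Cfsg.Agent.Lib.Helper17.card_sylow_dvd_of_card_eq (G := X) hXc hpm
  have hn_mod : Nat.card (Sylow p X) ≡ 1 [MOD p] := card_sylow_modEq_one p X
  have hm0 : 0 < m := by
    rcases Nat.eq_zero_or_pos m with h | h
    · rw [h, mul_zero] at hm
      have := Nat.card_pos (α := X)
      omega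
    · exact h
  have hn1 : Nat.card (Sylow p X) = 1 := by
    have hnle := Nat.le_of_dvd hm0 hn_dvd
    unfold Nat.ModEq at hn_mod
    rcases hp with rfl | rfl
    · -- p = 7 : m ≤ 12, m ∣ 156
      have hm12 : m ≤ 12 := by omega
      have hm156 : m ∣ 156 := by
        rw [hm] at hdvd
        have : 7 * m ∣ 7 * 156 := by simpa using hdvd
        exact Nat.dvd_of_mul_dvd_mul_left (by norm_num) this
      have hn8 : Nat.card (Sylow 7 X) = 1 ∨ Nat.card (Sylow 7 X) = 8 := by omega
      rcases hn8 with h | h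
      · exact h
      · exfalso
        rw [h] at hn_dvd
        obtain ⟨c, hc⟩ := hn_dvd
        have hc1 : c = 1 := by omega
        subst hc1
        rw [hc] at hm156
        omega
    · have hm6 : m ≤ 6 := by omega
      omega
  have hnorm : normalizer ((P' : Subgroup X) : Set X) = ⊤ := by
    have h := P'.card_eq_index_normalizer
    rw [hn1] at h
    exact Subgroup.index_eq_one.mp h.symm
  refine ⟨(P' : Subgroup X).map X.subtype, ?_, ?_, ?_⟩
  · rw [Subgroup.card_map_of_injective X.subtype_injective, hcP, pow_one]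
  · exact Subgroup.map_subtype_le _
  · have h := Subgroup.le_normalizer_map (H := (P' : Subgroup X)) X.subtype
    rw [hnorm] at h
    have h2 : (⊤ : Subgroup X).map X.subtype = X := by
      rw [← MonoidHom.range_eq_map, Subgroup.range_subtype]
    rw [h2] at h
    exact h

/-- a subgroup of order `p ∈ {7, 13}` contained in the normalizer of another one equals it -/
theorem ob_unique (hG : Nat.card G = 1092) (p : ℕ) (hp : p = 7 ∨ p = 13) (P P' : Subgroup G)
    (hP : Nat.card P = p) (hP' : Nat.card P' = p) (h : P' ≤ normalizer (P : Set G)) : P' = P := by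
  haveI : Fact p.Prime := ⟨by rcases hp with rfl | rfl <;> norm_num⟩
  have hG' : ∃ m, Nat.card G = p ^ 1 * m ∧ ¬ p ∣ m := by
    rcases hp with rfl | rfl
    · exact ⟨156, by rw [hG]; norm_num, by norm_num⟩
    · exact ⟨84, by rw [hG]; norm_num, by norm_num⟩
  obtain ⟨m, hm, hpm⟩ := hG'
  obtain ⟨Q, rfl⟩ := oa_exists_sylow hm hpm P (by rw [hP, pow_one])
  have hP'p : IsPGroup p P' := IsPGroup.of_card (n := 1) (by rw [hP', pow_one])
  have h1 := hP'p.inf_normalizer_sylow Q
  have h2 : P' ≤ (Q : Subgroup G) := by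
    have h3 : P' ≤ P' ⊓ normalizer ((Q : Subgroup G) : Set G) := le_inf le_rfl h
    have h4 : P' ≤ P' ⊓ (Q : Subgroup G) := h1 ▸ h3
    exact le_trans h4 inf_le_right
  exact Subgroup.eq_of_le_of_card_ge h2 (by rw [hP, hP'])

theorem ob_ne_top_of_card (hG : Nat.card G = 1092) (X : Subgroup G) (h : Nat.card X ≠ 1092) :
    X ≠ ⊤ := by
  rintro rfl
  apply h
  rw [Subgroup.card_top, hG]

theorem ob_ne_bot_of_card (X : Subgroup G) (h : Nat.card X ≠ 1) : X ≠ ⊥ := by
  rintro rfl
  apply h
  simp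

/-- the normalizer of a nontrivial proper subgroup is proper -/
theorem ob_normalizer_ne_top (X : Subgroup G) (h1 : X ≠ ⊥) (h2 : X ≠ ⊤) :
    normalizer (X : Set G) ≠ ⊤ := by
  intro h
  have hn : X.Normal := Subgroup.normalizer_eq_top_iff.mp h
  rcases hn.eq_bot_or_eq_top with h | h
  · exact h1 h
  · exact h2 h

/-- the order of the normalizer of a subgroup of order 13 -/
theorem ob_card_normalizer_13 (hG : Nat.card G = 1092) (P : Subgroup G) (hP : Nat.card P = 13) :
    Nat.card (normalizer (P : Set G)) = 78 := by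
  haveI : Fact (Nat.Prime 13) := ⟨by norm_num⟩
  have hm : Nat.card G = 13 ^ 1 * 84 := by rw [hG]; norm_num
  obtain ⟨Q, hQ⟩ := oa_exists_sylow hm (by norm_num) P (by rw [hP, pow_one])
  have h1 := Cfsg.Agent.Lib.Helper17.card_normalizer_mul_card_sylow Q
  rw [hQ, hG] at h1
  have hmod : Nat.card (Sylow 13 G) ≡ 1 [MOD 13] := card_sylow_modEq_one 13 G
  unfold Nat.ModEq at hmod
  have hne : normalizer (P : Set G) ≠ ⊤ :=
    ob_normalizer_ne_top P (ob_ne_bot_of_card P (by rw [hP]; norm_num))
      (ob_ne_top_of_card hG P (by rw [hP]; norm_num))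
  have hle := ob_card_le hG _ hne
  have hdvd : 13 ∣ Nat.card (normalizer (P : Set G)) := by
    rw [← hP]; exact Subgroup.card_dvd_of_le Subgroup.le_normalizer
  obtain ⟨j, hj⟩ := hdvd
  rw [hj] at h1 hle ⊢
  have hj6 : j ≤ 6 := by omega
  have hj0 : 0 < j := by
    rcases Nat.eq_zero_or_pos j with h | h
    · rw [h] at h1; omega
    · exact h
  have h2 : j * Nat.card (Sylow 13 G) = 84 := by nlinarith
  interval_cases j <;> omega

/-- the order of the normalizer of a subgroup of order 7 -/
theorem ob_card_normalizer_7 (hG : Nat.card G = 1092) (P : Subgroup G) (hP : Nat.card P = 7) :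
    Nat.card (normalizer (P : Set G)) = 14 := by
  haveI : Fact (Nat.Prime 7) := ⟨by norm_num⟩
  have hm : Nat.card G = 7 ^ 1 * 156 := by rw [hG]; norm_num
  obtain ⟨Q, hQ⟩ := oa_exists_sylow hm (by norm_num) P (by rw [hP, pow_one])
  have h1 := Cfsg.Agent.Lib.Helper17.card_normalizer_mul_card_sylow Q
  rw [hQ, hG] at h1
  have hmod : Nat.card (Sylow 7 G) ≡ 1 [MOD 7] := card_sylow_modEq_one 7 G
  unfold Nat.ModEq at hmod
  have hne : normalizer (P : Set G) ≠ ⊤ :=
    ob_normalizer_ne_top P (ob_ne_bot_of_card P (by rw [hP]; norm_num))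
      (ob_ne_top_of_card hG P (by rw [hP]; norm_num))
  have hle := ob_card_le hG _ hne
  have hdvd : 7 ∣ Nat.card (normalizer (P : Set G)) := by
    rw [← hP]; exact Subgroup.card_dvd_of_le Subgroup.le_normalizer
  obtain ⟨j, hj⟩ := hdvd
  rw [hj] at h1 hle ⊢
  have hj6 : j ≤ 12 := by omega
  have hj0 : 0 < j := by
    rcases Nat.eq_zero_or_pos j with h | h
    · rw [h] at h1; omega
    · exact h
  have h2 : j * Nat.card (Sylow 7 G) = 156 := by nlinarith
  interval_cases j <;> omega

/-- orders of proper subgroups -/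
theorem ob_card_proper (hG : Nat.card G = 1092) (X : Subgroup G) (hX : X ≠ ⊤) :
    (13 ∣ Nat.card X → Nat.card X ∣ 78) ∧ (7 ∣ Nat.card X → Nat.card X ∣ 14) ∧
      (¬ 13 ∣ Nat.card X → ¬ 7 ∣ Nat.card X → Nat.card X ∣ 12) := by
  refine ⟨?_, ?_, ?_⟩
  · intro h
    obtain ⟨P, hP, -, hXP⟩ := ob_exists_normal hG X hX 13 (Or.inr rfl) h
    rw [← ob_card_normalizer_13 hG P hP]
    exact Subgroup.card_dvd_of_le hXP
  · intro h
    obtain ⟨P, hP, -, hXP⟩ := ob_exists_normal hG X hX 7 (Or.inl rfl) h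
    rw [← ob_card_normalizer_7 hG P hP]
    exact Subgroup.card_dvd_of_le hXP
  · intro h13 h7
    have hd := ob_card_dvd hG X
    have hc1 : Nat.Coprime (Nat.card X) 13 :=
      ((Nat.Prime.coprime_iff_not_dvd (by norm_num)).mpr h13).symm
    have hc2 : Nat.Coprime (Nat.card X) 7 :=
      ((Nat.Prime.coprime_iff_not_dvd (by norm_num)).mpr h7).symm
    have h1 : Nat.card X ∣ 12 * 7 * 13 := by simpa using hd
    exact hc2.dvd_of_dvd_mul_right (hc1.dvd_of_dvd_mul_right h1)

/-- a proper subgroup of order divisible by four has order dividing twelve -/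
theorem ob_dvd_twelve (hG : Nat.card G = 1092) (X : Subgroup G) (hX : X ≠ ⊤)
    (h4 : 4 ∣ Nat.card X) : Nat.card X ∣ 12 := by
  obtain ⟨h13, h7, h⟩ := ob_card_proper hG X hX
  apply h
  · intro h'
    have := dvd_trans h4 (h13 h')
    omega
  · intro h'
    have := dvd_trans h4 (h7 h')
    omega

/-- subgroups of order twelve are maximal -/
theorem ob_isCoatom_of_card (hG : Nat.card G = 1092) (X : Subgroup G) (hX : Nat.card X = 12) :
    IsCoatom X := by
  refine ⟨ob_ne_top_of_card hG X (by rw [hX]; norm_num), ?_⟩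
  intro Y hY
  by_contra hne
  have h12 : 12 ∣ Nat.card Y := hX ▸ Subgroup.card_dvd_of_le hY.le
  have h4 : 4 ∣ Nat.card Y := dvd_trans (by norm_num) h12
  have hd := ob_dvd_twelve hG Y hne h4
  have hle : Nat.card Y ≤ 12 := Nat.le_of_dvd (by norm_num) hd
  have hlt : Nat.card X < Nat.card Y := by
    rcases lt_or_ge (Nat.card X) (Nat.card Y) with h | h
    · exact h
    · exact absurd (Subgroup.eq_of_le_of_card_ge hY.le h) hY.ne
  omega

end Cfsg.Agent.Lib.Helper70
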