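import Mathlib
import Cfsg.Agent.Lib.Helper70.OrdB

set_option autoImplicit false

namespace Cfsg.Agent.Lib.Helper70

open Subgroup

set_option linter.unusedSectionVars false
set_option linter.style.haveILetI false
set_option linter.deprecated false

variable {G : Type*} [Group G] [Finite G] [IsSimpleGroup G]

/-- the centralizer of a nonidentity element is proper -/
theorem oc_centralizer_ne_top (hG : Nat.card G = 1092) (x : G) (hx : x ≠ 1) :
    centralizer ({x} : Set G) ≠ ⊤ := by
  intro h
  have hxc : x ∈ Subgroup.center G := by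
    rw [Subgroup.mem_center_iff]
    intro g
    have hg : g ∈ centralizer ({x} : Set G) := by rw [h]; trivial
    exact (Subgroup.mem_centralizer_iff.mp hg x rfl).symm
  have hnc := Cfsg.Agent.Lib.Helper17.not_comm_of_simple_of_not_prime (G := G)
    (by rw [hG]; norm_num)
  rcases (inferInstance : (Subgroup.center G).Normal).eq_bot_or_eq_top with hc | hc
  · rw [hc, Subgroup.mem_bot] at hxc
    exact hx hxc
  · apply hnc
    refine ⟨⟨fun a b => ?_⟩⟩
    have ha : a ∈ Subgroup.center G := by rw [hc]; trivial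
    exact ((Subgroup.mem_center_iff.mp ha) b).symm

/-- the order of the normalizer of a subgroup of order 3 -/
theorem oc_card_normalizer_3 (hG : Nat.card G = 1092) (Q : Subgroup G) (hQ : Nat.card Q = 3) :
    Nat.card (normalizer (Q : Set G)) = 12 := by
  haveI : Fact (Nat.Prime 3) := ⟨by norm_num⟩
  have hm : Nat.card G = 3 ^ 1 * 364 := by rw [hG]; norm_num
  obtain ⟨Q', hQ'⟩ := oa_exists_sylow hm (by norm_num) Q (by rw [hQ, pow_one])
  have h1 := Cfsg.Agent.Lib.Helper17.card_normalizer_mul_card_sylow Q'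
  rw [hQ', hG] at h1
  have hmod : Nat.card (Sylow 3 G) ≡ 1 [MOD 3] := card_sylow_modEq_one 3 G
  unfold Nat.ModEq at hmod
  have hQb : Q ≠ ⊥ := ob_ne_bot_of_card Q (by rw [hQ]; norm_num)
  have hQt : Q ≠ ⊤ := ob_ne_top_of_card hG Q (by rw [hQ]; norm_num)
  have hne : normalizer (Q : Set G) ≠ ⊤ := ob_normalizer_ne_top Q hQb hQt
  have hle := ob_card_le hG _ hne
  obtain ⟨h13, h7, -⟩ := ob_card_proper hG _ hne
  have hburn := Cfsg.Agent.Lib.Helper17.not_normalizer_le_centralizer_of_simple Q'
    (by rw [hQ']; exact hQb) (by rw [hQ']; exact hQt)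
  rw [hQ'] at hburn
  have hodd : ¬ Odd (Nat.card (normalizer (Q : Set G))) := by
    intro ho
    apply hburn
    intro n hn
    apply oa_odd_centralizes Q hQ n hn
    have h2 : orderOf n ∣ Nat.card (normalizer (Q : Set G)) := by
      have := orderOf_dvd_natCard (⟨n, hn⟩ : normalizer (Q : Set G))
      rwa [Subgroup.orderOf_mk] at this
    exact Odd.of_dvd_nat ho h2
  have hdvd : 3 ∣ Nat.card (normalizer (Q : Set G)) := by
    rw [← hQ]; exact Subgroup.card_dvd_of_le Subgroup.le_normalizer
  obtain ⟨j, hj⟩ := hdvd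
  rw [hj] at h1 hle h13 h7 hodd ⊢
  have hj6 : j ≤ 28 := by omega
  have hj0 : 0 < j := by
    rcases Nat.eq_zero_or_pos j with h | h
    · rw [h] at h1; omega
    · exact h
  have h2 : j * Nat.card (Sylow 3 G) = 364 := by nlinarith
  have hcases : j = 1 ∨ j = 4 ∨ j = 7 ∨ j = 13 ∨ j = 28 := by
    interval_cases j <;> omega
  rcases hcases with rfl | rfl | rfl | rfl | rfl
  · exact absurd (by decide) hodd
  · rfl
  · have := h7 (by norm_num); omega
  · exact absurd (by decide) hodd
  · have := h7 (by norm_num); omega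

/-- the order of the normalizer of a subgroup of order 4 -/
theorem oc_card_normalizer_4 (hG : Nat.card G = 1092) (V : Subgroup G) (hV : Nat.card V = 4) :
    Nat.card (normalizer (V : Set G)) = 12 := by
  haveI : Fact (Nat.Prime 2) := ⟨by norm_num⟩
  have hm : Nat.card G = 2 ^ 2 * 273 := by rw [hG]; norm_num
  obtain ⟨V', hV'⟩ := oa_exists_sylow hm (by norm_num) V (by rw [hV]; norm_num)
  have hVb : V ≠ ⊥ := ob_ne_bot_of_card V (by rw [hV]; norm_num)
  have hVt : V ≠ ⊤ := ob_ne_top_of_card hG V (by rw [hV]; norm_num)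
  have hne : normalizer (V : Set G) ≠ ⊤ := ob_normalizer_ne_top V hVb hVt
  have h4 : 4 ∣ Nat.card (normalizer (V : Set G)) := by
    rw [← hV]; exact Subgroup.card_dvd_of_le Subgroup.le_normalizer
  have h12 := ob_dvd_twelve hG _ hne h4
  have hburn := Cfsg.Agent.Lib.Helper17.not_normalizer_le_centralizer_of_simple V'
    (by rw [hV']; exact hVb) (by rw [hV']; exact hVt)
  rw [hV'] at hburn
  have hcomm := IsPGroup.commutative_of_card_eq_prime_sq (p := 2) (G := V) (by rw [hV]; norm_num)
  by_contra hcon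
  have hc4 : Nat.card (normalizer (V : Set G)) = 4 := by
    have hle : Nat.card (normalizer (V : Set G)) ≤ 12 := Nat.le_of_dvd (by norm_num) h12
    obtain ⟨j, hj⟩ := h4
    rw [hj] at h12 hcon hle ⊢
    have : j ≤ 3 := by omega
    interval_cases j <;> omega
  have heq : V = normalizer (V : Set G) :=
    Subgroup.eq_of_le_of_card_ge Subgroup.le_normalizer (by rw [hc4, hV])
  apply hburn
  intro n hn
  rw [← heq] at hn
  rw [Subgroup.mem_centralizer_iff]
  intro v hv
  have := hcomm ⟨v, hv⟩ ⟨n, hn⟩
  exact congrArg Subtype.val this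

/-- every element of order 2 lies in a commutative subgroup of order 4 -/
theorem oc_exists_four (hG : Nat.card G = 1092) (t : G) (ht : orderOf t = 2) :
    ∃ V : Subgroup G, Nat.card V = 4 ∧ t ∈ V ∧ ∀ a ∈ V, ∀ b ∈ V, a * b = b * a := by
  haveI : Fact (Nat.Prime 2) := ⟨by norm_num⟩
  have hm : Nat.card G = 2 ^ 2 * 273 := by rw [hG]; norm_num
  have hz : IsPGroup 2 (Subgroup.zpowers t) :=
    IsPGroup.of_card (n := 1) (by rw [Nat.card_zpowers, ht, pow_one])
  obtain ⟨V', hV'⟩ := hz.exists_le_sylow
  have hc := Cfsg.Agent.Lib.Helper17.card_sylow_of_card_eq V' hm (by norm_num)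
  refine ⟨V', by rw [hc]; norm_num, hV' (Subgroup.mem_zpowers t), ?_⟩
  intro a ha b hb
  have hcomm := IsPGroup.commutative_of_card_eq_prime_sq (p := 2) (G := (V' : Subgroup G))
    (by rw [hc])
  exact congrArg Subtype.val (hcomm ⟨a, ha⟩ ⟨b, hb⟩)

/-- no element of order 2 or 3 commutes with an element of order 7 or 13 -/
theorem oc_no_commute (hG : Nat.card G = 1092) (x y : G) (p : ℕ) (hp : p = 7 ∨ p = 13)
    (hx : orderOf x = p) (hy : orderOf y = 2 ∨ orderOf y = 3) (hxy : Commute x y) : False := by
  have hpd : p ∣ Nat.card (Subgroup.zpowers x) := by rw [Nat.card_zpowers, hx]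
  rcases hy with hy | hy
  · -- order 2
    have hy1 : y ≠ 1 := by
      intro h; rw [h, orderOf_one] at hy; omega
    have hne := oc_centralizer_ne_top hG y hy1
    obtain ⟨V, hV4, hyV, hVc⟩ := oc_exists_four hG y hy
    have hVle : V ≤ centralizer ({y} : Set G) := by
      intro v hv
      rw [Subgroup.mem_centralizer_iff]
      intro z hz
      rw [Set.mem_singleton_iff] at hz
      subst hz
      exact hVc z hyV v hv
    have hxle : Subgroup.zpowers x ≤ centralizer ({y} : Set G) := by
      rw [Subgroup.zpowers_le, Subgroup.mem_centralizer_iff]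
      intro z hz
      rw [Set.mem_singleton_iff] at hz
      subst hz
      exact hxy.eq.symm
    have h4 : 4 ∣ Nat.card (centralizer ({y} : Set G)) := hV4 ▸ Subgroup.card_dvd_of_le hVle
    have h12 := ob_dvd_twelve hG _ hne h4
    have hp12 : p ∣ 12 := dvd_trans (dvd_trans hpd (Subgroup.card_dvd_of_le hxle)) h12
    rcases hp with rfl | rfl <;> omega
  · -- order 3
    have hQ : Nat.card (Subgroup.zpowers y) = 3 := by rw [Nat.card_zpowers, hy]
    have hN := oc_card_normalizer_3 hG _ hQ
    have hxle : Subgroup.zpowers x ≤ normalizer (Subgroup.zpowers y : Set G) := by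
      refine le_trans ?_ (Subgroup.centralizer_le_normalizer _)
      rw [Subgroup.zpowers_le, Subgroup.mem_centralizer_iff]
      intro z hz
      obtain ⟨k, rfl⟩ := Subgroup.mem_zpowers_iff.mp hz
      exact ((hxy.zpow_right k).eq).symm
    have hp12 : p ∣ 12 := hN ▸ dvd_trans hpd (Subgroup.card_dvd_of_le hxle)
    rcases hp with rfl | rfl <;> omega

/-- elements of order 7 and 13 are self-centralizing -/
theorem oc_centralizer_le (hG : Nat.card G = 1092) (x : G) (p : ℕ) (hp : p = 7 ∨ p = 13)
    (hx : orderOf x = p) : centralizer ({x} : Set G) ≤ Subgroup.zpowers x := by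
  have hpp : p.Prime := by rcases hp with rfl | rfl <;> norm_num
  have hP : Nat.card (Subgroup.zpowers x) = p := by rw [Nat.card_zpowers, hx]
  have hle : Subgroup.zpowers x ≤ centralizer ({x} : Set G) := by
    rw [Subgroup.zpowers_le, Subgroup.mem_centralizer_iff]
    intro z hz
    rw [Set.mem_singleton_iff] at hz
    subst hz
    rfl
  have hCN : centralizer ({x} : Set G) ≤ normalizer (Subgroup.zpowers x : Set G) := by
    refine le_trans ?_ (Subgroup.centralizer_le_normalizer _)
    intro c hc
    rw [Subgroup.mem_centralizer_iff] at hc ⊢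
    intro z hz
    obtain ⟨k, rfl⟩ := Subgroup.mem_zpowers_iff.mp hz
    have h1 : Commute x c := hc x rfl
    exact (h1.zpow_left k).eq
  have hno : ∀ r : ℕ, r = 2 ∨ r = 3 → ¬ r ∣ Nat.card (centralizer ({x} : Set G)) := by
    intro r hr hdvd
    haveI : Fact r.Prime := ⟨by rcases hr with rfl | rfl <;> norm_num⟩
    obtain ⟨c, hc⟩ := exists_prime_orderOf_dvd_card' r hdvd
    have hc' : orderOf (c : G) = r := by rw [Subgroup.orderOf_coe]; exact hc
    have hcomm : Commute x (c : G) := (Subgroup.mem_centralizer_iff.mp c.2 x rfl)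
    exact oc_no_commute hG x c p hp hx (by rcases hr with rfl | rfl <;> [left; right] <;> exact hc')
      hcomm
  have hdN : Nat.card (centralizer ({x} : Set G)) ∣ Nat.card (normalizer (Subgroup.zpowers x : Set G)) :=
    Subgroup.card_dvd_of_le hCN
  have h2 := hno 2 (Or.inl rfl)
  have h3 := hno 3 (Or.inr rfl)
  have hc2 : Nat.Coprime (Nat.card (centralizer ({x} : Set G))) 2 :=
    ((Nat.Prime.coprime_iff_not_dvd (by norm_num)).mpr h2).symm
  have hc3 : Nat.Coprime (Nat.card (centralizer ({x} : Set G))) 3 :=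
    ((Nat.Prime.coprime_iff_not_dvd (by norm_num)).mpr h3).symm
  have hcp : Nat.card (centralizer ({x} : Set G)) ∣ p := by
    rcases hp with rfl | rfl
    · rw [ob_card_normalizer_7 hG _ hP] at hdN
      have : Nat.card (centralizer ({x} : Set G)) ∣ 7 * 2 := by simpa using hdN
      exact hc2.dvd_of_dvd_mul_right this
    · rw [ob_card_normalizer_13 hG _ hP] at hdN
      have : Nat.card (centralizer ({x} : Set G)) ∣ 13 * 2 * 3 := by simpa using hdN
      exact hc2.dvd_of_dvd_mul_right (hc3.dvd_of_dvd_mul_right this)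
  have hcard : Nat.card (centralizer ({x} : Set G)) ≤ Nat.card (Subgroup.zpowers x) := by
    rw [hP]; exact Nat.le_of_dvd hpp.pos hcp
  exact (Subgroup.eq_of_le_of_card_ge hle hcard).symm.le

end Cfsg.Agent.Lib.Helper70
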