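import Mathlib
import Cfsg.Agent.Lib.Helper70.OrdC

set_option autoImplicit false

namespace Cfsg.Agent.Lib.Helper70

open Subgroup

set_option linter.unusedSectionVars false
set_option linter.style.haveILetI false
set_option linter.deprecated false

variable {G : Type*} [Group G] [Finite G] [IsSimpleGroup G]

/-- an involution commuting with an element of order three exists -/
theorem od_exists_commuting (hG : Nat.card G = 1092) :
    ∃ t x : G, orderOf t = 2 ∧ orderOf x = 3 ∧ Commute t x := by
  haveI : Fact (Nat.Prime 3) := ⟨by norm_num⟩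
  haveI : Fact (Nat.Prime 2) := ⟨by norm_num⟩
  obtain ⟨x, hx⟩ := exists_prime_orderOf_dvd_card' (G := G) 3 (by rw [hG]; norm_num)
  have hx1 : x ≠ 1 := by
    intro h; rw [h, orderOf_one] at hx; omega
  have hQ : Nat.card (Subgroup.zpowers x) = 3 := by rw [Nat.card_zpowers, hx]
  have hN := oc_card_normalizer_3 hG _ hQ
  have hCN : centralizer ({x} : Set G) ≤ normalizer (Subgroup.zpowers x : Set G) := by
    refine le_trans ?_ (Subgroup.centralizer_le_normalizer _)
    intro c hc
    rw [Subgroup.mem_centralizer_iff] at hc ⊢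
    intro z hz
    obtain ⟨k, rfl⟩ := Subgroup.mem_zpowers_iff.mp hz
    have h1 : Commute x c := hc x rfl
    exact (h1.zpow_left k).eq
  have hcases : ∀ n ∈ normalizer (Subgroup.zpowers x : Set G),
      n * x * n⁻¹ = x ∨ n * x * n⁻¹ = x⁻¹ := by
    intro n hn
    have h1 : n * x * n⁻¹ ∈ Subgroup.zpowers x :=
      (Subgroup.mem_normalizer_iff.mp hn x).mp (Subgroup.mem_zpowers x)
    have h2 : n * x * n⁻¹ ≠ 1 := by
      intro h
      apply hx1
      have : x = n⁻¹ * (n * x * n⁻¹) * n := by group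
      rw [this, h]; group
    rcases oa_three_cases _ hQ (Subgroup.mem_zpowers x) h1 hx1 with h | h | h
    · exact absurd h h2
    · exact Or.inl h
    · exact Or.inr h
  have hmemC : ∀ n : G, n * x * n⁻¹ = x → n ∈ centralizer ({x} : Set G) := by
    intro n h
    rw [Subgroup.mem_centralizer_iff]
    intro z hz
    rw [Set.mem_singleton_iff] at hz
    subst hz
    calc z * n = n * z * n⁻¹ * n := by rw [h]
      _ = n * z := by group
  have hdvdC : Nat.card (centralizer ({x} : Set G)) ∣ 12 := hN ▸ Subgroup.card_dvd_of_le hCN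
  have h2C : 2 ∣ Nat.card (centralizer ({x} : Set G)) := by
    by_cases hle : normalizer (Subgroup.zpowers x : Set G) ≤ centralizer ({x} : Set G)
    · have : centralizer ({x} : Set G) = normalizer (Subgroup.zpowers x : Set G) :=
        le_antisymm hCN hle
      rw [this, hN]; norm_num
    · obtain ⟨a, haN, haC⟩ := SetLike.not_le_iff_exists.mp hle
      have ha : a * x * a⁻¹ = x⁻¹ := by
        rcases hcases a haN with h | h
        · exact absurd (hmemC a h) haC
        · exact h
      have ha' : a⁻¹ * x⁻¹ * a = x := by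
        rw [← ha]; group
      have hsub : ((normalizer (Subgroup.zpowers x : Set G) : Subgroup G) : Set G) ⊆
          ((centralizer ({x} : Set G) : Subgroup G) : Set G) ∪
            (fun c => a * c) '' ((centralizer ({x} : Set G) : Subgroup G) : Set G) := by
        intro n hn
        rcases hcases n hn with h | h
        · exact Or.inl (hmemC n h)
        · right
          refine ⟨a⁻¹ * n, ?_, by group⟩
          apply hmemC
          calc a⁻¹ * n * x * (a⁻¹ * n)⁻¹ = a⁻¹ * (n * x * n⁻¹) * a := by group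
            _ = a⁻¹ * x⁻¹ * a := by rw [h]
            _ = x := ha'
      have hfin : (((centralizer ({x} : Set G) : Subgroup G) : Set G) ∪
            (fun c => a * c) '' ((centralizer ({x} : Set G) : Subgroup G) : Set G)).Finite :=
        Set.toFinite _
      have h1 := Set.ncard_le_ncard hsub hfin
      have h2 := Set.ncard_union_le ((centralizer ({x} : Set G) : Subgroup G) : Set G)
        ((fun c => a * c) '' ((centralizer ({x} : Set G) : Subgroup G) : Set G))
      have h3 := Set.ncard_image_le (f := fun c => a * c)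
        (s := ((centralizer ({x} : Set G) : Subgroup G) : Set G)) (Set.toFinite _)
      have h4 : ((normalizer (Subgroup.zpowers x : Set G) : Subgroup G) : Set G).ncard = 12 := by
        rw [← Nat.card_coe_set_eq]; exact hN
      have h5 : ((centralizer ({x} : Set G) : Subgroup G) : Set G).ncard =
          Nat.card (centralizer ({x} : Set G)) := by
        rw [← Nat.card_coe_set_eq]; rfl
      have h6 : 6 ≤ Nat.card (centralizer ({x} : Set G)) := by omega
      have h7 : Nat.card (centralizer ({x} : Set G)) ≤ 12 := Nat.le_of_dvd (by norm_num) hdvdC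
      obtain ⟨c, hc⟩ := hdvdC
      generalize Nat.card (centralizer ({x} : Set G)) = m at *
      have : c ≤ 2 := by nlinarith
      interval_cases c <;> omega
  obtain ⟨t, ht⟩ := exists_prime_orderOf_dvd_card' 2 h2C
  refine ⟨(t : G), x, by rw [Subgroup.orderOf_coe]; exact ht, hx, ?_⟩
  exact (Subgroup.mem_centralizer_iff.mp t.2 x rfl).symm

/-- a subgroup of order four is not central in its normalizer -/
theorem od_not_le_centralizer (hG : Nat.card G = 1092) (V : Subgroup G) (hV : Nat.card V = 4) :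
    ¬ normalizer (V : Set G) ≤ centralizer (V : Set G) := by
  haveI : Fact (Nat.Prime 2) := ⟨by norm_num⟩
  have hm : Nat.card G = 2 ^ 2 * 273 := by rw [hG]; norm_num
  obtain ⟨V', hV'⟩ := oa_exists_sylow hm (by norm_num) V (by rw [hV]; norm_num)
  have hVb : V ≠ ⊥ := ob_ne_bot_of_card V (by rw [hV]; norm_num)
  have hVt : V ≠ ⊤ := ob_ne_top_of_card hG V (by rw [hV]; norm_num)
  have hburn := Cfsg.Agent.Lib.Helper17.not_normalizer_le_centralizer_of_simple V'
    (by rw [hV']; exact hVb) (by rw [hV']; exact hVt)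
  rw [hV'] at hburn
  exact hburn

/-- the normalizer of a subgroup of order four is transitive on its nonidentity elements -/
theorem od_transitive (hG : Nat.card G = 1092) (V : Subgroup G) (hV : Nat.card V = 4)
    (s s' : G) (hs : s ∈ V) (hs' : s' ∈ V) (hs1 : s ≠ 1) (hs1' : s' ≠ 1) :
    ∃ n : G, n * s * n⁻¹ = s' := by
  haveI : Fact (Nat.Prime 3) := ⟨by norm_num⟩
  haveI : Fact (Nat.Prime 2) := ⟨by norm_num⟩
  have hN := oc_card_normalizer_4 hG V hV
  obtain ⟨y', hy'⟩ := exists_prime_orderOf_dvd_card' (G := normalizer (V : Set G)) 3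
    (by rw [hN]; norm_num)
  have hy : orderOf (y' : G) = 3 := by rw [Subgroup.orderOf_coe]; exact hy'
  have hyN : (y' : G) ∈ normalizer (V : Set G) := y'.2
  generalize (y' : G) = y at hy hyN
  have hcommV := IsPGroup.commutative_of_card_eq_prime_sq (p := 2) (G := V)
    (by rw [hV]; norm_num)
  have hex : ∃ v ∈ V, y * v * y⁻¹ ≠ v := by
    by_contra hcon
    push Not at hcon
    apply od_not_le_centralizer hG V hV
    have hD : centralizer (V : Set G) ≤ normalizer (V : Set G) :=
      Subgroup.centralizer_le_normalizer _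
    have hVD : V ≤ centralizer (V : Set G) := by
      intro v hv
      rw [Subgroup.mem_centralizer_iff]
      intro w hw
      exact congrArg Subtype.val (hcommV ⟨w, hw⟩ ⟨v, hv⟩)
    have hyD : Subgroup.zpowers y ≤ centralizer (V : Set G) := by
      rw [Subgroup.zpowers_le, Subgroup.mem_centralizer_iff]
      intro v hv
      have := hcon v hv
      calc v * y = y * v * y⁻¹ * y := by rw [this]
        _ = y * v := by group
    have h4 : 4 ∣ Nat.card (centralizer (V : Set G)) := hV ▸ Subgroup.card_dvd_of_le hVD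
    have h3 : 3 ∣ Nat.card (centralizer (V : Set G)) := by
      have := Subgroup.card_dvd_of_le hyD
      rwa [Nat.card_zpowers, hy] at this
    have h12 : 12 ∣ Nat.card (centralizer (V : Set G)) :=
      Nat.Coprime.mul_dvd_of_dvd_of_dvd (by norm_num : Nat.Coprime 4 3) h4 h3
    have hge : Nat.card (normalizer (V : Set G)) ≤ Nat.card (centralizer (V : Set G)) := by
      rw [hN]; exact Nat.le_of_dvd Nat.card_pos h12
    exact (Subgroup.eq_of_le_of_card_ge hD hge).symm.le
  obtain ⟨v, hvV, hv⟩ := hex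
  have hv1 : v ≠ 1 := by
    rintro rfl
    apply hv; group
  have hy3 : y ^ 3 = 1 := by rw [← hy]; exact pow_orderOf_eq_one y
  have hconjV : ∀ w ∈ V, y * w * y⁻¹ ∈ V := fun w hw =>
    (Subgroup.mem_normalizer_iff.mp hyN w).mp hw
  set c1 := y * v * y⁻¹ with hc1
  set c2 := y * c1 * y⁻¹ with hc2
  have hc3 : y * c2 * y⁻¹ = v := by
    rw [hc2, hc1]
    have h3' : y * y * y = 1 := by
      have : y ^ 3 = y * y * y := by simp [pow_succ]
      rw [← this]; exact hy3
    have : y * (y * (y * v * y⁻¹) * y⁻¹) * y⁻¹ = (y * y * y) * v * (y * y * y)⁻¹ := by group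
    rw [this, h3']; group
  have hc1V : c1 ∈ V := hconjV v hvV
  have hc2V : c2 ∈ V := hconjV c1 hc1V
  have hne01 : v ≠ c1 := fun h => hv h.symm
  have hne12 : c1 ≠ c2 := by
    intro h
    apply hne01
    have h' : y * v * y⁻¹ = y * c1 * y⁻¹ := h
    have : v = y⁻¹ * (y * v * y⁻¹) * y := by group
    rw [this, h']; group
  have hne02 : v ≠ c2 := by
    intro h
    apply hne01
    calc v = y * c2 * y⁻¹ := hc3.symm
      _ = y * v * y⁻¹ := by rw [← h]
      _ = c1 := rfl
  have hc11 : c1 ≠ 1 := by
    intro h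
    apply hv1
    have : v = y⁻¹ * c1 * y := by rw [hc1]; group
    rw [this, h]; group
  have hc21 : c2 ≠ 1 := by
    intro h
    apply hc11
    have : c1 = y⁻¹ * c2 * y := by rw [hc2]; group
    rw [this, h]; group
  have hT : ({v, c1, c2} : Set G) = (V : Set G) \ {1} := by
    apply Set.eq_of_subset_of_ncard_le
    · intro w hw
      rcases hw with rfl | rfl | rfl
      · exact ⟨hvV, hv1⟩
      · exact ⟨hc1V, hc11⟩
      · exact ⟨hc2V, hc21⟩
    · have h1 : ({v, c1, c2} : Set G).ncard = 3 :=
        Set.ncard_eq_three.mpr ⟨v, c1, c2, hne01, hne02, hne12, rfl⟩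
      have h2 : ((V : Set G) \ {1}).ncard = 3 := by
        rw [Set.ncard_diff_singleton_of_mem (V.one_mem), ← Nat.card_coe_set_eq]
        show Nat.card V - 1 = 3
        rw [hV]
      rw [h1, h2]
    · exact Set.toFinite _
  have hrep : ∀ w ∈ V, w ≠ 1 → ∃ k : ℕ, w = y ^ k * v * (y ^ k)⁻¹ := by
    intro w hw hw1
    have : w ∈ ({v, c1, c2} : Set G) := by rw [hT]; exact ⟨hw, hw1⟩
    rcases this with rfl | rfl | rfl
    · exact ⟨0, by simp⟩
    · exact ⟨1, by simp [hc1]⟩
    · refine ⟨2, ?_⟩
      have : y ^ 2 = y * y := by simp [pow_succ]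
      rw [hc2, hc1, this]; group
  obtain ⟨i, hi⟩ := hrep s hs hs1
  obtain ⟨j, hj⟩ := hrep s' hs' hs1'
  refine ⟨y ^ j * (y ^ i)⁻¹, ?_⟩
  rw [hi, hj]; group

/-- the order of the centralizer of an involution -/
theorem od_card_centralizer (hG : Nat.card G = 1092) (t : G) (ht : orderOf t = 2) :
    Nat.card (centralizer ({t} : Set G)) = 12 := by
  haveI : Fact (Nat.Prime 2) := ⟨by norm_num⟩
  have hm : Nat.card G = 2 ^ 2 * 273 := by rw [hG]; norm_num
  obtain ⟨t₀, x₀, ht₀, hx₀, hcomm⟩ := od_exists_commuting hG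
  obtain ⟨V, hV4, htV, hVc⟩ := oc_exists_four hG t ht
  obtain ⟨V₀, hV₀4, htV₀, -⟩ := oc_exists_four hG t₀ ht₀
  obtain ⟨V', hV'⟩ := oa_exists_sylow hm (by norm_num) V (by rw [hV4]; norm_num)
  obtain ⟨V₀', hV₀'⟩ := oa_exists_sylow hm (by norm_num) V₀ (by rw [hV₀4]; norm_num)
  obtain ⟨g, hg⟩ := MulAction.exists_smul_eq G V₀' V'
  have ht1 : t ≠ 1 := by
    intro h; rw [h, orderOf_one] at ht; omega
  have ht₀1 : t₀ ≠ 1 := by
    intro h; rw [h, orderOf_one] at ht₀; omega
  have hsV : g * t₀ * g⁻¹ ∈ V := by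
    rw [← hV', ← hg, Sylow.coe_subgroup_smul]
    have : t₀ ∈ (V₀' : Subgroup G) := by rw [hV₀']; exact htV₀
    have h2 := Subgroup.smul_mem_pointwise_smul t₀ (MulAut.conj g) _ this
    simpa [MulAut.smul_def] using h2
  have hs1 : g * t₀ * g⁻¹ ≠ 1 := by
    intro h
    apply ht₀1
    have : t₀ = g⁻¹ * (g * t₀ * g⁻¹) * g := by group
    rw [this, h]; group
  obtain ⟨n, hn⟩ := od_transitive hG V hV4 _ t hsV htV hs1 ht1
  set h := n * g with hh
  have hconj : h * t₀ * h⁻¹ = t := by
    rw [← hn, hh]; group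
  set z := h * x₀ * h⁻¹ with hz
  have hzo : orderOf z = 3 := by
    have : z = MulAut.conj h x₀ := by simp [hz]
    rw [this, MulEquiv.orderOf_eq]; exact hx₀
  have hzt : Commute t z := by
    rw [← hconj, hz]
    have h1 : t₀ * x₀ = x₀ * t₀ := hcomm.eq
    show h * t₀ * h⁻¹ * (h * x₀ * h⁻¹) = h * x₀ * h⁻¹ * (h * t₀ * h⁻¹)
    calc h * t₀ * h⁻¹ * (h * x₀ * h⁻¹) = h * (t₀ * x₀) * h⁻¹ := by group
      _ = h * (x₀ * t₀) * h⁻¹ := by rw [h1]
      _ = h * x₀ * h⁻¹ * (h * t₀ * h⁻¹) := by group
  have hne := oc_centralizer_ne_top hG t ht1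
  have hVle : V ≤ centralizer ({t} : Set G) := by
    intro v hv
    rw [Subgroup.mem_centralizer_iff]
    intro w hw
    rw [Set.mem_singleton_iff] at hw
    subst hw
    exact hVc w htV v hv
  have hzle : Subgroup.zpowers z ≤ centralizer ({t} : Set G) := by
    rw [Subgroup.zpowers_le, Subgroup.mem_centralizer_iff]
    intro w hw
    rw [Set.mem_singleton_iff] at hw
    subst hw
    exact hzt.eq
  have h4 : 4 ∣ Nat.card (centralizer ({t} : Set G)) := hV4 ▸ Subgroup.card_dvd_of_le hVle
  have h3 : 3 ∣ Nat.card (centralizer ({t} : Set G)) := by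
    have := Subgroup.card_dvd_of_le hzle
    rwa [Nat.card_zpowers, hzo] at this
  have h12 : 12 ∣ Nat.card (centralizer ({t} : Set G)) :=
    Nat.Coprime.mul_dvd_of_dvd_of_dvd (by norm_num : Nat.Coprime 4 3) h4 h3
  exact Nat.dvd_antisymm (ob_dvd_twelve hG _ hne h4) h12

end Cfsg.Agent.Lib.Helper70
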