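import Mathlib
import Cfsg.Agent.Lib.Helper70.OrdD

set_option autoImplicit false

namespace Cfsg.Agent.Lib.Helper70

open Subgroup

set_option linter.unusedSectionVars false
set_option linter.style.haveILetI false
set_option linter.deprecated false

variable {G : Type*} [Group G] [Finite G] [IsSimpleGroup G]

/-- a subgroup of prime order is generated by an element of that order -/
theorem oe_exists_gen (P : Subgroup G) (p : ℕ) (hp : p.Prime) (hP : Nat.card P = p) :
    ∃ x : G, orderOf x = p ∧ Subgroup.zpowers x = P := by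
  haveI : Fact p.Prime := ⟨hp⟩
  obtain ⟨x, hx⟩ := exists_prime_orderOf_dvd_card' (G := P) p (by rw [hP])
  refine ⟨(x : G), by rw [Subgroup.orderOf_coe]; exact hx, ?_⟩
  apply Subgroup.eq_of_le_of_card_ge
  · rw [Subgroup.zpowers_le]; exact x.2
  · rw [Nat.card_zpowers, Subgroup.orderOf_coe, hx, hP]

/-- the normalizer of a nontrivial `{2,3}`-subgroup has order prime to 7 and 13 -/
theorem oe_aux (hG : Nat.card G = 1092) (H : Subgroup G) (h1 : H ≠ ⊥) (h12 : Nat.card H ∣ 12)
    (p : ℕ) (hp : p = 7 ∨ p = 13) (hpN : p ∣ Nat.card (normalizer (H : Set G))) : False := by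
  have hpp : p.Prime := by rcases hp with rfl | rfl <;> norm_num
  have h2 : H ≠ ⊤ := ob_ne_top_of_card hG H (by
    intro h; rw [h] at h12; omega)
  have hNne := ob_normalizer_ne_top H h1 h2
  obtain ⟨P, hP, hPN, hNP⟩ := ob_exists_normal hG _ hNne p hp hpN
  obtain ⟨x, hx, rfl⟩ := oe_exists_gen P p hpp hP
  have hcop : Nat.Coprime (Nat.card H) (Nat.card (Subgroup.zpowers x)) := by
    rw [hP]
    apply Nat.Coprime.coprime_dvd_left h12
    rcases hp with rfl | rfl <;> norm_num
  have hinf : H ⊓ Subgroup.zpowers x = ⊥ := Subgroup.inf_eq_bot_of_coprime hcop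
  apply h1
  rw [eq_bot_iff]
  intro h hh
  have hxN : x ∈ normalizer (H : Set G) := hPN (Subgroup.mem_zpowers x)
  have hhN : h ∈ normalizer (Subgroup.zpowers x : Set G) := hNP (Subgroup.le_normalizer hh)
  have hc1 : h * x * h⁻¹ * x⁻¹ ∈ Subgroup.zpowers x := by
    apply Subgroup.mul_mem
    · exact (Subgroup.mem_normalizer_iff.mp hhN x).mp (Subgroup.mem_zpowers x)
    · exact inv_mem (Subgroup.mem_zpowers x)
  have hc2 : h * x * h⁻¹ * x⁻¹ ∈ H := by
    have : h * x * h⁻¹ * x⁻¹ = h * (x * h⁻¹ * x⁻¹) := by group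
    rw [this]
    apply Subgroup.mul_mem _ hh
    exact (Subgroup.mem_normalizer_iff.mp hxN h⁻¹).mp (inv_mem hh)
  have hc : h * x * h⁻¹ * x⁻¹ = 1 := by
    have : h * x * h⁻¹ * x⁻¹ ∈ H ⊓ Subgroup.zpowers x := ⟨hc2, hc1⟩
    rw [hinf] at this
    exact this
  have hcomm : x * h = h * x := by
    have : h * x = (h * x * h⁻¹ * x⁻¹) * (x * h) := by group
    rw [this, hc, one_mul]
  have hhC : h ∈ centralizer ({x} : Set G) := by
    rw [Subgroup.mem_centralizer_iff]
    intro z hz
    rw [Set.mem_singleton_iff] at hz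
    subst hz
    exact hcomm
  have hhP : h ∈ Subgroup.zpowers x := oc_centralizer_le hG x p hp hx hhC
  have : h ∈ H ⊓ Subgroup.zpowers x := ⟨hh, hhP⟩
  rw [hinf] at this
  exact this

/-- in a simple group of order 1092 every nontrivial proper subgroup has a maximal normalizer -/
theorem oe_main (hG : Nat.card G = 1092) (H : Subgroup G) (h1 : H ≠ ⊥) (h2 : H ≠ ⊤) :
    IsCoatom (normalizer (H : Set G)) := by
  have hNne := ob_normalizer_ne_top H h1 h2
  by_cases hcase : 13 ∣ Nat.card H ∨ 7 ∣ Nat.card H
  · obtain ⟨p, hp, hpH⟩ : ∃ p, (p = 7 ∨ p = 13) ∧ p ∣ Nat.card H := by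
      rcases hcase with h | h
      · exact ⟨13, Or.inr rfl, h⟩
      · exact ⟨7, Or.inl rfl, h⟩
    have hpp : p.Prime := by rcases hp with rfl | rfl <;> norm_num
    obtain ⟨P, hP, hPH, hHN⟩ := ob_exists_normal hG H h2 p hp hpH
    obtain ⟨x, hx, rfl⟩ := oe_exists_gen P p hpp hP
    have hle : normalizer (H : Set G) ≤ normalizer (Subgroup.zpowers x : Set G) := by
      have hpN : p ∣ Nat.card (normalizer (H : Set G)) :=
        dvd_trans hpH (Subgroup.card_dvd_of_le Subgroup.le_normalizer)
      obtain ⟨P', hP', hP'N, hNN⟩ := ob_exists_normal hG _ hNne p hp hpN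
      have := ob_unique hG p hp P' (Subgroup.zpowers x) hP' hP
        (le_trans hPH (le_trans Subgroup.le_normalizer hNN))
      rw [this]; exact hNN
    have hge : normalizer (Subgroup.zpowers x : Set G) ≤ normalizer (H : Set G) :=
      oa_normalizer_le_of_cyclic x H (le_trans (oc_centralizer_le hG x p hp hx) hPH) hHN
    have heq : normalizer (H : Set G) = normalizer (Subgroup.zpowers x : Set G) :=
      le_antisymm hle hge
    rw [heq]
    refine ⟨heq ▸ hNne, ?_⟩
    intro Y hY
    by_contra hYt
    have hpY : p ∣ Nat.card Y := by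
      have := Subgroup.card_dvd_of_le (le_trans Subgroup.le_normalizer hY.le)
      rwa [hP] at this
    obtain ⟨P'', hP'', hP''Y, hYN⟩ := ob_exists_normal hG Y hYt p hp hpY
    have := ob_unique hG p hp P'' (Subgroup.zpowers x) hP'' hP
      (le_trans Subgroup.le_normalizer (le_trans hY.le hYN))
    rw [← this] at hYN
    exact absurd hY (not_lt_of_ge hYN)
  · push Not at hcase
    have hd12 : Nat.card H ∣ 12 := (ob_card_proper hG H h2).2.2 hcase.1 hcase.2
    have hN12 : Nat.card (normalizer (H : Set G)) ∣ 12 := by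
      apply (ob_card_proper hG _ hNne).2.2
      · intro h13; exact oe_aux hG H h1 hd12 13 (Or.inr rfl) h13
      · intro h7; exact oe_aux hG H h1 hd12 7 (Or.inl rfl) h7
    suffices hs : 12 ∣ Nat.card (normalizer (H : Set G)) from
      ob_isCoatom_of_card hG _ (Nat.dvd_antisymm hN12 hs)
    have hcH : Nat.card H = 1 ∨ Nat.card H = 2 ∨ Nat.card H = 3 ∨ Nat.card H = 4 ∨
        Nat.card H = 6 ∨ Nat.card H = 12 := by
      have hle : Nat.card H ≤ 12 := Nat.le_of_dvd (by norm_num) hd12
      have hpos : 0 < Nat.card H := Nat.card_pos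
      generalize Nat.card H = m at *
      interval_cases m <;> omega
    rcases hcH with hc | hc | hc | hc | hc | hc
    · exact absurd (Subgroup.card_eq_one.mp hc) h1
    · -- order 2
      haveI : Fact (Nat.Prime 2) := ⟨by norm_num⟩
      obtain ⟨t, ht, rfl⟩ := oe_exists_gen H 2 (by norm_num) hc
      have h12 := od_card_centralizer hG t ht
      rw [← h12]
      apply Subgroup.card_dvd_of_le
      refine le_trans ?_ (Subgroup.centralizer_le_normalizer _)
      intro c hcm
      rw [Subgroup.mem_centralizer_iff] at hcm ⊢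
      intro z hz
      obtain ⟨k, rfl⟩ := Subgroup.mem_zpowers_iff.mp hz
      have h1' : Commute t c := hcm t rfl
      exact (h1'.zpow_left k).eq
    · rw [oc_card_normalizer_3 hG H hc]
    · rw [oc_card_normalizer_4 hG H hc]
    · -- order 6
      haveI : Fact (Nat.Prime 3) := ⟨by norm_num⟩
      obtain ⟨x', hx'⟩ := exists_prime_orderOf_dvd_card' (G := H) 3 (by rw [hc]; norm_num)
      have hx : orderOf (x' : G) = 3 := by rw [Subgroup.orderOf_coe]; exact hx'
      have hxH : (x' : G) ∈ H := x'.2
      generalize (x' : G) = x at hx hxH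
      have hQ : Nat.card (Subgroup.zpowers x) = 3 := by rw [Nat.card_zpowers, hx]
      have hQH : Subgroup.zpowers x ≤ H := by rw [Subgroup.zpowers_le]; exact hxH
      have hNQ := oc_card_normalizer_3 hG _ hQ
      have hidx1 : ((Subgroup.zpowers x).subgroupOf H).index = 2 := by
        have e1 : Nat.card ((Subgroup.zpowers x).subgroupOf H) = 3 := by
          rw [Nat.card_congr (Subgroup.subgroupOfEquivOfLe hQH).toEquiv, hQ]
        have e2 := ((Subgroup.zpowers x).subgroupOf H).index_mul_card
        rw [e1, hc] at e2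
        omega
      have hn1 : ((Subgroup.zpowers x).subgroupOf H).Normal :=
        Subgroup.normal_of_index_eq_two hidx1
      have hHNQ : H ≤ normalizer (Subgroup.zpowers x : Set G) :=
        (Subgroup.normal_subgroupOf_iff_le_normalizer hQH).mp hn1
      have hidx2 : (H.subgroupOf (normalizer (Subgroup.zpowers x : Set G))).index = 2 := by
        have e1 : Nat.card (H.subgroupOf (normalizer (Subgroup.zpowers x : Set G))) = 6 := by
          rw [Nat.card_congr (Subgroup.subgroupOfEquivOfLe hHNQ).toEquiv, hc]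
        have e2 := (H.subgroupOf (normalizer (Subgroup.zpowers x : Set G))).index_mul_card
        rw [e1, hNQ] at e2
        omega
      have hn2 : (H.subgroupOf (normalizer (Subgroup.zpowers x : Set G))).Normal :=
        Subgroup.normal_of_index_eq_two hidx2
      have hle : normalizer (Subgroup.zpowers x : Set G) ≤ normalizer (H : Set G) :=
        (Subgroup.normal_subgroupOf_iff_le_normalizer hHNQ).mp hn2
      rw [← hNQ]
      exact Subgroup.card_dvd_of_le hle
    · rw [← hc]
      exact Subgroup.card_dvd_of_le Subgroup.le_normalizer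

end Cfsg.Agent.Lib.Helper70
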