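import Mathlib
import Cfsg.Agent.Lib.Helper70.OrdE

set_option autoImplicit false

namespace Cfsg.Agent.Lib.Helper70

open Subgroup

set_option linter.unusedSectionVars false
set_option linter.style.haveILetI false
set_option linter.deprecated false

/-- every non-normal subgroup has a maximal normalizer -/
def MaxNormalizers (G : Type*) [Group G] : Prop :=
  ∀ H : Subgroup G, ¬ H.Normal → IsCoatom (normalizer (H : Set G))

/-- lifting the property through a surjection whose kernel does not affect normalizers -/
theorem of_lift {G K : Type*} [Group G] [Group K] (f : G →* K) (hf : Function.Surjective f)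
    (hP : ∀ (H : Subgroup G) (g : G),
      g ∈ normalizer ((H ⊔ f.ker : Subgroup G) : Set G) → g ∈ normalizer (H : Set G))
    (hK : MaxNormalizers K) : MaxNormalizers G := by
  intro H hH
  have h1 : ((H.map f).comap f) = H ⊔ f.ker := Subgroup.comap_map_eq f H
  have h2 : (normalizer ((H.map f : Subgroup K) : Set K)).comap f
      = normalizer (((H.map f).comap f : Subgroup G) : Set G) :=
    Subgroup.comap_normalizer_eq_of_surjective _ hf
  have h3 : normalizer (H : Set G) = normalizer ((H ⊔ f.ker : Subgroup G) : Set G) := by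
    apply le_antisymm
    · intro g hg
      have : f g ∈ normalizer ((H.map f : Subgroup K) : Set K) :=
        Subgroup.le_normalizer_map f (Subgroup.mem_map_of_mem f hg)
      have h4 : g ∈ (normalizer ((H.map f : Subgroup K) : Set K)).comap f := this
      rw [h2, h1] at h4
      exact h4
    · intro g hg
      exact hP H g hg
  have hnn : ¬ (H.map f).Normal := by
    intro hn
    apply hH
    have : ((H.map f).comap f).Normal := hn.comap f
    rw [h1] at this
    have h5 : normalizer ((H ⊔ f.ker : Subgroup G) : Set G) = ⊤ :=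
      Subgroup.normalizer_eq_top_iff.mpr this
    rw [← h3] at h5
    exact Subgroup.normalizer_eq_top_iff.mp h5
  have hco := oa_isCoatom_comap f hf _ (hK _ hnn)
  rw [h2, h1, ← h3] at hco
  exact hco

/-- one-sided criterion for membership in a normalizer -/
theorem of_mem_normalizer {G : Type*} [Group G] (H : Subgroup G) (N : Subgroup G)
    (key : ∀ g ∈ N, ∀ h ∈ H, g * h * g⁻¹ ∈ H) (g : G) (hg : g ∈ N) :
    g ∈ normalizer (H : Set G) := by
  rw [Subgroup.mem_normalizer_iff]
  intro h
  constructor
  · exact key g hg h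
  · intro hh
    have := key g⁻¹ (inv_mem hg) _ hh
    have e : g⁻¹ * (g * h * g⁻¹) * g⁻¹⁻¹ = h := by group
    rwa [e] at this

/-- components of elements of a subgroup of a coprime product -/
theorem of_prod_mem {K S : Type*} [Group K] [Group S] [Finite K] [Finite S]
    (hcop : (Nat.card K).Coprime (Nat.card S)) (H : Subgroup (K × S)) (w : K × S) (hw : w ∈ H) :
    ((w.1, 1) : K × S) ∈ H ∧ ((1, w.2) : K × S) ∈ H := by
  have hb := Nat.gcd_eq_gcd_ab (Nat.card S) (Nat.card K)
  rw [Nat.Coprime.gcd_eq_one hcop.symm] at hb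
  set A := Nat.gcdA (Nat.card S) (Nat.card K) with hA
  set B := Nat.gcdB (Nat.card S) (Nat.card K) with hB
  have h1K : ∀ a : K, a ^ (Nat.card K : ℤ) = 1 := by
    intro a; rw [zpow_natCast]; exact pow_card_eq_one'
  have h1S : ∀ b : S, b ^ (Nat.card S : ℤ) = 1 := by
    intro b; rw [zpow_natCast]; exact pow_card_eq_one'
  constructor
  · have hmem : w ^ ((Nat.card S : ℤ) * A) ∈ H := H.zpow_mem hw _
    have e : w ^ ((Nat.card S : ℤ) * A) = (w.1, 1) := by
      apply Prod.ext
      · show (w ^ ((Nat.card S : ℤ) * A)).1 = w.1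
        have : (w ^ ((Nat.card S : ℤ) * A)).1 = w.1 ^ ((Nat.card S : ℤ) * A) :=
          map_zpow (MonoidHom.fst K S) w _
        rw [this]
        have e2 : (Nat.card S : ℤ) * A = 1 - (Nat.card K : ℤ) * B := by
          have : ((1 : ℕ) : ℤ) = (Nat.card S : ℤ) * A + (Nat.card K : ℤ) * B := hb
          push_cast at this
          linarith
        rw [e2, zpow_sub, zpow_one, zpow_mul, h1K, one_zpow, inv_one, mul_one]
      · show (w ^ ((Nat.card S : ℤ) * A)).2 = 1
        have : (w ^ ((Nat.card S : ℤ) * A)).2 = w.2 ^ ((Nat.card S : ℤ) * A) :=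
          map_zpow (MonoidHom.snd K S) w _
        rw [this, zpow_mul, h1S, one_zpow]
    rwa [e] at hmem
  · have hmem : w ^ ((Nat.card K : ℤ) * B) ∈ H := H.zpow_mem hw _
    have e : w ^ ((Nat.card K : ℤ) * B) = (1, w.2) := by
      apply Prod.ext
      · show (w ^ ((Nat.card K : ℤ) * B)).1 = 1
        have : (w ^ ((Nat.card K : ℤ) * B)).1 = w.1 ^ ((Nat.card K : ℤ) * B) :=
          map_zpow (MonoidHom.fst K S) w _
        rw [this, zpow_mul, h1K, one_zpow]
      · show (w ^ ((Nat.card K : ℤ) * B)).2 = w.2
        have : (w ^ ((Nat.card K : ℤ) * B)).2 = w.2 ^ ((Nat.card K : ℤ) * B) :=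
          map_zpow (MonoidHom.snd K S) w _
        rw [this]
        have e2 : (Nat.card K : ℤ) * B = 1 - (Nat.card S : ℤ) * A := by
          have : ((1 : ℕ) : ℤ) = (Nat.card S : ℤ) * A + (Nat.card K : ℤ) * B := hb
          push_cast at this
          linarith
        rw [e2, zpow_sub, zpow_one, zpow_mul, h1S, one_zpow, inv_one, mul_one]
    rwa [e] at hmem

/-- the normalizer condition for the first projection of a coprime product with commutative
second factor -/
theorem of_fst_cond {K S : Type*} [Group K] [CommGroup S] [Finite K] [Finite S]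
    (hcop : (Nat.card K).Coprime (Nat.card S)) (H : Subgroup (K × S)) (g : K × S)
    (hg : g ∈ normalizer ((H ⊔ (MonoidHom.fst K S).ker : Subgroup (K × S)) : Set (K × S))) :
    g ∈ normalizer (H : Set (K × S)) := by
  apply of_mem_normalizer H _ _ g hg
  intro g hg h hh
  have h1 : g * h * g⁻¹ ∈ H ⊔ (MonoidHom.fst K S).ker :=
    (Subgroup.mem_normalizer_iff.mp hg h).mp (le_sup_left (a := H) hh)
  rw [← Subgroup.comap_map_eq, Subgroup.mem_comap, Subgroup.mem_map] at h1
  obtain ⟨h', hh', he⟩ := h1
  have e1 : h'.1 = g.1 * h.1 * g.1⁻¹ := by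
    have : (MonoidHom.fst K S) h' = (MonoidHom.fst K S) (g * h * g⁻¹) := he
    simpa using this
  have m1 := (of_prod_mem hcop H h' hh').1
  have m2 := (of_prod_mem hcop H h hh).2
  have : g * h * g⁻¹ = (h'.1, 1) * (1, h.2) := by
    apply Prod.ext
    · simp [e1]
    · simp
  rw [this]
  exact H.mul_mem m1 m2

/-- the normalizer condition for a central subgroup of order two generated by the unique
involution -/
theorem of_center_cond {K : Type*} [Group K] [Finite K] (Z : Subgroup K) [Z.Normal] (z : K)
    (hz : orderOf z = 2) (hZ : ∀ c ∈ Z, c = 1 ∨ c = z) (hcen : ∀ g : K, g * z = z * g)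
    (huniq : ∀ t : K, orderOf t = 2 → t = z) (H : Subgroup K) (g : K)
    (hg : g ∈ normalizer ((H ⊔ Z : Subgroup K) : Set K)) : g ∈ normalizer (H : Set K) := by
  apply of_mem_normalizer H _ _ g hg
  intro g hg h hh
  have h1 : g * h * g⁻¹ ∈ H ⊔ Z :=
    (Subgroup.mem_normalizer_iff.mp hg h).mp (le_sup_left (a := H) hh)
  have h2 : g * h * g⁻¹ ∈ ((H ⊔ Z : Subgroup K) : Set K) := h1
  rw [Subgroup.mul_normal H Z] at h2
  obtain ⟨h', hh', c, hc, he⟩ := Set.mem_mul.mp h2
  rcases hZ c hc with rfl | rfl
  · rw [mul_one] at he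
    rw [← he]; exact hh'
  · by_cases hzH : c ∈ H
    · rw [← he]; exact H.mul_mem hh' hzH
    · exfalso
      have hodd : ¬ 2 ∣ Nat.card H := by
        intro h2d
        haveI : Fact (Nat.Prime 2) := ⟨by norm_num⟩
        obtain ⟨t, ht⟩ := exists_prime_orderOf_dvd_card' (G := H) 2 h2d
        have : (t : K) = c := huniq _ (by rw [Subgroup.orderOf_coe]; exact ht)
        exact hzH (this ▸ t.2)
      have hpow : ∀ y ∈ H, y ^ Nat.card H = 1 := by
        intro y hy
        have : (⟨y, hy⟩ : H) ^ Nat.card H = 1 := pow_card_eq_one'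
        exact congrArg Subtype.val this
      have e1 : (g * h * g⁻¹) ^ Nat.card H = 1 := by
        rw [conj_pow, hpow h hh]; group
      have hcomm : Commute h' c := hcen h'
      have e2 : (h' * c) ^ Nat.card H = c ^ Nat.card H := by
        rw [hcomm.mul_pow, hpow h' hh', one_mul]
      rw [← he, e2] at e1
      have : orderOf c ∣ Nat.card H := orderOf_dvd_of_pow_eq_one e1
      rw [hz] at this
      exact hodd this

end Cfsg.Agent.Lib.Helper70
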