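import Mathlib
import Cfsg.Agent.Lib.Helper70.OrdF
import Cfsg.Agent.S0243

set_option autoImplicit false

namespace Cfsg.Agent.Lib.Helper70

open Subgroup

set_option linter.unusedSectionVars false
set_option linter.style.haveILetI false
set_option linter.deprecated false

instance og_fact13 : Fact (Nat.Prime 13) := ⟨by norm_num⟩

theorem og_card_psl :
    Nat.card (Matrix.ProjectiveSpecialLinearGroup (Fin 2) (ZMod 13)) = 1092 := by
  have h := Cfsg.Agent.S0243.result (F := ZMod 13) (q := 13) (by simp [ZMod.card]) 2 le_rfl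
  rw [Fin.prod_univ_two] at h
  simp only [Fin.val_zero, Fin.val_one, pow_zero, pow_one] at h
  generalize Nat.card (Matrix.ProjectiveSpecialLinearGroup (Fin 2) (ZMod 13)) = m at h ⊢
  norm_num at h
  omega

theorem og_simple : IsSimpleGroup (Matrix.ProjectiveSpecialLinearGroup (Fin 2) (ZMod 13)) :=
  Matrix.ProjectiveSpecialLinearGroup.rank_two_simple (by
    rw [Nat.card_eq_fintype_card, ZMod.card]; norm_num)

theorem og_max_psl : MaxNormalizers (Matrix.ProjectiveSpecialLinearGroup (Fin 2) (ZMod 13)) := by
  intro H hH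
  haveI := og_simple
  haveI : Finite (Matrix.ProjectiveSpecialLinearGroup (Fin 2) (ZMod 13)) :=
    Nat.finite_of_card_ne_zero (by rw [og_card_psl]; norm_num)
  apply oe_main og_card_psl H
  · rintro rfl; exact hH inferInstance
  · rintro rfl; exact hH inferInstance

/-- the unique involution of `SL₂(13)` -/
theorem og_unique_invol (t : Matrix.SpecialLinearGroup (Fin 2) (ZMod 13)) (ht : orderOf t = 2) :
    t = -1 := by
  have ht2 : t * t = 1 := by
    have := pow_orderOf_eq_one t
    rw [ht, pow_two] at this
    exact this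
  have ht1 : t ≠ 1 := by
    intro h; rw [h, orderOf_one] at ht; omega
  have hAA : (t : Matrix (Fin 2) (Fin 2) (ZMod 13)) * (t : Matrix (Fin 2) (Fin 2) (ZMod 13)) = 1 := by
    have := congrArg (fun x : Matrix.SpecialLinearGroup (Fin 2) (ZMod 13) =>
      (x : Matrix (Fin 2) (Fin 2) (ZMod 13))) ht2
    simpa using this
  have hdet : (t : Matrix (Fin 2) (Fin 2) (ZMod 13)).det = 1 := t.2
  rw [Matrix.det_fin_two] at hdet
  have h00 := congrFun (congrFun hAA 0) 0
  have h01 := congrFun (congrFun hAA 0) 1
  have h10 := congrFun (congrFun hAA 1) 0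
  have h11 := congrFun (congrFun hAA 1) 1
  simp only [Matrix.mul_apply, Fin.sum_univ_two, Matrix.one_apply_eq, Matrix.one_apply_ne,
    ne_eq, zero_ne_one, one_ne_zero, not_false_eq_true, Fin.isValue] at h00 h01 h10 h11
  set a := (t : Matrix (Fin 2) (Fin 2) (ZMod 13)) 0 0 with ha
  set b := (t : Matrix (Fin 2) (Fin 2) (ZMod 13)) 0 1 with hb
  set c := (t : Matrix (Fin 2) (Fin 2) (ZMod 13)) 1 0 with hc
  set d := (t : Matrix (Fin 2) (Fin 2) (ZMod 13)) 1 1 with hd
  have h2 : (2 : ZMod 13) ≠ 0 := by decide
  have has : a * (a + d) = 2 := by linear_combination h00 + hdet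
  have hds : d * (a + d) = 2 := by linear_combination h11 + hdet
  have hs : a + d ≠ 0 := by
    intro h; rw [h, mul_zero] at has; exact h2 has.symm
  have hb0 : b = 0 := by
    have : b * (a + d) = 0 := by linear_combination h01
    rcases mul_eq_zero.mp this with h | h
    · exact h
    · exact absurd h hs
  have hc0 : c = 0 := by
    have : c * (a + d) = 0 := by linear_combination h10
    rcases mul_eq_zero.mp this with h | h
    · exact h
    · exact absurd h hs
  have had : a = d := by
    have : (a - d) * (a + d) = 0 := by linear_combination has - hds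
    rcases mul_eq_zero.mp this with h | h
    · exact sub_eq_zero.mp h
    · exact absurd h hs
  have ha2 : (a - 1) * (a + 1) = 0 := by
    rw [hb0] at h00
    linear_combination h00
  rcases mul_eq_zero.mp ha2 with h | h
  · exfalso
    apply ht1
    have ha1 : a = 1 := sub_eq_zero.mp h
    apply Matrix.SpecialLinearGroup.ext
    intro i j
    fin_cases i <;> fin_cases j
    · simpa using ha1
    · simpa using hb0
    · simpa using hc0
    · simp only [Fin.mk_one, Fin.isValue, Matrix.SpecialLinearGroup.coe_one, Matrix.one_apply_eq]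
      rw [← hd, ← had, ha1]
  · have ha1 : a = -1 := eq_neg_of_add_eq_zero_left h
    apply Matrix.SpecialLinearGroup.ext
    intro i j
    fin_cases i <;> fin_cases j
    · simpa using ha1
    · simpa using hb0
    · simpa using hc0
    · simp only [Fin.mk_one, Fin.isValue, Matrix.SpecialLinearGroup.coe_neg,
        Matrix.SpecialLinearGroup.coe_one, Matrix.neg_apply, Matrix.one_apply_eq]
      rw [← hd, ← had, ha1]

theorem og_orderOf_neg_one :
    orderOf (-1 : Matrix.SpecialLinearGroup (Fin 2) (ZMod 13)) = 2 := by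
  apply orderOf_eq_prime
  · rw [pow_two]; simp
  · intro h
    have := congrArg (fun x : Matrix.SpecialLinearGroup (Fin 2) (ZMod 13) =>
      (x : Matrix (Fin 2) (Fin 2) (ZMod 13)) 0 0) h
    simp at this
    revert this
    decide

theorem og_center (c : Matrix.SpecialLinearGroup (Fin 2) (ZMod 13))
    (hc : c ∈ Subgroup.center (Matrix.SpecialLinearGroup (Fin 2) (ZMod 13))) :
    c = 1 ∨ c = -1 := by
  rw [Matrix.SpecialLinearGroup.mem_center_iff] at hc
  obtain ⟨r, hr, hrc⟩ := hc
  have hr2 : (r - 1) * (r + 1) = 0 := by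
    simp only [Fintype.card_fin] at hr
    linear_combination hr
  rcases mul_eq_zero.mp hr2 with h | h
  · left
    have hr1 : r = 1 := sub_eq_zero.mp h
    apply Matrix.SpecialLinearGroup.ext
    intro i j
    rw [← hrc, hr1]
    simp
  · right
    have hr1 : r = -1 := eq_neg_of_add_eq_zero_left h
    apply Matrix.SpecialLinearGroup.ext
    intro i j
    rw [← hrc, hr1]
    fin_cases i <;> fin_cases j <;> simp

theorem og_max_sl : MaxNormalizers (Matrix.SpecialLinearGroup (Fin 2) (ZMod 13)) := by
  haveI : Finite (Matrix.SpecialLinearGroup (Fin 2) (ZMod 13)) := inferInstance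
  refine of_lift (QuotientGroup.mk' (Subgroup.center (Matrix.SpecialLinearGroup (Fin 2) (ZMod 13))))
    (QuotientGroup.mk'_surjective _) ?_ og_max_psl
  intro H g hg
  rw [QuotientGroup.ker_mk'] at hg
  refine of_center_cond _ (-1) og_orderOf_neg_one og_center ?_ og_unique_invol H g hg
  intro g
  apply Matrix.SpecialLinearGroup.ext
  intro i j
  simp

/-- transport along an isomorphism -/
theorem og_of_equiv {K L : Type*} [Group K] [Group L] (e : K ≃* L) (hL : MaxNormalizers L) :
    MaxNormalizers K := by
  refine of_lift e.toMonoidHom e.surjective ?_ hL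
  intro H g hg
  have : e.toMonoidHom.ker = ⊥ := (MonoidHom.ker_eq_bot_iff _).mpr e.injective
  rw [this, sup_bot_eq] at hg
  exact hg

theorem og_final {K S : Type*} [Group K] [CommGroup S] [Finite K] [Finite S]
    (hK : Nonempty (K ≃* Matrix.ProjectiveSpecialLinearGroup (Fin 2) (ZMod 13)) ∨
      Nonempty (K ≃* Matrix.SpecialLinearGroup (Fin 2) (ZMod 13)))
    (hKS : (Nat.card K).Coprime (Nat.card S)) : MaxNormalizers (K × S) := by
  have hK' : MaxNormalizers K := by
    rcases hK with ⟨⟨e⟩⟩ | ⟨⟨e⟩⟩
    · exact og_of_equiv e og_max_psl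
    · exact og_of_equiv e og_max_sl
  exact of_lift (MonoidHom.fst K S) Prod.fst_surjective (of_fst_cond hKS) hK'

end Cfsg.Agent.Lib.Helper70
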