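import Mathlib
import Cfsg.Agent.Lib.Helper1.HallConj
import Cfsg.Agent.Lib.Helper60.ThreePrimes

set_option autoImplicit false

namespace Cfsg.Agent.Lib.Helper70

open Subgroup

/-- conjugation by a normalizing element as a self-map of the subgroup -/
def phConj {G : Type*} [Group G] (W : Subgroup G) (a : G) (ha : a ∈ normalizer (W : Set G)) :
    W → W :=
  fun w => ⟨a * w * a⁻¹, (mem_normalizer_iff.mp ha w).mp w.2⟩

theorem phConj_iterate {G : Type*} [Group G] (W : Subgroup G) (a : G)
    (ha : a ∈ normalizer (W : Set G))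
    (k : ℕ) (w : W) : (((phConj W a ha)^[k]) w : G) = a ^ k * w * (a ^ k)⁻¹ := by
  induction k generalizing w with
  | zero => simp
  | succ k ih =>
    rw [Function.iterate_succ', Function.comp_apply]
    change a * ((phConj W a ha)^[k] w : G) * a⁻¹ = _
    rw [ih, pow_succ']
    group

theorem ph_fix_modEq {G : Type*} [Group G] {r : ℕ} [hr : Fact r.Prime] (W : Subgroup G) [Finite W]
    (a : G) (ha : a ∈ normalizer (W : Set G)) (har : ∀ w ∈ W, a ^ r * w = w * a ^ r) :
    Nat.card W ≡ Nat.card (W ⊓ centralizer ({a} : Set G) : Subgroup G) [MOD r] := by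
  classical
  have : Fintype W := Fintype.ofFinite W
  let f : Function.End W := phConj W a ha
  have hf : f ^ r ^ 1 = 1 := by
    change (phConj W a ha)^[r ^ 1] = id
    funext w
    apply Subtype.ext
    rw [pow_one, phConj_iterate]
    change a ^ r * w * (a ^ r)⁻¹ = w
    rw [har w w.2]
    group
  have h1 := Equiv.Perm.card_fixedPoints_modEq hf
  rw [Nat.card_eq_fintype_card]
  refine h1.trans ?_
  rw [← Nat.card_eq_fintype_card]
  suffices hs : Nat.card (Function.fixedPoints f) = Nat.card (W ⊓ centralizer ({a} : Set G) : Subgroup G) by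
    rw [hs]
  change Nat.card (Function.fixedPoints (phConj W a ha)) = _
  refine Nat.card_congr ?_
  refine ⟨fun x => ⟨x.1.1, ⟨x.1.2, ?_⟩⟩, fun y => ⟨⟨y.1, y.2.1⟩, ?_⟩, fun x => rfl, fun y => rfl⟩
  · have hx := x.2
    rw [Function.mem_fixedPoints, Function.IsFixedPt] at hx
    have hx' : a * (x.1 : G) * a⁻¹ = x.1 := congrArg Subtype.val hx
    change (x.1 : G) ∈ centralizer ({a} : Set G)
    rw [mem_centralizer_iff]
    intro b hb
    rw [Set.mem_singleton_iff] at hb
    subst hb
    calc b * (x.1 : G) = b * (x.1 : G) * b⁻¹ * b := by group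
      _ = (x.1 : G) * b := by rw [hx']
  · rw [Function.mem_fixedPoints, Function.IsFixedPt]
    apply Subtype.ext
    change a * (y.1 : G) * a⁻¹ = y.1
    have hy : (y : G) ∈ centralizer ({a} : Set G) := y.2.2
    rw [mem_centralizer_iff] at hy
    have := hy a (Set.mem_singleton a)
    rw [this]; group


/-- `N` is a product of powers of `q` dividing `D`, each congruent to one modulo a prime divisor
of `m`. -/
def PhFac (q m D N : ℕ) : Prop :=
  ∃ l : List ℕ, l.prod = N ∧
    ∀ x ∈ l, (∃ e : ℕ, x = q ^ e) ∧ x ∣ D ∧ ∃ r : ℕ, r.Prime ∧ r ∣ m ∧ x ≡ 1 [MOD r]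

theorem PhFac.one (q m D : ℕ) : PhFac q m D 1 := ⟨[], rfl, by simp⟩

theorem PhFac.mono {q m m' D N : ℕ} (h : PhFac q m D N) (hm : m ∣ m') : PhFac q m' D N := by
  obtain ⟨l, hl, h⟩ := h
  refine ⟨l, hl, fun x hx => ?_⟩
  obtain ⟨h1, h2, r, hr, hrm, h3⟩ := h x hx
  exact ⟨h1, h2, r, hr, hrm.trans hm, h3⟩

theorem PhFac.cons {q m D N x : ℕ} (h : PhFac q m D N) (h1 : ∃ e : ℕ, x = q ^ e) (h2 : x ∣ D)
    (h3 : ∃ r : ℕ, r.Prime ∧ r ∣ m ∧ x ≡ 1 [MOD r]) : PhFac q m D (x * N) := by
  obtain ⟨l, hl, h⟩ := h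
  refine ⟨x :: l, by rw [List.prod_cons, hl], fun y hy => ?_⟩
  rcases List.mem_cons.mp hy with rfl | hy
  · exact ⟨h1, h2, h3⟩
  · exact h y hy

theorem ph_le_normalizer_of_conj_mem {G : Type*} [Group G] {A W : Subgroup G}
    (h : ∀ a ∈ A, ∀ w ∈ W, a * w * a⁻¹ ∈ W) : A ≤ normalizer (W : Set G) := by
  intro a ha
  rw [mem_normalizer_iff]
  intro w
  refine ⟨fun hw => h a ha w hw, fun hw => ?_⟩
  have := h a⁻¹ (A.inv_mem ha) _ hw
  simpa [mul_assoc] using this

theorem ph_eq_top_of_prime_index {A : Type*} [Group A] (M A₀ : Subgroup A) {ℓ : ℕ} (hℓ : ℓ.Prime)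
    (hM : M.index = ℓ) (hle : M ≤ A₀) (x : A) (hx : x ∈ A₀) (hxM : x ∉ M) : A₀ = ⊤ := by
  have h1 := relIndex_mul_index hle
  rw [hM] at h1
  have h2 : A₀.index ∣ ℓ := Dvd.intro_left _ h1
  rcases (Nat.dvd_prime hℓ).mp h2 with h3 | h3
  · exact index_eq_one.mp h3
  · exfalso
    rw [h3] at h1
    have h4 : M.relIndex A₀ = 1 := by
      have : M.relIndex A₀ * ℓ = 1 * ℓ := by rw [h1, one_mul]
      exact Nat.eq_of_mul_eq_mul_right hℓ.pos this
    exact hxM (relIndex_eq_one.mp h4 hx)

theorem ph_fac {G : Type*} [Group G] {q : ℕ} (hq : q.Prime) :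
    ∀ (n : ℕ) (A : Subgroup G), Finite A → Nat.card A = n → Group.IsSolvable A →
      ¬ q ∣ Nat.card A →
      ∀ V : Subgroup G, Finite V → IsPGroup q V → A ≤ normalizer (V : Set G) →
        PhFac q (Nat.card A) (Nat.card V) ((V ⊓ centralizer (A : Set G)).relIndex V) := by
  intro n
  induction n using Nat.strong_induction_on with
  | _ n ih =>
  intro A hAfin hAn hAs hqA V hVfin hV hAV
  by_cases hA1 : Nat.card A = 1
  · have hAbot : A = ⊥ := Subgroup.card_eq_one.mp hA1
    have hc : centralizer (A : Set G) = ⊤ := by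
      rw [eq_top_iff]
      intro x _
      rw [mem_centralizer_iff]
      intro y hy
      rw [hAbot] at hy
      have : y = 1 := by simpa using hy
      rw [this, one_mul, mul_one]
    rw [hc, inf_top_eq, relIndex_self]
    exact PhFac.one _ _ _
  · have hAnt : Nontrivial A := by
      apply Finite.one_lt_card_iff_nontrivial.mp
      have := Nat.card_pos (α := A)
      omega
    obtain ⟨M, ℓ, hMn, hℓ, hMi⟩ := Cfsg.Agent.Lib.Helper60.exists_normal_prime_index (G := A)
    have hℓF : Fact ℓ.Prime := ⟨hℓ⟩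
    set B : Subgroup G := M.map A.subtype with hB
    have hBA : B ≤ A := map_subtype_le M
    have hBcard : Nat.card B = Nat.card M := card_map_of_injective A.subtype_injective
    have hMA : Nat.card M * ℓ = Nat.card A := by rw [← hMi]; exact M.card_mul_index
    have hBfin : Finite B := Finite.of_injective (Subgroup.inclusion hBA) (inclusion_injective hBA)
    have hBlt : Nat.card B < n := by
      rw [← hAn, ← hMA, hBcard]
      have := Nat.card_pos (α := M)
      have := hℓ.one_lt
      nlinarith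
    have hBdvd : Nat.card B ∣ Nat.card A := by rw [hBcard, ← hMA]; exact Dvd.intro _ rfl
    have hBs : Group.IsSolvable B := Cfsg.Agent.Lib.Helper1.isSolvable_of_le hBA hAs
    have hqB : ¬ q ∣ Nat.card B := fun h => hqA (h.trans hBdvd)
    have hBV : B ≤ normalizer (V : Set G) := hBA.trans hAV
    have ih1 := (ih _ hBlt B hBfin rfl hBs hqB V hVfin hV hBV).mono hBdvd
    set W : Subgroup G := V ⊓ centralizer (B : Set G) with hW
    have hWV : W ≤ V := inf_le_left
    have hWfin : Finite W := Finite.of_injective (Subgroup.inclusion hWV) (inclusion_injective hWV)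
    -- `A` normalizes `B`
    have hAB : ∀ a ∈ A, ∀ b ∈ B, a⁻¹ * b * a ∈ B := by
      intro a ha b hb
      obtain ⟨b', hb', rfl⟩ := hb
      refine ⟨(⟨a, ha⟩ : A)⁻¹ * b' * ⟨a, ha⟩, ?_, by simp⟩
      have := hMn.conj_mem b' hb' (⟨a, ha⟩ : A)⁻¹
      simpa using this
    have hAW : A ≤ normalizer (W : Set G) := by
      apply ph_le_normalizer_of_conj_mem
      intro a ha w hw
      have hw' := mem_inf.mp hw
      refine mem_inf.mpr ⟨(mem_normalizer_iff.mp (hAV ha) w).mp hw'.1, ?_⟩
      rw [mem_centralizer_iff]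
      intro b hb
      have h1 := hAB a ha b hb
      have h2 : (a⁻¹ * b * a) * w = w * (a⁻¹ * b * a) := (mem_centralizer_iff.mp hw'.2) _ h1
      calc b * (a * w * a⁻¹) = a * ((a⁻¹ * b * a) * w) * a⁻¹ := by group
        _ = a * (w * (a⁻¹ * b * a)) * a⁻¹ := by rw [h2]
        _ = a * w * a⁻¹ * b := by group
    -- pick `a ∈ A \ B`
    have hMtop : M ≠ ⊤ := by
      intro h
      rw [h, index_top] at hMi
      exact hℓ.one_lt.ne hMi
    obtain ⟨x, hxM⟩ : ∃ x : A, x ∉ M := by
      by_contra hcon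
      push Not at hcon
      exact hMtop (eq_top_iff.mpr fun x _ => hcon x)
    have haB : ∀ w ∈ W, (x : G) ^ ℓ * w = w * (x : G) ^ ℓ := by
      intro w hw
      have h1 : x ^ ℓ ∈ M := by rw [← hMi]; exact M.pow_index_mem x
      have h2 : (x : G) ^ ℓ ∈ B := ⟨x ^ ℓ, h1, by simp⟩
      exact (mem_centralizer_iff.mp (mem_inf.mp hw).2) _ h2
    have hfix := ph_fix_modEq (r := ℓ) W (x : G) (hAW x.2) haB
    set U : Subgroup G := W ⊓ centralizer ({(x : G)} : Set G) with hU
    have hUW : U ≤ W := inf_le_left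
    have hUeq : U = V ⊓ centralizer (A : Set G) := by
      apply le_antisymm
      · intro u hu
        have hu1 := mem_inf.mp hu
        have hu2 := mem_inf.mp hu1.1
        refine mem_inf.mpr ⟨hu2.1, ?_⟩
        rw [mem_centralizer_iff]
        intro y hy
        have htop : (centralizer ({u} : Set G)).subgroupOf A = ⊤ := by
          apply ph_eq_top_of_prime_index M _ hℓ hMi _ x _ hxM
          · intro z hz
            rw [mem_subgroupOf, mem_centralizer_iff]
            intro v hv
            rw [Set.mem_singleton_iff] at hv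
            subst hv
            have : (z : G) ∈ B := ⟨z, hz, rfl⟩
            exact ((mem_centralizer_iff.mp hu2.2) _ this).symm
          · rw [mem_subgroupOf, mem_centralizer_iff]
            intro v hv
            rw [Set.mem_singleton_iff] at hv
            subst hv
            exact ((mem_centralizer_iff.mp hu1.2) _ (Set.mem_singleton _)).symm
        have hyc : (⟨y, hy⟩ : A) ∈ (centralizer ({u} : Set G)).subgroupOf A := by
          rw [htop]; exact mem_top _
        rw [mem_subgroupOf, mem_centralizer_iff] at hyc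
        exact (hyc u (Set.mem_singleton _)).symm
      · intro u hu
        have hu1 := mem_inf.mp hu
        refine mem_inf.mpr ⟨mem_inf.mpr ⟨hu1.1, ?_⟩, ?_⟩
        · exact centralizer_le (by exact_mod_cast hBA) hu1.2
        · rw [mem_centralizer_iff]
          intro v hv
          rw [Set.mem_singleton_iff] at hv
          subst hv
          exact (mem_centralizer_iff.mp hu1.2) _ x.2
    -- the new factor
    have hfac : U.relIndex W * W.relIndex V = U.relIndex V := relIndex_mul_relIndex _ _ _ hUW hWV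
    rw [← hUeq, ← hfac]
    have hqF : Fact q.Prime := ⟨hq⟩
    obtain ⟨k, hk⟩ := IsPGroup.iff_card.mp hV
    have hWdvd : Nat.card W ∣ Nat.card V := card_dvd_of_le hWV
    have hxW : U.relIndex W ∣ Nat.card W := relIndex_dvd_card _ _
    have hxV : U.relIndex W ∣ Nat.card V := hxW.trans hWdvd
    have hxq : ∃ e : ℕ, U.relIndex W = q ^ e := by
      rw [hk] at hxV
      obtain ⟨e, -, he⟩ := (Nat.dvd_prime_pow hq).mp hxV
      exact ⟨e, he⟩
    have hℓA : ℓ ∣ Nat.card A := Dvd.intro_left _ hMA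
    have hℓq : ℓ ≠ q := by
      rintro rfl
      exact hqA hℓA
    have hUcard : Nat.card U * U.relIndex W = Nat.card W := by
      have h1 := (U.subgroupOf W).card_mul_index
      rw [Cfsg.Agent.Lib.Helper1.card_subgroupOf_of_le hUW] at h1
      exact h1
    have hUq : (Nat.card U).Coprime ℓ := by
      have hUdvd : Nat.card U ∣ q ^ k := by
        rw [← hk]; exact (card_dvd_of_le hUW).trans hWdvd
      obtain ⟨e, -, he⟩ := (Nat.dvd_prime_pow hq).mp hUdvd
      rw [he]
      apply Nat.Coprime.pow_left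
      exact (Nat.coprime_primes hq hℓ).mpr (Ne.symm hℓq)
    have hmod : U.relIndex W ≡ 1 [MOD ℓ] := by
      have h1 : Nat.card U * U.relIndex W ≡ Nat.card U * 1 [MOD ℓ] := by
        rw [hUcard, mul_one]; exact hfix
      exact Nat.ModEq.cancel_left_of_coprime (by rw [Nat.gcd_comm]; exact hUq) h1
    exact ih1.cons hxq hxV ⟨ℓ, hℓ, hℓA, hmod⟩


open scoped Pointwise

universe u

theorem ph_relIndex_sup {G : Type*} [Group G] (K H : Subgroup G) [K.Normal]
    (h : K ⊓ H = ⊥) : K.relIndex (K ⊔ H) = Nat.card H := by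
  rw [sup_comm, relIndex_sup_right, ← inf_relIndex_right, h, relIndex_bot_left]

/-- complements of a solvable normal Hall subgroup in `K ⊔ H` are conjugate under `K` -/
theorem ph_exists_conj {G : Type u} [Group G] [Finite G] (K : Subgroup G) [hKn : K.Normal]
    (hKs : Group.IsSolvable K) (H H' : Subgroup G)
    (hcop : (Nat.card K).Coprime (Nat.card H)) (hcard : Nat.card H' = Nat.card H)
    (hle : H' ≤ K ⊔ H) : ∃ k ∈ K, MulAut.conj k • H = H' := by
  have hKH : K ⊓ H = ⊥ := (disjoint_of_coprime_natCard hcop).eq_bot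
  have hri := ph_relIndex_sup K H hKH
  obtain ⟨g, hg, hgH⟩ := Cfsg.Agent.Lib.Helper1.szprop_sub (K ⊔ H)
    (Cfsg.Agent.Lib.Helper1.szprop_all _) K H H' le_sup_left
    (by rw [normalizer_eq_top]; exact le_top) le_sup_right hle (by rw [hri]; exact hcop)
    hri.symm (by rw [hri, hcard]) (Or.inl hKs)
  have hg' : g ∈ (K : Set G) * (H : Set G) := by rw [← normal_mul]; exact hg
  obtain ⟨k, hk, h, hh, rfl⟩ := Set.mem_mul.mp hg'
  refine ⟨k, hk, ?_⟩
  rw [← hgH, ← Cfsg.Agent.Lib.Helper1.conj_smul_smul, conj_smul_eq_self_of_mem hh]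

theorem ph_conj_smul_eq_of_centralizer {G : Type*} [Group G] (H : Subgroup G) (k : G)
    (hk : k ∈ centralizer (H : Set G)) : MulAut.conj k • H = H := by
  rw [mem_centralizer_iff] at hk
  ext x
  rw [mem_pointwise_smul_iff_inv_smul_mem, MulAut.smul_def, MulAut.conj_inv_apply]
  constructor
  · intro hx
    have h1 := hk _ hx
    have : x = k⁻¹ * x * k := by
      calc x = k * (k⁻¹ * x * k) * k⁻¹ := by group
        _ = (k⁻¹ * x * k) * k * k⁻¹ := by rw [h1]
        _ = k⁻¹ * x * k := by group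
    rw [this]; exact hx
  · intro hx
    have h1 := hk _ hx
    have : k⁻¹ * x * k = x := by
      calc k⁻¹ * x * k = k⁻¹ * (x * k) := by group
        _ = k⁻¹ * (k * x) := by rw [h1]
        _ = x := by group
    rw [this]; exact hx

/-- the number of complements of `K` in `K ⊔ H` -/
theorem ph_card_fiber {G : Type u} [Group G] [Finite G] (K : Subgroup G) [hKn : K.Normal]
    (hKs : Group.IsSolvable K) (H : Subgroup G)
    (hcop : (Nat.card K).Coprime (Nat.card H)) :
    Nat.card {H' : Subgroup G // Nat.card H' = Nat.card H ∧ H' ≤ K ⊔ H}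
      = (centralizer (H : Set G)).relIndex K := by
  have hKH : K ⊓ H = ⊥ := (disjoint_of_coprime_natCard hcop).eq_bot
  let _ : MulAction K (Subgroup G) :=
    MulAction.compHom (Subgroup G) ((MulAut.conj : G →* MulAut G).comp K.subtype)
  have hsmul : ∀ (k : K) (X : Subgroup G), k • X = MulAut.conj (k : G) • X := fun _ _ => rfl
  have h1 := MulAction.index_stabilizer K H
  have hset : {H' : Subgroup G | Nat.card H' = Nat.card H ∧ H' ≤ K ⊔ H} = MulAction.orbit K H := by
    ext H'
    constructor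
    · rintro ⟨hc, hle⟩
      obtain ⟨k, hk, hkH⟩ := ph_exists_conj K hKs H H' hcop hc hle
      exact ⟨⟨k, hk⟩, hkH⟩
    · rintro ⟨k, rfl⟩
      change Nat.card (k • H : Subgroup G) = Nat.card H ∧ k • H ≤ K ⊔ H
      rw [hsmul]
      refine ⟨Cfsg.Agent.Lib.Helper1.card_conj_smul _ _, ?_⟩
      intro x hx
      rw [mem_pointwise_smul_iff_inv_smul_mem, MulAut.smul_def, MulAut.conj_inv_apply] at hx
      have hkL : (k : G) ∈ K ⊔ H := le_sup_left (a := K) k.2
      have hxL : (k : G)⁻¹ * x * k ∈ K ⊔ H := le_sup_right (a := K) hx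
      have : x = (k : G) * ((k : G)⁻¹ * x * k) * (k : G)⁻¹ := by group
      rw [this]
      exact mul_mem (mul_mem hkL hxL) (inv_mem hkL)
  have hstab : MulAction.stabilizer K H = (centralizer (H : Set G)).subgroupOf K := by
    ext k
    rw [MulAction.mem_stabilizer_iff, mem_subgroupOf, hsmul]
    constructor
    · intro hk
      rw [mem_centralizer_iff]
      intro h hh
      have h2 : (k : G) * h * (k : G)⁻¹ ∈ H := by
        have : (k : G) * h * (k : G)⁻¹ ∈ MulAut.conj (k : G) • H := by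
          rw [mem_pointwise_smul_iff_inv_smul_mem, MulAut.smul_def, MulAut.conj_inv_apply]
          have : (k : G)⁻¹ * ((k : G) * h * (k : G)⁻¹) * k = h := by group
          rw [this]; exact hh
        rwa [hk] at this
      have h3 : (k : G) * h * (k : G)⁻¹ * h⁻¹ ∈ K ⊓ H := by
        refine mem_inf.mpr ⟨?_, mul_mem h2 (inv_mem hh)⟩
        have h4 : h * (k : G)⁻¹ * h⁻¹ ∈ K := hKn.conj_mem _ (inv_mem k.2) h
        have : (k : G) * h * (k : G)⁻¹ * h⁻¹ = k * (h * (k : G)⁻¹ * h⁻¹) := by group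
        rw [this]; exact mul_mem k.2 h4
      rw [hKH, mem_bot] at h3
      calc h * (k : G) = ((k : G) * h * (k : G)⁻¹ * h⁻¹)⁻¹ * (k * h) := by group
        _ = k * h := by rw [h3]; group
    · intro hk
      exact ph_conj_smul_eq_of_centralizer H _ hk
  change Nat.card ↥{H' : Subgroup G | Nat.card H' = Nat.card H ∧ H' ≤ K ⊔ H} = _
  rw [hset, Nat.card_coe_set_eq, ← h1, hstab, relIndex]


theorem ph_conj_smul_normal {G : Type*} [Group G] (K : Subgroup G) [hKn : K.Normal] (g : G) :
    MulAut.conj g • K = K := by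
  ext x
  rw [mem_pointwise_smul_iff_inv_smul_mem, MulAut.smul_def, MulAut.conj_inv_apply]
  constructor
  · intro hx
    have := hKn.conj_mem _ hx g
    have h2 : g * (g⁻¹ * x * g) * g⁻¹ = x := by group
    rwa [h2] at this
  · intro hx
    have := hKn.conj_mem _ hx g⁻¹
    simpa using this

theorem ph_centralizer_conj {G : Type*} [Group G] (H : Subgroup G) (g : G) :
    centralizer ((MulAut.conj g • H : Subgroup G) : Set G) = MulAut.conj g • centralizer (H : Set G) := by
  ext x
  rw [mem_pointwise_smul_iff_inv_smul_mem, MulAut.smul_def, MulAut.conj_inv_apply,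
    mem_centralizer_iff, mem_centralizer_iff]
  constructor
  · intro hx h hh
    have h1 : g * h * g⁻¹ ∈ (MulAut.conj g • H : Subgroup G) := by
      rw [mem_pointwise_smul_iff_inv_smul_mem, MulAut.smul_def, MulAut.conj_inv_apply]
      have : g⁻¹ * (g * h * g⁻¹) * g = h := by group
      rw [this]; exact hh
    have h2 := hx _ h1
    calc h * (g⁻¹ * x * g) = g⁻¹ * ((g * h * g⁻¹) * x) * g := by group
      _ = g⁻¹ * (x * (g * h * g⁻¹)) * g := by rw [h2]
      _ = g⁻¹ * x * g * h := by group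
  · intro hx y hy
    have hy' : g⁻¹ * y * g ∈ H := by
      have := hy
      rw [SetLike.mem_coe, mem_pointwise_smul_iff_inv_smul_mem, MulAut.smul_def,
        MulAut.conj_inv_apply] at this
      exact this
    have h2 := hx _ hy'
    calc y * x = g * ((g⁻¹ * y * g) * (g⁻¹ * x * g)) * g⁻¹ := by group
      _ = g * ((g⁻¹ * x * g) * (g⁻¹ * y * g)) * g⁻¹ := by rw [h2]
      _ = x * y := by group

theorem ph_relIndex_conj {G : Type*} [Group G] (K : Subgroup G) [hKn : K.Normal] (H : Subgroup G)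
    (g : G) : (centralizer ((MulAut.conj g • H : Subgroup G) : Set G)).relIndex K
      = (centralizer (H : Set G)).relIndex K := by
  rw [ph_centralizer_conj]
  conv_lhs => rw [← ph_conj_smul_normal K g]
  exact relIndex_pointwise_smul _ _ _

/-- the conditions on a single factor in P. Hall's counting theorem -/
def PhGood (G : Type*) [Group G] (m x : ℕ) : Prop :=
  (∃ q e : ℕ, q.Prime ∧ x = q ^ e) ∧
  (∃ K L : Subgroup G, K.Normal ∧ L.Normal ∧ K < L ∧
    (∀ M : Subgroup G, M.Normal → K ≤ M → M ≤ L → M = K ∨ M = L) ∧ x ∣ K.relIndex L) ∧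
  (∃ q : ℕ, q.Prime ∧ q ∣ m ∧ x ≡ 1 [MOD q])

/-- `N` is a product of good factors -/
def PhProd (G : Type*) [Group G] (m N : ℕ) : Prop :=
  ∃ l : List ℕ, l.prod = N ∧ ∀ x ∈ l, PhGood G m x

theorem PhProd.one (G : Type*) [Group G] (m : ℕ) : PhProd G m 1 := ⟨[], rfl, by simp⟩

theorem PhProd.mul {G : Type*} [Group G] {m a b : ℕ} (ha : PhProd G m a) (hb : PhProd G m b) :
    PhProd G m (a * b) := by
  obtain ⟨l1, h1, h1'⟩ := ha
  obtain ⟨l2, h2, h2'⟩ := hb
  refine ⟨l1 ++ l2, by rw [List.prod_append, h1, h2], fun x hx => ?_⟩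
  rcases List.mem_append.mp hx with h | h
  · exact h1' x h
  · exact h2' x h

theorem PhProd.of_fac {G : Type*} [Group G] {q m N : ℕ} (hq : q.Prime) (K : Subgroup G)
    (hKn : K.Normal) (hK1 : K ≠ ⊥)
    (hmin : ∀ M : Subgroup G, M.Normal → M ≤ K → M = ⊥ ∨ M = K)
    (h : PhFac q m (Nat.card K) N) : PhProd G m N := by
  obtain ⟨l, hl, h⟩ := h
  refine ⟨l, hl, fun x hx => ?_⟩
  obtain ⟨⟨e, he⟩, h2, h3⟩ := h x hx
  refine ⟨⟨q, e, hq, he⟩, ⟨⊥, K, inferInstance, hKn, bot_lt_iff_ne_bot.mpr hK1,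
    fun M hM _ hMK => hmin M hM hMK, ?_⟩, h3⟩
  rw [relIndex_bot_left]; exact h2

theorem PhGood.of_quotient {G : Type*} [Group G] (K : Subgroup G) [K.Normal] {m' m x : ℕ}
    (h : PhGood (G ⧸ K) m' x) (hm : m' ∣ m) : PhGood G m x := by
  obtain ⟨h1, ⟨K', L', hK'n, hL'n, hlt, hchief, hdvd⟩, q, hq, hqm, hmod⟩ := h
  have hπ : Function.Surjective (QuotientGroup.mk' K) := QuotientGroup.mk'_surjective K
  refine ⟨h1, ⟨K'.comap (QuotientGroup.mk' K), L'.comap (QuotientGroup.mk' K),
    hK'n.comap _, hL'n.comap _, ?_, ?_, ?_⟩, q, hq, hqm.trans hm, hmod⟩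
  · exact (comap_lt_comap_of_surjective hπ).mpr hlt
  · intro M hMn h1 h2
    have hKM : K ≤ M := by
      refine le_trans ?_ h1
      intro k hk
      rw [mem_comap]
      have : (QuotientGroup.mk' K) k = 1 := (QuotientGroup.eq_one_iff k).mpr hk
      rw [this]; exact one_mem _
    have hMmap : (M.map (QuotientGroup.mk' K)).Normal := hMn.map _ hπ
    have h3 : K' ≤ M.map (QuotientGroup.mk' K) := by
      rw [← map_comap_eq_self_of_surjective hπ K']; exact map_mono h1
    have h4 : M.map (QuotientGroup.mk' K) ≤ L' := by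
      rw [← map_comap_eq_self_of_surjective hπ L']; exact map_mono h2
    have hM : (M.map (QuotientGroup.mk' K)).comap (QuotientGroup.mk' K) = M := by
      rw [comap_map_eq_self]; rw [QuotientGroup.ker_mk']; exact hKM
    rcases hchief _ hMmap h3 h4 with h5 | h5
    · left; rw [← hM, h5]
    · right; rw [← hM, h5]
  · rw [relIndex_comap, map_comap_eq_self_of_surjective hπ]; exact hdvd

theorem PhProd.of_quotient {G : Type*} [Group G] (K : Subgroup G) [K.Normal] {m' m N : ℕ}
    (h : PhProd (G ⧸ K) m' N) (hm : m' ∣ m) : PhProd G m N := by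
  obtain ⟨l, hl, h⟩ := h
  exact ⟨l, hl, fun x hx => (h x hx).of_quotient K hm⟩

theorem ph_card_eq_mul_of_fibers {X Y : Type*} [Finite X] [Finite Y] (φ : X → Y) (c : ℕ)
    (h : ∀ y, Nat.card {x // φ x = y} = c) : Nat.card X = Nat.card Y * c := by
  classical
  have := Fintype.ofFinite X
  have := Fintype.ofFinite Y
  rw [Nat.card_congr (Equiv.sigmaFiberEquiv φ).symm, Nat.card_sigma]
  simp only [h, Finset.sum_const, Finset.card_univ, smul_eq_mul, Nat.card_eq_fintype_card]


/-- the statement of P. Hall's counting theorem for one group -/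
def PhMain (G : Type u) [Group G] : Prop :=
  Group.IsSolvable G → ∀ m n : ℕ, Nat.card G = m * n → m.Coprime n →
    PhProd G m (Nat.card {H : Subgroup G // Nat.card H = m})

theorem ph_exists_minimal_normal {G : Type u} [Group G] [Finite G] (h1 : Nat.card G ≠ 1) :
    ∃ K : Subgroup G, K.Normal ∧ K ≠ ⊥ ∧
      ∀ M : Subgroup G, M.Normal → M ≤ K → M = ⊥ ∨ M = K := by
  obtain ⟨K, ⟨hKn, hK1⟩, hmin⟩ := WellFounded.has_min
    (measure fun K : Subgroup G => Nat.card K).wf {K : Subgroup G | K.Normal ∧ K ≠ ⊥}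
    ⟨⊤, inferInstance, Cfsg.Agent.Lib.Helper1.top_ne_bot_of_card h1⟩
  refine ⟨K, hKn, hK1, fun M hMn hMK => ?_⟩
  by_cases hM : M = ⊥
  · exact Or.inl hM
  · right
    have h2 := hmin M ⟨hMn, hM⟩
    have h3 : Nat.card K ≤ Nat.card M := not_lt.mp h2
    exact eq_of_le_of_card_ge hMK h3

theorem ph_caseA {G : Type u} [Group G] [Finite G] (K : Subgroup G) [hKn : K.Normal]
    (m m' n : ℕ) (hG : Nat.card G = m * n) (hmn : m.Coprime n) (hm' : m = Nat.card K * m') :
    Nat.card {H : Subgroup G // Nat.card H = m}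
      = Nat.card {H : Subgroup (G ⧸ K) // Nat.card H = m'} := by
  have hπ : Function.Surjective (QuotientGroup.mk' K) := QuotientGroup.mk'_surjective K
  have hKpos : 0 < Nat.card K := Nat.card_pos
  refine Nat.card_congr ⟨fun H => ⟨H.1.map (QuotientGroup.mk' K), ?_⟩,
    fun H => ⟨H.1.comap (QuotientGroup.mk' K), ?_⟩, fun H => ?_, fun H => ?_⟩
  · have hKH : K ≤ H.1 :=
      Cfsg.Agent.Lib.Helper1.normal_le_of_card K H.1 m n hG hmn (Dvd.intro _ hm'.symm) H.2
    have h1 := Cfsg.Agent.Lib.Helper1.card_map_mk_of_le K H.1 hKH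
    rw [H.2] at h1
    have h2 := h1.trans hm'
    rw [mul_comm] at h2
    exact Nat.eq_of_mul_eq_mul_left hKpos h2
  · have hKH : K ≤ H.1.comap (QuotientGroup.mk' K) := by
      intro k hk
      rw [mem_comap]
      have : (QuotientGroup.mk' K) k = 1 := (QuotientGroup.eq_one_iff k).mpr hk
      rw [this]; exact one_mem _
    have h1 := Cfsg.Agent.Lib.Helper1.card_map_mk_of_le K _ hKH
    rw [map_comap_eq_self_of_surjective hπ, H.2] at h1
    rw [← h1, mul_comm]; exact hm'.symm
  · apply Subtype.ext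
    have hKH : K ≤ H.1 :=
      Cfsg.Agent.Lib.Helper1.normal_le_of_card K H.1 m n hG hmn (Dvd.intro _ hm'.symm) H.2
    change (H.1.map (QuotientGroup.mk' K)).comap (QuotientGroup.mk' K) = H.1
    rw [comap_map_eq_self]; rw [QuotientGroup.ker_mk']; exact hKH
  · apply Subtype.ext
    change (H.1.comap (QuotientGroup.mk' K)).map (QuotientGroup.mk' K) = H.1
    exact map_comap_eq_self_of_surjective hπ _

theorem ph_caseB {G : Type u} [Group G] [Finite G] (hs : Group.IsSolvable G) (K : Subgroup G)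
    [hKn : K.Normal] (m n n' : ℕ) (hG : Nat.card G = m * n) (hmn : m.Coprime n)
    (hn' : n = Nat.card K * n') (H₀ : Subgroup G) (hH₀ : Nat.card H₀ = m) :
    Nat.card {H : Subgroup G // Nat.card H = m}
      = Nat.card {H : Subgroup (G ⧸ K) // Nat.card H = m}
        * (centralizer (H₀ : Set G)).relIndex K := by
  have hπ : Function.Surjective (QuotientGroup.mk' K) := QuotientGroup.mk'_surjective K
  have hKpos : 0 < Nat.card K := Nat.card_pos
  have hcopK : (Nat.card K).Coprime m :=
    Nat.Coprime.coprime_dvd_left (Dvd.intro _ hn'.symm) hmn.symm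
  have hG' : Nat.card (G ⧸ K) = m * n' := by
    have h1 := Cfsg.Agent.Lib.Helper1.card_quotient_mul K
    rw [hG, hn'] at h1
    have h2 : Nat.card (G ⧸ K) * Nat.card K = (m * n') * Nat.card K := by rw [h1]; ring
    exact Nat.eq_of_mul_eq_mul_right hKpos h2
  have hcop' : m.Coprime n' := Nat.Coprime.coprime_dvd_right (Dvd.intro_left _ hn'.symm) hmn
  have hKs : Group.IsSolvable K := inferInstance
  have hmap : ∀ H : Subgroup G, Nat.card H = m →
      Nat.card (H.map (QuotientGroup.mk' K)) = m := by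
    intro H hH
    rw [Cfsg.Agent.Lib.Helper1.card_map_mk_of_inf_eq_bot K H
      (disjoint_of_coprime_natCard (by rw [hH]; exact hcopK.symm)).eq_bot, hH]
  apply ph_card_eq_mul_of_fibers
    (fun H : {H : Subgroup G // Nat.card H = m} =>
      (⟨H.1.map (QuotientGroup.mk' K), hmap H.1 H.2⟩ :
        {H : Subgroup (G ⧸ K) // Nat.card H = m}))
  intro y
  obtain ⟨g', hg'⟩ := Cfsg.Agent.Lib.Helper1.hallConj_all (G ⧸ K) inferInstance m n' hG' hcop'
    (H₀.map (QuotientGroup.mk' K)) y.1 (hmap H₀ hH₀) y.2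
  obtain ⟨g, rfl⟩ := hπ g'
  have hH₁ : Nat.card (MulAut.conj g • H₀ : Subgroup G) = m :=
    (Cfsg.Agent.Lib.Helper1.card_conj_smul g H₀).trans hH₀
  have hH₁y : (MulAut.conj g • H₀ : Subgroup G).map (QuotientGroup.mk' K) = y.1 := by
    rw [Cfsg.Agent.Lib.Helper1.map_conj_smul]; exact hg'
  rw [← ph_relIndex_conj K H₀ g, ← ph_card_fiber K hKs (MulAut.conj g • H₀)
    (by rw [hH₁]; exact hcopK)]
  refine Nat.card_congr ⟨fun x => ⟨x.1.1, x.1.2.trans hH₁.symm, ?_⟩,
    fun z => ⟨⟨z.1, z.2.1.trans hH₁⟩, ?_⟩, fun x => rfl, fun z => rfl⟩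
  · have h1 : x.1.1.map (QuotientGroup.mk' K)
        = (MulAut.conj g • H₀ : Subgroup G).map (QuotientGroup.mk' K) :=
      (congrArg Subtype.val x.2).trans hH₁y.symm
    have h2 : x.1.1 ≤ (x.1.1.map (QuotientGroup.mk' K)).comap (QuotientGroup.mk' K) :=
      le_comap_map _ _
    rw [h1, comap_map_eq, QuotientGroup.ker_mk', sup_comm] at h2
    exact h2
  · apply Subtype.ext
    change z.1.map (QuotientGroup.mk' K) = y.1
    have h1 : z.1.map (QuotientGroup.mk' K) ≤ y.1 := by
      have := map_mono (f := QuotientGroup.mk' K) z.2.2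
      rw [Subgroup.map_sup, QuotientGroup.map_mk'_self, bot_sup_eq, hH₁y] at this
      exact this
    apply eq_of_le_of_card_ge h1
    rw [y.2, hmap z.1 (z.2.1.trans hH₁)]

theorem ph_main (G : Type u) [Group G] [Finite G] : PhMain G := by
  refine Cfsg.Agent.Lib.Helper1.finite_group_induction (fun G _ => PhMain G) ?_ G
  intro G _ _ ih hs m n hG hmn
  by_cases h1 : Nat.card G = 1
  · have hm : m = 1 := by
      have : m * n = 1 := by rw [← hG, h1]
      exact Nat.eq_one_of_mul_eq_one_right this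
    have hsub : Subsingleton G := (Nat.card_eq_one_iff_unique.mp h1).1
    have hc : Nat.card {H : Subgroup G // Nat.card H = m} = 1 := by
      rw [Nat.card_eq_one_iff_unique]
      exact ⟨⟨fun a b => Subtype.ext (Subsingleton.elim _ _)⟩, ⟨⟨⊥, by rw [card_bot, hm]⟩⟩⟩
    rw [hc]; exact PhProd.one G m
  obtain ⟨K, hKn, hK1, hKmin⟩ := ph_exists_minimal_normal h1
  have hKs : Group.IsSolvable K := inferInstance
  obtain ⟨q, R, hq, hRK, hRn, hR1, hRc, hRexp⟩ :=
    Cfsg.Agent.Lib.Helper1.exists_normal_elementary_le K hKs hK1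
  have hRK' : R = K := (hKmin R hRn hRK).resolve_left hR1
  have hKp : IsPGroup q K :=
    Cfsg.Agent.Lib.Helper1.isPGroup_of_exponent K (by rw [← hRK']; exact hRexp)
  have hlt := Cfsg.Agent.Lib.Helper1.card_quotient_lt K hK1
  have hqs : Group.IsSolvable (G ⧸ K) := inferInstance
  have hKpos : 0 < Nat.card K := Nat.card_pos
  have hqc := Cfsg.Agent.Lib.Helper1.card_quotient_mul K
  rcases Cfsg.Agent.Lib.Helper1.card_dvd_or_of_isPGroup hq K hKp m n hG hmn with hd | hd
  · obtain ⟨m', hm'⟩ := hd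
    have hG' : Nat.card (G ⧸ K) = m' * n := by
      have h2 : Nat.card (G ⧸ K) * Nat.card K = (m' * n) * Nat.card K := by
        rw [hqc, hG, hm']; ring
      exact Nat.eq_of_mul_eq_mul_right hKpos h2
    have hcop' : m'.Coprime n := Nat.Coprime.coprime_dvd_left (Dvd.intro_left _ hm'.symm) hmn
    rw [ph_caseA K m m' n hG hmn hm']
    exact (ih (G ⧸ K) hlt hqs m' n hG' hcop').of_quotient K (Dvd.intro_left _ hm'.symm)
  · obtain ⟨n', hn'⟩ := hd
    have hG' : Nat.card (G ⧸ K) = m * n' := by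
      have h2 : Nat.card (G ⧸ K) * Nat.card K = (m * n') * Nat.card K := by
        rw [hqc, hG, hn']; ring
      exact Nat.eq_of_mul_eq_mul_right hKpos h2
    have hcop' : m.Coprime n' := Nat.Coprime.coprime_dvd_right (Dvd.intro_left _ hn'.symm) hmn
    have hcopK : (Nat.card K).Coprime m :=
      Nat.Coprime.coprime_dvd_left (Dvd.intro _ hn'.symm) hmn.symm
    obtain ⟨H₀, hH₀, -⟩ := Cfsg.Agent.Lib.Helper1.hallDom_all G hs m n hG hmn ⊥
      (by rw [card_bot]; exact Nat.coprime_one_left n)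
    rw [ph_caseB hs K m n n' hG hmn hn' H₀ hH₀]
    apply PhProd.mul
    · exact (ih (G ⧸ K) hlt hqs m n' hG' hcop').of_quotient K dvd_rfl
    · have hqF : Fact q.Prime := ⟨hq⟩
      have hqK : q ∣ Nat.card K := by
        obtain ⟨e, he⟩ := IsPGroup.iff_card.mp hKp
        have he0 : e ≠ 0 := by
          rintro rfl
          rw [pow_zero] at he
          exact hK1 (Subgroup.card_eq_one.mp he)
        rw [he]; exact dvd_pow_self q he0
      have hqm : ¬ q ∣ m := by
        intro h
        have := Nat.eq_one_of_dvd_coprimes hcopK hqK h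
        exact hq.one_lt.ne' this
      have h2 := ph_fac hq (Nat.card H₀) H₀ inferInstance rfl inferInstance
        (by rw [hH₀]; exact hqm) K inferInstance hKp (by rw [normalizer_eq_top]; exact le_top)
      rw [hH₀, inf_comm, inf_relIndex_right] at h2
      exact PhProd.of_fac hq K hKn hK1 hKmin h2


end Cfsg.Agent.Lib.Helper70
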