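import Mathlib

set_option autoImplicit false

namespace Cfsg.Agent.Lib.Helper70

open Subgroup
open scoped commutatorElement

section PolySeq

variable {Γ : Type*} [Group Γ]

/-- left discrete derivative of a sequence in a group -/
def psD (g : ℕ → Γ) : ℕ → Γ := fun n => g (n + 1) * (g n)⁻¹

/-- a filtration with `[F i, F j] ≤ F (i + j)` -/
structure PsFilt (F : ℕ → Subgroup Γ) : Prop where
  anti : Antitone F
  comm : ∀ i j, ⁅F i, F j⁆ ≤ F (i + j)

/-- polynomial sequences of depth `k` with respect to the filtration shifted by `d` -/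
def PsPoly (F : ℕ → Subgroup Γ) : ℕ → ℕ → (ℕ → Γ) → Prop
  | 0, d, g => ∀ n, g n ∈ F d
  | k + 1, d, g => (∀ n, g n ∈ F d) ∧ PsPoly F k (d + 1) (psD g)

variable {F : ℕ → Subgroup Γ}

theorem PsPoly.val {k d : ℕ} {g : ℕ → Γ} (h : PsPoly F k d g) : ∀ n, g n ∈ F d := by
  cases k with
  | zero => exact h
  | succ k => exact h.1

theorem PsPoly.mono_k : ∀ {k d : ℕ} {g : ℕ → Γ}, PsPoly F (k + 1) d g → PsPoly F k d g := by
  intro k
  induction k with
  | zero => intro d g h; exact h.1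
  | succ k ih => intro d g h; exact ⟨h.1, ih h.2⟩

theorem PsPoly.mono_d (hF : PsFilt F) :
    ∀ {k d : ℕ} {g : ℕ → Γ}, PsPoly F k (d + 1) g → PsPoly F k d g := by
  intro k
  induction k with
  | zero => intro d g h n; exact hF.anti (Nat.le_succ d) (h n)
  | succ k ih => intro d g h; exact ⟨fun n => hF.anti (Nat.le_succ d) (h.1 n), ih h.2⟩

theorem PsPoly.mono_d_le (hF : PsFilt F) {k d e : ℕ} {g : ℕ → Γ} (hde : d ≤ e)
    (h : PsPoly F k e g) : PsPoly F k d g := by
  induction hde with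
  | refl => exact h
  | step _ ih => exact ih (PsPoly.mono_d hF h)

theorem psD_mul (g h : ℕ → Γ) :
    psD (g * h) = psD g * (fun n => ⁅g n, psD h n⁆) * psD h := by
  funext n
  simp only [psD, Pi.mul_apply, commutatorElement_def]
  group

theorem psD_inv (g : ℕ → Γ) :
    psD g⁻¹ = (fun n => ⁅(g n)⁻¹, (psD g n)⁻¹⁆) * (psD g)⁻¹ := by
  funext n
  simp only [psD, Pi.mul_apply, Pi.inv_apply, commutatorElement_def]
  group

theorem psD_comm (u v : ℕ → Γ) :
    psD (fun n => ⁅u n, v n⁆) = fun n =>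
      (psD u n * ⁅u n, psD v n⁆ * (psD u n)⁻¹) * ⁅psD u n * psD v n, ⁅u n, v n⁆⁆ *
        (⁅u n, v n⁆ * (⁅psD u n, psD v n⁆ * (psD v n * ⁅psD u n, v n⁆ * (psD v n)⁻¹)) *
          ⁅u n, v n⁆⁻¹) := by
  funext n
  simp only [psD, commutatorElement_def]
  group

/-- closure properties of polynomial sequences at a fixed depth -/
def PsClosed (F : ℕ → Subgroup Γ) (k : ℕ) : Prop :=
  (∀ (d : ℕ) (g h : ℕ → Γ), PsPoly F k d g → PsPoly F k d h → PsPoly F k d (g * h)) ∧
  (∀ (d : ℕ) (g : ℕ → Γ), PsPoly F k d g → PsPoly F k d g⁻¹) ∧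
  (∀ (i j : ℕ) (u v : ℕ → Γ), PsPoly F k i u → PsPoly F k j v →
    PsPoly F k (i + j) (fun n => ⁅u n, v n⁆))

theorem PsClosed.conj {k : ℕ} (hc : PsClosed F k) {e : ℕ} {x y : ℕ → Γ}
    (hx : PsPoly F k e x) (hy : PsPoly F k 0 y) :
    PsPoly F k e (fun n => y n * x n * (y n)⁻¹) := by
  have h1 : (fun n => y n * x n * (y n)⁻¹) = (fun n => ⁅y n, x n⁆) * x := by
    funext n
    simp only [Pi.mul_apply, commutatorElement_def]
    group
  rw [h1]
  have h2 := hc.2.2 0 e y x hy hx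
  rw [Nat.zero_add] at h2
  exact hc.1 e _ _ h2 hx

theorem ps_closed (hF : PsFilt F) : ∀ k, PsClosed F k := by
  intro k
  induction k with
  | zero =>
    refine ⟨fun d g h hg hh n => (F d).mul_mem (hg n) (hh n),
      fun d g hg n => (F d).inv_mem (hg n), fun i j u v hu hv n => ?_⟩
    exact hF.comm i j (commutator_mem_commutator (hu n) (hv n))
  | succ k ih =>
    have hzero : ∀ {d : ℕ} {g : ℕ → Γ}, PsPoly F k d g → PsPoly F k 0 g :=
      fun h => PsPoly.mono_d_le hF (Nat.zero_le _) h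
    refine ⟨?_, ?_, ?_⟩
    · intro d g h hg hh
      refine ⟨fun n => (F d).mul_mem (hg.1 n) (hh.1 n), ?_⟩
      rw [psD_mul]
      have h1 : PsPoly F k (d + (d + 1)) (fun n => ⁅g n, psD h n⁆) :=
        ih.2.2 d (d + 1) g (psD h) hg.mono_k hh.2
      have h2 : PsPoly F k (d + 1) (fun n => ⁅g n, psD h n⁆) :=
        PsPoly.mono_d_le hF (by omega) h1
      exact ih.1 _ _ _ (ih.1 _ _ _ hg.2 h2) hh.2
    · intro d g hg
      refine ⟨fun n => (F d).inv_mem (hg.1 n), ?_⟩
      rw [psD_inv]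
      have h0 : PsPoly F k d g⁻¹ := ih.2.1 d g hg.mono_k
      have h1 : PsPoly F k (d + 1) (psD g)⁻¹ := ih.2.1 _ _ hg.2
      have h2 : PsPoly F k (d + (d + 1)) (fun n => ⁅(g n)⁻¹, (psD g n)⁻¹⁆) :=
        ih.2.2 d (d + 1) g⁻¹ (psD g)⁻¹ h0 h1
      have h3 : PsPoly F k (d + 1) (fun n => ⁅(g n)⁻¹, (psD g n)⁻¹⁆) :=
        PsPoly.mono_d_le hF (by omega) h2
      exact ih.1 _ _ _ h3 h1
    · intro i j u v hu hv
      refine ⟨fun n => hF.comm i j (commutator_mem_commutator (hu.1 n) (hv.1 n)), ?_⟩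
      rw [psD_comm]
      have hu0 := hu.mono_k
      have hv0 := hv.mono_k
      have hw : PsPoly F k (i + j) (fun n => ⁅u n, v n⁆) := ih.2.2 i j u v hu0 hv0
      -- T1
      have hT1a : PsPoly F k (i + (j + 1)) (fun n => ⁅u n, psD v n⁆) :=
        ih.2.2 i (j + 1) u (psD v) hu0 hv.2
      have hT1 : PsPoly F k (i + j + 1) (fun n => psD u n * ⁅u n, psD v n⁆ * (psD u n)⁻¹) :=
        PsClosed.conj ih (x := fun n => ⁅u n, psD v n⁆) (y := psD u) hT1a (hzero hu.2)
      -- t
      have ht : PsPoly F k 1 (fun n => psD u n * psD v n) :=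
        ih.1 1 _ _ (PsPoly.mono_d_le hF (by omega) hu.2) (PsPoly.mono_d_le hF (by omega) hv.2)
      have hT2 : PsPoly F k (i + j + 1) (fun n => ⁅psD u n * psD v n, ⁅u n, v n⁆⁆) := by
        have := ih.2.2 1 (i + j) _ _ ht hw
        rwa [Nat.add_comm 1 (i + j)] at this
      -- T3, T4
      have hT3 : PsPoly F k (i + j + 1) (fun n => ⁅psD u n, psD v n⁆) :=
        PsPoly.mono_d_le hF (by omega) (ih.2.2 (i + 1) (j + 1) _ _ hu.2 hv.2)
      have hT4a : PsPoly F k (i + j + 1) (fun n => ⁅psD u n, v n⁆) := by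
        have := ih.2.2 (i + 1) j _ _ hu.2 hv0
        rwa [Nat.add_right_comm] at this
      have hT4 : PsPoly F k (i + j + 1) (fun n => psD v n * ⁅psD u n, v n⁆ * (psD v n)⁻¹) :=
        PsClosed.conj ih (x := fun n => ⁅psD u n, v n⁆) (y := psD v) hT4a (hzero hv.2)
      have hT34 : PsPoly F k (i + j + 1)
          (fun n => ⁅psD u n, psD v n⁆ * (psD v n * ⁅psD u n, v n⁆ * (psD v n)⁻¹)) :=
        ih.1 _ _ _ hT3 hT4
      have hT5 := PsClosed.conj ih hT34 (hzero hw)
      exact ih.1 _ _ _ (ih.1 _ _ _ hT1 hT2) hT5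

/-- polynomial sequences of every depth -/
def PsPolyAll (F : ℕ → Subgroup Γ) (d : ℕ) (g : ℕ → Γ) : Prop := ∀ k, PsPoly F k d g

theorem PsPolyAll.mul (hF : PsFilt F) {d : ℕ} {g h : ℕ → Γ} (hg : PsPolyAll F d g)
    (hh : PsPolyAll F d h) : PsPolyAll F d (g * h) :=
  fun k => (ps_closed hF k).1 d g h (hg k) (hh k)

theorem PsPolyAll.deriv {d : ℕ} {g : ℕ → Γ} (hg : PsPolyAll F d g) :
    PsPolyAll F (d + 1) (psD g) :=
  fun k => (hg (k + 1)).2

theorem PsPolyAll.val {d : ℕ} {g : ℕ → Γ} (hg : PsPolyAll F d g) (n : ℕ) : g n ∈ F d :=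
  hg 0 n

theorem psPoly_one : ∀ (k d : ℕ), PsPoly F k d (fun _ => (1 : Γ)) := by
  intro k
  induction k with
  | zero => intro d n; exact one_mem _
  | succ k ih =>
    intro d
    refine ⟨fun n => one_mem _, ?_⟩
    have : psD (fun _ : ℕ => (1 : Γ)) = fun _ => 1 := by
      funext n; simp [psD]
    rw [this]; exact ih _

theorem psPolyAll_const {d : ℕ} {c : Γ} (hc : c ∈ F d) : PsPolyAll F d (fun _ => c) := by
  intro k
  cases k with
  | zero => intro n; exact hc
  | succ k =>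
    refine ⟨fun n => hc, ?_⟩
    have : psD (fun _ : ℕ => c) = fun _ => 1 := by
      funext n; simp [psD]
    rw [this]; exact psPoly_one _ _

theorem psPolyAll_choose (hF : PsFilt F) : ∀ (j d : ℕ) (a : Γ), a ∈ F (d + j) →
    PsPolyAll F d (fun n => a ^ (n.choose j)) := by
  intro j
  induction j with
  | zero =>
    intro d a ha
    have : (fun n : ℕ => a ^ (n.choose 0)) = fun _ => a := by
      funext n; simp
    rw [this]; exact psPolyAll_const ha
  | succ j ih =>
    intro d a ha k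
    have hval : ∀ n : ℕ, a ^ (n.choose (j + 1)) ∈ F d :=
      fun n => pow_mem (hF.anti (Nat.le_add_right d (j + 1)) ha) _
    cases k with
    | zero => exact hval
    | succ k =>
      refine ⟨hval, ?_⟩
      have : psD (fun n : ℕ => a ^ (n.choose (j + 1))) = fun n => a ^ (n.choose j) := by
        funext n
        simp only [psD]
        rw [Nat.choose_succ_succ, pow_add, mul_inv_cancel_right]
      rw [this]
      exact ih (d + 1) a (by rwa [Nat.add_assoc, Nat.add_comm 1 j]) k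

theorem psPolyAll_pow (hF : PsFilt F) (x : Γ) (hx : x ∈ F 1) : PsPolyAll F 0 (fun n => x ^ n) := by
  have := psPolyAll_choose hF 1 0 x (by simpa using hx)
  simpa using this

/-- a polynomial sequence vanishing at `0, …, j - 1` takes a value in `F (d + j)` at `j` -/
theorem psPolyAll_val_of_vanish : ∀ (j d : ℕ) (g : ℕ → Γ), PsPolyAll F d g →
    (∀ i < j, g i = 1) → g j ∈ F (d + j) := by
  intro j
  induction j with
  | zero => intro d g hg _; exact hg.val 0
  | succ j ih =>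
    intro d g hg h0
    have h1 : ∀ i < j, psD g i = 1 := by
      intro i hi
      simp only [psD]
      rw [h0 (i + 1) (by omega), h0 i (by omega)]
      simp
    have h2 := ih (d + 1) (psD g) hg.deriv h1
    have h3 : g (j + 1) = psD g j := by
      simp only [psD]
      rw [h0 j (by omega)]
      simp
    rw [h3]
    rwa [Nat.add_assoc, Nat.add_comm 1 j] at h2

theorem psPolyAll_eq_one_of_vanish {c : ℕ} (hF : PsFilt F) (hc : F (c + 1) = ⊥) (g : ℕ → Γ)
    (hg : PsPolyAll F 0 g) (j : ℕ) (hj : c + 1 ≤ j) (h0 : ∀ i < j, g i = 1) : ∀ n, g n = 1 := by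
  intro n
  induction n using Nat.strong_induction_on with
  | _ n ih =>
    by_cases hn : n < j
    · exact h0 n hn
    · have h1 := psPolyAll_val_of_vanish n 0 g hg (fun i hi => ih i hi)
      have h2 : F (0 + n) ≤ F (c + 1) := hF.anti (by omega)
      have h3 := h2 h1
      rw [hc, mem_bot] at h3
      exact h3

/-- Taylor expansion, in the form needed: the value at `q` of a polynomial sequence vanishing
at `0` and `1` lies in any subgroup containing the powers `a ^ (q.choose i)`, `a ∈ F i`. -/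
theorem psPolyAll_taylor {c : ℕ} (hF : PsFilt F) (hc : F (c + 1) = ⊥) (S : Subgroup Γ) (q : ℕ)
    (hS : ∀ i, 2 ≤ i → i ≤ c → ∀ a ∈ F i, a ^ (q.choose i) ∈ S) :
    ∀ (m j : ℕ), 2 ≤ j → c + 1 - j ≤ m → ∀ g : ℕ → Γ, PsPolyAll F 0 g →
      (∀ i < j, g i = 1) → g q ∈ S := by
  intro m
  induction m with
  | zero =>
    intro j _ hjm g hg h0
    rw [psPolyAll_eq_one_of_vanish hF hc g hg j (by omega) h0 q]
    exact one_mem _
  | succ m ih =>
    intro j hj2 hjm g hg h0
    by_cases hjc : c + 1 ≤ j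
    · rw [psPolyAll_eq_one_of_vanish hF hc g hg j hjc h0 q]
      exact one_mem _
    · have ha : g j ∈ F j := by
        have := psPolyAll_val_of_vanish j 0 g hg h0
        rwa [Nat.zero_add] at this
      have ha' : (g j)⁻¹ ∈ F (0 + j) := by
        rw [Nat.zero_add]; exact inv_mem ha
      have hg1 : PsPolyAll F 0 ((fun n : ℕ => ((g j)⁻¹) ^ (n.choose j)) * g) :=
        (psPolyAll_choose hF j 0 _ ha').mul hF hg
      have h1 : ∀ i < j + 1, ((fun n : ℕ => ((g j)⁻¹) ^ (n.choose j)) * g) i = 1 := by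
        intro i hi
        simp only [Pi.mul_apply]
        rcases Nat.lt_succ_iff_lt_or_eq.mp hi with hlt | rfl
        · rw [Nat.choose_eq_zero_of_lt hlt, pow_zero, one_mul, h0 i hlt]
        · rw [Nat.choose_self, pow_one, inv_mul_cancel]
      have h2 := ih (j + 1) (by omega) (by omega) _ hg1 h1
      simp only [Pi.mul_apply] at h2
      have h3 : g q = (g j) ^ (q.choose j) * (((g j)⁻¹) ^ (q.choose j) * g q) := by
        rw [inv_pow, mul_inv_cancel_left]
      rw [h3]
      exact S.mul_mem (hS j hj2 (by omega) _ ha) h2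

end PolySeq

/-- three subgroups lemma modulo a normal subgroup -/
theorem ps_three_subgroups {G : Type*} [Group G] {H₁ H₂ H₃ L : Subgroup G} [hL : L.Normal]
    (h1 : ⁅⁅H₂, H₃⁆, H₁⁆ ≤ L) (h2 : ⁅⁅H₃, H₁⁆, H₂⁆ ≤ L) : ⁅⁅H₁, H₂⁆, H₃⁆ ≤ L := by
  have key : ∀ A B C : Subgroup G, ⁅⁅A, B⁆, C⁆ ≤ L ↔
      ⁅⁅A.map (QuotientGroup.mk' L), B.map (QuotientGroup.mk' L)⁆,
        C.map (QuotientGroup.mk' L)⁆ = ⊥ := by
    intro A B C
    rw [← Subgroup.map_commutator, ← Subgroup.map_commutator, Subgroup.map_eq_bot_iff,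
      QuotientGroup.ker_mk']
  rw [key] at h1 h2 ⊢
  exact Subgroup.commutator_commutator_eq_bot_of_rotate h1 h2

theorem ps_lcs_comm (G : Type*) [Group G] : ∀ j i : ℕ,
    ⁅(⊤ : Subgroup G).lowerCentralSeries i, (⊤ : Subgroup G).lowerCentralSeries j⁆
      ≤ (⊤ : Subgroup G).lowerCentralSeries (i + j + 1) := by
  intro j
  induction j with
  | zero => intro i; rfl
  | succ j ih =>
    intro i
    rw [Subgroup.lowerCentralSeries_succ, commutator_comm]
    apply ps_three_subgroups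
    · rw [commutator_comm ⊤, ← Subgroup.lowerCentralSeries_succ]
      have := ih (i + 1)
      have e : i + 1 + j + 1 = i + (j + 1) + 1 := by omega
      rwa [e] at this
    · have h1 := commutator_mono (ih i) (le_refl (⊤ : Subgroup G))
      rw [← Subgroup.lowerCentralSeries_succ] at h1
      exact h1

/-- the lower central series as a filtration with `F 0 = F 1 = ⊤` -/
def psLcs (G : Type*) [Group G] (d : ℕ) : Subgroup G :=
  (⊤ : Subgroup G).lowerCentralSeries (d - 1)

theorem psLcs_filt (G : Type*) [Group G] : PsFilt (psLcs G) := by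
  refine ⟨fun a b hab => (⊤ : Subgroup G).lowerCentralSeries_antitone (by omega), ?_⟩
  intro i j
  unfold psLcs
  rcases Nat.eq_zero_or_pos i with rfl | hi
  · rw [Nat.zero_add]
    exact commutator_le_right _ _
  rcases Nat.eq_zero_or_pos j with rfl | hj
  · rw [Nat.add_zero]
    exact commutator_le_left _ _
  · have := ps_lcs_comm G (j - 1) (i - 1)
    have e : i - 1 + (j - 1) + 1 = i + j - 1 := by omega
    rwa [e] at this

theorem ps_dvd_choose {p : ℕ} (hp : p.Prime) (n i : ℕ) (hi0 : 0 < i) (hip : i < p) :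
    p ^ n ∣ (p ^ n).choose i := by
  obtain ⟨i', rfl⟩ : ∃ i', i = i' + 1 := ⟨i - 1, by omega⟩
  have hpos : 0 < p ^ n := pos_of_ne_zero (pow_ne_zero _ hp.ne_zero)
  obtain ⟨m, hm⟩ : ∃ m, p ^ n = m + 1 := ⟨p ^ n - 1, by omega⟩
  have h1 := Nat.add_one_mul_choose_eq m i'
  rw [← hm] at h1
  have hcop : Nat.Coprime (p ^ n) (i' + 1) := by
    apply Nat.Coprime.pow_left
    rw [Nat.Prime.coprime_iff_not_dvd hp]
    exact Nat.not_dvd_of_pos_of_lt (Nat.succ_pos _) hip
  have h2 : p ^ n ∣ (p ^ n).choose (i' + 1) * (i' + 1) := ⟨_, h1.symm⟩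
  exact hcop.dvd_of_dvd_mul_right h2

/-- Hall--Petrescu for class less than `p`: `x ^ q y ^ q ≡ (x y) ^ q` modulo `q`-th powers of
elements of the derived subgroup, `q = p ^ n`. -/
theorem ps_hall_petrescu {G : Type*} [Group G] {p : ℕ} (hp : p.Prime)
    (hcl : (⊤ : Subgroup G).lowerCentralSeries (p - 1) = ⊥) (x y : G) (n : ℕ) :
    ((x * y) ^ (p ^ n))⁻¹ * x ^ (p ^ n) * y ^ (p ^ n) ∈
      Subgroup.closure {z : G | ∃ w ∈ commutator G, z = w ^ (p ^ n)} := by
  have hF := psLcs_filt G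
  have hc : psLcs G ((p - 1) + 1) = ⊥ := by
    unfold psLcs
    rw [Nat.add_sub_cancel]; exact hcl
  have hone : ∀ z : G, z ∈ psLcs G 1 := fun z => by
    unfold psLcs; simp
  have hg : PsPolyAll (psLcs G) 0
      ((fun k : ℕ => (y⁻¹ * x⁻¹) ^ k) * (fun k : ℕ => x ^ k) * (fun k : ℕ => y ^ k)) :=
    ((psPolyAll_pow hF _ (hone _)).mul hF (psPolyAll_pow hF _ (hone _))).mul hF
      (psPolyAll_pow hF _ (hone _))
  have h0 : ∀ i < 2, ((fun k : ℕ => (y⁻¹ * x⁻¹) ^ k) * (fun k : ℕ => x ^ k) *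
      (fun k : ℕ => y ^ k)) i = 1 := by
    intro i hi
    interval_cases i
    · simp
    · simp only [Pi.mul_apply, pow_one]; group
  have hS : ∀ i, 2 ≤ i → i ≤ p - 1 → ∀ a ∈ psLcs G i, a ^ ((p ^ n).choose i) ∈
      Subgroup.closure {z : G | ∃ w ∈ commutator G, z = w ^ (p ^ n)} := by
    intro i hi2 hip a ha
    have hp1 := hp.one_lt
    obtain ⟨e, he⟩ := ps_dvd_choose hp n i (by omega) (by omega)
    rw [he, pow_mul']
    apply Subgroup.subset_closure
    refine ⟨a ^ e, ?_, rfl⟩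
    have h2 : psLcs G i ≤ psLcs G 2 := hF.anti hi2
    have h3 : psLcs G 2 = commutator G := by
      unfold psLcs; rfl
    rw [← h3]
    exact pow_mem (h2 ha) _
  have := psPolyAll_taylor hF hc _ (p ^ n) hS (p - 1 + 1) 2 le_rfl (by omega) _ hg h0
  simp only [Pi.mul_apply] at this
  have e : (y⁻¹ * x⁻¹) ^ (p ^ n) = ((x * y) ^ (p ^ n))⁻¹ := by
    rw [← inv_pow, mul_inv_rev]
  rwa [e] at this


end Cfsg.Agent.Lib.Helper70
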