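import Mathlib
-- copy of the quaternion lift written by helper20 (Lib/Helper20/QuatLift.lean), renamespaced

set_option autoImplicit false

namespace Cfsg.Agent.Lib.Helper70.Quat

open QuaternionGroup

variable {G : Type*} [Group G]

theorem zpow_eq_of_cast_eq' {x : G} {n : ℕ} (hx : x ^ n = 1) {a b : ℤ}
    (h : (a : ZMod n) = (b : ZMod n)) : x ^ a = x ^ b := by
  rw [zpow_eq_zpow_iff_modEq]
  have h1 : a ≡ b [ZMOD (n : ℤ)] := (ZMod.intCast_eq_intCast_iff a b n).mp h
  exact h1.of_dvd (Int.natCast_dvd_natCast.mpr (orderOf_dvd_of_pow_eq_one hx))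

/-- The map from the quaternion group sending `a i` to `α ^ i` and `xa i` to `β * α ^ i`. -/
def quatFun (β α : G) (n : ℕ) : QuaternionGroup n → G
  | a i => α ^ (i.cast : ℤ)
  | xa i => β * α ^ (i.cast : ℤ)

theorem zpow_mul_of_conj {β α : G} (hβα : β * α * β⁻¹ = α⁻¹) (k : ℤ) :
    α ^ k * β = β * α ^ (-k) := by
  have h1 : β⁻¹ * α * β = α⁻¹ := by
    have : α = β⁻¹ * α⁻¹ * β := by rw [← hβα]; group
    calc β⁻¹ * α * β = (β⁻¹ * α⁻¹ * β)⁻¹ := by group
      _ = α⁻¹ := by rw [← this]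
  have h2 : β⁻¹ * α ^ k * β = (α⁻¹) ^ k := by
    rw [← h1]
    have := conj_zpow (a := β⁻¹) (b := α) (i := k)
    rw [inv_inv] at this
    exact this.symm
  calc α ^ k * β = β * (β⁻¹ * α ^ k * β) := by group
    _ = β * α ^ (-k) := by rw [h2, inv_zpow, zpow_neg]

/-- The quaternion group of order `4n` maps to any group with elements `β`, `α` satisfying the
quaternion relations. -/
def quatLift (β α : G) (n : ℕ) (hα : α ^ (2 * n) = 1) (hβ : β * β = α ^ n)
    (hβα : β * α * β⁻¹ = α⁻¹) : QuaternionGroup n →* G :=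
  MonoidHom.mk' (quatFun β α n) (by
    intro u v
    have key := zpow_mul_of_conj hβα
    rcases u with i | i <;> rcases v with j | j
    · show α ^ ((i + j : ZMod (2 * n)).cast : ℤ) = α ^ (i.cast : ℤ) * α ^ (j.cast : ℤ)
      rw [← zpow_add]
      apply zpow_eq_of_cast_eq' hα
      simp
    · show β * α ^ ((j - i : ZMod (2 * n)).cast : ℤ) = α ^ (i.cast : ℤ) * (β * α ^ (j.cast : ℤ))
      rw [← mul_assoc, key, mul_assoc, ← zpow_add]
      congr 1
      apply zpow_eq_of_cast_eq' hα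
      simp [sub_eq_neg_add]
    · show β * α ^ ((i + j : ZMod (2 * n)).cast : ℤ) = (β * α ^ (i.cast : ℤ)) * α ^ (j.cast : ℤ)
      rw [mul_assoc, ← zpow_add]
      congr 1
      apply zpow_eq_of_cast_eq' hα
      simp
    · show α ^ ((n + j - i : ZMod (2 * n)).cast : ℤ) = (β * α ^ (i.cast : ℤ)) * (β * α ^ (j.cast : ℤ))
      rw [mul_assoc, ← mul_assoc (α ^ _) β, key, mul_assoc, ← mul_assoc β β, hβ, ← zpow_natCast,
        ← zpow_add, ← zpow_add]
      apply zpow_eq_of_cast_eq' hα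
      simp [sub_eq_neg_add]
      ring)

theorem quatLift_a (β α : G) (n : ℕ) (hα : α ^ (2 * n) = 1) (hβ : β * β = α ^ n)
    (hβα : β * α * β⁻¹ = α⁻¹) (i : ZMod (2 * n)) :
    quatLift β α n hα hβ hβα (a i) = α ^ (i.cast : ℤ) := rfl

theorem quatLift_xa (β α : G) (n : ℕ) (hα : α ^ (2 * n) = 1) (hβ : β * β = α ^ n)
    (hβα : β * α * β⁻¹ = α⁻¹) (i : ZMod (2 * n)) :
    quatLift β α n hα hβ hβα (xa i) = β * α ^ (i.cast : ℤ) := rfl

theorem quatLift_surjective (β α : G) (n : ℕ) (hα : α ^ (2 * n) = 1) (hβ : β * β = α ^ n)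
    (hβα : β * α * β⁻¹ = α⁻¹) (hgen : Subgroup.closure ({β, α} : Set G) = ⊤) :
    Function.Surjective (quatLift β α n hα hβ hβα) := by
  rw [← MonoidHom.range_eq_top, eq_top_iff, ← hgen, Subgroup.closure_le]
  intro g hg
  rcases hg with rfl | rfl
  · refine ⟨xa 0, ?_⟩
    rw [quatLift_xa]
    simp
  · refine ⟨a 1, ?_⟩
    rw [quatLift_a]
    have : g ^ (((1 : ZMod (2 * n)).cast : ℤ)) = g ^ (1 : ℤ) := by
      apply zpow_eq_of_cast_eq' hα
      simp
    rw [this, zpow_one]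

theorem quatLift_injective (β α : G) (n : ℕ) (ho : orderOf α = 2 * n) (hβ : β * β = α ^ n)
    (hβα : β * α * β⁻¹ = α⁻¹) (hns : β ∉ Subgroup.zpowers α) :
    Function.Injective (quatLift β α n (by rw [← ho]; exact pow_orderOf_eq_one α) hβ hβα) := by
  rw [injective_iff_map_eq_one]
  intro u hu
  rcases u with i | i
  · rw [quatLift_a] at hu
    have h0 : α ^ ((i.cast : ℤ)) = α ^ (0 : ℤ) := by rw [hu, zpow_zero]
    rw [zpow_eq_zpow_iff_modEq, ho] at h0
    have : ((i.cast : ℤ) : ZMod (2 * n)) = ((0 : ℤ) : ZMod (2 * n)) :=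
      (ZMod.intCast_eq_intCast_iff _ _ _).mpr h0
    simp at this
    rw [this]; rfl
  · exfalso
    rw [quatLift_xa] at hu
    apply hns
    have : β = (α ^ (i.cast : ℤ))⁻¹ := eq_inv_of_mul_eq_one_left hu
    rw [this]
    exact Subgroup.inv_mem _ (Subgroup.zpow_mem_zpowers α _)

/-- A group generated by `β` and `α` satisfying the quaternion relations, with `β` not a power of
`α` and `α` of order `2n`, is generalized quaternion of order `4n`. -/
noncomputable def quatEquiv (β α : G) (n : ℕ) (ho : orderOf α = 2 * n) (hβ : β * β = α ^ n)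
    (hβα : β * α * β⁻¹ = α⁻¹) (hns : β ∉ Subgroup.zpowers α)
    (hgen : Subgroup.closure ({β, α} : Set G) = ⊤) :
    QuaternionGroup n ≃* G :=
  MulEquiv.ofBijective (quatLift β α n (by rw [← ho]; exact pow_orderOf_eq_one α) hβ hβα)
    ⟨quatLift_injective β α n ho hβ hβα hns,
     quatLift_surjective β α n _ hβ hβα hgen⟩

end Cfsg.Agent.Lib.Helper70.Quat
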