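import Mathlib
import Cfsg.Agent.S2430
import Cfsg.Agent.Lib.Helper38.SLCard

/-!
Rt hive (helper12), leaf RT-SL2SYL: Sylow `p`-subgroups of `SL₂(q)` are cyclic for odd `p ∣ q + 1`.
-/

set_option autoImplicit false

namespace Cfsg.Agent.Lib.Helper12.Rt

theorem sl2syl_factorization {q p : ℕ} (hq : 2 ≤ q) (hp : p.Prime) (hp2 : p ≠ 2) (hpq : p ∣ q + 1) :
    (q * (q ^ 2 - 1)).factorization p = (q + 1).factorization p := by
  have h1 : ¬ p ∣ q := by
    intro h
    have : p ∣ 1 := (Nat.dvd_add_right h).mp hpq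
    exact hp.one_lt.ne' (Nat.dvd_one.mp this)
  have h2 : ¬ p ∣ q - 1 := by
    intro h
    have h3 : p ∣ (q + 1) - (q - 1) := Nat.dvd_sub hpq h
    have h4 : (q + 1) - (q - 1) = 2 := by omega
    rw [h4] at h3
    exact hp2 ((Nat.prime_dvd_prime_iff_eq hp Nat.prime_two).mp h3)
  have h5 : q ^ 2 - 1 = (q + 1) * (q - 1) := by
    have := Nat.sq_sub_sq q 1
    simpa using this
  have hq0 : q ≠ 0 := by omega
  have hq1 : q - 1 ≠ 0 := by omega
  have hq2 : q + 1 ≠ 0 := by omega
  rw [h5, Nat.factorization_mul hq0 (mul_ne_zero hq2 hq1), Nat.factorization_mul hq2 hq1]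
  simp only [Finsupp.coe_add, Pi.add_apply]
  rw [Nat.factorization_eq_zero_of_not_dvd h1, Nat.factorization_eq_zero_of_not_dvd h2]
  omega

/-- RT-SL2SYL. In `SL₂(K)`, `|K| = q` odd, the Sylow `p`-subgroups are cyclic for every odd prime `p ∣ q + 1`.
(From `Cfsg.Agent.S2430.result`: `C(P)` is cyclic of order `q + 1`; its subgroup of order `(q+1)_p = |SL₂(q)|_p`
is a cyclic Sylow `p`-subgroup, and all Sylow subgroups are conjugate.) -/
theorem sl2_sylow_cyclic {K : Type*} [Field K] [Fintype K] (hodd : Odd (Fintype.card K))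
    (p : ℕ) [Fact p.Prime] (hp2 : p ≠ 2) (hpq : p ∣ Fintype.card K + 1)
    (P : Sylow p (Matrix.SpecialLinearGroup (Fin 2) K)) :
    IsCyclic ↥(P : Subgroup (Matrix.SpecialLinearGroup (Fin 2) K)) := by
  classical
  obtain ⟨hcard, hcyc, -⟩ := (Cfsg.Agent.S2430.result hodd p hp2 P).2 hpq
  set C := Subgroup.centralizer
    ((P : Subgroup (Matrix.SpecialLinearGroup (Fin 2) K)) : Set (Matrix.SpecialLinearGroup (Fin 2) K))
    with hC
  have : IsCyclic C := hcyc
  -- a Sylow subgroup of `C`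
  let Q : Sylow p C := default
  have hQcard : Nat.card Q = p ^ (Fintype.card K + 1).factorization p := by
    rw [Sylow.card_eq_multiplicity, hcard]
  set P' : Subgroup (Matrix.SpecialLinearGroup (Fin 2) K) := (Q : Subgroup C).map C.subtype with hP'
  have hP'card : Nat.card P' = p ^ (Nat.card (Matrix.SpecialLinearGroup (Fin 2) K)).factorization p := by
    rw [hP', Subgroup.card_map_of_injective C.subtype_injective, Cfsg.Agent.Lib.Helper38.card_SL2,
      sl2syl_factorization Fintype.one_lt_card (Fact.out) hp2 hpq]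
    exact hQcard
  let P'' : Sylow p (Matrix.SpecialLinearGroup (Fin 2) K) := Sylow.ofCard P' hP'card
  have e1 : ↥(P : Subgroup (Matrix.SpecialLinearGroup (Fin 2) K)) ≃*
      ↥(P'' : Subgroup (Matrix.SpecialLinearGroup (Fin 2) K)) := Sylow.equiv P P''
  have e2 : ↥(Q : Subgroup C) ≃* ↥P' := Subgroup.equivMapOfInjective _ _ C.subtype_injective
  have : IsCyclic ↥(Q : Subgroup C) := Subgroup.isCyclic _
  have hP'cyc : IsCyclic ↥P' := isCyclic_of_surjective e2.toMonoidHom e2.surjective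
  have hP''cyc : IsCyclic ↥(P'' : Subgroup (Matrix.SpecialLinearGroup (Fin 2) K)) := hP'cyc
  exact isCyclic_of_surjective e1.symm.toMonoidHom e1.symm.surjective

end Cfsg.Agent.Lib.Helper12.Rt
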