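import Cfsg.Agent.Lib.Helper70.SlK2Defs

/-!
Sl hive (S2332, helper76), sub-hive K2 (helper70), leaf K2-CONJ1: conjugates of `tv` are transvections.
-/

set_option autoImplicit false

namespace Cfsg.Agent.Lib.Helper76.Sl

open Matrix Cfsg

variable {F : Type*} [Field F] [Fintype F] [DecidableEq F]

omit [Fintype F] [DecidableEq F] in
theorem k2conj1_tv_val (m : ℕ) :
    (tv F m).1 = 1 + Matrix.vecMulVec (Pi.single (0 : Fin (m + 2)) (1 : F))
      (Pi.single (Fin.last (m + 1)) (1 : F)) := by
  unfold tv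
  rw [Matrix.SpecialLinearGroup.transvection]
  simp only [Matrix.transvection]
  congr 1
  ext i j
  simp only [Matrix.single, Matrix.of_apply, Matrix.vecMulVec_apply, Pi.single_apply]
  by_cases hi : i = 0 <;> by_cases hj : j = Fin.last (m + 1) <;> simp [hi, hj, eq_comm]

/-- K2-CONJ1 -/
theorem conj_tv_mem_Tset (m : ℕ) (h : Gm F m) : h * tv F m * h⁻¹ ∈ Tset F m := by
  have hinv : h.1 * (h⁻¹).1 = 1 := by
    have : h * h⁻¹ = 1 := mul_inv_cancel h
    exact congrArg Subtype.val this
  have hinv' : (h⁻¹).1 * h.1 = 1 := by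
    have : h⁻¹ * h = 1 := inv_mul_cancel h
    exact congrArg Subtype.val this
  refine ⟨h.1.mulVec (Pi.single 0 1), Matrix.vecMul (Pi.single (Fin.last (m + 1)) 1) (h⁻¹).1, ?_, ?_, ?_, ?_⟩
  · intro h0
    have h1 : (h⁻¹).1.mulVec (h.1.mulVec (Pi.single 0 1)) = 0 := by rw [h0, Matrix.mulVec_zero]
    rw [Matrix.mulVec_mulVec, hinv', Matrix.one_mulVec] at h1
    have := congrFun h1 0
    simp at this
  · intro h0
    have h1 : Matrix.vecMul (Matrix.vecMul (Pi.single (Fin.last (m + 1)) (1 : F)) (h⁻¹).1) h.1 = 0 := by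
      rw [h0, Matrix.zero_vecMul]
    rw [Matrix.vecMul_vecMul, hinv', Matrix.vecMul_one] at h1
    have := congrFun h1 (Fin.last (m + 1))
    simp at this
  · rw [Matrix.dotProduct_mulVec, Matrix.vecMul_vecMul, hinv', Matrix.vecMul_one]
    simp only [dotProduct, Pi.single_apply]
    apply Finset.sum_eq_zero
    intro i _
    by_cases hi : i = Fin.last (m + 1)
    · have : i ≠ 0 := by
        rw [hi]
        intro h0
        have := congrArg Fin.val h0
        simp at this
      simp [this]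
    · simp [hi]
  · show (h.1 * (tv F m).1 * (h⁻¹).1) = _
    rw [k2conj1_tv_val, mul_add, add_mul, mul_one, hinv, Matrix.mul_vecMulVec, Matrix.vecMulVec_mul]

end Cfsg.Agent.Lib.Helper76.Sl
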