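import Cfsg.Agent.Lib.Helper70.SlK2Defs

/-!
Sl hive (S2332, helper76), sub-hive K2 (helper70), leaf K2-PAIRS: the number of pairs `(v, f)`.
-/

set_option autoImplicit false

namespace Cfsg.Agent.Lib.Helper76.Sl

open Matrix Cfsg

variable {F : Type*} [Field F] [Fintype F] [DecidableEq F]

/-- the functional `f ↦ f ⬝ᵥ v` -/
def k2pairs_phi (n : ℕ) (v : Fin n → F) : (Fin n → F) →ₗ[F] F where
  toFun f := f ⬝ᵥ v
  map_add' f g := by simp [add_dotProduct]
  map_smul' c f := by simp [smul_dotProduct]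

omit [Fintype F] in
theorem k2pairs_phi_surj (n : ℕ) (v : Fin n → F) (hv : v ≠ 0) :
    Function.Surjective (k2pairs_phi n v) := by
  obtain ⟨i, hi⟩ : ∃ i, v i ≠ 0 := by
    by_contra hall
    apply hv
    funext i
    by_contra hi
    exact hall ⟨i, hi⟩
  intro c
  refine ⟨Pi.single i (c / v i), ?_⟩
  show (Pi.single i (c / v i) : Fin n → F) ⬝ᵥ v = c
  rw [single_dotProduct]
  field_simp

theorem k2pairs_card_ker (n : ℕ) (v : Fin n → F) (hv : v ≠ 0) :
    Nat.card (LinearMap.ker (k2pairs_phi n v)) * Fintype.card F = Fintype.card F ^ n := by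
  have h1 := Submodule.card_eq_card_quotient_mul_card (LinearMap.ker (k2pairs_phi n v))
  have e := (k2pairs_phi n v).quotKerEquivOfSurjective (k2pairs_phi_surj n v hv)
  rw [Nat.card_congr e.toEquiv, Nat.card_eq_fintype_card (α := F)] at h1
  rw [← h1, Nat.card_eq_fintype_card, Fintype.card_fun, Fintype.card_fin]

theorem k2pairs_card_fibre (n : ℕ) (hn : 1 ≤ n) (v : Fin n → F) (hv : v ≠ 0) :
    Nat.card {f : Fin n → F // f ≠ 0 ∧ f ⬝ᵥ v = 0} = Fintype.card F ^ (n - 1) - 1 := by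
  classical
  have hq : 0 < Fintype.card F := Fintype.card_pos
  have hker : Nat.card (LinearMap.ker (k2pairs_phi n v)) = Fintype.card F ^ (n - 1) := by
    have h1 := k2pairs_card_ker n v hv
    have h2 : Fintype.card F ^ n = Fintype.card F ^ (n - 1) * Fintype.card F := by
      rw [← pow_succ]
      congr 1
      omega
    rw [h2] at h1
    exact Nat.eq_of_mul_eq_mul_right hq h1
  have hset : Nat.card {f : Fin n → F // f ≠ 0 ∧ f ⬝ᵥ v = 0} =
      (((LinearMap.ker (k2pairs_phi n v) : Submodule F (Fin n → F)) : Set (Fin n → F)) \ {0}).ncard := by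
    rw [← Nat.card_coe_set_eq]
    apply Nat.card_congr
    refine Equiv.subtypeEquivRight ?_
    intro f
    simp only [Set.mem_sdiff, SetLike.mem_coe, LinearMap.mem_ker, Set.mem_singleton_iff]
    constructor
    · rintro ⟨h1, h2⟩
      exact ⟨h2, h1⟩
    · rintro ⟨h1, h2⟩
      exact ⟨h2, h1⟩
  rw [hset, Set.ncard_sdiff_singleton_of_mem (Submodule.zero_mem _), ← hker, ← Nat.card_coe_set_eq]
  rfl

/-- K2-PAIRS -/
theorem card_TPair (n : ℕ) (hn : 1 ≤ n) :
    Nat.card (TPair F n) = (Fintype.card F ^ n - 1) * (Fintype.card F ^ (n - 1) - 1) := by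
  classical
  let e : TPair F n ≃ Σ v : {v : Fin n → F // v ≠ 0}, {f : Fin n → F // f ≠ 0 ∧ f ⬝ᵥ v.1 = 0} :=
    { toFun := fun p => ⟨⟨p.1.1, p.2.1⟩, ⟨p.1.2, p.2.2.1, p.2.2.2⟩⟩
      invFun := fun s => ⟨(s.1.1, s.2.1), s.1.2, s.2.2.1, s.2.2.2⟩
      left_inv := fun p => rfl
      right_inv := fun s => rfl }
  rw [Nat.card_congr e, Nat.card_sigma]
  have h1 : ∀ v : {v : Fin n → F // v ≠ 0},
      Nat.card {f : Fin n → F // f ≠ 0 ∧ f ⬝ᵥ v.1 = 0} = Fintype.card F ^ (n - 1) - 1 :=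
    fun v => k2pairs_card_fibre n hn v.1 v.2
  rw [Finset.sum_congr rfl (fun v _ => h1 v), Finset.sum_const, Finset.card_univ, smul_eq_mul]
  congr 1
  rw [Fintype.card_subtype_compl, Fintype.card_fun, Fintype.card_fin]
  simp

end Cfsg.Agent.Lib.Helper76.Sl
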