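import Cfsg.Agent.Lib.Helper70.SlK2Defs
import Cfsg.Agent.Lib.Helper70.SlK2CONJ1
import Cfsg.Agent.Lib.Helper70.SlK2PAIRS
import Cfsg.Agent.Lib.Helper80.SlK2ARITH
import Cfsg.Agent.Lib.Helper80.SlK2CONJQ
import Cfsg.Agent.Lib.Helper69.SlK2CONJ2core
import Cfsg.Agent.Lib.Helper90.SlK2FIB2
import Cfsg.Agent.Lib.Helper96.SlK2INT
import Cfsg.Agent.Lib.Helper3.Degree
import Cfsg.Agent.Lib.Helper3.CharOps

/-!
Sl hive (S2332, owner helper76), sub-hive K2 (owner helper70): assembly of `integ`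
(`χ(1)` divides `|cl(tv)| χ(tv)`, `|cl(tv)| = Ccl q n`).
Leaves: K2-INT (helper96), K2-ARITH + K2-CONJQ (helper80), K2-VEC + K2-CONJ2 core (helper69),
K2-FIB (helper90), K2-CONJ1 + K2-PAIRS (helper70).
-/

set_option autoImplicit false

namespace Cfsg.Agent.Lib.Helper76.Sl

open Matrix Cfsg

variable {F : Type*} [Field F] [Fintype F] [DecidableEq F]

theorem card_Tset (m : ℕ) : Nat.card (Tset F m) = Ccl (Fintype.card F) (m + 2) := by
  have h1 := card_TPair_eq (F := F) m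
  rw [card_TPair (F := F) (m + 2) (by omega)] at h1
  have hq : 2 ≤ Fintype.card F := Fintype.one_lt_card
  rw [← Npt_mul (Fintype.card F) (m + 2) (by omega)] at h1
  have h2 : (Fintype.card F - 1) * (Npt (Fintype.card F) (m + 2) * (Fintype.card F ^ (m + 2 - 1) - 1)) =
      (Fintype.card F - 1) * Nat.card (Tset F m) := by
    rw [← h1]; ring
  have h3 := Nat.eq_of_mul_eq_mul_left (by omega : 0 < Fintype.card F - 1) h2
  unfold Ccl
  exact h3.symm

theorem index_centralizer_tv (m : ℕ) (hm : 1 ≤ m) :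
    (Subgroup.centralizer ({tv F m} : Set (Gm F m))).index = Ccl (Fintype.card F) (m + 2) := by
  classical
  rw [← card_Tset (F := F) m, ← Cfsg.Agent.Lib.Helper3.card_fiber_mk (tv F m), Nat.card_eq_fintype_card,
    ← Fintype.card_coe]
  apply Fintype.card_congr
  refine Equiv.subtypeEquivRight ?_
  intro a
  simp only [Finset.mem_filter, Finset.mem_univ, true_and]
  rw [ConjClasses.mk_eq_mk_iff_isConj]
  constructor
  · intro h
    obtain ⟨c, hc⟩ := isConj_iff.mp h.symm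
    rw [← hc]
    exact conj_tv_mem_Tset m c
  · intro h
    obtain ⟨c, hc⟩ := k2conj2_core m (fun hg h1 => exists_conj_of_mem_Qset m hm hg h1) h
    exact (isConj_iff.mpr ⟨c, hc⟩).symm

/-- K2 INT (exact statement of tools/helper76/SlSkel.lean.txt) -/
theorem integ (m : ℕ) (hm : 1 ≤ m) (χ : Gm F m → ℂ) (hχ : IsIrrCharacter (Gm F m) χ) (d : ℕ) (z : ℤ)
    (hd : χ 1 = d) (hz : χ (tv F m) = z) : (d : ℤ) ∣ (Ccl (Fintype.card F) (m + 2) : ℤ) * z := by
  have := k2_int χ hχ (tv F m) d z hd hz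
  rwa [index_centralizer_tv m hm] at this

end Cfsg.Agent.Lib.Helper76.Sl
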