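import Cfsg.Agent.Lib.Helper76.SlDefs

/-!
Sl hive (S2332, owner helper76), sub-hive K2 (owner helper70): definitions.
`Tset F m` = the set of all transvections `1 + v fᵀ` of `SL_{m+2}(F)`; `TPair F n` = the pairs `(v, f)`.
-/

set_option autoImplicit false

namespace Cfsg.Agent.Lib.Helper76.Sl

open Matrix

variable (F : Type*) [Field F] [Fintype F] [DecidableEq F]

/-- the pairs `(v, f)` with `v ≠ 0`, `f ≠ 0`, `f ⬝ v = 0` -/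
def TPair (n : ℕ) : Type _ :=
  {p : (Fin n → F) × (Fin n → F) // p.1 ≠ 0 ∧ p.2 ≠ 0 ∧ p.2 ⬝ᵥ p.1 = 0}

/-- the set of all transvections `1 + v fᵀ` (`v ≠ 0`, `f ≠ 0`, `f ⬝ v = 0`) of `SL_{m+2}(F)` -/
def Tset (m : ℕ) : Set (Gm F m) :=
  {g | ∃ v f : Fin (m + 2) → F, v ≠ 0 ∧ f ≠ 0 ∧ f ⬝ᵥ v = 0 ∧ g.1 = 1 + Matrix.vecMulVec v f}

end Cfsg.Agent.Lib.Helper76.Sl
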