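import Cfsg.Agent.Lib.Helper70.SpUPERMcore
import Cfsg.Agent.Lib.Helper27.SpULEV1

/-! # S2316 hive, leaf SPU-PERM (helper70): the longest element of `W_J` -/

set_option autoImplicit false

namespace Cfsg.Agent.Lib.Helper70.SpU

open Matrix Cfsg.Agent.Lib.Helper13 Cfsg.Agent.Lib.Helper41.SpBN

universe u

variable {F : Type u} [Field F] {m : ℕ}

theorem exists_rev (J : Set (SpG F m)) (_hJ : J ⊆ Ssp F m) :
    ∃ ρ ∈ Subgroup.closure (permsOf J), ∀ a b : Idx m, lev J a = lev J b → pos a < pos b →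
      pos (ρ b) < pos (ρ a) :=
  perm_core J (fun h => lev_eq_of_joined J h) (fun h1 h2 h3 => joined_of_lev_eq J h1 h2 h3)

end Cfsg.Agent.Lib.Helper70.SpU
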