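import Cfsg.Agent.Lib.Helper70.SpUDefs
import Cfsg.Agent.Lib.Helper70.SpUPERM
import Cfsg.Agent.Lib.Helper41.SpBNMain
import Cfsg.Agent.Lib.Helper6.Uni.Fin
import Cfsg.Agent.Lib.Helper13.SpUTRI
import Cfsg.Agent.Lib.Helper13.SpUINT
import Cfsg.Agent.Lib.Helper27.SpULEV1
import Cfsg.Agent.Lib.Helper27.SpUNORM
import Cfsg.Agent.Lib.Helper72.SpUCNT
import Cfsg.Agent.Lib.Helper74.SpULEV3
import Cfsg.Agent.Lib.Helper97.SpULIFT
import Cfsg.Agent.Lib.Helper97.SpUUT
import Cfsg.Agent.Lib.Helper69.SpUCARDcore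
import Cfsg.Agent.Lib.Helper69.SpUJPcore
import Cfsg.Agent.Lib.Helper9.SpUSYLcore

/-! # S2316 hive (helper70): assembly.  Steinberg's count for `Sp_{2m}(F)`:
helper6's abstract `Uni.card_pElts_top` applied to helper41's `bnPairSp`, with `U = Usp`,
`V_J = Vl (lev J)`, `n_J` = a monomial matrix whose permutation reverses the blocks of `J`. -/

set_option autoImplicit false

namespace Cfsg.Agent.Lib.Helper70.SpU

open Matrix Cfsg Cfsg.Agent.Lib.Helper13 Cfsg.Agent.Lib.Helper41.SpBN Cfsg.Agent.Lib.Helper6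
  Cfsg.Agent.Lib.Helper6.Uni

universe u

variable {F : Type u} [Field F] {m : ℕ}

/-- SPU-CARD from helper69's core -/
theorem main_card_Usp [Fintype F] : Nat.card (Usp F m) = Fintype.card F ^ (m ^ 2) :=
  card_core Usp_sup_T Usp_inf_T (by rw [Bsp_eq_Pl]; exact Pl_le_normalizer pos)

/-- SPU-SYL from helper9's core -/
theorem main_Usp_sylow [Fintype F] (p : ℕ) [Fact p.Prime] [CharP F p] :
    IsPGroup p (Usp F m) ∧ ¬ p ∣ (Usp F m).index :=
  syl_core p main_card_Usp

/-- SPU-JP from helper69's core -/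
theorem main_closure_le_Pl [Finite F] (J : Set (SpG F m)) (hJ : J ⊆ Ssp F m) :
    Subgroup.closure J ≤ Pl F (lev J) :=
  jp_core J hJ (fun h a => lev_perm J h a)

theorem exists_n1 [Finite F] (J : Set (SpG F m)) (hJ : J ⊆ Ssp F m) :
    ∃ n ∈ Subgroup.closure J, ∀ g ∈ Usp F m, n⁻¹ * g * n ∈ Bsp F m → g ∈ Vl F (lev J) := by
  obtain ⟨ρ, hρ, hrev⟩ := exists_rev J hJ
  obtain ⟨w, hw, e, hwe⟩ := exists_lift J hρ
  refine ⟨w⁻¹, Subgroup.inv_mem _ hw, ?_⟩
  have h1 := isMono_inv w hwe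
  refine inter_le_Vl J h1 ?_
  intro a b hab hlt
  have : (ρ.symm).symm = ρ := Equiv.symm_symm ρ
  rw [this]
  exact hrev a b hab hlt

/-- **Steinberg's count for the symplectic groups**: `Sp_{2m}(q)` has `q^(2m²)` elements of `p`-power order. -/
theorem main [Fintype F] (p : ℕ) [Fact p.Prime] [CharP F p] (m : ℕ) :
    Nat.card {g : ↥(Matrix.symplecticGroup (Fin m) F) // ∃ k : ℕ, orderOf g = p ^ k} =
      Fintype.card F ^ (2 * m ^ 2) := by
  classical
  haveI : Fintype (SpG F m) := Fintype.ofFinite _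
  set P := bnPairSp F m with hP
  have hfin : (P.S).Finite := Set.toFinite _
  set T : Finset (SpG F m) := hfin.toFinset with hTdef
  have hT : (↑T : Set (SpG F m)) = P.S := hfin.coe_toFinset
  have hPB : P.B = Bsp F m := rfl
  have hPS : P.S = Ssp F m := rfl
  have hUB : Usp F m ≤ P.B := by
    rw [hPB, Bsp_eq_Pl]
    exact Vl_le_Pl _
  have hUn : P.B ≤ Subgroup.normalizer (Usp F m : Set (SpG F m)) := by
    rw [hPB, Bsp_eq_Pl]
    exact Pl_le_normalizer _
  have hUH : Usp F m ⊔ (P.B ⊓ P.N) = P.B := Usp_sup_T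
  obtain ⟨hUp, hUs⟩ := main_Usp_sylow (F := F) (m := m) p
  have hJS : ∀ J : Finset (SpG F m), J ⊆ T → (↑J : Set (SpG F m)) ⊆ Ssp F m := by
    intro J hJ x hx
    have : x ∈ (↑T : Set (SpG F m)) := hJ hx
    rw [hT] at this
    exact this
  have key := card_pElts_top P T hT p (Usp F m) hUB hUp hUn hUH hUs
    (fun J => Vl F (lev (↑J : Set (SpG F m))))
    (fun J => if hJ : J ⊆ T then Classical.choose (exists_n1 (↑J : Set (SpG F m)) (hJS J hJ)) else 1)
    ?_ ?_
  · rw [key, main_card_Usp, ← pow_mul]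
    congr 1
    ring
  · intro J hJ
    have hspec := Classical.choose_spec (exists_n1 (↑J : Set (SpG F m)) (hJS J hJ))
    rw [dif_pos hJ]
    refine ⟨?_, ?_, ?_, ?_⟩
    · exact Vl_le_of_mono (fun a b hab => lev_mono _ hab)
    · refine le_trans ?_ (Pl_le_normalizer (lev (↑J : Set (SpG F m))))
      unfold Cfsg.BNPair.parabolic
      apply sup_le
      · rw [hPB, Bsp_eq_Pl]
        apply Pl_le_of_mono
        intro a b hab
        by_contra hcon
        have := lev_mono (↑J : Set (SpG F m)) (not_lt.mp hcon)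
        omega
      · exact main_closure_le_Pl _ (hJS J hJ)
    · exact Subgroup.mem_sup_left hspec.1
    · apply card_le_of_stab P (Usp F m) _ hUB hUn hUH
      · have h1 : Subgroup.closure (↑J : Set (SpG F m)) ≤ P.N := by
          rw [Subgroup.closure_le]
          exact fun x hx => P.subset (hJS J hJ hx)
        exact h1 hspec.1
      · exact hspec.2
  · apply Vl_eq_bot_of_const
    intro a b
    rw [hT, hPS, lev_top, lev_top]

end Cfsg.Agent.Lib.Helper70.SpU
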