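import Cfsg.Agent.Lib.Helper70.SpUDefs
import Cfsg.Agent.Lib.Helper97.SpBN_GENcore

/-! # S2316 hive, leaf SPU-PERM, core (helper70): the longest element of `W_J`, with the two level lemmas
`lev_eq_of_joined`, `joined_of_lev_eq` as hypotheses. -/

set_option autoImplicit false

namespace Cfsg.Agent.Lib.Helper70.SpU

open Matrix Cfsg.Agent.Lib.Helper13 Cfsg.Agent.Lib.Helper41.SpBN

variable {F : Type*} [Field F] {m : ℕ}

theorem perm_sum_swap {α : Type*} [Fintype α] [DecidableEq α] {x y : α} (hxy : x ≠ y)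
    (h g : α → ℤ) :
    ∑ c, (h (Equiv.swap x y c) - h c) * g c = (h y - h x) * (g x - g y) := by
  rw [← Finset.sum_subset (Finset.subset_univ {x, y})]
  · rw [Finset.sum_pair hxy, Equiv.swap_apply_left, Equiv.swap_apply_right]
    ring
  · intro c _ hc
    simp only [Finset.mem_insert, Finset.mem_singleton, not_or] at hc
    rw [Equiv.swap_apply_of_ne_of_ne hc.1 hc.2, sub_self, zero_mul]

theorem perm_pos_swap (a : Idx m) : (pos a.swap : ℤ) = 2 * (m : ℤ) - 1 - (pos a : ℤ) := by
  rcases a with i | i
  · have := i.2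
    simp only [Sum.swap_inl, pos_inr, pos_inl]
    omega
  · have := i.2
    simp only [Sum.swap_inr, pos_inr, pos_inl]
    omega

theorem perm_apply_inv {α : Type*} (f : Equiv.Perm α) (x : α) : f (f⁻¹ x) = x := f.apply_symm_apply x

theorem perm_inv_apply {α : Type*} (f : Equiv.Perm α) (x : α) : f⁻¹ (f x) = x := f.symm_apply_apply x

theorem perm_comm_swap (J : Set (SpG F m)) {ρ : Equiv.Perm (Idx m)}
    (hρ : ρ ∈ Subgroup.closure (permsOf J)) : ∀ a, ρ a.swap = (ρ a).swap := by
  induction hρ using Subgroup.closure_induction with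
  | mem σ hσ => exact gen_isSimpleGen_swap hσ.1
  | one => intro a; rfl
  | mul σ τ _ _ h1 h2 =>
    intro a
    rw [Equiv.Perm.mul_apply, Equiv.Perm.mul_apply, h2, h1]
  | inv σ _ h =>
    intro a
    apply σ.injective
    rw [perm_apply_inv, h, perm_apply_inv]

/-- the potential -/
def perm_phi (ρ : Equiv.Perm (Idx m)) : ℤ := ∑ c, (pos c : ℤ) * (pos (ρ c) : ℤ)

theorem perm_phi_mul_inv (ρ σ : Equiv.Perm (Idx m)) :
    perm_phi (ρ * σ⁻¹) - perm_phi ρ = ∑ c, ((pos (σ c) : ℤ) - pos c) * (pos (ρ c) : ℤ) := by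
  unfold perm_phi
  rw [← Equiv.sum_comp σ (fun c => (pos c : ℤ) * (pos ((ρ * σ⁻¹) c) : ℤ)), ← Finset.sum_sub_distrib]
  apply Finset.sum_congr rfl
  intro c _
  rw [Equiv.Perm.mul_apply, perm_inv_apply]
  ring

theorem perm_short_inl (k k' i : Fin m) :
    simpleShort k k' (Sum.inl i : Idx m) = Sum.inl (Equiv.swap k k' i) := by
  unfold simpleShort
  rw [Equiv.Perm.mul_apply, Equiv.swap_apply_of_ne_of_ne (a := Sum.inr k) (b := Sum.inr k')
    (x := Sum.inl i) (by simp) (by simp)]
  exact Sum.inl_injective.swap_apply k k' i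

theorem perm_short_inr (k k' i : Fin m) :
    simpleShort k k' (Sum.inr i : Idx m) = Sum.inr (Equiv.swap k k' i) := by
  unfold simpleShort
  rw [Equiv.Perm.mul_apply, Sum.inr_injective.swap_apply k k' i,
    Equiv.swap_apply_of_ne_of_ne (a := Sum.inl k) (b := Sum.inl k')
    (x := Sum.inr (Equiv.swap k k' i)) (by simp) (by simp)]

/-- the variation of the potential along a short simple reflection -/
theorem perm_delta_short {k k' : Fin m} (hkk : k ≠ k') (P : Idx m → ℤ) :
    ∑ c, ((pos (simpleShort k k' c) : ℤ) - pos c) * P c =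
      ((pos (Sum.inl k' : Idx m) : ℤ) - pos (Sum.inl k : Idx m)) * (P (Sum.inl k) - P (Sum.inl k')) +
      ((pos (Sum.inr k' : Idx m) : ℤ) - pos (Sum.inr k : Idx m)) * (P (Sum.inr k) - P (Sum.inr k')) := by
  rw [Fintype.sum_sum_type]
  congr 1
  · rw [← perm_sum_swap hkk (fun i => (pos (Sum.inl i : Idx m) : ℤ)) (fun i => P (Sum.inl i))]
    apply Finset.sum_congr rfl
    intro i _
    rw [perm_short_inl]
  · rw [← perm_sum_swap hkk (fun i => (pos (Sum.inr i : Idx m) : ℤ)) (fun i => P (Sum.inr i))]
    apply Finset.sum_congr rfl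
    intro i _
    rw [perm_short_inr]

/-- the variation of the potential along a long simple reflection -/
theorem perm_delta_long (k : Fin m) (P : Idx m → ℤ) :
    ∑ c, ((pos (simpleLong k c) : ℤ) - pos c) * P c =
      ((pos (Sum.inr k : Idx m) : ℤ) - pos (Sum.inl k : Idx m)) * (P (Sum.inl k) - P (Sum.inr k)) := by
  unfold simpleLong
  exact perm_sum_swap (by simp) (fun c => (pos c : ℤ)) P

/-- a simple reflection exchanging the consecutive positions `a`, `b` strictly decreases the potential of any
`ρ` commuting with `Sum.swap` which does not reverse `a`, `b` -/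
theorem perm_decrease {σ : Equiv.Perm (Idx m)} (hσ : IsSimpleGen σ) {a b : Idx m} (hab : σ a = b)
    (hpos : pos b = pos a + 1) (ρ : Equiv.Perm (Idx m)) (hρ : ∀ a, ρ a.swap = (ρ a).swap)
    (hlt : pos (ρ a) < pos (ρ b)) :
    ∑ c, ((pos (σ c) : ℤ) - pos c) * (pos (ρ c) : ℤ) < 0 := by
  have hP : ∀ i : Fin m, (pos (ρ (Sum.inr i)) : ℤ) = 2 * (m : ℤ) - 1 - pos (ρ (Sum.inl i)) := by
    intro i
    have := hρ (Sum.inl i)
    rw [Sum.swap_inl] at this
    rw [this, perm_pos_swap]
  rcases hσ with ⟨k, k', hkk, rfl⟩ | ⟨k, hk, rfl⟩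
  · have hne : k ≠ k' := by
      intro h
      rw [h] at hkk
      omega
    rw [perm_delta_short hne, hP k, hP k']
    have hk := k.2
    have hk' := k'.2
    rcases a with i | i
    · rw [perm_short_inl] at hab
      subst hab
      simp only [pos_inl] at hpos
      by_cases h1 : i = k
      · subst h1
        rw [Equiv.swap_apply_left] at hlt
        simp only [pos_inl, pos_inr]
        have e1 : ((k' : ℕ) : ℤ) - ((i : ℕ) : ℤ) = 1 := by omega
        have e2 : ((2 * m - 1 - (k' : ℕ) : ℕ) : ℤ) - ((2 * m - 1 - (i : ℕ) : ℕ) : ℤ) = -1 := by omega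
        rw [e1, e2]
        have : (pos (ρ (Sum.inl i)) : ℤ) < pos (ρ (Sum.inl k')) := by exact_mod_cast hlt
        linarith
      · by_cases h2 : i = k'
        · subst h2
          rw [Equiv.swap_apply_right] at hpos
          omega
        · rw [Equiv.swap_apply_of_ne_of_ne h1 h2] at hpos
          omega
    · rw [perm_short_inr] at hab
      subst hab
      simp only [pos_inr] at hpos
      have hi := i.2
      by_cases h1 : i = k
      · subst h1
        rw [Equiv.swap_apply_left] at hpos
        omega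
      · by_cases h2 : i = k'
        · subst h2
          rw [Equiv.swap_apply_right] at hlt
          simp only [pos_inl, pos_inr]
          have e1 : ((i : ℕ) : ℤ) - ((k : ℕ) : ℤ) = 1 := by omega
          have e2 : ((2 * m - 1 - (i : ℕ) : ℕ) : ℤ) - ((2 * m - 1 - (k : ℕ) : ℕ) : ℤ) = -1 := by omega
          rw [e1, e2]
          have h3 : (pos (ρ (Sum.inr i)) : ℤ) < pos (ρ (Sum.inr k)) := by exact_mod_cast hlt
          rw [hP i, hP k] at h3
          linarith
        · rw [Equiv.swap_apply_of_ne_of_ne h1 h2] at hpos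
          omega
  · rw [perm_delta_long]
    have hk' := k.2
    unfold simpleLong at hab
    by_cases h1 : a = Sum.inl k
    · subst h1
      rw [Equiv.swap_apply_left] at hab
      subst hab
      simp only [pos_inl, pos_inr]
      have e1 : ((2 * m - 1 - (k : ℕ) : ℕ) : ℤ) - ((k : ℕ) : ℤ) = 1 := by omega
      rw [e1]
      have : (pos (ρ (Sum.inl k)) : ℤ) < pos (ρ (Sum.inr k)) := by exact_mod_cast hlt
      linarith
    · by_cases h2 : a = Sum.inr k
      · subst h2
        rw [Equiv.swap_apply_right] at hab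
        subst hab
        simp only [pos_inl, pos_inr] at hpos
        omega
      · rw [Equiv.swap_apply_of_ne_of_ne h1 h2] at hab
        subst hab
        omega

/-- SPU-PERM with the level lemmas as hypotheses -/
theorem perm_core (J : Set (SpG F m))
    (hL1 : ∀ {a b : Idx m}, Joined J a b → lev J a = lev J b)
    (hL2 : ∀ {a b c : Idx m}, lev J a = lev J b → pos a ≤ pos c → pos c < pos b → ∃ d, Joined J c d) :
    ∃ ρ ∈ Subgroup.closure (permsOf J), ∀ a b : Idx m, lev J a = lev J b → pos a < pos b →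
      pos (ρ b) < pos (ρ a) := by
  classical
  obtain ⟨ρ, hρ, hmin⟩ := Finset.exists_min_image
    (Finset.univ.filter (fun ρ : Equiv.Perm (Idx m) => ρ ∈ Subgroup.closure (permsOf J)))
    perm_phi ⟨1, by simp⟩
  rw [Finset.mem_filter] at hρ
  have hρc := hρ.2
  refine ⟨ρ, hρc, ?_⟩
  -- joined pairs are reversed
  have hj : ∀ a b : Idx m, Joined J a b → pos (ρ b) < pos (ρ a) := by
    intro a b hab
    obtain ⟨hpos, s, hs, σ, hσ, hsσ, hσab⟩ := hab
    by_contra hcon
    have hne : a ≠ b := by
      rintro rfl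
      omega
    have hlt : pos (ρ a) < pos (ρ b) := by
      rcases lt_or_eq_of_le (not_lt.mp hcon) with h | h
      · exact h
      · exact absurd (ρ.injective (pos_injective h)) hne
    have hdec := perm_decrease hσ hσab hpos ρ (perm_comm_swap J hρc) hlt
    rw [← perm_phi_mul_inv] at hdec
    have hmem : σ ∈ Subgroup.closure (permsOf J) := Subgroup.subset_closure ⟨hσ, s, hs, hsσ⟩
    have := hmin (ρ * σ⁻¹) (by
      rw [Finset.mem_filter]
      exact ⟨Finset.mem_univ _, Subgroup.mul_mem _ hρc (Subgroup.inv_mem _ hmem)⟩)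
    linarith
  -- induction on the distance
  intro a b
  induction' hn : pos b - pos a using Nat.strong_induction_on with n ih generalizing a b
  intro hab hlt
  obtain ⟨d, hd⟩ := hL2 hab (le_refl _) hlt
  have h1 := hj a d hd
  by_cases hdb : d = b
  · rw [← hdb]
    exact h1
  · have hpd : pos d < pos b := by
      have := hd.1
      rcases lt_or_eq_of_le (show pos d ≤ pos b by omega) with h | h
      · exact h
      · exact absurd (pos_injective h) hdb
    have h2 := ih (pos b - pos d) (by have := hd.1; omega) d b rfl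
      ((hL1 hd).symm.trans hab) hpd
    omega

end Cfsg.Agent.Lib.Helper70.SpU
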