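import Cfsg.Agent.Lib.Helper41.StnDefs
import Cfsg.Agent.Lib.Helper73.StnBINJDefs

/-!
Stn hive (S2401, helper41), sub-hive BINJ (helper73): cores of the leaves BINJ-HSWAP and BINJ-HCOMM,
with the Layer A statements they use as hypotheses.
-/

set_option autoImplicit false

namespace Cfsg.Agent.Lib.Helper41.Stn

open Matrix

variable {K : Type*} [Field K] {n : ℕ}

/-- `w(a) w(-c) = h(a) h(c)⁻¹` -/
theorem binjhcore_ww_mul_ww
    (hinv : ∀ (i j : Fin n) (t : K), (ww i j t)⁻¹ = ww i j (-t))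
    (heq : ∀ (i j : Fin n) (t : K), ww i j t = hh i j t * ww i j 1)
    (i j : Fin n) (a c : K) :
    ww i j a * ww i j (-c) = hh i j a * (hh i j c)⁻¹ := by
  rw [← hinv i j c, heq i j a, heq i j c]
  group

/-- core of BINJ-HSWAP -/
theorem binjhswap_core
    (hsymm : ∀ {i j : Fin n}, i ≠ j → ∀ {t : K}, t ≠ 0 → ww j i t = ww i j (-t⁻¹))
    (hinv : ∀ (i j : Fin n) (t : K), (ww i j t)⁻¹ = ww i j (-t))
    (heq : ∀ (i j : Fin n) (t : K), ww i j t = hh i j t * ww i j 1)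
    (hmul : ∀ {i j : Fin n}, i ≠ j → ∀ {t u : K}, t ≠ 0 → u ≠ 0 →
      hh i j t * hh i j u = hh i j (t * u))
    {i j : Fin n} (hij : i ≠ j) {t : K} (ht : t ≠ 0) :
    hh j i t = hh i j t⁻¹ := by
  have h1 : (-1 : K) ≠ 0 := neg_ne_zero.mpr one_ne_zero
  have e1 : ww j i t = ww i j (-t⁻¹) := hsymm hij ht
  have e2 : ww j i (-1 : K) = ww i j (-(-1 : K)) := by
    have := hsymm hij h1 (i := i) (j := j)
    rw [this]
    congr 1
    rw [inv_neg, inv_one]
  have e3 : hh j i t = ww i j (-t⁻¹) * ww i j (-(-1 : K)) := by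
    unfold hh
    rw [e1, e2]
  rw [e3, binjhcore_ww_mul_ww hinv heq]
  have e4 : hh i j (-t⁻¹) = hh i j t⁻¹ * hh i j (-1) := by
    rw [hmul hij (inv_ne_zero ht) h1]
    congr 1
    ring
  rw [e4, mul_inv_cancel_right]

/-- core of BINJ-HCOMM -/
theorem binjhcomm_core
    (hinv : ∀ (i j : Fin n) (t : K), (ww i j t)⁻¹ = ww i j (-t))
    (heq : ∀ (i j : Fin n) (t : K), ww i j t = hh i j t * ww i j 1)
    (hmul : ∀ {i j : Fin n}, i ≠ j → ∀ {t u : K}, t ≠ 0 → u ≠ 0 →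
      hh i j t * hh i j u = hh i j (t * u))
    (hconj : ∀ {i j : Fin n}, i ≠ j → ∀ {t : K}, t ≠ 0 → ∀ {k l : Fin n}, k ≠ l → ∀ {u : K}, u ≠ 0 →
      hh i j t * ww k l u * (hh i j t)⁻¹ = ww k l (dd i j t k / dd i j t l * u))
    {i j k l : Fin n} (hij : i ≠ j) (hkl : k ≠ l) {t u : K}
    (ht : t ≠ 0) (hu : u ≠ 0) : Commute (hh i j t) (hh k l u) := by
  have h1 : (-1 : K) ≠ 0 := neg_ne_zero.mpr one_ne_zero
  have hd : ∀ a : Fin n, dd i j t a ≠ 0 := by
    intro a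
    unfold dd
    split_ifs
    · exact ht
    · exact inv_ne_zero ht
    · exact one_ne_zero
  set c : K := dd i j t k / dd i j t l with hc
  have hc0 : c ≠ 0 := div_ne_zero (hd k) (hd l)
  have e1 : hh i j t * hh k l u * (hh i j t)⁻¹ =
      (hh i j t * ww k l u * (hh i j t)⁻¹) * (hh i j t * ww k l (-1) * (hh i j t)⁻¹) := by
    unfold hh
    group
  have e2 : hh i j t * hh k l u * (hh i j t)⁻¹ = hh k l u := by
    rw [e1, hconj hij ht hkl hu, hconj hij ht hkl h1, ← hc, mul_neg_one,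
      binjhcore_ww_mul_ww hinv heq]
    have e3 : hh k l (c * u) = hh k l u * hh k l c := by
      rw [hmul hkl hu hc0, mul_comm]
    rw [e3, mul_inv_cancel_right]
  unfold Commute SemiconjBy
  calc hh i j t * hh k l u = (hh i j t * hh k l u * (hh i j t)⁻¹) * hh i j t := by group
    _ = hh k l u * hh i j t := by rw [e2]

end Cfsg.Agent.Lib.Helper41.Stn
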