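import Mathlib

set_option autoImplicit false
set_option linter.unusedSectionVars false

namespace Cfsg.Agent.Lib.Helper86.Suz

section field
variable {F : Type*} [Field F] [Fintype F] [CharP F 2]

private theorem lemB_aux_eq {x y : F} (h : x + y = 0) : x = y := CharTwo.add_eq_zero.mp h

theorem lemB {M₁ M₂ : Type*} [Group M₁] [Group M₂] (f₁ : M₁ → F) (f₂ : M₂ → F)
    (add₁ : ∀ g h, f₁ (g * h) = f₁ g + f₁ h) (add₂ : ∀ g h, f₂ (g * h) = f₂ g + f₂ h)
    (surj₁ : Function.Surjective f₁) (surj₂ : Function.Surjective f₂)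
    (b : M₁ → M₂ → F) (bl : ∀ g g' h, b (g * g') h = b g h + b g' h)
    (br : ∀ g h h', b g (h * h') = b g h + b g h')
    (σ₁ σ₂ : F ≃+* F) (h₁ : σ₁ ≠ 1) (h₂ : σ₂ ≠ 1)
    (hc : ∀ g h, f₁ g * σ₁ (b g h) + f₂ h * σ₂ (b g h) = 0) : ∀ g h, b g h = 0 := by
  -- polarisation in the first variable
  have pol₁ : ∀ g g' h, f₁ g * σ₁ (b g' h) = f₁ g' * σ₁ (b g h) := by
    intro g g' h
    apply lemB_aux_eq
    have e := hc (g * g') h
    rw [add₁, bl, map_add, map_add] at e
    have e1 := hc g h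
    have e2 := hc g' h
    have : f₁ g * σ₁ (b g' h) + f₁ g' * σ₁ (b g h)
        = ((f₁ g + f₁ g') * (σ₁ (b g h) + σ₁ (b g' h)) + f₂ h * (σ₂ (b g h) + σ₂ (b g' h)))
          - (f₁ g * σ₁ (b g h) + f₂ h * σ₂ (b g h))
          - (f₁ g' * σ₁ (b g' h) + f₂ h * σ₂ (b g' h)) := by ring
    rw [this, e, e1, e2]; simp
  have pol₂ : ∀ g h h', f₂ h * σ₂ (b g h') = f₂ h' * σ₂ (b g h) := by
    intro g h h'
    apply lemB_aux_eq
    have e := hc g (h * h')
    rw [add₂, br, map_add, map_add] at e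
    have e1 := hc g h
    have e2 := hc g h'
    have : f₂ h * σ₂ (b g h') + f₂ h' * σ₂ (b g h)
        = (f₁ g * (σ₁ (b g h) + σ₁ (b g h')) + (f₂ h + f₂ h') * (σ₂ (b g h) + σ₂ (b g h')))
          - (f₁ g * σ₁ (b g h) + f₂ h * σ₂ (b g h))
          - (f₁ g * σ₁ (b g h') + f₂ h' * σ₂ (b g h')) := by ring
    rw [this, e, e1, e2]; simp
  obtain ⟨e₁, he₁⟩ := surj₁ 1
  obtain ⟨e₂, he₂⟩ := surj₂ 1
  -- b g h = σ₁⁻¹ (f₁ g) * b e₁ h
  have B1 : ∀ g h, σ₁ (b g h) = f₁ g * σ₁ (b e₁ h) := by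
    intro g h
    have := pol₁ g e₁ h
    rw [he₁, one_mul] at this
    exact this.symm
  have B2 : ∀ g h, σ₂ (b g h) = f₂ h * σ₂ (b g e₂) := by
    intro g h
    have := pol₂ g h e₂
    rw [he₂, one_mul] at this
    exact this.symm
  set a := b e₁ e₂ with ha
  by_cases ha0 : a = 0
  · intro g h
    have h1 : σ₂ (b e₁ h) = 0 := by rw [B2, ← ha, ha0, map_zero, mul_zero]
    have h2 : b e₁ h = 0 := by
      have := congrArg σ₂.symm h1
      simpa using this
    have h3 : σ₁ (b g h) = 0 := by rw [B1, h2, map_zero, mul_zero]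
    have := congrArg σ₁.symm h3
    simpa using this
  exfalso
  -- key relations
  have R1 : ∀ u : F, (σ₁ u) ^ 2 * σ₁ a = σ₂ u * σ₂ a := by
    intro u
    obtain ⟨g, hg⟩ := surj₁ (σ₁ u)
    have e := hc g e₂
    rw [he₂, one_mul] at e
    have e' := lemB_aux_eq e
    -- f₁ g * σ₁ (b g e₂) = σ₂ (b g e₂)
    have hb : b g e₂ = u * a := by
      have := B1 g e₂
      rw [← ha, hg, ← map_mul] at this
      exact σ₁.injective this
    rw [hb, hg, map_mul, map_mul] at e'
    rw [← e']; ring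
  have R2 : ∀ w : F, σ₁ w * σ₁ a = (σ₂ w) ^ 2 * σ₂ a := by
    intro w
    obtain ⟨h, hh⟩ := surj₂ (σ₂ w)
    have e := hc e₁ h
    rw [he₁, one_mul] at e
    have e' := lemB_aux_eq e
    have hb : b e₁ h = w * a := by
      have := B2 e₁ h
      rw [← ha, hh, ← map_mul] at this
      exact σ₂.injective this
    rw [hb, hh, map_mul, map_mul] at e'
    rw [e']; ring
  have hσa : σ₁ a = σ₂ a := by
    have := R1 1
    simpa using this
  have hσa0 : σ₂ a ≠ 0 := by
    intro h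
    apply ha0
    have := congrArg σ₂.symm h
    simpa using this
  have S1 : ∀ u : F, (σ₁ u) ^ 2 = σ₂ u := by
    intro u
    have := R1 u
    rw [hσa] at this
    exact mul_right_cancel₀ hσa0 this
  have S2 : ∀ w : F, σ₁ w = (σ₂ w) ^ 2 := by
    intro w
    have := R2 w
    rw [hσa] at this
    exact mul_right_cancel₀ hσa0 this
  have four : ∀ v : F, v ^ 4 = v := by
    intro v
    obtain ⟨w, rfl⟩ := σ₁.surjective v
    calc (σ₁ w) ^ 4 = ((σ₁ w) ^ 2) ^ 2 := by ring
      _ = (σ₂ w) ^ 2 := by rw [S1]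
      _ = σ₁ w := (S2 w).symm
  -- roots
  have root : ∀ x : F, x ≠ 0 → x ≠ 1 → x ^ 2 + x + 1 = 0 := by
    intro x hx0 hx1
    have h4 := four x
    have : x * (x - 1) * (x ^ 2 + x + 1) = 0 := by
      have : x * (x - 1) * (x ^ 2 + x + 1) = x ^ 4 - x := by ring
      rw [this, h4, sub_self]
    rcases mul_eq_zero.mp this with h | h
    · rcases mul_eq_zero.mp h with h | h
      · exact absurd h hx0
      · exact absurd (sub_eq_zero.mp h) hx1
    · exact h
  have moved : ∀ (σ : F ≃+* F) (x : F), σ x ≠ x → x ^ 2 + x + 1 = 0 ∧ σ x = x + 1 := by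
    intro σ x hx
    have hx0 : x ≠ 0 := by rintro rfl; exact hx (map_zero σ)
    have hx1 : x ≠ 1 := by rintro rfl; exact hx (map_one σ)
    have hr := root x hx0 hx1
    refine ⟨hr, ?_⟩
    have hr' : (σ x) ^ 2 + σ x + 1 = 0 := by
      have := congrArg σ hr
      simpa using this
    -- (σ x - x) * (σ x - x - 1) = 0
    have hprod : (σ x + x) * (σ x + x + 1) = 0 := by
      have : (σ x + x) * (σ x + x + 1)
          = ((σ x) ^ 2 + σ x + 1) + (x ^ 2 + x + 1) + (2 * (σ x * x)) - 2 := by ring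
      rw [this, hr, hr']
      have h2 : (2 : F) = 0 := CharTwo.two_eq_zero
      rw [h2]; ring
    rcases mul_eq_zero.mp hprod with h | h
    · exact absurd (lemB_aux_eq h) hx
    · have : σ x + (x + 1) = 0 := by rw [← add_assoc]; exact h
      exact lemB_aux_eq this
  obtain ⟨w, hw⟩ : ∃ w, σ₁ w ≠ w := by
    by_contra hcon
    simp only [not_exists, not_not] at hcon
    exact h₁ (RingEquiv.ext hcon)
  obtain ⟨w', hw'⟩ : ∃ w, σ₂ w ≠ w := by
    by_contra hcon
    simp only [not_exists, not_not] at hcon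
    exact h₂ (RingEquiv.ext hcon)
  obtain ⟨hwr, hw1⟩ := moved σ₁ w hw
  obtain ⟨hwr', hw1'⟩ := moved σ₂ w' hw'
  have hσ₂w : σ₂ w = w := by
    rw [← S1 w, hw1]
    have : (w + 1) ^ 2 = (w ^ 2 + w + 1) + w := by ring
    rw [this, hwr]; ring
  have hcase : (w' + w) * (w' + w + 1) = 0 := by
    have : (w' + w) * (w' + w + 1)
        = (w' ^ 2 + w' + 1) + (w ^ 2 + w + 1) + (2 * (w' * w)) - 2 := by ring
    rw [this, hwr, hwr', CharTwo.two_eq_zero]; ring
  rcases mul_eq_zero.mp hcase with h | h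
  · have : w' = w := lemB_aux_eq h
    exact hw' (this ▸ hσ₂w)
  · have : w' = w + 1 := by
      have h' : w' + (w + 1) = 0 := by rw [← add_assoc]; exact h
      exact lemB_aux_eq h'
    apply hw'
    rw [this, map_add, map_one, hσ₂w]

end field

end Cfsg.Agent.Lib.Helper86.Suz
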